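import Cfsg.Agent.Lib.Helper41.PsDefs

/-!
# Ps hive (S4321), leaf PS4 `ps_noncentral` (helper57)
-/

set_option autoImplicit false

namespace Cfsg.Agent.Lib.Helper41.Ps

open Subgroup
open Cfsg.Agent.Lib.Helper22.Cg

universe u

/-- PS4. a nontrivial `p`-element is not central when `p ∤ |Z(G)|`. -/
theorem ps_noncentral {G : Type u} [Group G] [Finite G] (p : ℕ) [Fact p.Prime]
    (hZ : ¬ p ∣ Nat.card ↥(Subgroup.center G)) (x : G) (hx1 : x ≠ 1)
    (hx : ∃ n : ℕ, orderOf x = p ^ n) : 1 < cs x := by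
  by_contra hcon
  have hpos : 0 < cs x := Nat.pos_of_ne_zero (Subgroup.index_ne_zero_of_finite)
  have h1 : (centralizer ({x} : Set G)).index = 1 := by
    have : cs x ≤ 1 := Nat.le_of_not_lt hcon
    exact le_antisymm this hpos
  have htop : centralizer ({x} : Set G) = ⊤ := Subgroup.index_eq_one.mp h1
  have hxc : x ∈ Subgroup.center G := by
    rw [Subgroup.mem_center_iff]
    intro g
    have hg : g ∈ centralizer ({x} : Set G) := by rw [htop]; exact Subgroup.mem_top g
    rw [Subgroup.mem_centralizer_iff] at hg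
    exact (hg x rfl).symm
  obtain ⟨n, hn⟩ := hx
  have hn0 : n ≠ 0 := by
    rintro rfl
    rw [pow_zero, orderOf_eq_one_iff] at hn
    exact hx1 hn
  have hdvd : orderOf x ∣ Nat.card ↥(Subgroup.center G) := by
    have h := orderOf_dvd_natCard (⟨x, hxc⟩ : Subgroup.center G)
    rwa [Subgroup.orderOf_mk] at h
  apply hZ
  rw [hn] at hdvd
  exact dvd_trans (dvd_pow_self p hn0) hdvd

end Cfsg.Agent.Lib.Helper41.Ps
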