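import Mathlib

/-!
# Permutations of the projective line `Option (ZMod p)` (helper57)

`none` plays the role of `∞`.  Affine maps `aff a b : x ↦ a x + b`, translations `tau e`,
the inversion `sPerm : x ↦ -1/x`.
-/

set_option autoImplicit false

namespace Cfsg.Agent.Lib.Helper57.P1

open Equiv

variable {p : ℕ} [hp : Fact p.Prime]

/-- the affine permutation `x ↦ a x + b` of the projective line, fixing `∞ = none`. -/
def aff (a : (ZMod p)ˣ) (b : ZMod p) : Perm (Option (ZMod p)) :=
  Equiv.optionCongr
    { toFun := fun x => a * x + b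
      invFun := fun y => (a⁻¹ : (ZMod p)ˣ) * (y - b)
      left_inv := fun x => by
        show ((a⁻¹ : (ZMod p)ˣ) : ZMod p) * ((a : ZMod p) * x + b - b) = x
        rw [add_sub_cancel_right, ← mul_assoc, Units.inv_mul, one_mul]
      right_inv := fun y => by
        show (a : ZMod p) * (((a⁻¹ : (ZMod p)ˣ) : ZMod p) * (y - b)) + b = y
        rw [← mul_assoc, Units.mul_inv, one_mul, sub_add_cancel] }

@[simp] theorem aff_none (a : (ZMod p)ˣ) (b : ZMod p) : aff a b none = none := rfl

@[simp] theorem aff_some (a : (ZMod p)ˣ) (b x : ZMod p) :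
    aff a b (some x) = some (a * x + b) := rfl

theorem aff_mul (a a' : (ZMod p)ˣ) (b b' : ZMod p) :
    aff a b * aff a' b' = aff (a * a') (a * b' + b) := by
  refine Equiv.ext fun o => ?_
  cases o with
  | none => simp [Perm.mul_apply]
  | some x => simp [Perm.mul_apply]; ring

theorem aff_one : aff (1 : (ZMod p)ˣ) 0 = 1 := by
  refine Equiv.ext fun o => ?_
  cases o with
  | none => simp
  | some x => simp

theorem aff_inv (a : (ZMod p)ˣ) (b : ZMod p) :
    (aff a b)⁻¹ = aff a⁻¹ (-((a⁻¹ : (ZMod p)ˣ) : ZMod p) * b) := by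
  rw [inv_eq_iff_mul_eq_one, aff_mul, ← aff_one, mul_inv_cancel]
  congr 1
  rw [neg_mul, mul_neg, ← mul_assoc, Units.mul_inv, one_mul, neg_add_cancel]

theorem aff_inj {a a' : (ZMod p)ˣ} {b b' : ZMod p} (h : aff a b = aff a' b') :
    a = a' ∧ b = b' := by
  have h0 := congrArg (fun g : Perm (Option (ZMod p)) => g (some 0)) h
  have h1 := congrArg (fun g : Perm (Option (ZMod p)) => g (some 1)) h
  simp only [aff_some, mul_zero, zero_add, mul_one, Option.some.injEq] at h0 h1
  subst h0
  refine ⟨Units.ext ?_, rfl⟩
  exact add_right_cancel h1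

/-- translation by `e`. -/
def tau (e : ZMod p) : Perm (Option (ZMod p)) := aff 1 e

@[simp] theorem tau_none (e : ZMod p) : tau e none = none := rfl

@[simp] theorem tau_some (e x : ZMod p) : tau e (some x) = some (x + e) := by
  simp [tau]

theorem tau_mul (e e' : ZMod p) : tau e * tau e' = tau (e + e') := by
  simp only [tau, aff_mul, mul_one, Units.val_one, one_mul]
  congr 1
  ring

theorem tau_zero : tau (0 : ZMod p) = 1 := aff_one

theorem tau_inv (e : ZMod p) : (tau e)⁻¹ = tau (-e) := by
  rw [inv_eq_iff_mul_eq_one, tau_mul, add_neg_cancel, tau_zero]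

theorem tau_pow (e : ZMod p) (n : ℕ) : tau e ^ n = tau ((n : ZMod p) * e) := by
  induction n with
  | zero => simp [tau_zero]
  | succ n ih => rw [pow_succ, ih, tau_mul]; congr 1; push_cast; ring

theorem tau_zpow (e : ZMod p) (n : ℤ) : tau e ^ n = tau ((n : ZMod p) * e) := by
  cases n with
  | ofNat n => simpa using tau_pow e n
  | negSucc n =>
    rw [zpow_negSucc, tau_pow, tau_inv]
    congr 1
    push_cast
    ring

theorem tau_mul_aff (e : ZMod p) (a : (ZMod p)ˣ) (b : ZMod p) :
    tau e * aff a b = aff a (b + e) := by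
  simp [tau, aff_mul]

/-- a permutation fixing `∞` and normalising the translations is affine. -/
theorem eq_aff_of_conj {g : Perm (Option (ZMod p))} (h0 : g none = none) {k : ℤ}
    (hk : g * tau 1 * g⁻¹ = tau (1 : ZMod p) ^ k) : ∃ a b, g = aff a b := by
  have hk' : g * tau 1 = tau (k : ZMod p) * g := by
    rw [tau_zpow, mul_one] at hk
    rw [← hk]; group
  have hne : ∀ x, g (some x) ≠ none := fun x hx => by
    rw [← h0] at hx
    exact absurd (g.injective hx) (by simp)
  obtain ⟨b, hb⟩ := Option.ne_none_iff_exists'.mp (hne 0)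
  have hstep : ∀ x y : ZMod p, g (some x) = some y → g (some (x + 1)) = some (y + k) := by
    intro x y hxy
    have := congrArg (fun f : Perm (Option (ZMod p)) => f (some x)) hk'
    simp only [Perm.mul_apply, tau_some, hxy] at this
    exact this
  have hnat : ∀ n : ℕ, g (some (n : ZMod p)) = some ((k : ZMod p) * n + b) := by
    intro n
    induction n with
    | zero => simpa using hb
    | succ n ih =>
      have := hstep _ _ ih
      rw [Nat.cast_succ, this]
      congr 1; ring
  have hall : ∀ x : ZMod p, g (some x) = some ((k : ZMod p) * x + b) := by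
    intro x
    have := hnat x.val
    rwa [ZMod.natCast_zmod_val] at this
  have hk0 : (k : ZMod p) ≠ 0 := by
    intro hk0
    have h1 := hall 1
    have h2 := hall 0
    rw [hk0] at h1 h2
    simp only [zero_mul, zero_add] at h1 h2
    have := g.injective (h1.trans h2.symm)
    simp at this
  refine ⟨Units.mk0 _ hk0, b, Equiv.ext fun o => ?_⟩
  cases o with
  | none => simpa using h0
  | some x => simp [hall x]

/-- the inversion `x ↦ -1/x`, swapping `0` and `∞`. -/
def sFun (o : Option (ZMod p)) : Option (ZMod p) :=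
  match o with
  | none => some 0
  | some x => if x = 0 then none else some (-x⁻¹)

theorem sFun_sFun (o : Option (ZMod p)) : sFun (sFun o) = o := by
  cases o with
  | none => simp [sFun]
  | some x =>
    by_cases hx : x = 0
    · simp [sFun, hx]
    · simp [sFun, hx]

/-- the inversion as a permutation. -/
def sPerm : Perm (Option (ZMod p)) := ⟨sFun, sFun, sFun_sFun, sFun_sFun⟩

theorem sPerm_apply (o : Option (ZMod p)) : (sPerm : Perm (Option (ZMod p))) o = sFun o := rfl

theorem sPerm_mul_self : (sPerm : Perm (Option (ZMod p))) * sPerm = 1 :=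
  Equiv.ext fun o => sFun_sFun o

theorem sPerm_inv : (sPerm : Perm (Option (ZMod p)))⁻¹ = sPerm :=
  inv_eq_of_mul_eq_one_left sPerm_mul_self

/-- the canonical set: the image of `PSL₂(p)` acting on the projective line. -/
def stdSet (p : ℕ) [Fact p.Prime] : Set (Perm (Option (ZMod p))) :=
  {g | ∃ (a : (ZMod p)ˣ) (b : ZMod p), IsSquare a ∧
    (g = aff a b ∨ ∃ y : ZMod p, g = tau y * sPerm * aff a b)}

end Cfsg.Agent.Lib.Helper57.P1
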