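import Mathlib
import Cfsg.Agent.Lib.Helper57.P1Perm

/-!
# The finite check behind the uniqueness of `PSL₂(p)` (helper57)
-/

set_option autoImplicit false

namespace Cfsg.Agent.Lib.Helper57.P1

variable {p : ℕ} [NeZero p]

/-- the map swapping `0` and `∞` with values `f` on the nonzero points. -/
def tO (f : ZMod p → ZMod p) (o : Option (ZMod p)) : Option (ZMod p) :=
  match o with
  | none => some 0
  | some x => if x = 0 then none else some (f x)

/-- translation on raw points. -/
def tauO (e : ZMod p) (o : Option (ZMod p)) : Option (ZMod p) := o.map (· + e)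

/-- the candidate values: `g0^(2j) ↦ k^j c`, `g0^(2j+1) ↦ k^j d`. -/
def candVal (k c d : ZMod p) (dl : ZMod p → ℕ) (x : ZMod p) : ZMod p :=
  k ^ (dl x / 2) * (if dl x % 2 = 0 then c else d)

/-- the composite `t τ_{-t(x)} t τ_x t`, which fixes `∞`. -/
def AFun (f : ZMod p → ZMod p) (x : ZMod p) (o : Option (ZMod p)) : Option (ZMod p) :=
  tO f (tauO (-(f x)) (tO f (tauO x (tO f o))))

/-- `AFun f x` is affine with square multiplier. -/
def testx (f : ZMod p → ZMod p) (x : ZMod p) : Prop :=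
  match AFun f x (some 0), AFun f x (some 1) with
  | some b, some a1 =>
      (a1 - b) ^ (p / 2) = 1 ∧ ∀ y : ZMod p, AFun f x (some y) = some ((a1 - b) * y + b)
  | _, _ => False

instance (f : ZMod p → ZMod p) (x : ZMod p) : Decidable (testx f x) := by
  unfold testx
  split
  · infer_instance
  · infer_instance

/-- the finite check. -/
def Check (p : ℕ) [NeZero p] (g0 : ZMod p) (dl : ZMod p → ℕ) (excl : Bool) : Prop :=
  ∀ k c d : ZMod p, k ≠ 0 → c ≠ 0 → d ≠ 0 → k ^ (p / 2) = 1 → (excl = true → k ≠ g0 ^ 2) →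
    (∀ x : ZMod p, x ≠ 0 → testx (candVal k c d dl) x) →
    ((-c) ^ (p / 2) = 1 ∧ ∀ x : ZMod p, x ≠ 0 → candVal k c d dl x * x = c)

instance (p : ℕ) [NeZero p] (g0 : ZMod p) (dl : ZMod p → ℕ) (excl : Bool) :
    Decidable (Check p g0 dl excl) := by
  unfold Check
  infer_instance

/-- the discrete logarithm is correct. -/
def DlOk (p : ℕ) [NeZero p] (g0 : ZMod p) (dl : ZMod p → ℕ) : Prop :=
  ∀ x : ZMod p, x ≠ 0 → g0 ^ dl x = x

instance (p : ℕ) [NeZero p] (g0 : ZMod p) (dl : ZMod p → ℕ) : Decidable (DlOk p g0 dl) := by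
  unfold DlOk
  infer_instance

end Cfsg.Agent.Lib.Helper57.P1
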