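import Mathlib
import Cfsg.Agent.Lib.Helper57.P1Perm
import Cfsg.Agent.Lib.Helper57.P1Check

/-!
# Subgroups of `Perm (Option (ZMod p))` of order `p (p² - 1) / 2` containing the translations
(helper57)
-/

set_option autoImplicit false

namespace Cfsg.Agent.Lib.Helper57.P1

open Equiv

variable {p : ℕ} [hp : Fact p.Prime]

/-- the hypotheses on the permutation group `Γ`. -/
structure Hyp (Γ : Subgroup (Perm (Option (ZMod p)))) : Prop where
  odd : p ≠ 2
  card : 2 * Nat.card Γ = p * (p ^ 2 - 1)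
  tau_mem : tau (1 : ZMod p) ∈ Γ
  moves : ∃ g ∈ Γ, g none ≠ none
  norm : ∀ g ∈ Γ, g none = none → ∃ k : ℤ, g * tau 1 * g⁻¹ = tau (1 : ZMod p) ^ k

variable {Γ : Subgroup (Perm (Option (ZMod p)))}

theorem Hyp.tau_mem' (h : Hyp Γ) (e : ZMod p) : tau e ∈ Γ := by
  have := Γ.pow_mem h.tau_mem e.val
  rwa [tau_pow, mul_one, ZMod.natCast_zmod_val] at this

theorem Hyp.eq_aff (h : Hyp Γ) {g : Perm (Option (ZMod p))} (hg : g ∈ Γ) (h0 : g none = none) :
    ∃ a b, g = aff a b := by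
  obtain ⟨k, hk⟩ := h.norm g hg h0
  exact eq_aff_of_conj h0 hk

/-- the multipliers occurring in `Γ`. -/
def mult (Γ : Subgroup (Perm (Option (ZMod p)))) : Subgroup (ZMod p)ˣ where
  carrier := {a | aff a 0 ∈ Γ}
  mul_mem' := by
    intro a a' ha ha'
    have := Γ.mul_mem ha ha'
    rw [aff_mul] at this
    simpa using this
  one_mem' := by
    show aff 1 0 ∈ Γ
    rw [aff_one]; exact Γ.one_mem
  inv_mem' := by
    intro a ha
    have := Γ.inv_mem ha
    rw [aff_inv, mul_zero] at this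
    exact this

theorem mem_mult {a : (ZMod p)ˣ} : a ∈ mult Γ ↔ aff a 0 ∈ Γ := Iff.rfl

theorem Hyp.aff_mem_iff (h : Hyp Γ) (a : (ZMod p)ˣ) (b : ZMod p) :
    aff a b ∈ Γ ↔ a ∈ mult Γ := by
  rw [mem_mult]
  constructor
  · intro hab
    have := Γ.mul_mem (h.tau_mem' (-b)) hab
    rwa [tau_mul_aff, add_neg_cancel] at this
  · intro ha
    have := Γ.mul_mem (h.tau_mem' b) ha
    rwa [tau_mul_aff, zero_add] at this

theorem Hyp.orbit_eq (h : Hyp Γ) : MulAction.orbit Γ (none : Option (ZMod p)) = Set.univ := by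
  obtain ⟨g, hg, hg0⟩ := h.moves
  obtain ⟨y0, hy0⟩ := Option.ne_none_iff_exists'.mp hg0
  refine Set.eq_univ_of_forall fun o => ?_
  cases o with
  | none => exact MulAction.mem_orbit_self _
  | some y =>
    refine ⟨⟨tau (y - y0) * g, Γ.mul_mem (h.tau_mem' _) hg⟩, ?_⟩
    show (tau (y - y0) * g) none = some y
    rw [Perm.mul_apply, hy0, tau_some]
    congr 1; ring

theorem Hyp.card_stab (h : Hyp Γ) :
    Nat.card (MulAction.stabilizer Γ (none : Option (ZMod p))) = Nat.card (mult Γ) * p := by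
  have e : (mult Γ × ZMod p) ≃ MulAction.stabilizer Γ (none : Option (ZMod p)) :=
    Equiv.ofBijective
      (fun ab => ⟨⟨aff ab.1.1 ab.2, (h.aff_mem_iff _ _).mpr ab.1.2⟩, by
        rw [MulAction.mem_stabilizer_iff]; rfl⟩)
      ⟨by
        rintro ⟨⟨a, ha⟩, b⟩ ⟨⟨a', ha'⟩, b'⟩ hab
        have : aff a b = aff a' b' := by
          have := congrArg (fun x : MulAction.stabilizer Γ (none : Option (ZMod p)) =>
            ((x : Γ) : Perm (Option (ZMod p)))) hab
          exact this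
        obtain ⟨rfl, rfl⟩ := aff_inj this
        rfl,
       by
        rintro ⟨⟨g, hg⟩, hg0⟩
        have hg0' : g none = none := by
          rw [MulAction.mem_stabilizer_iff] at hg0
          exact hg0
        obtain ⟨a, b, rfl⟩ := h.eq_aff hg hg0'
        exact ⟨⟨⟨a, (h.aff_mem_iff _ _).mp hg⟩, b⟩, rfl⟩⟩
  rw [← Nat.card_congr e, Nat.card_prod, Nat.card_eq_fintype_card (α := ZMod p), ZMod.card]

theorem Hyp.card_eq (h : Hyp Γ) : Nat.card Γ = Nat.card (mult Γ) * p * (p + 1) := by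
  have h1 := (MulAction.stabilizer Γ (none : Option (ZMod p))).card_mul_index
  rw [MulAction.index_stabilizer, h.orbit_eq, Set.ncard_univ, h.card_stab] at h1
  rw [← h1]
  congr 1
  rw [Nat.card_eq_fintype_card, Fintype.card_option, ZMod.card]

theorem Hyp.card_mult (h : Hyp Γ) : 2 * Nat.card (mult Γ) = p - 1 := by
  have h1 := h.card
  rw [h.card_eq] at h1
  have hp0 : 0 < p := hp.out.pos
  have hp1 : 1 ≤ p := hp.out.one_lt.le
  have : p * (p ^ 2 - 1) = (p - 1) * (p * (p + 1)) := by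
    obtain ⟨q, rfl⟩ : ∃ q, p = q + 1 := ⟨p - 1, by omega⟩
    simp only [Nat.add_sub_cancel]
    have : (q + 1) ^ 2 - 1 = q * (q + 2) := by
      have : (q + 1) ^ 2 = q * (q + 2) + 1 := by ring
      omega
    rw [this]; ring
  rw [this] at h1
  have h2 : (2 * Nat.card (mult Γ)) * (p * (p + 1)) = (p - 1) * (p * (p + 1)) := by
    rw [← h1]; ring
  exact Nat.eq_of_mul_eq_mul_right (by positivity) h2

theorem Hyp.index_mult (h : Hyp Γ) : (mult Γ).index = 2 := by
  have h1 := (mult Γ).card_mul_index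
  rw [Nat.card_eq_fintype_card (α := (ZMod p)ˣ), ZMod.card_units] at h1
  have h2 := h.card_mult
  have hpos : 0 < Nat.card (mult Γ) := Nat.card_pos
  have : Nat.card (mult Γ) * (mult Γ).index = Nat.card (mult Γ) * 2 := by
    rw [h1, ← h2]; ring
  exact Nat.eq_of_mul_eq_mul_left hpos this

theorem Hyp.sq_mem (h : Hyp Γ) (a : (ZMod p)ˣ) (ha : IsSquare a) : a ∈ mult Γ := by
  obtain ⟨r, rfl⟩ := ha
  have := Subgroup.sq_mem_of_index_two h.index_mult r
  rwa [sq] at this

theorem Hyp.isSquare_of_mem (h : Hyp Γ) (a : (ZMod p)ˣ) (ha : a ∈ mult Γ) : IsSquare a := by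
  have hle : (powMonoidHom 2 : (ZMod p)ˣ →* (ZMod p)ˣ).range ≤ mult Γ := by
    rintro _ ⟨r, rfl⟩
    exact Subgroup.sq_mem_of_index_two h.index_mult r
  have hcard : Nat.card (powMonoidHom 2 : (ZMod p)ˣ →* (ZMod p)ˣ).range = (p - 1) / 2 := by
    rw [IsCyclic.card_powMonoidHom_range, Nat.card_eq_fintype_card, ZMod.card_units]
    have hodd : (p - 1) % 2 = 0 := by
      have := hp.out.eq_one_or_self_of_dvd 2
      have h2 := h.odd
      have : ¬ 2 ∣ p := fun hd => by
        rcases this hd with h' | h'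
        · omega
        · exact h2 h'.symm
      omega
    have : Nat.gcd (p - 1) 2 = 2 := by
      have : 2 ∣ p - 1 := Nat.dvd_of_mod_eq_zero hodd
      exact Nat.gcd_eq_right this
    rw [this]
  have heq : (powMonoidHom 2 : (ZMod p)ˣ →* (ZMod p)ˣ).range = mult Γ := by
    apply Subgroup.eq_of_le_of_card_ge hle
    rw [hcard]
    have := h.card_mult
    omega
  rw [← heq] at ha
  obtain ⟨r, rfl⟩ := ha
  exact ⟨r, by simp [sq]⟩

/-- the stabiliser of `∞` consists of the affine maps with square multiplier. -/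
theorem Hyp.stab_iff (h : Hyp Γ) (g : Perm (Option (ZMod p))) :
    (g ∈ Γ ∧ g none = none) ↔ ∃ a b, IsSquare a ∧ g = aff a b := by
  constructor
  · rintro ⟨hg, h0⟩
    obtain ⟨a, b, rfl⟩ := h.eq_aff hg h0
    exact ⟨a, b, h.isSquare_of_mem a ((h.aff_mem_iff a b).mp hg), rfl⟩
  · rintro ⟨a, b, ha, rfl⟩
    exact ⟨(h.aff_mem_iff a b).mpr (h.sq_mem a ha), rfl⟩

end Cfsg.Agent.Lib.Helper57.P1
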