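import Mathlib
import Cfsg.Agent.Lib.Helper57.P1Group

/-!
# The permutation group is determined (helper57)
-/

set_option autoImplicit false

namespace Cfsg.Agent.Lib.Helper57.P1

open Equiv

variable {p : ℕ} [hp : Fact p.Prime]
variable {Γ : Subgroup (Perm (Option (ZMod p)))}

/-- an element swapping `0` and `∞`. -/
theorem Hyp.exists_swap (h : Hyp Γ) : ∃ t ∈ Γ, t none = some 0 ∧ t (some 0) = none := by
  obtain ⟨g, hg, hg0⟩ := h.moves
  obtain ⟨y0, hy0⟩ := Option.ne_none_iff_exists'.mp hg0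
  have hg1mem : tau (-y0) * g ∈ Γ := Γ.mul_mem (h.tau_mem' _) hg
  have hg1n : (tau (-y0) * g) none = some 0 := by
    rw [Perm.mul_apply, hy0, tau_some, add_neg_cancel]
  have hz : (tau (-y0) * g)⁻¹ none ≠ none := by
    intro hz
    have : (tau (-y0) * g) none = none := by
      conv_lhs => rw [← hz]
      simp
    rw [hg1n] at this
    cases this
  obtain ⟨z0, hz0⟩ := Option.ne_none_iff_exists'.mp hz
  refine ⟨tau (-y0) * g * tau z0, Γ.mul_mem hg1mem (h.tau_mem' _), ?_, ?_⟩
  · rw [Perm.mul_apply, tau_none, hg1n]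
  · rw [Perm.mul_apply, tau_some, zero_add, ← hz0]
    simp

section swap

variable {t : Perm (Option (ZMod p))} (ht0 : t none = some 0) (ht1 : t (some 0) = none)

/-- the values of `t` on the finite points. -/
def fval (t : Perm (Option (ZMod p))) (x : ZMod p) : ZMod p := (t (some x)).getD 0

include ht0 ht1 in
theorem t_some {x : ZMod p} (hx : x ≠ 0) : t (some x) = some (fval t x) ∧ fval t x ≠ 0 := by
  have h1 : t (some x) ≠ none := by
    intro h
    rw [← ht1] at h
    exact hx (Option.some.inj (t.injective h))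
  obtain ⟨y, hy⟩ := Option.ne_none_iff_exists'.mp h1
  have hy0 : y ≠ 0 := by
    rintro rfl
    rw [← ht0] at hy
    exact absurd (t.injective hy) (by simp)
  simp only [fval, hy, Option.getD_some]
  exact ⟨trivial, hy0⟩

include ht1 in
theorem tinv_none : t⁻¹ none = some 0 := by
  rw [Perm.inv_eq_iff_eq]; exact ht1.symm

include ht0 in
theorem tinv_zero : t⁻¹ (some 0) = none := by
  rw [Perm.inv_eq_iff_eq]; exact ht0.symm

include ht0 ht1 in
/-- `t` normalises the two-point stabiliser. -/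
theorem Hyp.conj_swap (h : Hyp Γ) (ht : t ∈ Γ) (a : (ZMod p)ˣ) (ha : a ∈ mult Γ) :
    ∃ a' ∈ mult Γ, t * aff a 0 * t⁻¹ = aff a' 0 := by
  have hmem : t * aff a 0 * t⁻¹ ∈ Γ := Γ.mul_mem (Γ.mul_mem ht ha) (Γ.inv_mem ht)
  have h0 : (t * aff a 0 * t⁻¹) none = none := by
    rw [Perm.mul_apply, Perm.mul_apply, tinv_none ht1, aff_some, mul_zero, zero_add, ht1]
  obtain ⟨a', b', hab⟩ := h.eq_aff hmem h0
  have h1 : (t * aff a 0 * t⁻¹) (some 0) = some 0 := by
    rw [Perm.mul_apply, Perm.mul_apply, tinv_zero ht0, aff_none, ht0]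
  rw [hab, aff_some, mul_zero, zero_add] at h1
  have hb : b' = 0 := Option.some.inj h1
  subst hb
  refine ⟨a', ?_, hab⟩
  rw [mem_mult, ← hab]; exact hmem

include ht0 ht1 in
theorem fval_mul {a a' : (ZMod p)ˣ} (haa : t * aff a 0 * t⁻¹ = aff a' 0) {x : ZMod p}
    (hx : x ≠ 0) : fval t ((a : ZMod p) * x) = (a' : ZMod p) * fval t x := by
  have h1 : t * aff a 0 = aff a' 0 * t := by rw [← haa]; group
  have h2 := congrArg (fun g : Perm (Option (ZMod p)) => g (some x)) h1
  simp only [Perm.mul_apply, aff_some, add_zero] at h2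
  have hax : (a : ZMod p) * x ≠ 0 := mul_ne_zero a.ne_zero hx
  rw [(t_some ht0 ht1 hax).1, (t_some ht0 ht1 hx).1, aff_some, add_zero] at h2
  exact Option.some.inj h2

include ht0 ht1 in
theorem fval_pow_mul {a a' : (ZMod p)ˣ} (haa : t * aff a 0 * t⁻¹ = aff a' 0) (j : ℕ) {x : ZMod p}
    (hx : x ≠ 0) : fval t ((a : ZMod p) ^ j * x) = (a' : ZMod p) ^ j * fval t x := by
  induction j with
  | zero => simp
  | succ j ih =>
    have hne : (a : ZMod p) ^ j * x ≠ 0 := mul_ne_zero (pow_ne_zero _ a.ne_zero) hx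
    rw [pow_succ', mul_assoc, fval_mul ht0 ht1 haa hne, ih, pow_succ', mul_assoc]

include ht0 ht1 in
theorem tO_fval (o : Option (ZMod p)) :
    haveI : NeZero p := ⟨hp.out.ne_zero⟩
    tO (fval t) o = t o := by
  cases o with
  | none => exact ht0.symm
  | some x =>
    by_cases hx : x = 0
    · subst hx; simp [tO, ht1]
    · simp [tO, hx, (t_some ht0 ht1 hx).1]

end swap

theorem tO_congr [NeZero p] {f f' : ZMod p → ZMod p} (hff : ∀ x, x ≠ 0 → f x = f' x)
    (o : Option (ZMod p)) : tO f o = tO f' o := by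
  cases o with
  | none => rfl
  | some x =>
    by_cases hx : x = 0
    · simp [tO, hx]
    · simp [tO, hx, hff x hx]

theorem tauO_eq (e : ZMod p) (o : Option (ZMod p)) :
    haveI : NeZero p := ⟨hp.out.ne_zero⟩
    tauO e o = tau e o := by
  cases o with
  | none => rfl
  | some x => simp [tauO]

theorem two_mul_half (hodd : p ≠ 2) : 2 * (p / 2) = p - 1 := by
  have := hp.out.eq_one_or_self_of_dvd 2
  have : ¬ 2 ∣ p := fun hd => by
    rcases this hd with h' | h'
    · omega
    · exact hodd h'.symm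
  omega

/-- the main theorem on `Γ`: the inversion lies in `Γ`. -/
theorem Hyp.sPerm_mem (h : Hyp Γ) (g0 : ZMod p) (dl : ZMod p → ℕ) (excl : Bool)
    (hdl : haveI : NeZero p := ⟨hp.out.ne_zero⟩; DlOk p g0 dl)
    (hcheck : haveI : NeZero p := ⟨hp.out.ne_zero⟩; Check p g0 dl excl)
    (hex : excl = true → ∀ t ∈ Γ, t none = some 0 → t (some 0) = none →
      ∀ a0 : (ZMod p)ˣ, (a0 : ZMod p) = g0 ^ 2 → t * aff a0 0 * t⁻¹ ≠ aff a0 0) :
    sPerm ∈ Γ := by
  have : NeZero p := ⟨hp.out.ne_zero⟩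
  obtain ⟨t, ht, ht0, ht1⟩ := h.exists_swap
  have hg0 : g0 ≠ 0 := by
    intro h0
    have := hdl 1 one_ne_zero
    rw [h0] at this
    rcases Nat.eq_zero_or_pos (dl 1) with hz | hz
    · -- 0 ^ 0 = 1 fine, use another point
      have h2 : (1 : ZMod p) + 1 ≠ 0 := by
        intro h2
        have : (2 : ZMod p) = 0 := by rw [← h2]; norm_num
        have h3 : ((2 : ℕ) : ZMod p) = 0 := by exact_mod_cast this
        rw [ZMod.natCast_eq_zero_iff] at h3
        have := (Nat.prime_dvd_prime_iff_eq hp.out Nat.prime_two).mp h3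
        exact h.odd this
      have h3 := hdl (1 + 1) h2
      rw [h0] at h3
      rcases Nat.eq_zero_or_pos (dl (1 + 1)) with hz' | hz'
      · rw [hz', pow_zero] at h3
        have : (1 : ZMod p) = 0 := by
          have := congrArg (fun z => z - 1) h3
          simpa using this.symm
        exact one_ne_zero this
      · rw [zero_pow hz'.ne'] at h3
        exact h2 h3.symm
    · rw [zero_pow hz.ne'] at this
      exact one_ne_zero this.symm
  set a0 : (ZMod p)ˣ := Units.mk0 g0 hg0 * Units.mk0 g0 hg0 with ha0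
  have ha0v : (a0 : ZMod p) = g0 ^ 2 := by simp [ha0, sq]
  have ha0mem : a0 ∈ mult Γ := h.sq_mem a0 ⟨_, rfl⟩
  obtain ⟨a', ha'mem, haa⟩ := h.conj_swap ht0 ht1 ht a0 ha0mem
  set k : ZMod p := (a' : ZMod p) with hk
  set c : ZMod p := fval t 1 with hc
  set d : ZMod p := fval t g0 with hd
  have hk0 : k ≠ 0 := a'.ne_zero
  have hc0 : c ≠ 0 := (t_some ht0 ht1 one_ne_zero).2
  have hd0 : d ≠ 0 := (t_some ht0 ht1 hg0).2
  have hfermat : (a0 : ZMod p) ^ (p / 2) = 1 := by
    rw [ha0v, ← pow_mul, two_mul_half h.odd]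
    exact ZMod.pow_card_sub_one_eq_one hg0
  have hkm : k ^ (p / 2) = 1 := by
    have := fval_pow_mul ht0 ht1 haa (p / 2) (one_ne_zero (α := ZMod p))
    rw [hfermat, one_mul] at this
    have h2 : (1 : ZMod p) * fval t 1 = k ^ (p / 2) * fval t 1 := by rw [one_mul]; exact this
    exact (mul_right_cancel₀ hc0 h2).symm
  have hcand : ∀ x : ZMod p, x ≠ 0 → fval t x = candVal k c d dl x := by
    intro x hx
    have hx' := hdl x hx
    have hsplit : g0 ^ dl x = (a0 : ZMod p) ^ (dl x / 2) * g0 ^ (dl x % 2) := by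
      rw [ha0v, ← pow_mul, ← pow_add, Nat.div_add_mod]
    unfold candVal
    rcases Nat.mod_two_eq_zero_or_one (dl x) with hpar | hpar
    · rw [hpar, pow_zero] at hsplit
      rw [if_pos hpar]
      conv_lhs => rw [← hx', hsplit]
      exact fval_pow_mul ht0 ht1 haa _ one_ne_zero
    · rw [hpar, pow_one] at hsplit
      rw [if_neg (by omega)]
      conv_lhs => rw [← hx', hsplit]
      exact fval_pow_mul ht0 ht1 haa _ hg0
  have htO : ∀ o, tO (candVal k c d dl) o = t o := fun o => by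
    rw [← tO_congr hcand o]; exact tO_fval ht0 ht1 o
  have hexk : excl = true → k ≠ g0 ^ 2 := by
    intro he hkg
    refine hex he t ht ht0 ht1 a0 ha0v ?_
    rw [haa]
    congr 1
    exact Units.ext (by rw [← hk, hkg, ha0v])
  have htest : ∀ x : ZMod p, x ≠ 0 → testx (candVal k c d dl) x := by
    intro x hx
    have hAeq : ∀ o, AFun (candVal k c d dl) x o =
        (t * tau (-(fval t x)) * t * tau x * t) o := by
      intro o
      simp only [AFun, htO, tauO_eq, Perm.mul_apply, hcand x hx]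
    have hAmem : t * tau (-(fval t x)) * t * tau x * t ∈ Γ :=
      Γ.mul_mem (Γ.mul_mem (Γ.mul_mem (Γ.mul_mem ht (h.tau_mem' _)) ht) (h.tau_mem' _)) ht
    have hA0 : (t * tau (-(fval t x)) * t * tau x * t) none = none := by
      simp only [Perm.mul_apply]
      rw [ht0, tau_some, zero_add, (t_some ht0 ht1 hx).1, tau_some, add_neg_cancel, ht1]
    obtain ⟨a, b, hsq, hab⟩ := (h.stab_iff _).mp ⟨hAmem, hA0⟩
    have hpow : (a : ZMod p) ^ (p / 2) = 1 := by
      have := (ZMod.euler_criterion_units p a).mp (by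
        obtain ⟨r, hr⟩ := hsq
        exact ⟨r, by rw [hr, sq]⟩)
      have := congrArg (fun u : (ZMod p)ˣ => (u : ZMod p)) this
      simpa using this
    have e0 : AFun (candVal k c d dl) x (some 0) = some b := by
      rw [hAeq, hab, aff_some, mul_zero, zero_add]
    have e1 : AFun (candVal k c d dl) x (some 1) = some ((a : ZMod p) + b) := by
      rw [hAeq, hab, aff_some, mul_one]
    unfold testx
    rw [e0, e1]
    simp only [add_sub_cancel_right]
    refine ⟨hpow, fun y => ?_⟩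
    rw [hAeq, hab, aff_some]
  obtain ⟨hnegc, hval⟩ := hcheck k c d hk0 hc0 hd0 hkm hexk htest
  have hnc0 : -c ≠ 0 := neg_ne_zero.mpr hc0
  have hsqu : IsSquare (Units.mk0 (-c) hnc0) := by
    obtain ⟨r, hr⟩ := (ZMod.euler_criterion_units p (Units.mk0 (-c) hnc0)).mpr
      (Units.ext (by simpa using hnegc))
    exact ⟨r, by rw [← hr, sq]⟩
  have hmem : t * aff (Units.mk0 (-c) hnc0) 0 ∈ Γ :=
    Γ.mul_mem ht ((h.aff_mem_iff _ _).mpr (h.sq_mem _ hsqu))
  have heq : t * aff (Units.mk0 (-c) hnc0) 0 = sPerm := by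
    refine Equiv.ext fun o => ?_
    cases o with
    | none => rw [Perm.mul_apply, aff_none, ht0]; rfl
    | some x =>
      rw [Perm.mul_apply, aff_some, add_zero, Units.val_mk0, sPerm_apply]
      by_cases hx : x = 0
      · subst hx
        rw [mul_zero, ht1]
        simp [sFun]
      · have hcx : -c * x ≠ 0 := mul_ne_zero hnc0 hx
        rw [(t_some ht0 ht1 hcx).1]
        have h1 := hval (-c * x) hcx
        rw [← hcand _ hcx] at h1
        simp only [sFun, if_neg hx]
        congr 1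
        have h2 : fval t (-c * x) * x = -1 := by
          have : c * (fval t (-c * x) * x) = c * (-1) := by linear_combination -h1
          exact mul_left_cancel₀ hc0 this
        calc fval t (-c * x) = fval t (-c * x) * x * x⁻¹ := by
              rw [mul_assoc, mul_inv_cancel₀ hx, mul_one]
          _ = -x⁻¹ := by rw [h2]; ring
  rw [← heq]; exact hmem

/-- the main theorem on `Γ`: `Γ` is the standard set. -/
theorem Hyp.mem_iff (h : Hyp Γ) (g0 : ZMod p) (dl : ZMod p → ℕ) (excl : Bool)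
    (hdl : haveI : NeZero p := ⟨hp.out.ne_zero⟩; DlOk p g0 dl)
    (hcheck : haveI : NeZero p := ⟨hp.out.ne_zero⟩; Check p g0 dl excl)
    (hex : excl = true → ∀ t ∈ Γ, t none = some 0 → t (some 0) = none →
      ∀ a0 : (ZMod p)ˣ, (a0 : ZMod p) = g0 ^ 2 → t * aff a0 0 * t⁻¹ ≠ aff a0 0)
    (g : Perm (Option (ZMod p))) : g ∈ Γ ↔ g ∈ stdSet p := by
  have hs := h.sPerm_mem g0 dl excl hdl hcheck hex
  constructor
  · intro hg
    rcases hgn : g none with _ | y
    · obtain ⟨a, b, hsq, hab⟩ := (h.stab_iff g).mp ⟨hg, hgn⟩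
      exact ⟨a, b, hsq, Or.inl hab⟩
    · have hmem : (sPerm : Perm (Option (ZMod p))) * tau (-y) * g ∈ Γ :=
        Γ.mul_mem (Γ.mul_mem hs (h.tau_mem' _)) hg
      have h0 : ((sPerm : Perm (Option (ZMod p))) * tau (-y) * g) none = none := by
        rw [Perm.mul_apply, Perm.mul_apply, hgn, tau_some, add_neg_cancel, sPerm_apply]
        simp [sFun]
      obtain ⟨a, b, hsq, hab⟩ := (h.stab_iff _).mp ⟨hmem, h0⟩
      refine ⟨a, b, hsq, Or.inr ⟨y, ?_⟩⟩
      rw [← hab, ← mul_assoc, ← mul_assoc, mul_assoc (tau y), sPerm_mul_self, mul_one, tau_mul,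
        add_neg_cancel, tau_zero, one_mul]
  · rintro ⟨a, b, hsq, hab | ⟨y, hab⟩⟩
    · rw [hab]; exact ((h.stab_iff _).mpr ⟨a, b, hsq, rfl⟩).1
    · rw [hab]
      exact Γ.mul_mem (Γ.mul_mem (h.tau_mem' _) hs) ((h.stab_iff _).mpr ⟨a, b, hsq, rfl⟩).1

end Cfsg.Agent.Lib.Helper57.P1
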