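import Mathlib
import Cfsg.Agent.Lib.Helper57.P1Main

/-!
# A simple group of order `p (p² - 1) / 2` acting on its Sylow `p`-subgroups (helper57)
-/

set_option autoImplicit false

namespace Cfsg.Agent.Lib.Helper57.P1

open Equiv

/-- arithmetic conditions on the prime. -/
structure Arith (p : ℕ) : Prop where
  five : 5 ≤ p
  syl : ∀ d, d ∣ (p ^ 2 - 1) / 2 → d % p = 1 → d = 1 ∨ d = p + 1

instance (p : ℕ) : Decidable (Arith p) :=
  decidable_of_iff (5 ≤ p ∧ ∀ d, d < (p ^ 2 - 1) / 2 + 1 →
      d ∣ (p ^ 2 - 1) / 2 → d % p = 1 → d = 1 ∨ d = p + 1)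
    ⟨fun h => ⟨h.1, fun d hd hm => h.2 d (by
        have h5 := h.1
        have : 0 < (p ^ 2 - 1) / 2 := by
          have : 5 ^ 2 ≤ p ^ 2 := Nat.pow_le_pow_left h5 2
          omega
        have := Nat.le_of_dvd this hd
        omega) hd hm⟩,
     fun h => ⟨h.1, fun d _ hd hm => h.2 d hd hm⟩⟩

section

variable {p : ℕ} [hp : Fact p.Prime] {G : Type*} [Group G] [Finite G] [IsSimpleGroup G]

theorem half_facts (hA : Arith p) :
    2 * ((p ^ 2 - 1) / 2) = p ^ 2 - 1 ∧ ¬ p ∣ (p ^ 2 - 1) / 2 ∧ 1 < (p ^ 2 - 1) / 2 := by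
  have h5 := hA.five
  have hodd : p % 2 = 1 := by
    rcases hp.out.eq_two_or_odd with h | h
    · omega
    · exact h
  have hsq : p ^ 2 % 2 = 1 := by
    rw [sq, Nat.mul_mod, hodd]
  have hpos : 25 ≤ p ^ 2 := by
    have : 5 ^ 2 ≤ p ^ 2 := Nat.pow_le_pow_left h5 2
    omega
  have h1 : 2 * ((p ^ 2 - 1) / 2) = p ^ 2 - 1 := by omega
  refine ⟨h1, ?_, by omega⟩
  intro hd
  have h2 : p ∣ p ^ 2 - 1 := by
    rw [← h1]; exact Dvd.dvd.mul_left hd 2
  have h3 : p ∣ p ^ 2 := dvd_pow_self p two_ne_zero
  have h4 : p ∣ 1 := by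
    have := (Nat.dvd_sub h3 h2)
    have e : p ^ 2 - (p ^ 2 - 1) = 1 := by omega
    rwa [e] at this
  exact hp.out.one_lt.ne' (Nat.dvd_one.mp h4)

theorem card_G (hA : Arith p) (hG : 2 * Nat.card G = p * (p ^ 2 - 1)) :
    Nat.card G = p * ((p ^ 2 - 1) / 2) := by
  have h1 := (half_facts hA).1
  rw [← h1] at hG
  have : 2 * Nat.card G = 2 * (p * ((p ^ 2 - 1) / 2)) := by rw [hG]; ring
  exact Nat.eq_of_mul_eq_mul_left two_pos this

theorem card_sylow_sub (hA : Arith p) (hG : 2 * Nat.card G = p * (p ^ 2 - 1)) (P : Sylow p G) :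
    Nat.card (P : Subgroup G) = p := by
  rw [Sylow.card_eq_multiplicity, card_G hA hG]
  have hr0 : (p ^ 2 - 1) / 2 ≠ 0 := by have := (half_facts (p := p) hA).2.2; omega
  rw [Nat.factorization_mul hp.out.ne_zero hr0, Finsupp.add_apply,
    hp.out.factorization_self, Nat.factorization_eq_zero_of_not_dvd (half_facts hA).2.1, pow_one]

theorem index_sylow (hA : Arith p) (hG : 2 * Nat.card G = p * (p ^ 2 - 1)) (P : Sylow p G) :
    (P : Subgroup G).index = (p ^ 2 - 1) / 2 := by
  have h1 := (P : Subgroup G).card_mul_index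
  rw [card_sylow_sub hA hG P, card_G hA hG] at h1
  exact Nat.eq_of_mul_eq_mul_left hp.out.pos h1

theorem card_sylow (hA : Arith p) (hG : 2 * Nat.card G = p * (p ^ 2 - 1)) :
    Nat.card (Sylow p G) = p + 1 := by
  have P : Sylow p G := default
  have h1 : Nat.card (Sylow p G) ∣ (p ^ 2 - 1) / 2 := by
    rw [← index_sylow hA hG P]; exact P.card_dvd_index
  have h2 : Nat.card (Sylow p G) % p = 1 := by
    have := card_sylow_modEq_one p G
    rw [Nat.ModEq, Nat.mod_eq_of_lt hp.out.one_lt] at this
    exact this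
  rcases hA.syl _ h1 h2 with h | h
  · exfalso
    have hsub : Subsingleton (Sylow p G) := by
      rw [← Finite.card_le_one_iff_subsingleton]
      omega
    have hn : (P : Subgroup G).Normal := Sylow.normal_of_subsingleton P
    rcases hn.eq_bot_or_eq_top with hb | ht
    · have := card_sylow_sub hA hG P
      rw [hb, Subgroup.card_bot] at this
      exact hp.out.one_lt.ne' this.symm
    · have := card_sylow_sub hA hG P
      rw [ht, Subgroup.card_top, card_G hA hG] at this
      have h3 := (half_facts (p := p) hA).2.2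
      have hpos := hp.out.pos
      nlinarith
  · exact h


/-- the labelling of the Sylow subgroups by the projective line. -/
noncomputable def label (P Q0 : Sylow p G) (u : G) (o : Option (ZMod p)) : Sylow p G :=
  match o with
  | none => P
  | some i => u ^ i.val • Q0

theorem exists_rho (hA : Arith p) (hG : 2 * Nat.card G = p * (p ^ 2 - 1)) :
    ∃ ρ : G →* Perm (Option (ZMod p)), Function.Injective ρ ∧ Hyp ρ.range := by
  classical
  have hp5 := hA.five
  have hcs := card_sylow hA hG
  have P : Sylow p G := default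
  have hcP := card_sylow_sub hA hG P
  -- a generator of P
  haveI : Fact (Nat.card (P : Subgroup G)).Prime := ⟨by rw [hcP]; exact hp.out⟩
  have hcyc : IsCyclic (P : Subgroup G) := isCyclic_of_prime_card rfl
  obtain ⟨⟨u, huP⟩, hu⟩ := hcyc.exists_generator
  have hord : orderOf u = p := by
    have := orderOf_eq_card_of_forall_mem_zpowers hu
    rw [hcP] at this
    rw [← this]
    exact (Subgroup.orderOf_mk u huP).symm
  have hPz : ∀ x : G, x ∈ (P : Subgroup G) → x ∈ Subgroup.zpowers u := by
    intro x hx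
    obtain ⟨k, hk⟩ := Subgroup.mem_zpowers_iff.mp (hu ⟨x, hx⟩)
    refine Subgroup.mem_zpowers_iff.mpr ⟨k, ?_⟩
    have := congrArg (fun y : (P : Subgroup G) => (y : G)) hk
    simpa using this
  have huPfix : ∀ n : ℕ, u ^ n • P = P := by
    intro n
    rw [Sylow.smul_eq_iff_mem_normalizer]
    exact Subgroup.le_normalizer ((P : Subgroup G).pow_mem huP n)
  -- fixed points of u
  have hfix : ∀ Q : Sylow p G, u • Q = Q → Q = P := by
    intro Q hQ
    rw [Sylow.smul_eq_iff_mem_normalizer] at hQ
    have h1 : u ∈ (P : Subgroup G) ⊓ Subgroup.normalizer (Q : Set G) := ⟨huP, hQ⟩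
    rw [P.isPGroup'.inf_normalizer_sylow Q] at h1
    have hle : (P : Subgroup G) ≤ Q := by
      intro x hx
      obtain ⟨k, rfl⟩ := Subgroup.mem_zpowers_iff.mp (hPz x hx)
      exact (Q : Subgroup G).zpow_mem h1.2 k
    exact Sylow.ext (P.is_maximal' Q.isPGroup' hle)
  -- a second Sylow subgroup
  haveI : Nontrivial (Sylow p G) := by
    rw [← Finite.one_lt_card_iff_nontrivial, hcs]; omega
  obtain ⟨Q0, hQ0⟩ := exists_ne P
  have hpow_fix : ∀ n : ℕ, 0 < n → n < p → u ^ n • Q0 ≠ Q0 := by
    intro n hn0 hnp hfixn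
    have hcop : n.Coprime (orderOf u) := by
      rw [hord]
      exact ((Nat.Prime.coprime_iff_not_dvd hp.out).mpr (Nat.not_dvd_of_pos_of_lt hn0 hnp)).symm
    obtain ⟨m, hm⟩ := exists_pow_eq_self_of_coprime hcop
    have h1 : u ^ n ∈ MulAction.stabilizer G Q0 := hfixn
    have h2 : u ∈ MulAction.stabilizer G Q0 := by
      rw [← hm]; exact Subgroup.pow_mem _ h1 m
    exact hQ0 (hfix Q0 h2)
  have hlt : ∀ a b : ℕ, a < p → b < p → a ≤ b → u ^ a • Q0 = u ^ b • Q0 → a = b := by
    intro a b ha hb hab h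
    by_contra hne
    have hlt : a < b := lt_of_le_of_ne hab hne
    have hb' : b = a + (b - a) := by omega
    rw [hb', pow_add, mul_smul] at h
    have := smul_left_cancel _ h
    exact hpow_fix (b - a) (by omega) (by omega) this.symm
  have hinj : Function.Injective (label P Q0 u) := by
    intro o o' h
    cases o with
    | none =>
      cases o' with
      | none => rfl
      | some j =>
        exfalso
        simp only [label] at h
        rw [← huPfix j.val] at h
        exact hQ0 (smul_left_cancel _ h).symm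
    | some i =>
      cases o' with
      | none =>
        exfalso
        simp only [label] at h
        rw [← huPfix i.val] at h
        exact hQ0 (smul_left_cancel _ h)
      | some j =>
        simp only [label] at h
        haveI : NeZero p := ⟨hp.out.ne_zero⟩
        have hi := ZMod.val_lt i
        have hj := ZMod.val_lt j
        congr 1
        apply ZMod.val_injective
        rcases le_total i.val j.val with hij | hij
        · exact hlt _ _ hi hj hij h
        · exact (hlt _ _ hj hi hij h.symm).symm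
  have hbij : Function.Bijective (label P Q0 u) := by
    refine hinj.bijective_of_nat_card_le ?_
    rw [hcs, Nat.card_eq_fintype_card, Fintype.card_option, ZMod.card]
  let E : Option (ZMod p) ≃ Sylow p G := Equiv.ofBijective _ hbij
  have hEnone : E none = P := rfl
  have hEsome : ∀ i : ZMod p, E (some i) = u ^ i.val • Q0 := fun i => rfl
  let ρ : G →* Perm (Option (ZMod p)) :=
    (E.symm.permCongrHom).toMonoidHom.comp (MulAction.toPermHom G (Sylow p G))
  have hρ : ∀ (g : G) (o : Option (ZMod p)), ρ g o = E.symm (g • E o) := fun g o => rfl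
  -- injectivity
  have hφinj : Function.Injective (MulAction.toPermHom G (Sylow p G)) := by
    rw [← MonoidHom.ker_eq_bot_iff]
    rcases (MonoidHom.normal_ker (MulAction.toPermHom G (Sylow p G))).eq_bot_or_eq_top with h | h
    · exact h
    · exfalso
      obtain ⟨g, hg⟩ := MulAction.exists_smul_eq G P Q0
      have : g ∈ (MulAction.toPermHom G (Sylow p G)).ker := by rw [h]; trivial
      rw [MonoidHom.mem_ker] at this
      have h2 := congrArg (fun f : Perm (Sylow p G) => f P) this
      simp only [MulAction.toPermHom_apply, MulAction.toPerm_apply, Perm.one_apply] at h2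
      exact hQ0 (hg.symm.trans h2)
  have hρinj : Function.Injective ρ := by
    intro g g' h
    apply hφinj
    exact (E.symm.permCongrHom).injective h
  -- ρ u = tau 1
  have hρu : ρ u = tau 1 := by
    refine Equiv.ext fun o => ?_
    cases o with
    | none =>
      rw [hρ, hEnone, tau_none, Equiv.symm_apply_eq, hEnone]
      simpa using huPfix 1
    | some i =>
      rw [hρ, hEsome, tau_some, Equiv.symm_apply_eq, hEsome, ← mul_smul, ← pow_succ']
      congr 1
      rw [pow_eq_pow_iff_modEq, hord]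
      haveI : NeZero p := ⟨hp.out.ne_zero⟩
      rw [← ZMod.natCast_eq_natCast_iff]
      push_cast
      rw [ZMod.natCast_zmod_val, ZMod.natCast_zmod_val]
  refine ⟨ρ, hρinj, ?_⟩
  refine ⟨by omega, ?_, ⟨u, hρu⟩, ?_, ?_⟩
  · rw [Nat.card_congr (MonoidHom.ofInjective hρinj).toEquiv.symm]; exact hG
  · obtain ⟨g, hg⟩ := MulAction.exists_smul_eq G P Q0
    refine ⟨ρ g, ⟨g, rfl⟩, ?_⟩
    rw [hρ, hEnone, hg]
    have : E.symm Q0 = some 0 := by
      rw [Equiv.symm_apply_eq, hEsome]
      simp
    rw [this]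
    simp
  · rintro _ ⟨x, rfl⟩ hx
    rw [hρ, hEnone, Equiv.symm_apply_eq, hEnone, Sylow.smul_eq_iff_mem_normalizer] at hx
    have h1 : x * u * x⁻¹ ∈ (P : Subgroup G) :=
      (Subgroup.mem_normalizer_iff.mp hx u).mp huP
    obtain ⟨k, hk⟩ := Subgroup.mem_zpowers_iff.mp (hPz _ h1)
    refine ⟨k, ?_⟩
    rw [← hρu, ← map_zpow, hk, map_mul, map_mul, map_inv]

end

end Cfsg.Agent.Lib.Helper57.P1
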