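import Mathlib
import Cfsg.Agent.Lib.Helper57.P1Sylow

/-!
# Two simple groups of order `p (p² - 1) / 2` are isomorphic (helper57)

... for the primes `p` for which the finite check `Check` has been run.
-/

set_option autoImplicit false

namespace Cfsg.Agent.Lib.Helper57.P1

open Equiv

variable {p : ℕ} [hp : Fact p.Prime]

theorem aff_pow (a : (ZMod p)ˣ) (n : ℕ) : aff a 0 ^ n = aff (a ^ n) 0 := by
  induction n with
  | zero => rw [pow_zero, pow_zero, aff_one]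
  | succ n ih => rw [pow_succ, ih, aff_mul, mul_zero, zero_add, pow_succ]

variable {Γ : Subgroup (Perm (Option (ZMod p)))}

/-- the exceptional case `p = 7`: no swap centralises the two-point stabiliser, if `Γ` has no
elements of order 6. -/
theorem Hyp.hex_of_order (h : Hyp Γ) (h7 : p = 7) (g0 : ZMod p) (hg4 : g0 ^ 4 ≠ 1)
    (hord : ∀ g ∈ Γ, g ^ 6 = 1 → g ^ 2 = 1 ∨ g ^ 3 = 1) :
    ∀ t ∈ Γ, t none = some 0 → t (some 0) = none →
      ∀ a0 : (ZMod p)ˣ, (a0 : ZMod p) = g0 ^ 2 → t * aff a0 0 * t⁻¹ ≠ aff a0 0 := by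
  intro t ht ht0 ht1 a0 ha0 hcomm
  have hcomm' : Commute t (aff a0 0) := by
    show t * aff a0 0 = aff a0 0 * t
    calc t * aff a0 0 = (t * aff a0 0 * t⁻¹) * t := by group
      _ = aff a0 0 * t := by rw [hcomm]
  have hp2 : p / 2 = 3 := by rw [h7]
  have hg0 : g0 ≠ 0 := by
    rintro rfl
    rw [zero_pow (by norm_num)] at ha0
    exact a0.ne_zero ha0
  have hsq0 : IsSquare a0 := ⟨Units.mk0 g0 hg0, Units.ext (by rw [ha0, sq]; rfl)⟩
  have hcube : ∀ a : (ZMod p)ˣ, IsSquare a → a ^ 3 = 1 := by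
    intro a ha
    have := (ZMod.euler_criterion_units p a).mp (by
      obtain ⟨r, hr⟩ := ha
      exact ⟨r, by rw [hr, sq]⟩)
    rwa [hp2] at this
  have hmem0 : aff a0 0 ∈ Γ := ((h.stab_iff _).mpr ⟨a0, 0, hsq0, rfl⟩).1
  have hh3 : aff a0 0 ^ 3 = 1 := by rw [aff_pow, hcube a0 hsq0, aff_one]
  -- t² is in the two-point stabiliser
  have ht2mem : t * t ∈ Γ := Γ.mul_mem ht ht
  have ht2n : (t * t) none = none := by rw [Perm.mul_apply, ht0, ht1]
  obtain ⟨a, b, hsq, hab⟩ := (h.stab_iff _).mp ⟨ht2mem, ht2n⟩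
  have hb : b = 0 := by
    have h1 : (t * t) (some 0) = some 0 := by rw [Perm.mul_apply, ht1, ht0]
    rw [hab, aff_some, mul_zero, zero_add] at h1
    exact Option.some.inj h1
  subst hb
  have ht6 : t ^ 6 = 1 := by
    have : t ^ 6 = (t * t) ^ 3 := by rw [← sq, ← pow_mul]
    rw [this, hab, aff_pow, hcube a hsq, aff_one]
  have htne : t ≠ 1 := by
    rintro rfl
    simp at ht0
  have ht2 : t ^ 2 = 1 := by
    rcases hord t ht ht6 with h2 | h3
    · exact h2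
    · exfalso
      have : (t ^ 3) none = some 0 := by
        have e : t ^ 3 = t * (t * t) := by rw [pow_succ, sq]; group
        rw [e, Perm.mul_apply, ht2n, ht0]
      rw [h3] at this
      simp at this
  have hy6 : (t * aff a0 0) ^ 6 = 1 := by
    rw [hcomm'.mul_pow, ht6, one_mul]
    have : aff a0 0 ^ 6 = (aff a0 0 ^ 3) ^ 2 := by rw [← pow_mul]
    rw [this, hh3, one_pow]
  rcases hord _ (Γ.mul_mem ht hmem0) hy6 with h2 | h3
  · rw [hcomm'.mul_pow, ht2, one_mul, aff_pow, ← aff_one] at h2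
    have := (aff_inj h2).1
    have h4 : g0 ^ 4 = 1 := by
      have := congrArg (fun u : (ZMod p)ˣ => (u : ZMod p)) this
      simp only [Units.val_pow_eq_pow_val, ha0, Units.val_one] at this
      rw [← this]; ring
    exact hg4 h4
  · rw [hcomm'.mul_pow, hh3, mul_one] at h3
    have : t ^ 3 = t := by rw [pow_succ, ht2, one_mul]
    rw [this] at h3
    exact htne h3

/-- the image of a simple group of order `p (p² - 1) / 2` is the standard set. -/
theorem range_eq_stdSet (g0 : ZMod p) (dl : ZMod p → ℕ) (excl : Bool)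
    (hdl : haveI : NeZero p := ⟨hp.out.ne_zero⟩; DlOk p g0 dl)
    (hcheck : haveI : NeZero p := ⟨hp.out.ne_zero⟩; Check p g0 dl excl)
    (hex : excl = true → p = 7 ∧ g0 ^ 4 ≠ 1)
    {G : Type*} [Group G] (ρ : G →* Perm (Option (ZMod p))) (hinj : Function.Injective ρ)
    (hyp : Hyp ρ.range) (hx : excl = true → ∀ x : G, x ^ 6 = 1 → x ^ 2 = 1 ∨ x ^ 3 = 1)
    (g : Perm (Option (ZMod p))) : g ∈ ρ.range ↔ g ∈ stdSet p := by
  refine hyp.mem_iff g0 dl excl hdl hcheck ?_ g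
  intro he
  refine hyp.hex_of_order (hex he).1 g0 (hex he).2 ?_
  rintro _ ⟨x, rfl⟩ h6
  rw [← map_pow, ← map_one ρ] at h6
  rcases hx he x (hinj h6) with h2 | h3
  · left; rw [← map_pow, h2, map_one]
  · right; rw [← map_pow, h3, map_one]

/-- two simple groups of order `p (p² - 1) / 2` are isomorphic. -/
theorem mulEquiv_of_simple (hA : Arith p) (g0 : ZMod p) (dl : ZMod p → ℕ) (excl : Bool)
    (hdl : haveI : NeZero p := ⟨hp.out.ne_zero⟩; DlOk p g0 dl)
    (hcheck : haveI : NeZero p := ⟨hp.out.ne_zero⟩; Check p g0 dl excl)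
    (hex : excl = true → p = 7 ∧ g0 ^ 4 ≠ 1)
    {G₁ : Type*} [Group G₁] [Finite G₁] [IsSimpleGroup G₁]
    {G₂ : Type*} [Group G₂] [Finite G₂] [IsSimpleGroup G₂]
    (h₁ : 2 * Nat.card G₁ = p * (p ^ 2 - 1)) (h₂ : 2 * Nat.card G₂ = p * (p ^ 2 - 1))
    (hx₁ : excl = true → ∀ x : G₁, x ^ 6 = 1 → x ^ 2 = 1 ∨ x ^ 3 = 1)
    (hx₂ : excl = true → ∀ x : G₂, x ^ 6 = 1 → x ^ 2 = 1 ∨ x ^ 3 = 1) :
    Nonempty (G₁ ≃* G₂) := by
  obtain ⟨ρ₁, hinj₁, hyp₁⟩ := exists_rho (G := G₁) hA h₁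
  obtain ⟨ρ₂, hinj₂, hyp₂⟩ := exists_rho (G := G₂) hA h₂
  have hrange : ρ₁.range = ρ₂.range := by
    ext g
    rw [range_eq_stdSet g0 dl excl hdl hcheck hex ρ₁ hinj₁ hyp₁ hx₁,
      range_eq_stdSet g0 dl excl hdl hcheck hex ρ₂ hinj₂ hyp₂ hx₂]
  exact ⟨(MonoidHom.ofInjective hinj₁).trans
    ((MulEquiv.subgroupCongr hrange).trans (MonoidHom.ofInjective hinj₂).symm)⟩

end Cfsg.Agent.Lib.Helper57.P1
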