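import Mathlib
import Cfsg.Agent.Lib.Helper57.P1Final
import Cfsg.Agent.Lib.Helper14.PSL2Klein2

/-!
# A simple group of order `p (p² - 1) / 2` is `PSL₂(p)` (helper57)

for the primes `p` for which the finite check has been run.
-/

set_option autoImplicit false

namespace Cfsg.Agent.Lib.Helper57.P1

variable {p : ℕ} [hp : Fact p.Prime]

/-- a simple group of order `p (p² - 1) / 2` is isomorphic to `PSL₂(F)`, `|F| = p`. -/
theorem mulEquiv_psl (hA : Arith p) (g0 : ZMod p) (dl : ZMod p → ℕ) (excl : Bool)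
    (hdl : haveI : NeZero p := ⟨hp.out.ne_zero⟩; DlOk p g0 dl)
    (hcheck : haveI : NeZero p := ⟨hp.out.ne_zero⟩; Check p g0 dl excl)
    (hex : excl = true → p = 7 ∧ g0 ^ 4 ≠ 1)
    {G : Type*} [Group G] [Finite G] [IsSimpleGroup G]
    (hG : 2 * Nat.card G = p * (p ^ 2 - 1))
    {F : Type*} [Field F] [Fintype F] (hF : Fintype.card F = p)
    (hx₁ : excl = true → ∀ x : G, x ^ 6 = 1 → x ^ 2 = 1 ∨ x ^ 3 = 1)
    (hx₂ : excl = true → ∀ x : Matrix.ProjectiveSpecialLinearGroup (Fin 2) F,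
      x ^ 6 = 1 → x ^ 2 = 1 ∨ x ^ 3 = 1) :
    Nonempty (G ≃* Matrix.ProjectiveSpecialLinearGroup (Fin 2) F) := by
  classical
  have h5 := hA.five
  haveI : IsSimpleGroup (Matrix.ProjectiveSpecialLinearGroup (Fin 2) F) :=
    Matrix.ProjectiveSpecialLinearGroup.rank_two_simple (by
      rw [Nat.card_eq_fintype_card, hF]; omega)
  haveI : Finite (Matrix.ProjectiveSpecialLinearGroup (Fin 2) F) := inferInstance
  have hodd : Odd (Fintype.card F) := by
    rw [hF]
    rcases hp.out.eq_two_or_odd' with h | h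
    · omega
    · exact h
  have h2 : 2 * Nat.card (Matrix.ProjectiveSpecialLinearGroup (Fin 2) F) = p * (p ^ 2 - 1) := by
    have := Cfsg.Agent.Lib.Helper14.PSL2Klein.card_PSL2_mul_two (F := F) hodd
    rw [hF] at this
    rw [← this]; ring
  exact mulEquiv_of_simple hA g0 dl excl hdl hcheck hex hG h2 hx₁ hx₂

end Cfsg.Agent.Lib.Helper57.P1
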