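import Mathlib
import Cfsg.Agent.Lib.Helper57.P1PSL

/-!
# The finite checks for `p = 7, 11, 13, 17, 19, 23` (helper57)
-/

set_option autoImplicit false

namespace Cfsg.Agent.Lib.Helper57.P1

/-- discrete logarithm to the base `3` modulo `7`. -/
def dl7 : ZMod 7 → ℕ := fun x => ([0, 0, 2, 1, 4, 5, 3] : List ℕ).getD x.val 0
theorem dl7ok : DlOk 7 3 dl7 := by decide +kernel
theorem check7 : Check 7 3 dl7 true := by decide +kernel
theorem arith7 : Arith 7 := by decide +kernel

/-- discrete logarithm to the base `2` modulo `11`. -/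
def dl11 : ZMod 11 → ℕ := fun x => ([0, 0, 1, 8, 2, 4, 9, 7, 3, 6, 5] : List ℕ).getD x.val 0
theorem dl11ok : DlOk 11 2 dl11 := by decide +kernel
theorem check11 : Check 11 2 dl11 false := by decide +kernel
theorem arith11 : Arith 11 := by decide +kernel

/-- discrete logarithm to the base `2` modulo `13`. -/
def dl13 : ZMod 13 → ℕ :=
  fun x => ([0, 0, 1, 4, 2, 9, 5, 11, 3, 8, 10, 7, 6] : List ℕ).getD x.val 0
theorem dl13ok : DlOk 13 2 dl13 := by decide +kernel
theorem check13 : Check 13 2 dl13 false := by decide +kernel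
theorem arith13 : Arith 13 := by decide +kernel

/-- discrete logarithm to the base `3` modulo `17`. -/
def dl17 : ZMod 17 → ℕ :=
  fun x => ([0, 0, 14, 1, 12, 5, 15, 11, 10, 2, 3, 7, 13, 4, 9, 6, 8] : List ℕ).getD x.val 0
theorem dl17ok : DlOk 17 3 dl17 := by decide +kernel
theorem check17 : Check 17 3 dl17 false := by decide +kernel
theorem arith17 : Arith 17 := by decide +kernel

/-- discrete logarithm to the base `2` modulo `19`. -/
def dl19 : ZMod 19 → ℕ :=
  fun x => ([0, 0, 1, 13, 2, 16, 14, 6, 3, 8, 17, 12, 15, 5, 7, 11, 4, 10, 9] : List ℕ).getD x.val 0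
theorem dl19ok : DlOk 19 2 dl19 := by decide +kernel
theorem check19 : Check 19 2 dl19 false := by decide +kernel
theorem arith19 : Arith 19 := by decide +kernel

/-- discrete logarithm to the base `5` modulo `23`. -/
def dl23 : ZMod 23 → ℕ :=
  fun x => ([0, 0, 2, 16, 4, 1, 18, 19, 6, 10, 3, 9, 20, 14, 21, 17, 8, 7, 12, 15, 5, 13, 11] :
    List ℕ).getD x.val 0
theorem dl23ok : DlOk 23 5 dl23 := by decide +kernel
theorem check23 : Check 23 5 dl23 false := by decide +kernel
theorem arith23 : Arith 23 := by decide +kernel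

end Cfsg.Agent.Lib.Helper57.P1
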