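import Mathlib

set_option autoImplicit false

namespace Cfsg.Agent.Lib.Helper57

set_option maxRecDepth 100000 in
theorem perm5_even_pow : ∀ g : Equiv.Perm (Fin 5), Equiv.Perm.sign g = 1 →
    g ^ 2 = 1 ∨ g ^ 3 = 1 ∨ g ^ 5 = 1 := by decide

theorem orderOf_A5 (g : alternatingGroup (Fin 5)) :
    orderOf g = 1 ∨ orderOf g = 2 ∨ orderOf g = 3 ∨ orderOf g = 5 := by
  have hs : Equiv.Perm.sign (g : Equiv.Perm (Fin 5)) = 1 := Equiv.Perm.mem_alternatingGroup.mp g.2
  rw [← Subgroup.orderOf_coe]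
  rcases perm5_even_pow g hs with h | h | h
  · have := orderOf_dvd_of_pow_eq_one h
    rcases (Nat.dvd_prime Nat.prime_two).1 this with h1 | h1
    · exact Or.inl h1
    · exact Or.inr (Or.inl h1)
  · have := orderOf_dvd_of_pow_eq_one h
    rcases (Nat.dvd_prime Nat.prime_three).1 this with h1 | h1
    · exact Or.inl h1
    · exact Or.inr (Or.inr (Or.inl h1))
  · have := orderOf_dvd_of_pow_eq_one h
    rcases (Nat.dvd_prime Nat.prime_five).1 this with h1 | h1
    · exact Or.inl h1
    · exact Or.inr (Or.inr (Or.inr h1))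

/-- an element of order 2 -/
def a2 : alternatingGroup (Fin 5) :=
  ⟨Equiv.swap 0 1 * Equiv.swap 2 3, Equiv.Perm.mem_alternatingGroup.mpr (by decide)⟩

/-- an element of order 3 -/
def a3 : alternatingGroup (Fin 5) :=
  ⟨Equiv.swap 0 1 * Equiv.swap 1 2, Equiv.Perm.mem_alternatingGroup.mpr (by decide)⟩

/-- an element of order 5 -/
def a5 : alternatingGroup (Fin 5) :=
  ⟨finRotate 5, Equiv.Perm.mem_alternatingGroup.mpr (by decide)⟩

theorem orderOf_a2 : orderOf a2 = 2 := by
  have : Fact (Nat.Prime 2) := ⟨Nat.prime_two⟩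
  apply orderOf_eq_prime
  · apply Subtype.ext
    show (Equiv.swap (0 : Fin 5) 1 * Equiv.swap 2 3) ^ 2 = 1
    decide
  · intro h
    have h' : (Equiv.swap (0 : Fin 5) 1 * Equiv.swap 2 3) = 1 := congrArg Subtype.val h
    revert h'
    decide

theorem orderOf_a3 : orderOf a3 = 3 := by
  have : Fact (Nat.Prime 3) := ⟨Nat.prime_three⟩
  apply orderOf_eq_prime
  · apply Subtype.ext
    show (Equiv.swap (0 : Fin 5) 1 * Equiv.swap 1 2) ^ 3 = 1
    decide
  · intro h
    have h' : (Equiv.swap (0 : Fin 5) 1 * Equiv.swap 1 2) = 1 := congrArg Subtype.val h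
    revert h'
    decide

theorem orderOf_a5 : orderOf a5 = 5 := by
  have : Fact (Nat.Prime 5) := ⟨Nat.prime_five⟩
  apply orderOf_eq_prime
  · apply Subtype.ext
    show (finRotate 5) ^ 5 = 1
    decide
  · intro h
    have h' : (finRotate 5) = 1 := congrArg Subtype.val h
    revert h'
    decide

theorem spectrum_A5 : Set.range (orderOf : alternatingGroup (Fin 5) → ℕ) = {1, 2, 3, 5} := by
  ext n
  constructor
  · rintro ⟨g, rfl⟩
    rcases orderOf_A5 g with h | h | h | h <;> simp [h]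
  · intro hn
    simp only [Set.mem_insert_iff, Set.mem_singleton_iff] at hn
    rcases hn with rfl | rfl | rfl | rfl
    · exact ⟨1, orderOf_one⟩
    · exact ⟨a2, orderOf_a2⟩
    · exact ⟨a3, orderOf_a3⟩
    · exact ⟨a5, orderOf_a5⟩

end Cfsg.Agent.Lib.Helper57
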