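import Mathlib
import Cfsg.Prelude.Def_Spor_J1

set_option autoImplicit false

namespace Cfsg.Agent.Lib.Helper57.J1

open Matrix

/-- a row of seven naturals -/
structure R7 where
  (a0 a1 a2 a3 a4 a5 a6 : Nat)
deriving DecidableEq

/-- a 7 × 7 matrix of naturals (entries read modulo 11) -/
structure M7 where
  (r0 r1 r2 r3 r4 r5 r6 : R7)
deriving DecidableEq

/-- entry of a row -/
def R7.get (r : R7) : Fin 7 → Nat := ![r.a0, r.a1, r.a2, r.a3, r.a4, r.a5, r.a6]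

/-- row of a matrix -/
def M7.row (A : M7) : Fin 7 → R7 := ![A.r0, A.r1, A.r2, A.r3, A.r4, A.r5, A.r6]

/-- entry of a matrix -/
def M7.get (A : M7) (i j : Fin 7) : Nat := (A.row i).get j

/-- the matrix over `ZMod 11` -/
def toM (A : M7) : Matrix (Fin 7) (Fin 7) (ZMod 11) := Matrix.of fun i j => (A.get i j : ZMod 11)

/-- dot product of a row with seven numbers, reduced mod 11 -/
def dot (r : R7) (b0 b1 b2 b3 b4 b5 b6 : Nat) : Nat :=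
  Nat.mod (Nat.add (Nat.add (Nat.add (Nat.add (Nat.add (Nat.add (Nat.mul r.a0 b0) (Nat.mul r.a1 b1))
    (Nat.mul r.a2 b2)) (Nat.mul r.a3 b3)) (Nat.mul r.a4 b4)) (Nat.mul r.a5 b5)) (Nat.mul r.a6 b6)) 11

/-- row times matrix -/
def rowMul (r : R7) (B : M7) : R7 :=
  ⟨dot r B.r0.a0 B.r1.a0 B.r2.a0 B.r3.a0 B.r4.a0 B.r5.a0 B.r6.a0,
   dot r B.r0.a1 B.r1.a1 B.r2.a1 B.r3.a1 B.r4.a1 B.r5.a1 B.r6.a1,
   dot r B.r0.a2 B.r1.a2 B.r2.a2 B.r3.a2 B.r4.a2 B.r5.a2 B.r6.a2,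
   dot r B.r0.a3 B.r1.a3 B.r2.a3 B.r3.a3 B.r4.a3 B.r5.a3 B.r6.a3,
   dot r B.r0.a4 B.r1.a4 B.r2.a4 B.r3.a4 B.r4.a4 B.r5.a4 B.r6.a4,
   dot r B.r0.a5 B.r1.a5 B.r2.a5 B.r3.a5 B.r4.a5 B.r5.a5 B.r6.a5,
   dot r B.r0.a6 B.r1.a6 B.r2.a6 B.r3.a6 B.r4.a6 B.r5.a6 B.r6.a6⟩

/-- matrix product, reduced mod 11 -/
def mulC (A B : M7) : M7 :=
  ⟨rowMul A.r0 B, rowMul A.r1 B, rowMul A.r2 B, rowMul A.r3 B, rowMul A.r4 B, rowMul A.r5 B,
    rowMul A.r6 B⟩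

theorem get_mulC (A B : M7) (i j : Fin 7) :
    (mulC A B).get i j = (∑ k, A.get i k * B.get k j) % 11 := by
  rw [Fin.sum_univ_seven]
  fin_cases i <;> fin_cases j <;> rfl

theorem toM_mulC (A B : M7) : toM (mulC A B) = toM A * toM B := by
  ext i j
  simp only [toM, Matrix.of_apply, Matrix.mul_apply, get_mulC]
  rw [ZMod.natCast_mod]
  push_cast
  rfl

/-- transpose -/
def transpC (A : M7) : M7 :=
  ⟨⟨A.r0.a0, A.r1.a0, A.r2.a0, A.r3.a0, A.r4.a0, A.r5.a0, A.r6.a0⟩,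
   ⟨A.r0.a1, A.r1.a1, A.r2.a1, A.r3.a1, A.r4.a1, A.r5.a1, A.r6.a1⟩,
   ⟨A.r0.a2, A.r1.a2, A.r2.a2, A.r3.a2, A.r4.a2, A.r5.a2, A.r6.a2⟩,
   ⟨A.r0.a3, A.r1.a3, A.r2.a3, A.r3.a3, A.r4.a3, A.r5.a3, A.r6.a3⟩,
   ⟨A.r0.a4, A.r1.a4, A.r2.a4, A.r3.a4, A.r4.a4, A.r5.a4, A.r6.a4⟩,
   ⟨A.r0.a5, A.r1.a5, A.r2.a5, A.r3.a5, A.r4.a5, A.r5.a5, A.r6.a5⟩,
   ⟨A.r0.a6, A.r1.a6, A.r2.a6, A.r3.a6, A.r4.a6, A.r5.a6, A.r6.a6⟩⟩

theorem get_transpC (A : M7) (i j : Fin 7) : (transpC A).get i j = A.get j i := by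
  fin_cases i <;> fin_cases j <;> rfl

theorem toM_transpC (A : M7) : toM (transpC A) = (toM A)ᵀ := by
  ext i j
  simp only [toM, Matrix.of_apply, Matrix.transpose_apply, get_transpC]

/-- reduce a row mod 11 -/
def normR (r : R7) : R7 :=
  ⟨Nat.mod r.a0 11, Nat.mod r.a1 11, Nat.mod r.a2 11, Nat.mod r.a3 11, Nat.mod r.a4 11,
    Nat.mod r.a5 11, Nat.mod r.a6 11⟩

/-- reduce mod 11 -/
def normC (A : M7) : M7 :=
  ⟨normR A.r0, normR A.r1, normR A.r2, normR A.r3, normR A.r4, normR A.r5, normR A.r6⟩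

theorem get_normC (A : M7) (i j : Fin 7) : (normC A).get i j = A.get i j % 11 := by
  fin_cases i <;> fin_cases j <;> rfl

theorem M7.ext_get {A B : M7} (h : ∀ i j, A.get i j = B.get i j) : A = B := by
  obtain ⟨⟨a00, a01, a02, a03, a04, a05, a06⟩, ⟨a10, a11, a12, a13, a14, a15, a16⟩,
    ⟨a20, a21, a22, a23, a24, a25, a26⟩, ⟨a30, a31, a32, a33, a34, a35, a36⟩,
    ⟨a40, a41, a42, a43, a44, a45, a46⟩, ⟨a50, a51, a52, a53, a54, a55, a56⟩,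
    ⟨a60, a61, a62, a63, a64, a65, a66⟩⟩ := A
  obtain ⟨⟨b00, b01, b02, b03, b04, b05, b06⟩, ⟨b10, b11, b12, b13, b14, b15, b16⟩,
    ⟨b20, b21, b22, b23, b24, b25, b26⟩, ⟨b30, b31, b32, b33, b34, b35, b36⟩,
    ⟨b40, b41, b42, b43, b44, b45, b46⟩, ⟨b50, b51, b52, b53, b54, b55, b56⟩,
    ⟨b60, b61, b62, b63, b64, b65, b66⟩⟩ := B
  have e00 : a00 = b00 := h 0 0
  have e01 : a01 = b01 := h 0 1
  have e02 : a02 = b02 := h 0 2
  have e03 : a03 = b03 := h 0 3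
  have e04 : a04 = b04 := h 0 4
  have e05 : a05 = b05 := h 0 5
  have e06 : a06 = b06 := h 0 6
  have e10 : a10 = b10 := h 1 0
  have e11 : a11 = b11 := h 1 1
  have e12 : a12 = b12 := h 1 2
  have e13 : a13 = b13 := h 1 3
  have e14 : a14 = b14 := h 1 4
  have e15 : a15 = b15 := h 1 5
  have e16 : a16 = b16 := h 1 6
  have e20 : a20 = b20 := h 2 0
  have e21 : a21 = b21 := h 2 1
  have e22 : a22 = b22 := h 2 2
  have e23 : a23 = b23 := h 2 3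
  have e24 : a24 = b24 := h 2 4
  have e25 : a25 = b25 := h 2 5
  have e26 : a26 = b26 := h 2 6
  have e30 : a30 = b30 := h 3 0
  have e31 : a31 = b31 := h 3 1
  have e32 : a32 = b32 := h 3 2
  have e33 : a33 = b33 := h 3 3
  have e34 : a34 = b34 := h 3 4
  have e35 : a35 = b35 := h 3 5
  have e36 : a36 = b36 := h 3 6
  have e40 : a40 = b40 := h 4 0
  have e41 : a41 = b41 := h 4 1
  have e42 : a42 = b42 := h 4 2
  have e43 : a43 = b43 := h 4 3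
  have e44 : a44 = b44 := h 4 4
  have e45 : a45 = b45 := h 4 5
  have e46 : a46 = b46 := h 4 6
  have e50 : a50 = b50 := h 5 0
  have e51 : a51 = b51 := h 5 1
  have e52 : a52 = b52 := h 5 2
  have e53 : a53 = b53 := h 5 3
  have e54 : a54 = b54 := h 5 4
  have e55 : a55 = b55 := h 5 5
  have e56 : a56 = b56 := h 5 6
  have e60 : a60 = b60 := h 6 0
  have e61 : a61 = b61 := h 6 1
  have e62 : a62 = b62 := h 6 2
  have e63 : a63 = b63 := h 6 3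
  have e64 : a64 = b64 := h 6 4
  have e65 : a65 = b65 := h 6 5
  have e66 : a66 = b66 := h 6 6
  subst_vars
  rfl

theorem toM_eq_iff (A B : M7) : toM A = toM B ↔ normC A = normC B := by
  constructor
  · intro h
    apply M7.ext_get
    intro i j
    rw [get_normC, get_normC]
    have := congrFun (congrFun h i) j
    simp only [toM, Matrix.of_apply] at this
    exact (ZMod.natCast_eq_natCast_iff' _ _ _).1 this
  · intro h
    ext i j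
    simp only [toM, Matrix.of_apply]
    apply (ZMod.natCast_eq_natCast_iff' _ _ _).2
    rw [← get_normC, ← get_normC, h]

/-- the identity -/
def I7 : M7 := ⟨⟨1,0,0,0,0,0,0⟩,⟨0,1,0,0,0,0,0⟩,⟨0,0,1,0,0,0,0⟩,⟨0,0,0,1,0,0,0⟩,⟨0,0,0,0,1,0,0⟩,
  ⟨0,0,0,0,0,1,0⟩,⟨0,0,0,0,0,0,1⟩⟩

theorem toM_I7 : toM I7 = 1 := by
  ext i j
  fin_cases i <;> fin_cases j <;> rfl

/-- the first generator -/
def Xc : M7 := ⟨⟨0,1,0,0,0,0,0⟩,⟨0,0,1,0,0,0,0⟩,⟨0,0,0,1,0,0,0⟩,⟨0,0,0,0,1,0,0⟩,⟨0,0,0,0,0,1,0⟩,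
  ⟨0,0,0,0,0,0,1⟩,⟨1,0,0,0,0,0,0⟩⟩

/-- the second generator -/
def Yc : M7 := ⟨⟨8,2,10,10,8,10,8⟩,⟨9,1,1,3,1,3,3⟩,⟨10,10,8,10,8,8,2⟩,⟨10,8,10,8,8,2,10⟩,
  ⟨8,10,8,8,2,10,10⟩,⟨1,3,3,9,1,1,3⟩,⟨3,3,9,1,1,3,1⟩⟩

theorem toM_Xc : toM Xc = Cfsg.jankoMatrixX := by
  ext i j
  fin_cases i <;> fin_cases j <;> rfl

theorem toM_Yc : toM Yc = Cfsg.jankoMatrixY := by
  ext i j
  fin_cases i <;> fin_cases j <;> decide

/-- powers -/
def powC (A : M7) : Nat → M7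
  | 0 => I7
  | n + 1 => mulC (powC A n) A

theorem toM_powC (A : M7) (n : Nat) : toM (powC A n) = toM A ^ n := by
  induction n with
  | zero => simp [powC, toM_I7]
  | succ n ih => rw [powC, toM_mulC, ih, pow_succ]

end Cfsg.Agent.Lib.Helper57.J1
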