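import Mathlib
import Cfsg.Prelude.Def_Spor_J1
import Cfsg.Agent.Lib.Helper57.J1Mat

set_option autoImplicit false

namespace Cfsg.Agent.Lib.Helper57.J1

open Matrix Cfsg.Spor

/-- letters as computational matrices: `0 = x`, `1 = y`, `2 = x⁻¹`, other `= y⁻¹` -/
def letC : Nat → M7
  | 0 => Xc
  | 1 => Yc
  | 2 => transpC Xc
  | _ => transpC Yc

/-- letters as group elements -/
def letG : Nat → GL (Fin 7) (ZMod 11)
  | 0 => jankoX
  | 1 => jankoY
  | 2 => jankoX⁻¹
  | _ => jankoY⁻¹

/-- evaluate a word computationally -/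
def evalC (w : List Nat) : M7 := w.foldl (fun acc l => mulC acc (letC l)) I7

/-- evaluate a word in the group -/
def evalG (w : List Nat) : GL (Fin 7) (ZMod 11) := (w.map letG).prod

theorem val_letG (l : Nat) : ((letG l : GL (Fin 7) (ZMod 11)) : Matrix (Fin 7) (Fin 7) (ZMod 11))
    = toM (letC l) := by
  match l with
  | 0 => exact toM_Xc.symm
  | 1 => exact toM_Yc.symm
  | 2 =>
    show Cfsg.jankoMatrixX.transpose = _
    rw [letC, toM_transpC, toM_Xc]
  | (n + 3) =>
    show Cfsg.jankoMatrixY.transpose = _
    rw [letC, toM_transpC, toM_Yc] <;> omega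

theorem toM_foldl (w : List Nat) (A : M7) :
    toM (w.foldl (fun acc l => mulC acc (letC l)) A)
      = toM A * (((w.map letG).prod : GL (Fin 7) (ZMod 11)) : Matrix (Fin 7) (Fin 7) (ZMod 11)) := by
  induction w generalizing A with
  | nil => simp
  | cons l w ih =>
    rw [List.foldl_cons, ih, toM_mulC, List.map_cons, List.prod_cons, Units.val_mul, val_letG,
      mul_assoc]

theorem val_evalG (w : List Nat) :
    ((evalG w : GL (Fin 7) (ZMod 11)) : Matrix (Fin 7) (Fin 7) (ZMod 11)) = toM (evalC w) := by
  rw [evalC, toM_foldl, toM_I7, one_mul, evalG]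

theorem letG_mem (l : Nat) : letG l ∈ J1 := by
  have hx : jankoX ∈ J1 := Subgroup.subset_closure (by simp)
  have hy : jankoY ∈ J1 := Subgroup.subset_closure (by simp)
  match l with
  | 0 => exact hx
  | 1 => exact hy
  | 2 => exact J1.inv_mem hx
  | (n + 3) => exact J1.inv_mem hy

theorem evalG_mem (w : List Nat) : evalG w ∈ J1 := by
  apply Subgroup.list_prod_mem
  intro g hg
  obtain ⟨l, _, rfl⟩ := List.mem_map.1 hg
  exact letG_mem l

theorem evalG_append (v w : List Nat) : evalG (v ++ w) = evalG v * evalG w := by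
  simp [evalG]

theorem evalG_nil : evalG [] = 1 := rfl

/-- equality of word values is decided by computation -/
theorem evalG_eq_iff (v w : List Nat) : evalG v = evalG w ↔ normC (evalC v) = normC (evalC w) := by
  rw [← toM_eq_iff, ← val_evalG, ← val_evalG]
  exact ⟨fun h => by rw [h], fun h => Units.ext h⟩

theorem evalG_eq_one_iff (v : List Nat) : evalG v = 1 ↔ normC (evalC v) = I7 := by
  have := evalG_eq_iff v []
  rw [evalG_nil] at this
  rw [this]
  rfl

/-- the inverse letter -/
def invLet : Nat → Nat
  | 0 => 2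
  | 1 => 3
  | 2 => 0
  | _ => 1

/-- the inverse word -/
def invW (w : List Nat) : List Nat := (w.map invLet).reverse

theorem letG_invLet (l : Nat) : letG (invLet l) = (letG l)⁻¹ := by
  match l with
  | 0 => rfl
  | 1 => rfl
  | 2 => exact (inv_inv _).symm
  | (n + 3) => exact (inv_inv _).symm

theorem evalG_invW (w : List Nat) : evalG (invW w) = (evalG w)⁻¹ := by
  induction w with
  | nil => simp [invW, evalG]
  | cons l w ih =>
    have h1 : invW (l :: w) = invW w ++ [invLet l] := by simp [invW]
    have h2 : evalG (l :: w) = letG l * evalG w := by simp [evalG]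
    have h3 : evalG [invLet l] = (letG l)⁻¹ := by simp [evalG, letG_invLet]
    rw [h1, evalG_append, ih, h2, h3, _root_.mul_inv_rev]

/-- powers of a word -/
def powW (w : List Nat) : Nat → List Nat
  | 0 => []
  | n + 1 => powW w n ++ w

theorem evalG_powW (w : List Nat) (n : Nat) : evalG (powW w n) = evalG w ^ n := by
  induction n with
  | zero => rfl
  | succ n ih => rw [powW, evalG_append, ih, pow_succ]

end Cfsg.Agent.Lib.Helper57.J1
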