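import Mathlib
import Cfsg.Agent.Lib.Helper57.J1Mat
import Cfsg.Agent.Lib.Helper57.J1Word
import Cfsg.Agent.Lib.Helper57.J1Data

set_option autoImplicit false
set_option maxRecDepth 1000000

namespace Cfsg.Agent.Lib.Helper57.J1

/-- decode a row -/
def decRow (n : Nat) : R7 :=
  ⟨Nat.mod n 11, Nat.mod (Nat.div n 11) 11, Nat.mod (Nat.div n 121) 11,
    Nat.mod (Nat.div n 1331) 11, Nat.mod (Nat.div n 14641) 11, Nat.mod (Nat.div n 161051) 11,
    Nat.mod (Nat.div n 1771561) 11⟩

/-- decode a matrix -/
def dec (n : Nat) : M7 :=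
  ⟨decRow n, decRow (Nat.div n 19487171), decRow (Nat.div n 379749833583241),
    decRow (Nat.div n 7400249944258160101211),
    decRow (Nat.div n 144209936106499234037676064081),
    decRow (Nat.div n 2810243684806424785061213903353404851),
    decRow (Nat.div n 54763699237492901685126120802225273763666521)⟩

/-- the `k`-th coset representative -/
def Uc (k : Nat) : M7 := dec (Ucodes[k]?.getD 0)

/-- the `m`-th element of the subgroup `19:6` -/
def Tc (m : Nat) : M7 := dec (Tcodes[m]?.getD 0)

/-- the word of the element of order 19 -/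
def wA : List Nat := [0, 0, 0, 1]

/-- the word of the element of order 6 normalising it -/
def wB : List Nat := [0, 0, 1, 0, 1, 0, 1, 1, 0, 0, 1, 0, 0, 1, 0]

/-- the element of order 19 -/
def Ac : M7 := evalC wA

/-- the element of order 6 -/
def Bc : M7 := evalC wB

/-- check of one entry of the table of `19:6` -/
def chkT (m : Nat) : Bool := Tc m == mulC (powC Ac (m / 6)) (powC Bc (m % 6))

theorem rel_all : powC Ac 19 = I7 ∧ powC Bc 6 = I7 ∧ mulC Bc Ac = mulC (powC Ac 8) Bc ∧ Uc 0 = I7 := by
  decide +kernel

/-- check of one row of the Schreier table -/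
def chk1 (k : Nat) : Bool :=
  match tab[k]?, Ucodes[k]? with
  | some e, some c =>
    match Ucodes[e % 2048]?, Tcodes[e / 2048 % 128]?, Ucodes[e / 262144 % 2048]?,
        Tcodes[e / 536870912]? with
    | some c1, some d1, some c2, some d2 =>
      (mulC Xc (dec c) == mulC (dec c1) (dec d1)) && (mulC Yc (dec c) == mulC (dec c2) (dec d2))
    | _, _, _, _ => false
  | _, _ => false

end Cfsg.Agent.Lib.Helper57.J1
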