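import Mathlib
import Cfsg.Agent.Lib.Helper57.J1Mat
import Cfsg.Agent.Lib.Helper57.J1Word
import Cfsg.Agent.Lib.Helper57.J1Check0
import Cfsg.Agent.Lib.Helper57.J1ConjData

set_option autoImplicit false
set_option maxRecDepth 1000000

namespace Cfsg.Agent.Lib.Helper57.J1

/-- conjugation by the first generator -/
def cjX (A : M7) : M7 := mulC (mulC Xc A) (transpC Xc)

/-- conjugation by the second generator -/
def cjY (A : M7) : M7 := mulC (mulC Yc A) (transpC Yc)

/-- check that a tree of codes is a tree of conjugates -/
def chkCT (P : M7) : CT → Bool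
  | .leaf => true
  | .node c l r => (dec c == P) && chkCT (cjX (dec c)) l && chkCT (cjY (dec c)) r

/-- the codes in a tree -/
def codesCT : CT → List Nat
  | .leaf => []
  | .node c l r => c :: (codesCT l ++ codesCT r)

/-- the word of the involution -/
def wT : List Nat := [3, 0, 1, 0]

/-- the list of the codes of the conjugates -/
def conjList : List Nat := codesCT conjTree

theorem chk_conjTree : chkCT (evalC wT) conjTree = true := by decide +kernel

/-- encode a row -/
def encRow (r : R7) : Nat :=
  Nat.add r.a0 (Nat.mul 11 (Nat.add r.a1 (Nat.mul 11 (Nat.add r.a2 (Nat.mul 11 (Nat.add r.a3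
    (Nat.mul 11 (Nat.add r.a4 (Nat.mul 11 (Nat.add r.a5 (Nat.mul 11 r.a6)))))))))))

/-- encode a matrix -/
def enc (A : M7) : Nat :=
  Nat.add (encRow A.r0) (Nat.mul 19487171 (Nat.add (encRow A.r1) (Nat.mul 19487171
    (Nat.add (encRow A.r2) (Nat.mul 19487171 (Nat.add (encRow A.r3) (Nat.mul 19487171
    (Nat.add (encRow A.r4) (Nat.mul 19487171 (Nat.add (encRow A.r5)
    (Nat.mul 19487171 (encRow A.r6))))))))))))

theorem enc_conjList : conjList.all (fun c => enc (dec c) == c) = true := by decide +kernel

theorem length_conjList : conjList.length = 1463 := by decide +kernel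

/-- no element of the list equals `a` -/
def notIn (a : Nat) : List Nat → Bool
  | [] => true
  | b :: l => !(Nat.beq a b) && notIn a l

/-- the elements of the list are distinct -/
def distinctL : List Nat → Bool
  | [] => true
  | a :: l => notIn a l && distinctL l

theorem distinct_conjList :
    (List.range 64).all (fun r => distinctL (conjList.filter (fun c => Nat.beq (Nat.mod c 64) r)))
      = true := by decide +kernel

end Cfsg.Agent.Lib.Helper57.J1
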