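import Mathlib

set_option autoImplicit false

namespace Cfsg.Agent.Lib.Helper57.J1

section monoid

variable {M : Type*} [Monoid M]

theorem conj_pow {A B : M} {r : ℕ} (h : B * A = A ^ r * B) (i : ℕ) :
    B * A ^ i = A ^ (r * i) * B := by
  induction i with
  | zero => simp
  | succ i ih =>
    rw [pow_succ, ← mul_assoc, ih, mul_assoc, h, ← mul_assoc, ← pow_add]
    congr 2

theorem conj_pow_pow {A B : M} {r : ℕ} (h : B * A = A ^ r * B) (j i : ℕ) :
    B ^ j * A ^ i = A ^ (r ^ j * i) * B ^ j := by
  induction j generalizing i with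
  | zero => simp
  | succ j ih =>
    rw [pow_succ', mul_assoc, ih, ← mul_assoc, conj_pow h, mul_assoc, ← pow_succ']
    congr 2
    ring

/-- products of elements `A^i B^j` of a metacyclic group -/
theorem meta_mul {A B : M} {r n m : ℕ} (hA : A ^ n = 1) (hB : B ^ m = 1)
    (h : B * A = A ^ r * B) (i' j' i j : ℕ) :
    A ^ i' * B ^ j' * (A ^ i * B ^ j) = A ^ ((i' + r ^ j' * i) % n) * B ^ ((j' + j) % m) := by
  rw [← pow_eq_pow_mod _ hA, ← pow_eq_pow_mod _ hB]
  calc A ^ i' * B ^ j' * (A ^ i * B ^ j) = A ^ i' * (B ^ j' * A ^ i) * B ^ j := by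
        simp only [mul_assoc]
    _ = A ^ i' * (A ^ (r ^ j' * i) * B ^ j') * B ^ j := by rw [conj_pow_pow h]
    _ = A ^ (i' + r ^ j' * i) * B ^ (j' + j) := by
        rw [pow_add, pow_add]; simp only [mul_assoc]

end monoid

section group

variable {G : Type*} [Group G]

theorem pow_left_mem {S : Set G} {x : G} (hx : ∀ s ∈ S, x * s ∈ S) (n : ℕ) :
    ∀ s ∈ S, x ^ n * s ∈ S := by
  induction n with
  | zero => intro s hs; simpa using hs
  | succ n ih =>
    intro s hs
    rw [pow_succ', mul_assoc]
    exact hx _ (ih s hs)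

/-- a set containing `1` and closed under left multiplication by two elements of finite order
contains the subgroup they generate -/
theorem closure_subset_of_left_mul {x y : G} (S : Set G) (h1 : (1 : G) ∈ S)
    (hx : ∀ s ∈ S, x * s ∈ S) (hy : ∀ s ∈ S, y * s ∈ S) (nx ny : ℕ)
    (hnx : x ^ (nx + 1) = 1) (hny : y ^ (ny + 1) = 1) :
    ((Subgroup.closure {x, y} : Subgroup G) : Set G) ⊆ S := by
  intro g hg
  have hxi : x⁻¹ = x ^ nx := by
    rw [inv_eq_iff_mul_eq_one, ← pow_succ', hnx]
  have hyi : y⁻¹ = y ^ ny := by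
    rw [inv_eq_iff_mul_eq_one, ← pow_succ', hny]
  induction hg using Subgroup.closure_induction_left with
  | one => exact h1
  | mul_left z hz s _ ih =>
    rcases hz with rfl | hz
    · exact hx s ih
    · rw [Set.mem_singleton_iff] at hz; subst hz; exact hy s ih
  | inv_mul_cancel z hz s _ ih =>
    rcases hz with rfl | hz
    · rw [hxi]; exact pow_left_mem hx nx s ih
    · rw [Set.mem_singleton_iff] at hz; subst hz; rw [hyi]; exact pow_left_mem hy ny s ih

end group

end Cfsg.Agent.Lib.Helper57.J1
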