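import Mathlib
import Cfsg.Agent.Lib.Helper57.J1Check0

set_option autoImplicit false
set_option maxRecDepth 1000000

namespace Cfsg.Agent.Lib.Helper57.J1

theorem chk_part1 : (List.range' 385 385).all chk1 = true := by decide +kernel

end Cfsg.Agent.Lib.Helper57.J1
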