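import Mathlib
import Cfsg.Agent.Lib.Helper57.J1Check0

set_option autoImplicit false
set_option maxRecDepth 1000000

namespace Cfsg.Agent.Lib.Helper57.J1

theorem chkT_all : (List.range 114).all chkT = true := by decide +kernel

end Cfsg.Agent.Lib.Helper57.J1
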