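import Mathlib
import Cfsg.Prelude.Def_Spor_J1
import Cfsg.Agent.Lib.Helper57.J1Mat
import Cfsg.Agent.Lib.Helper57.J1Word
import Cfsg.Agent.Lib.Helper57.J1Abs
import Cfsg.Agent.Lib.Helper57.J1Check0
import Cfsg.Agent.Lib.Helper57.J1Check1
import Cfsg.Agent.Lib.Helper57.J1Check2
import Cfsg.Agent.Lib.Helper57.J1Check3
import Cfsg.Agent.Lib.Helper57.J1Check4
import Cfsg.Agent.Lib.Helper57.J1Check5

set_option autoImplicit false
set_option maxRecDepth 100000

namespace Cfsg.Agent.Lib.Helper57.J1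

open Matrix Cfsg.Spor

theorem chk_all (k : Nat) (hk : k < 1540) : chk1 k = true := by
  have h0 := List.all_eq_true.1 chk_part0
  have h1 := List.all_eq_true.1 chk_part1
  have h2 := List.all_eq_true.1 chk_part2
  have h3 := List.all_eq_true.1 chk_part3
  by_cases c0 : k < 385
  · exact h0 k (List.mem_range'_1.2 ⟨by omega, by omega⟩)
  by_cases c1 : k < 770
  · exact h1 k (List.mem_range'_1.2 ⟨by omega, by omega⟩)
  by_cases c2 : k < 1155
  · exact h2 k (List.mem_range'_1.2 ⟨by omega, by omega⟩)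
  · exact h3 k (List.mem_range'_1.2 ⟨by omega, by omega⟩)

theorem Ucodes_length : Ucodes.length = 1540 := by decide +kernel

theorem Tcodes_length : Tcodes.length = 114 := by decide +kernel

theorem chk1_spec (k : Nat) (h : chk1 k = true) :
    ∃ t1 m1 t2 m2, t1 < 1540 ∧ m1 < 114 ∧ t2 < 1540 ∧ m2 < 114 ∧
      mulC Xc (Uc k) = mulC (Uc t1) (Tc m1) ∧ mulC Yc (Uc k) = mulC (Uc t2) (Tc m2) := by
  unfold chk1 at h
  split at h
  · rename_i e c he hc
    split at h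
    · rename_i c1 d1 c2 d2 h1 h2 h3 h4
      simp only [Bool.and_eq_true, beq_iff_eq] at h
      refine ⟨e % 2048, e / 2048 % 128, e / 262144 % 2048, e / 536870912, ?_, ?_, ?_, ?_, ?_, ?_⟩
      · have := (List.getElem?_eq_some_iff.1 h1).1; rwa [Ucodes_length] at this
      · have := (List.getElem?_eq_some_iff.1 h2).1; rwa [Tcodes_length] at this
      · have := (List.getElem?_eq_some_iff.1 h3).1; rwa [Ucodes_length] at this
      · have := (List.getElem?_eq_some_iff.1 h4).1; rwa [Tcodes_length] at this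
      · simp only [Uc, Tc, hc, h1, h2, Option.getD_some]; exact h.1
      · simp only [Uc, Tc, hc, h3, h4, Option.getD_some]; exact h.2
    · exact absurd h (by simp)
  · exact absurd h (by simp)

/-- the matrices -/
abbrev Mat : Type := Matrix (Fin 7) (Fin 7) (ZMod 11)

theorem chkT_spec (m : Nat) (hm : m < 114) : toM (Tc m) = toM Ac ^ (m / 6) * toM Bc ^ (m % 6) := by
  have h := List.all_eq_true.1 chkT_all m (List.mem_range.2 hm)
  unfold chkT at h
  rw [beq_iff_eq] at h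
  rw [h, toM_mulC, toM_powC, toM_powC]

theorem Ac_pow : toM Ac ^ 19 = 1 := by
  rw [← toM_powC, rel_all.1, toM_I7]

theorem Bc_pow : toM Bc ^ 6 = 1 := by
  rw [← toM_powC, rel_all.2.1, toM_I7]

theorem Bc_Ac : toM Bc * toM Ac = toM Ac ^ 8 * toM Bc := by
  rw [← toM_powC, ← toM_mulC, ← toM_mulC, rel_all.2.2.1]

theorem Uc_zero : toM (Uc 0) = 1 := by
  rw [rel_all.2.2.2, toM_I7]

/-- the set of products `u_k a^i b^j` -/
def SS : Set (GL (Fin 7) (ZMod 11)) :=
  {γ | ∃ k < 1540, ∃ i < 19, ∃ j < 6, (γ : Mat) = toM (Uc k) * (toM Ac ^ i * toM Bc ^ j)}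

theorem one_mem_SS : (1 : GL (Fin 7) (ZMod 11)) ∈ SS :=
  ⟨0, by norm_num, 0, by norm_num, 0, by norm_num, by simp [Uc_zero]⟩

theorem step_SS (g : GL (Fin 7) (ZMod 11)) (Gc : M7) (hg : (g : Mat) = toM Gc)
    (h : ∀ k < 1540, ∃ t m, t < 1540 ∧ m < 114 ∧ mulC Gc (Uc k) = mulC (Uc t) (Tc m)) :
    ∀ s ∈ SS, g * s ∈ SS := by
  rintro s ⟨k, hk, i, hi, j, hj, hs⟩
  obtain ⟨t, m, ht, hm, e⟩ := h k hk
  have e' : toM Gc * toM (Uc k) = toM (Uc t) * (toM Ac ^ (m / 6) * toM Bc ^ (m % 6)) := by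
    rw [← toM_mulC, e, toM_mulC, chkT_spec m hm]
  refine ⟨t, ht, ((m / 6) + 8 ^ (m % 6) * i) % 19, Nat.mod_lt _ (by norm_num),
    ((m % 6) + j) % 6, Nat.mod_lt _ (by norm_num), ?_⟩
  rw [Units.val_mul, hg, hs, ← mul_assoc, e', mul_assoc, meta_mul Ac_pow Bc_pow Bc_Ac]

theorem J1_subset_SS : ((J1 : Subgroup (GL (Fin 7) (ZMod 11))) : Set (GL (Fin 7) (ZMod 11))) ⊆ SS := by
  have hx7 : jankoX ^ (6 + 1) = 1 := by
    have h : evalG (powW [0] 7) = 1 := (evalG_eq_one_iff _).2 (by decide +kernel)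
    rw [evalG_powW] at h
    simpa [evalG, letG] using h
  have hy5 : jankoY ^ (4 + 1) = 1 := by
    have h : evalG (powW [1] 5) = 1 := (evalG_eq_one_iff _).2 (by decide +kernel)
    rw [evalG_powW] at h
    simpa [evalG, letG] using h
  apply closure_subset_of_left_mul SS one_mem_SS _ _ 6 4 hx7 hy5
  · apply step_SS jankoX Xc toM_Xc.symm
    intro k hk
    obtain ⟨t1, m1, t2, m2, a1, a2, a3, a4, a5, a6⟩ := chk1_spec k (chk_all k hk)
    exact ⟨t1, m1, a1, a2, a5⟩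
  · apply step_SS jankoY Yc toM_Yc.symm
    intro k hk
    obtain ⟨t1, m1, t2, m2, a1, a2, a3, a4, a5, a6⟩ := chk1_spec k (chk_all k hk)
    exact ⟨t2, m2, a3, a4, a6⟩

theorem card_J1_le : Nat.card J1 ≤ 175560 := by
  have hS : ∀ γ : J1, ∃ p : Fin 1540 × Fin 19 × Fin 6,
      ((γ : GL (Fin 7) (ZMod 11)) : Mat) =
        toM (Uc p.1) * (toM Ac ^ (p.2.1 : ℕ) * toM Bc ^ (p.2.2 : ℕ)) := by
    intro γ
    obtain ⟨k, hk, i, hi, j, hj, h⟩ := J1_subset_SS γ.2
    exact ⟨(⟨k, hk⟩, ⟨i, hi⟩, ⟨j, hj⟩), h⟩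
  choose g hg using hS
  have inj : Function.Injective g := fun γ1 γ2 h => by
    apply Subtype.ext; apply Units.ext; rw [hg γ1, hg γ2, h]
  have := Nat.card_le_card_of_injective g inj
  simpa [Nat.card_prod] using this

end Cfsg.Agent.Lib.Helper57.J1
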