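import Mathlib
import Cfsg.Prelude.Def_Spor_J1
import Cfsg.Agent.Lib.Helper57.J1Mat
import Cfsg.Agent.Lib.Helper57.J1Word
import Cfsg.Agent.Lib.Helper57.J1Order

set_option autoImplicit false
set_option maxRecDepth 100000

namespace Cfsg.Agent.Lib.Helper57.J1

open Matrix Cfsg.Spor

/-- word values as elements of `J1` -/
def eG (w : List Nat) : ↥J1 := ⟨evalG w, evalG_mem w⟩

theorem eG_append (v w : List Nat) : eG (v ++ w) = eG v * eG w :=
  Subtype.ext (evalG_append v w)

theorem eG_nil : eG [] = 1 := rfl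

theorem eG_invW (w : List Nat) : eG (invW w) = (eG w)⁻¹ := Subtype.ext (evalG_invW w)

theorem eG_powW (w : List Nat) (n : Nat) : eG (powW w n) = eG w ^ n :=
  Subtype.ext (by rw [Subgroup.coe_pow]; exact evalG_powW w n)

theorem eG_eq_iff (v w : List Nat) : eG v = eG w ↔ normC (evalC v) = normC (evalC w) := by
  rw [← evalG_eq_iff]
  exact ⟨fun h => congrArg Subtype.val h, fun h => Subtype.ext h⟩

theorem eG_eq_one_iff (v : List Nat) : eG v = 1 ↔ normC (evalC v) = I7 := by
  rw [← evalG_eq_one_iff]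
  exact ⟨fun h => congrArg Subtype.val h, fun h => Subtype.ext h⟩

theorem orderOf_eG (w : List Nat) (p : ℕ) [hp : Fact p.Prime]
    (h1 : normC (evalC (powW w p)) = I7) (h2 : normC (evalC w) ≠ I7) : orderOf (eG w) = p := by
  apply orderOf_eq_prime
  · rw [← eG_powW]; exact (eG_eq_one_iff _).2 h1
  · intro h; exact h2 ((eG_eq_one_iff _).1 h)

instance : Finite ↥J1 := inferInstance

/-! ### the Sylow 2-subgroup -/

/-- the words of the elements of a Sylow 2-subgroup -/
def Elist : List (List Nat) :=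
  [[], [3,0,1,0], [0,3,0,1], [3,0,0,1,0,0], [3,0,1,0,0,3,0,1], [3,0,1,0,3,0,0,1,0,0],
    [0,3,0,1,3,0,0,1,0,0], [3,0,1,0,0,3,0,1,3,0,0,1,0,0]]

theorem Elist_mul : ∀ v ∈ Elist, ∀ w ∈ Elist, ∃ u ∈ Elist,
    normC (evalC (v ++ w)) = normC (evalC u) := by decide +kernel

theorem Elist_sq : ∀ v ∈ Elist, normC (evalC (v ++ v)) = I7 := by decide +kernel

theorem Elist_inj : ∀ v ∈ Elist, ∀ w ∈ Elist, normC (evalC v) = normC (evalC w) → v = w := by
  decide +kernel

/-- the Sylow 2-subgroup -/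
def E : Subgroup ↥J1 where
  carrier := {g | ∃ w ∈ Elist, g = eG w}
  mul_mem' := by
    rintro _ _ ⟨v, hv, rfl⟩ ⟨w, hw, rfl⟩
    obtain ⟨u, hu, h⟩ := Elist_mul v hv w hw
    exact ⟨u, hu, by rw [← eG_append]; exact (eG_eq_iff _ _).2 h⟩
  one_mem' := ⟨[], by decide, rfl⟩
  inv_mem' := by
    rintro _ ⟨v, hv, rfl⟩
    refine ⟨v, hv, ?_⟩
    rw [inv_eq_iff_mul_eq_one, ← eG_append]
    exact (eG_eq_one_iff _).2 (Elist_sq v hv)

theorem mem_E (g : ↥J1) : g ∈ E ↔ ∃ w ∈ Elist, g = eG w := Iff.rfl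

theorem card_E : Nat.card E = 8 := by
  classical
  have h1 : (E : Set ↥J1) = ↑((Elist.map eG).toFinset) := by
    ext g
    simp only [SetLike.mem_coe, mem_E, List.coe_toFinset, List.mem_map, Set.mem_ofPred_eq]
    constructor
    · rintro ⟨w, hw, rfl⟩; exact ⟨w, hw, rfl⟩
    · rintro ⟨w, hw, rfl⟩; exact ⟨w, hw, rfl⟩
  have h2 : (Elist.map eG).Nodup := by
    apply List.Nodup.map_on
    · intro v hv w hw h
      exact Elist_inj v hv w hw ((eG_eq_iff _ _).1 h)
    · decide
  calc Nat.card E = Set.ncard (E : Set ↥J1) := rfl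
    _ = ((Elist.map eG).toFinset).card := by rw [h1, Set.ncard_coe_finset]
    _ = 8 := by rw [List.toFinset_card_of_nodup h2]; rfl

/-! ### the order -/

instance fact3 : Fact (Nat.Prime 3) := ⟨by norm_num⟩
instance fact5 : Fact (Nat.Prime 5) := ⟨by norm_num⟩
instance fact7 : Fact (Nat.Prime 7) := ⟨by norm_num⟩
instance fact11 : Fact (Nat.Prime 11) := ⟨by norm_num⟩
instance fact19 : Fact (Nat.Prime 19) := ⟨by norm_num⟩

/-- a word of order 3 -/
def w3 : List Nat := [0,0,0,1,0,1,0,1]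
/-- a word of order 11 -/
def w11 : List Nat := [0,1,1]
/-- a word of order 19 -/
def w19 : List Nat := [0,0,0,1]

theorem order_w3 : orderOf (eG w3) = 3 := orderOf_eG _ 3 (by decide +kernel) (by decide +kernel)
theorem order_x : orderOf (eG [0]) = 7 := orderOf_eG _ 7 (by decide +kernel) (by decide +kernel)
theorem order_y : orderOf (eG [1]) = 5 := orderOf_eG _ 5 (by decide +kernel) (by decide +kernel)
theorem order_w11 : orderOf (eG w11) = 11 :=
  orderOf_eG _ 11 (by decide +kernel) (by decide +kernel)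
theorem order_w19 : orderOf (eG w19) = 19 :=
  orderOf_eG _ 19 (by decide +kernel) (by decide +kernel)

theorem card_J1 : Nat.card ↥J1 = 175560 := by
  have h8 : 8 ∣ Nat.card ↥J1 := by
    have := Subgroup.card_subgroup_dvd_card E; rwa [card_E] at this
  have h3 : 3 ∣ Nat.card ↥J1 := by
    have := orderOf_dvd_natCard (eG w3); rwa [order_w3] at this
  have h5 : 5 ∣ Nat.card ↥J1 := by
    have := orderOf_dvd_natCard (eG [1]); rwa [order_y] at this
  have h7 : 7 ∣ Nat.card ↥J1 := by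
    have := orderOf_dvd_natCard (eG [0]); rwa [order_x] at this
  have h11 : 11 ∣ Nat.card ↥J1 := by
    have := orderOf_dvd_natCard (eG w11); rwa [order_w11] at this
  have h19 : 19 ∣ Nat.card ↥J1 := by
    have := orderOf_dvd_natCard (eG w19); rwa [order_w19] at this
  have a1 : 8 * 3 ∣ Nat.card ↥J1 := Nat.Coprime.mul_dvd_of_dvd_of_dvd (by norm_num) h8 h3
  have a2 : 8 * 3 * 5 ∣ Nat.card ↥J1 := Nat.Coprime.mul_dvd_of_dvd_of_dvd (by norm_num) a1 h5
  have a3 : 8 * 3 * 5 * 7 ∣ Nat.card ↥J1 := Nat.Coprime.mul_dvd_of_dvd_of_dvd (by norm_num) a2 h7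
  have a4 : 8 * 3 * 5 * 7 * 11 ∣ Nat.card ↥J1 :=
    Nat.Coprime.mul_dvd_of_dvd_of_dvd (by norm_num) a3 h11
  have a5 : 8 * 3 * 5 * 7 * 11 * 19 ∣ Nat.card ↥J1 :=
    Nat.Coprime.mul_dvd_of_dvd_of_dvd (by norm_num) a4 h19
  have hpos : 0 < Nat.card ↥J1 := Nat.card_pos
  exact le_antisymm card_J1_le (Nat.le_of_dvd hpos a5)


/-! ### simplicity -/

/-- in a finite group, a normal subgroup whose order is divisible by `p`, with `p²` not dividing
the group order, contains every element `g` with `g ^ p = 1` -/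
theorem mem_normal_of_pow_eq_one {Γ : Type*} [Group Γ] [Finite Γ] (N : Subgroup Γ) [N.Normal]
    (p : ℕ) (hp : p.Prime) (hN : p ∣ Nat.card N) (hΓ : ¬ p * p ∣ Nat.card Γ) (g : Γ)
    (hg : g ^ p = 1) : g ∈ N := by
  have hidx : ¬ p ∣ N.index := by
    intro h
    apply hΓ
    rw [← Subgroup.card_mul_index N]
    exact Nat.mul_dvd_mul hN h
  have hcop : Nat.Coprime p N.index := (Nat.Prime.coprime_iff_not_dvd hp).2 hidx
  have h1 : ((g : Γ ⧸ N)) ^ p = 1 := by rw [← QuotientGroup.mk_pow, hg]; rfl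
  have h2 : ((g : Γ ⧸ N)) ^ N.index = 1 := by
    rw [Subgroup.index_eq_card]; exact pow_card_eq_one'
  have h3 : ((g : Γ ⧸ N)) ^ (Nat.gcd p N.index) = 1 := pow_gcd_eq_one.2 ⟨h1, h2⟩
  rw [Nat.Coprime.gcd_eq_one hcop, pow_one] at h3
  exact (QuotientGroup.eq_one_iff g).1 h3

theorem seed_step (N : Subgroup ↥J1) [hN : N.Normal] (g w : List Nat) (q : ℕ) [Fact q.Prime]
    (h1 : normC (evalC (powW (g ++ w ++ g ++ invW w) q)) = I7)
    (h2 : normC (evalC (g ++ w ++ g ++ invW w)) ≠ I7) (hg : eG g ∈ N) : q ∣ Nat.card N := by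
  have hz : eG (g ++ w ++ g ++ invW w) ∈ N := by
    rw [eG_append, eG_append, eG_append, eG_invW, mul_assoc, mul_assoc]
    apply N.mul_mem hg
    rw [← mul_assoc]
    exact hN.conj_mem _ hg _
  have ho := orderOf_eG _ q h1 h2
  have := Subgroup.orderOf_dvd_natCard N hz
  rwa [ho] at this

theorem not_sq_dvd (p : ℕ) (hp : p = 3 ∨ p = 5 ∨ p = 7 ∨ p = 11 ∨ p = 19) :
    ¬ p * p ∣ Nat.card ↥J1 := by
  rw [card_J1]
  rcases hp with rfl | rfl | rfl | rfl | rfl <;> norm_num

theorem prime_dvd_card (p : ℕ) (hp : p.Prime) (h : p ∣ 175560) :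
    p = 2 ∨ p = 3 ∨ p = 5 ∨ p = 7 ∨ p = 11 ∨ p = 19 := by
  have e : 175560 = 2 * (2 * (2 * (3 * (5 * (7 * (11 * 19)))))) := by norm_num
  rw [e] at h
  have pe : ∀ q : ℕ, q.Prime → p ∣ q → p = q := fun q hq hd =>
    (Nat.prime_dvd_prime_iff_eq hp hq).1 hd
  rcases (Nat.Prime.dvd_mul hp).1 h with h | h
  · left; exact pe 2 Nat.prime_two h
  rcases (Nat.Prime.dvd_mul hp).1 h with h | h
  · left; exact pe 2 Nat.prime_two h
  rcases (Nat.Prime.dvd_mul hp).1 h with h | h
  · left; exact pe 2 Nat.prime_two h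
  rcases (Nat.Prime.dvd_mul hp).1 h with h | h
  · right; left; exact pe 3 Nat.prime_three h
  rcases (Nat.Prime.dvd_mul hp).1 h with h | h
  · right; right; left; exact pe 5 (by norm_num) h
  rcases (Nat.Prime.dvd_mul hp).1 h with h | h
  · right; right; right; left; exact pe 7 (by norm_num) h
  rcases (Nat.Prime.dvd_mul hp).1 h with h | h
  · right; right; right; right; left; exact pe 11 (by norm_num) h
  · right; right; right; right; right; exact pe 19 (by norm_num) h

/-- every involution is conjugate to a non-identity element of `E` -/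
theorem exists_conj_mem_E (g : ↥J1) (hg : orderOf g = 2) :
    ∃ c : ↥J1, ∃ w ∈ Elist, w ≠ [] ∧ c * g * c⁻¹ = eG w := by
  haveI : Fact (Nat.Prime 2) := ⟨Nat.prime_two⟩
  have hE : IsPGroup 2 E := IsPGroup.of_card (n := 3) (by rw [card_E]; norm_num)
  have hidx : ¬ 2 ∣ E.index := by
    have h := Subgroup.card_mul_index E
    rw [card_E, card_J1] at h
    have : E.index = 21945 := by omega
    rw [this]; norm_num
  have hZ : IsPGroup 2 (Subgroup.zpowers g) :=
    IsPGroup.of_card (n := 1) (by rw [Nat.card_zpowers, hg]; norm_num)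
  obtain ⟨Q, hQ⟩ := hZ.exists_le_sylow
  obtain ⟨c, hc⟩ := MulAction.exists_smul_eq ↥J1 Q (hE.toSylow hidx)
  have hgQ : g ∈ (Q : Subgroup ↥J1) := hQ (Subgroup.mem_zpowers g)
  have h1 : c * g * c⁻¹ ∈ ((c • Q : Sylow 2 ↥J1) : Subgroup ↥J1) := by
    rw [Sylow.coe_subgroup_smul]
    have := Subgroup.smul_mem_pointwise_smul g (MulAut.conj c) (Q : Subgroup ↥J1) hgQ
    simpa [MulAut.smul_def] using this
  rw [hc, IsPGroup.toSylow_coe, mem_E] at h1
  obtain ⟨w, hw, e⟩ := h1
  refine ⟨c, w, hw, ?_, e⟩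
  rintro rfl
  rw [eG_nil] at e
  have : g = 1 := by
    have := congrArg (fun z => c⁻¹ * z * c) e
    simpa [mul_assoc] using this
  rw [this, orderOf_one] at hg
  norm_num at hg

theorem simple_J1 : IsSimpleGroup ↥J1 := by
  have hcard := card_J1
  haveI : Nontrivial ↥J1 := by
    rw [← Finite.one_lt_card_iff_nontrivial, hcard]; norm_num
  refine ⟨fun N hN => ?_⟩
  by_contra hcon
  push_neg at hcon
  obtain ⟨hbot, htop⟩ := hcon
  have hN1 : Nat.card N ≠ 1 := fun h => hbot (Subgroup.card_eq_one.1 h)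
  obtain ⟨p, hp, hpN⟩ := Nat.exists_prime_and_dvd hN1
  have hp175 : p ∣ 175560 := by
    rw [← hcard]; exact hpN.trans (Subgroup.card_subgroup_dvd_card N)
  have key : 5 ∣ Nat.card N := by
    rcases prime_dvd_card p hp hp175 with rfl | rfl | rfl | rfl | rfl | rfl
    · -- p = 2
      haveI : Fact (Nat.Prime 2) := ⟨Nat.prime_two⟩
      obtain ⟨g, hg⟩ := exists_prime_orderOf_dvd_card' (G := ↥N) 2 hpN
      have hg' : orderOf (g : ↥J1) = 2 := by rw [Subgroup.orderOf_coe]; exact hg
      obtain ⟨c, w, hw, hne, e⟩ := exists_conj_mem_E (g : ↥J1) hg'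
      have hwN : eG w ∈ N := by rw [← e]; exact hN.conj_mem _ g.2 _
      simp only [Elist, List.mem_cons, List.mem_nil_iff, or_false] at hw
      rcases hw with rfl | rfl | rfl | rfl | rfl | rfl | rfl | rfl
      · exact absurd rfl hne
      · exact seed_step N _ [0,1] 5 (by decide +kernel) (by decide +kernel) hwN
      · exact seed_step N _ [1] 5 (by decide +kernel) (by decide +kernel) hwN
      · exact seed_step N _ [1,0] 5 (by decide +kernel) (by decide +kernel) hwN
      · exact seed_step N _ [0,1] 5 (by decide +kernel) (by decide +kernel) hwN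
      · exact seed_step N _ [1] 5 (by decide +kernel) (by decide +kernel) hwN
      · exact seed_step N _ [1] 5 (by decide +kernel) (by decide +kernel) hwN
      · exact seed_step N _ [1] 5 (by decide +kernel) (by decide +kernel) hwN
    · -- p = 3
      have h3 : eG w3 ∈ N := mem_normal_of_pow_eq_one N 3 hp hpN (not_sq_dvd 3 (by norm_num)) _
        (by rw [← eG_powW]; exact (eG_eq_one_iff _).2 (by decide +kernel))
      exact seed_step N w3 [0] 5 (by decide +kernel) (by decide +kernel) h3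
    · exact hpN
    · -- p = 7
      have h7 : eG [0] ∈ N := mem_normal_of_pow_eq_one N 7 hp hpN (not_sq_dvd 7 (by norm_num)) _
        (by rw [← eG_powW]; exact (eG_eq_one_iff _).2 (by decide +kernel))
      exact seed_step N [0] [1,0,3,3] 5 (by decide +kernel) (by decide +kernel) h7
    · -- p = 11
      have h11 : eG w11 ∈ N :=
        mem_normal_of_pow_eq_one N 11 hp hpN (not_sq_dvd 11 (by norm_num)) _
          (by rw [← eG_powW]; exact (eG_eq_one_iff _).2 (by decide +kernel))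
      exact seed_step N w11 [0,0,0] 5 (by decide +kernel) (by decide +kernel) h11
    · -- p = 19
      have h19 : eG w19 ∈ N :=
        mem_normal_of_pow_eq_one N 19 hp hpN (not_sq_dvd 19 (by norm_num)) _
          (by rw [← eG_powW]; exact (eG_eq_one_iff _).2 (by decide +kernel))
      exact seed_step N w19 [0] 5 (by decide +kernel) (by decide +kernel) h19
  have hy : eG [1] ∈ N :=
    mem_normal_of_pow_eq_one N 5 (by norm_num) key (not_sq_dvd 5 (by norm_num)) _
      (by rw [← eG_powW]; exact (eG_eq_one_iff _).2 (by decide +kernel))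
  have h7 : 7 ∣ Nat.card N :=
    seed_step N [1] [0,0,3,2] 7 (by decide +kernel) (by decide +kernel) hy
  have hx : eG [0] ∈ N :=
    mem_normal_of_pow_eq_one N 7 (by norm_num) h7 (not_sq_dvd 7 (by norm_num)) _
      (by rw [← eG_powW]; exact (eG_eq_one_iff _).2 (by decide +kernel))
  apply htop
  rw [eq_top_iff]
  have h := Subgroup.closure_closure_coe_preimage
    (k := ({jankoX, jankoY} : Set (GL (Fin 7) (ZMod 11))))
  change Subgroup.closure (((↑) : ↥J1 → GL (Fin 7) (ZMod 11)) ⁻¹' {jankoX, jankoY}) = ⊤ at h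
  rw [← h, Subgroup.closure_le]
  rintro ⟨γ, hγ⟩ hmem
  simp only [Set.mem_preimage, Set.mem_insert_iff, Set.mem_singleton_iff] at hmem
  rcases hmem with rfl | rfl
  · have : (⟨jankoX, hγ⟩ : ↥J1) = eG [0] := Subtype.ext (by simp [eG, evalG, letG])
    rw [SetLike.mem_coe, this]; exact hx
  · have : (⟨jankoY, hγ⟩ : ↥J1) = eG [1] := Subtype.ext (by simp [eG, evalG, letG])
    rw [SetLike.mem_coe, this]; exact hy

end Cfsg.Agent.Lib.Helper57.J1
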