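import Mathlib
import Cfsg.Prelude.Def_Spor_J1
import Cfsg.Agent.Lib.Helper57.J1Simple
import Cfsg.Agent.Lib.Helper57.J1ConjCheck
import Cfsg.Agent.Lib.Helper89.A5Sub

set_option autoImplicit false
set_option maxRecDepth 100000

namespace Cfsg.Agent.Lib.Helper57.J1

open Matrix Cfsg.Spor

/-- the involution -/
def tG : ↥J1 := eG wT

theorem normR_decRow (n : Nat) : normR (decRow n) = decRow n := by
  show R7.mk _ _ _ _ _ _ _ = R7.mk _ _ _ _ _ _ _
  congr 1 <;> exact Nat.mod_mod _ _

theorem normC_dec (c : Nat) : normC (dec c) = dec c := by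
  show M7.mk _ _ _ _ _ _ _ = M7.mk _ _ _ _ _ _ _
  congr 1 <;> exact normR_decRow _

/-- `A` is the matrix of a conjugate of the involution -/
def Good (A : M7) : Prop :=
  ∃ γ : ↥J1, toM A = (((γ * tG * γ⁻¹ : ↥J1) : GL (Fin 7) (ZMod 11)) : Mat)

theorem good_root : Good (evalC wT) := ⟨1, by simp [tG, eG, val_evalG]⟩

theorem good_cjX (A : M7) (h : Good A) : Good (cjX A) := by
  obtain ⟨γ, hγ⟩ := h
  refine ⟨eG [0] * γ, ?_⟩
  have e1 : ((eG [0] : ↥J1) : GL (Fin 7) (ZMod 11)) = jankoX := by simp [eG, evalG, letG]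
  have e2 : (((eG [0] * γ) * tG * (eG [0] * γ)⁻¹ : ↥J1) : GL (Fin 7) (ZMod 11))
      = jankoX * ((γ * tG * γ⁻¹ : ↥J1) : GL (Fin 7) (ZMod 11)) * jankoX⁻¹ := by
    rw [← e1]; push_cast; group
  rw [e2, cjX, toM_mulC, toM_mulC, hγ, toM_transpC, toM_Xc]
  rfl

theorem good_cjY (A : M7) (h : Good A) : Good (cjY A) := by
  obtain ⟨γ, hγ⟩ := h
  refine ⟨eG [1] * γ, ?_⟩
  have e1 : ((eG [1] : ↥J1) : GL (Fin 7) (ZMod 11)) = jankoY := by simp [eG, evalG, letG]
  have e2 : (((eG [1] * γ) * tG * (eG [1] * γ)⁻¹ : ↥J1) : GL (Fin 7) (ZMod 11))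
      = jankoY * ((γ * tG * γ⁻¹ : ↥J1) : GL (Fin 7) (ZMod 11)) * jankoY⁻¹ := by
    rw [← e1]; push_cast; group
  rw [e2, cjY, toM_mulC, toM_mulC, hγ, toM_transpC, toM_Yc]
  rfl

theorem chkCT_good (T : CT) :
    ∀ P, chkCT P T = true → Good P → ∀ c ∈ codesCT T, Good (dec c) := by
  induction T with
  | leaf => intro P _ _ c hc; simp [codesCT] at hc
  | node c l r ihl ihr =>
    intro P h hP c' hc'
    simp only [chkCT, Bool.and_eq_true, beq_iff_eq] at h
    obtain ⟨⟨h1, h2⟩, h3⟩ := h
    have hc : Good (dec c) := h1 ▸ hP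
    simp only [codesCT, List.mem_cons, List.mem_append] at hc'
    rcases hc' with rfl | hc' | hc'
    · exact hc
    · exact ihl _ h2 (good_cjX _ hc) _ hc'
    · exact ihr _ h3 (good_cjY _ hc) _ hc'

theorem good_conjList : ∀ c ∈ conjList, Good (dec c) :=
  chkCT_good conjTree _ chk_conjTree good_root

theorem notIn_spec (a : Nat) (l : List Nat) (h : notIn a l = true) : a ∉ l := by
  induction l with
  | nil => simp
  | cons b l ih =>
    simp only [notIn, Bool.and_eq_true, Bool.not_eq_true'] at h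
    rw [List.mem_cons, not_or]
    refine ⟨fun e => ?_, ih h.2⟩
    subst e
    have : Nat.beq a a = true := Nat.beq_refl a
    rw [this] at h
    exact absurd h.1 (by simp)

theorem distinctL_spec (l : List Nat) (h : distinctL l = true) : l.Nodup := by
  induction l with
  | nil => simp
  | cons a l ih =>
    simp only [distinctL, Bool.and_eq_true] at h
    exact List.nodup_cons.2 ⟨notIn_spec a l h.1, ih h.2⟩

theorem conjList_nodup : conjList.Nodup := by
  rw [List.nodup_iff_count_le_one]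
  intro a
  have hr : a % 64 < 64 := Nat.mod_lt _ (by norm_num)
  have h := List.all_eq_true.1 distinct_conjList (a % 64) (List.mem_range.2 hr)
  have hn := distinctL_spec _ h
  have hp : (fun c => Nat.beq (Nat.mod c 64) (a % 64)) a = true := Nat.beq_refl _
  rw [← List.count_filter (p := fun c => Nat.beq (Nat.mod c 64) (a % 64)) (a := a) (l := conjList) hp]
  exact List.nodup_iff_count_le_one.1 hn a

theorem dec_inj {c c' : Nat} (hc : c ∈ conjList) (hc' : c' ∈ conjList)
    (h : toM (dec c) = toM (dec c')) : c = c' := by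
  have e := List.all_eq_true.1 enc_conjList
  have e1 := e c hc
  have e2 := e c' hc'
  rw [beq_iff_eq] at e1 e2
  rw [toM_eq_iff, normC_dec, normC_dec] at h
  rw [← e1, ← e2, h]

theorem card_centralizer_le : Nat.card (Subgroup.centralizer ({tG} : Set ↥J1)) ≤ 120 := by
  set C := Subgroup.centralizer ({tG} : Set ↥J1) with hC
  have hlen := length_conjList
  have hG : ∀ k : Fin 1463, Good (dec (conjList[k.1]'(by rw [hlen]; exact k.2))) := fun k =>
    good_conjList _ (List.getElem_mem _)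
  choose γ hγ using hG
  let f : Fin 1463 → ↥J1 ⧸ C := fun k => (γ k : ↥J1 ⧸ C)
  have finj : Function.Injective f := by
    intro k k' h
    have h1 : (γ k)⁻¹ * γ k' ∈ C := QuotientGroup.eq.1 h
    rw [hC, Subgroup.mem_centralizer_iff] at h1
    have h2 := h1 tG rfl
    have h3 : γ k * tG * (γ k)⁻¹ = γ k' * tG * (γ k')⁻¹ := by
      have : tG * (γ k)⁻¹ * γ k' = (γ k)⁻¹ * γ k' * tG := by rw [mul_assoc]; exact h2
      calc γ k * tG * (γ k)⁻¹ = γ k * (tG * (γ k)⁻¹ * γ k') * (γ k')⁻¹ := by group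
        _ = γ k * ((γ k)⁻¹ * γ k' * tG) * (γ k')⁻¹ := by rw [this]
        _ = γ k' * tG * (γ k')⁻¹ := by group
    have h4 : toM (dec (conjList[k.1]'(by rw [hlen]; exact k.2)))
        = toM (dec (conjList[k'.1]'(by rw [hlen]; exact k'.2))) := by
      rw [hγ k, hγ k', h3]
    have h5 := dec_inj (List.getElem_mem _) (List.getElem_mem _) h4
    exact Fin.ext ((List.Nodup.getElem_inj_iff conjList_nodup).1 h5)
  have hidx : 1463 ≤ C.index := by
    have := Nat.card_le_card_of_injective f finj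
    rwa [Nat.card_fin, ← Subgroup.index_eq_card] at this
  have hmul := Subgroup.card_mul_index C
  rw [card_J1] at hmul
  by_contra hcon
  rw [not_le] at hcon
  have : 121 * 1463 ≤ Nat.card C * C.index := Nat.mul_le_mul hcon hidx
  omega


/-- a word of order 3 in the centraliser -/
def wX3 : List Nat := [3, 0, 0, 1, 1, 0, 1, 0, 1, 0, 1, 1, 0, 0]

/-- a word of order 5 in the centraliser -/
def wY5 : List Nat := [2, 1, 1, 0, 1, 0, 0, 1, 0, 3, 3, 0]

theorem mem_cent (w : List Nat) (h : normC (evalC (wT ++ w)) = normC (evalC (w ++ wT))) :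
    eG w ∈ Subgroup.centralizer ({tG} : Set ↥J1) := by
  rw [Subgroup.mem_centralizer_iff]
  intro h' hh
  rw [Set.mem_singleton_iff] at hh
  subst hh
  rw [tG, ← eG_append, ← eG_append]
  exact (eG_eq_iff _ _).2 h

theorem order_tG : orderOf tG = 2 :=
  haveI : Fact (Nat.Prime 2) := ⟨Nat.prime_two⟩
  orderOf_eG wT 2 (by decide +kernel) (by decide +kernel)

theorem card_A5 : Nat.card (alternatingGroup (Fin 5)) = 60 := by
  rw [nat_card_alternatingGroup]; simp [Nat.factorial]

/-- the centraliser of the involution -/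
abbrev CT2 : Subgroup ↥J1 := Subgroup.centralizer ({tG} : Set ↥J1)

/-- an element of order 3 of the centraliser -/
def cX : ↥CT2 := ⟨eG wX3, mem_cent wX3 (by decide +kernel)⟩

/-- an element of order 5 of the centraliser -/
def cY : ↥CT2 := ⟨eG wY5, mem_cent wY5 (by decide +kernel)⟩

/-- the involution as an element of the centraliser -/
def cT : ↥CT2 := ⟨tG, by
    rw [Subgroup.mem_centralizer_iff]; intro h hh; rw [Set.mem_singleton_iff] at hh; subst hh; rfl⟩

theorem val_cX : (cX : ↥J1) = eG wX3 := rfl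
theorem val_cY : (cY : ↥J1) = eG wY5 := rfl
theorem val_cT : (cT : ↥J1) = tG := rfl

theorem cX_pow : cX ^ 3 = 1 := by
  apply Subtype.ext
  rw [Subgroup.coe_pow, val_cX, Subgroup.coe_one, ← eG_powW]
  exact (eG_eq_one_iff _).2 (by decide +kernel)

theorem cY_pow : cY ^ 5 = 1 := by
  apply Subtype.ext
  rw [Subgroup.coe_pow, val_cY, Subgroup.coe_one, ← eG_powW]
  exact (eG_eq_one_iff _).2 (by decide +kernel)

theorem cXY_pow : (cX * cY) ^ 2 = 1 := by
  apply Subtype.ext
  rw [Subgroup.coe_pow, Subgroup.coe_mul, val_cX, val_cY, Subgroup.coe_one, ← eG_append,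
    ← eG_powW]
  exact (eG_eq_one_iff _).2 (by decide +kernel)

theorem cX_ne : cX ≠ 1 := by
  intro h
  have h' : (cX : ↥J1) = ((1 : ↥CT2) : ↥J1) := congrArg Subtype.val h
  rw [val_cX, Subgroup.coe_one] at h'
  exact absurd ((eG_eq_one_iff _).1 h') (by decide +kernel)

theorem cT_comm (g : ↥CT2) : Commute cT g := by
  apply Subtype.ext
  rw [Subgroup.coe_mul, Subgroup.coe_mul, val_cT]
  exact Subgroup.mem_centralizer_iff.1 g.2 tG rfl

theorem order_cT : orderOf cT = 2 := by
  rw [← Subgroup.orderOf_coe, val_cT]; exact order_tG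

theorem cent_iso : Nonempty (↥(Subgroup.centralizer ({tG} : Set ↥J1)) ≃*
    Multiplicative (ZMod 2) × ↥(alternatingGroup (Fin 5))) := by
  classical
  let φ := Cfsg.Agent.Lib.Helper89.a5Hom cX cY cX_pow cY_pow cXY_pow
  have φinj : Function.Injective φ :=
    Cfsg.Agent.Lib.Helper89.a5Hom_injective cX cY cX_pow cY_pow cXY_pow cX_ne
  have hcardZ : Nat.card (Subgroup.zpowers cT) = 2 := by rw [Nat.card_zpowers, order_cT]
  let e2 : Multiplicative (ZMod 2) ≃* Subgroup.zpowers cT :=
    mulEquivOfCyclicCardEq (by rw [hcardZ]; simp)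
  let f : Multiplicative (ZMod 2) →* ↥CT2 := (Subgroup.zpowers cT).subtype.comp e2.toMonoidHom
  have comm : ∀ (m : Multiplicative (ZMod 2)) (n : alternatingGroup (Fin 5)),
      Commute (f m) (φ n) := by
    intro m n
    have hm : f m ∈ Subgroup.zpowers cT := (e2 m).2
    obtain ⟨k, hk⟩ := Subgroup.mem_zpowers_iff.1 hm
    rw [← hk]
    exact Commute.zpow_left (cT_comm (φ n)) k
  let ψ := MonoidHom.noncommCoprod f φ comm
  have ψinj : Function.Injective ψ := by
    rw [MonoidHom.noncommCoprod_injective]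
    refine ⟨(Subgroup.subtype_injective _).comp e2.injective, φinj, ?_⟩
    rw [disjoint_iff, Subgroup.eq_bot_iff_forall]
    rintro z ⟨⟨m, rfl⟩, ⟨σ, hσ⟩⟩
    have hσc : σ ∈ Subgroup.center (alternatingGroup (Fin 5)) := by
      rw [Subgroup.mem_center_iff]
      intro τ
      apply φinj
      rw [map_mul, map_mul, hσ]
      exact ((comm m τ).eq).symm
    rw [alternatingGroup.center_eq_bot (by simp), Subgroup.mem_bot] at hσc
    rw [← hσ, hσc, map_one]
  have hcardD : Nat.card (Multiplicative (ZMod 2) × alternatingGroup (Fin 5)) = 120 := by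
    rw [Nat.card_prod, card_A5]; simp
  have ψbij : Function.Bijective ψ := by
    rw [Nat.bijective_iff_injective_and_card]
    refine ⟨ψinj, ?_⟩
    have h1 := Nat.card_le_card_of_injective ψ ψinj
    have h2 : Nat.card ↥CT2 ≤ 120 := card_centralizer_le
    rw [hcardD] at h1 ⊢
    omega
  exact ⟨(MulEquiv.ofBijective ψ ψbij).symm⟩

end Cfsg.Agent.Lib.Helper57.J1
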