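import Mathlib

/-!
# A commutator pairing invariant under a 7-cycle is trivial

Abstract lemmas used for the Schur multiplier of `J₁`.
-/

set_option autoImplicit false

namespace Cfsg.Agent.Lib.Helper57.StemSeven

open scoped commutatorElement

variable {Γ : Type*} [Group Γ]

theorem conj_central {z : Γ} (hz : z ∈ Subgroup.center Γ) (g : Γ) : g * z * g⁻¹ = z := by
  rw [Subgroup.mem_center_iff] at hz
  rw [hz g, mul_assoc, mul_inv_cancel, mul_one]

theorem comm_right_central {x y k : Γ} (hk : k ∈ Subgroup.center Γ) : ⁅x, y * k⁆ = ⁅x, y⁆ := by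
  rw [Subgroup.mem_center_iff] at hk
  rw [commutatorElement_def, commutatorElement_def]
  have key : k * x⁻¹ = x⁻¹ * k := (hk x⁻¹).symm
  calc x * (y * k) * x⁻¹ * (y * k)⁻¹ = x * y * (k * x⁻¹) * k⁻¹ * y⁻¹ := by group
    _ = x * y * (x⁻¹ * k) * k⁻¹ * y⁻¹ := by rw [key]
    _ = x * y * x⁻¹ * y⁻¹ := by group

/-- `⁅t, z * a * b⁆ = ⁅t, a⁆ * ⁅t, b⁆` when `z` and `⁅t, b⁆` are central -/
theorem comm_mul_central {t z a b : Γ} (hz : z ∈ Subgroup.center Γ)
    (hb : ⁅t, b⁆ ∈ Subgroup.center Γ) : ⁅t, z * a * b⁆ = ⁅t, a⁆ * ⁅t, b⁆ := by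
  have h0 : z * a * b = a * b * z := by
    rw [Subgroup.mem_center_iff] at hz
    rw [mul_assoc, ← hz (a * b)]
  have h2 : ⁅t, a * b⁆ = ⁅t, a⁆ * (a * ⁅t, b⁆ * a⁻¹) := by
    rw [commutatorElement_def, commutatorElement_def, commutatorElement_def]; group
  rw [h0, comm_right_central hz, h2, conj_central hb]

section Seven

variable (c t : Γ)

/-- the conjugates of `t` under the powers of `c` -/
def e (k : ℕ) : Γ := c ^ k * t * (c ^ k)⁻¹

theorem e_zero : e c t 0 = t := by simp [e]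

theorem e_add (i k : ℕ) : e c t (i + k) = c ^ i * e c t k * (c ^ i)⁻¹ := by
  simp only [e, pow_add]; group

theorem comm_shift (i j k : ℕ) :
    ⁅e c t (i + j), e c t (i + k)⁆ = c ^ i * ⁅e c t j, e c t k⁆ * (c ^ i)⁻¹ := by
  rw [e_add, e_add, commutatorElement_def, commutatorElement_def]; group

theorem e_add_seven (h7 : c ^ 7 ∈ Subgroup.center Γ) (k : ℕ) : e c t (k + 7) = e c t k := by
  rw [add_comm, e_add]
  rw [Subgroup.mem_center_iff] at h7
  rw [← h7, mul_assoc, mul_inv_cancel, mul_one]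

variable (A : Subgroup Γ) (hA : ∀ a ∈ A, ∀ b ∈ A, ⁅a, b⁆ ∈ Subgroup.center Γ)
  (ht : t ∈ A) (hc : ∀ a ∈ A, c * a * c⁻¹ ∈ A)

include ht hc in
theorem e_mem (k : ℕ) : e c t k ∈ A := by
  induction k with
  | zero => rw [e_zero]; exact ht
  | succ k ih =>
    have : e c t (k + 1) = c * e c t k * c⁻¹ := by
      rw [add_comm, e_add, pow_one]
    rw [this]; exact hc _ ih

include hA ht hc in
theorem comm_shift' (i j k : ℕ) : ⁅e c t (i + j), e c t (i + k)⁆ = ⁅e c t j, e c t k⁆ := by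
  rw [comm_shift, conj_central (hA _ (e_mem c t A ht hc j) _ (e_mem c t A ht hc k))]

include hA ht hc in
/-- the main computation: all the conjugates commute -/
theorem comm_e (h7 : c ^ 7 ∈ Subgroup.center Γ)
    (hrel : t * e c t 2 * (e c t 3)⁻¹ ∈ Subgroup.center Γ) (j k : ℕ) :
    ⁅e c t j, e c t k⁆ = 1 := by
  have hm := e_mem c t A ht hc
  have hsh := comm_shift' c t A hA ht hc
  have hper := e_add_seven c t h7
  -- the function `f k = ⁅t, e k⁆`
  have hfc : ∀ k, ⁅t, e c t k⁆ ∈ Subgroup.center Γ := fun k => hA _ ht _ (hm k)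
  -- relation e (k+3) = z * e k * e (k+2)
  have hrelk : ∀ k, ∃ z ∈ Subgroup.center Γ, e c t (k + 3) = z * e c t k * e c t (k + 2) := by
    intro k
    refine ⟨(t * e c t 2 * (e c t 3)⁻¹)⁻¹, inv_mem hrel, ?_⟩
    have h1 : c ^ k * (t * e c t 2 * (e c t 3)⁻¹)⁻¹ * (c ^ k)⁻¹ = (t * e c t 2 * (e c t 3)⁻¹)⁻¹ :=
      conj_central (inv_mem hrel) _
    rw [← h1, e_add c t k 3, e_add c t k 2]
    have h2 : e c t k = c ^ k * t * (c ^ k)⁻¹ := rfl
    rw [h2]; group
  have hR : ∀ k, ⁅t, e c t (k + 3)⁆ = ⁅t, e c t k⁆ * ⁅t, e c t (k + 2)⁆ := by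
    intro k
    obtain ⟨z, hz, h⟩ := hrelk k
    rw [h, comm_mul_central hz (hfc _)]
  have hf0 : ⁅t, e c t 0⁆ = 1 := by rw [e_zero, commutatorElement_self]
  have hanti : ∀ k, k ≤ 7 → ⁅t, e c t (7 - k)⁆ = (⁅t, e c t k⁆)⁻¹ := by
    intro k hk
    have h1 : ⁅e c t (k + 0), e c t (k + (7 - k))⁆ = ⁅e c t 0, e c t (7 - k)⁆ := hsh k 0 (7 - k)
    have h2 : k + (7 - k) = 0 + 7 := by omega
    rw [h2, hper, add_zero, e_zero] at h1
    rw [← h1, commutatorElement_inv]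
  -- now the values
  have f3 : ⁅t, e c t 3⁆ = ⁅t, e c t 2⁆ := by rw [hR 0, hf0, one_mul]
  have f8 : ⁅t, e c t 1⁆ = ⁅t, e c t 5⁆ := by
    have := hR 5
    rw [show 5 + 3 = 1 + 7 from rfl, show 5 + 2 = 0 + 7 from rfl, hper, hper, hf0, mul_one] at this
    exact this
  have f5 : ⁅t, e c t 5⁆ = (⁅t, e c t 2⁆)⁻¹ := hanti 2 (by norm_num)
  have f6 : ⁅t, e c t 6⁆ = (⁅t, e c t 1⁆)⁻¹ := hanti 1 (by norm_num)
  have f6' : ⁅t, e c t 6⁆ = ⁅t, e c t 3⁆ * ⁅t, e c t 5⁆ := hR 3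
  have a1 : ⁅t, e c t 1⁆ = 1 := by
    rw [f3, f5, mul_inv_cancel] at f6'
    rw [f6'] at f6
    exact inv_eq_one.1 f6.symm
  have a2 : ⁅t, e c t 2⁆ = 1 := by
    rw [a1] at f8
    rw [← f8] at f5
    exact inv_eq_one.1 f5.symm
  have a3 : ⁅t, e c t 3⁆ = 1 := by rw [f3, a2]
  have a4 : ⁅t, e c t 4⁆ = 1 := by rw [hR 1, a1, a3, one_mul]
  have a5 : ⁅t, e c t 5⁆ = 1 := by rw [f5, a2, inv_one]
  have a6 : ⁅t, e c t 6⁆ = 1 := by rw [f6, a1, inv_one]
  have hall : ∀ m, ⁅t, e c t m⁆ = 1 := by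
    intro m
    induction m using Nat.strong_induction_on with
    | _ m ih =>
      by_cases hm7 : m < 7
      · interval_cases m
        · exact hf0
        · exact a1
        · exact a2
        · exact a3
        · exact a4
        · exact a5
        · exact a6
      · have : m = (m - 7) + 7 := by omega
        rw [this, hper]
        exact ih _ (by omega)
  -- general pair
  rcases le_total j k with h | h
  · have h1 := hsh j 0 (k - j)
    rw [add_zero, Nat.add_sub_cancel' h, e_zero] at h1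
    rw [h1]; exact hall _
  · have h1 := hsh k 0 (j - k)
    rw [add_zero, Nat.add_sub_cancel' h, e_zero] at h1
    rw [← commutatorElement_inv, h1, hall, inv_one]

end Seven

end Cfsg.Agent.Lib.Helper57.StemSeven
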