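import Cfsg.Agent.Lib.Helper57.J1Simple
import Cfsg.Agent.Lib.Helper57.StemSeven
import Cfsg.Agent.Lib.Helper65.StemLemmas2

/-!
# The Schur multiplier of `J₁` is trivial
-/

set_option autoImplicit false

namespace Cfsg.Agent.Lib.Helper57.J1

open Cfsg Cfsg.Spor Matrix
open scoped commutatorElement

/-! ### facts on the Sylow 2-subgroup -/

theorem Elist_comm : ∀ v ∈ Elist, ∀ w ∈ Elist,
    normC (evalC (v ++ w)) = normC (evalC (w ++ v)) := by decide +kernel

theorem Elist_conj : ∀ v ∈ Elist, ∃ u ∈ Elist,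
    normC (evalC ([0] ++ v ++ [2])) = normC (evalC u) := by decide +kernel

theorem Elist_orbit : ∀ v ∈ Elist, v = [] ∨ ∃ k ∈ List.range 7,
    normC (evalC v) = normC (evalC (powW [0] k ++ [3,0,1,0] ++ invW (powW [0] k))) := by
  decide +kernel

theorem E_comm : ∀ a ∈ E, ∀ b ∈ E, a * b = b * a := by
  rintro _ ⟨v, hv, rfl⟩ _ ⟨w, hw, rfl⟩
  rw [← eG_append, ← eG_append]
  exact (eG_eq_iff _ _).2 (Elist_comm v hv w hw)

theorem E_conj : ∀ a ∈ E, eG [0] * a * (eG [0])⁻¹ ∈ E := by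
  rintro _ ⟨v, hv, rfl⟩
  obtain ⟨u, hu, h⟩ := Elist_conj v hv
  refine ⟨u, hu, ?_⟩
  have h2 : (eG [0])⁻¹ = eG [2] := by rw [← eG_invW]; rfl
  rw [h2, ← eG_append, ← eG_append]
  exact (eG_eq_iff _ _).2 h

theorem tt_mem_E : eG [3,0,1,0] ∈ E := ⟨[3,0,1,0], by decide, rfl⟩

theorem e_eq (k : ℕ) : StemSeven.e (eG [0]) (eG [3,0,1,0]) k
    = eG (powW [0] k ++ [3,0,1,0] ++ invW (powW [0] k)) := by
  unfold StemSeven.e
  rw [← eG_powW, ← eG_invW, ← eG_append, ← eG_append]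

theorem E_orbit : ∀ a ∈ E, a = 1 ∨ ∃ k : ℕ,
    a = StemSeven.e (eG [0]) (eG [3,0,1,0]) k := by
  rintro _ ⟨v, hv, rfl⟩
  rcases Elist_orbit v hv with rfl | ⟨k, _, h⟩
  · left; rfl
  · right
    refine ⟨k, ?_⟩
    rw [e_eq]
    exact (eG_eq_iff _ _).2 h

theorem E_rel : eG [3,0,1,0] * StemSeven.e (eG [0]) (eG [3,0,1,0]) 2
    * (StemSeven.e (eG [0]) (eG [3,0,1,0]) 3)⁻¹ = 1 := by
  rw [e_eq, e_eq, ← eG_invW, ← eG_append, ← eG_append]
  exact (eG_eq_one_iff _).2 (by decide +kernel)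

theorem x_pow_seven : eG [0] ^ 7 = 1 := by
  have := pow_orderOf_eq_one (eG [0])
  rwa [order_x] at this

/-! ### preimages in a stem extension -/

section Stem

variable {Γ : Type*} [Group Γ] (σ : Γ →* ↥J1) (hs : Function.Surjective σ)
  (hk : σ.ker ≤ Subgroup.center Γ)

include hk in
theorem central_of_map_eq {x y : Γ} (h : σ x = σ y) : ∃ κ ∈ Subgroup.center Γ, x = y * κ := by
  refine ⟨y⁻¹ * x, hk ?_, by group⟩
  rw [MonoidHom.mem_ker, map_mul, map_inv, h, inv_mul_cancel]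

include hs hk in
/-- the preimage of a cyclic subgroup is commutative -/
theorem comap_zpowers_comm (g : ↥J1) :
    ∀ x ∈ (Subgroup.zpowers g).comap σ, ∀ y ∈ (Subgroup.zpowers g).comap σ, x * y = y * x := by
  obtain ⟨g', rfl⟩ := hs g
  intro x hx y hy
  rw [Subgroup.mem_comap, Subgroup.mem_zpowers_iff] at hx hy
  obtain ⟨i, hi⟩ := hx
  obtain ⟨j, hj⟩ := hy
  rw [← map_zpow] at hi hj
  obtain ⟨κ, hκ, rfl⟩ := central_of_map_eq σ hk hi.symm
  obtain ⟨κ', hκ', rfl⟩ := central_of_map_eq σ hk hj.symm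
  rw [Subgroup.mem_center_iff] at hκ hκ'
  have hc : g' ^ i * g' ^ j = g' ^ j * g' ^ i := (Commute.zpow_zpow_self g' i j).eq
  calc g' ^ i * κ * (g' ^ j * κ') = g' ^ i * (κ * g' ^ j) * κ' := by group
    _ = g' ^ i * (g' ^ j * κ) * κ' := by rw [hκ]
    _ = (g' ^ i * g' ^ j) * (κ * κ') := by group
    _ = (g' ^ j * g' ^ i) * (κ' * κ) := by rw [hc, hκ κ']
    _ = g' ^ j * (g' ^ i * κ') * κ := by group
    _ = g' ^ j * (κ' * g' ^ i) * κ := by rw [hκ']
    _ = g' ^ j * κ' * (g' ^ i * κ) := by group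

include hs hk in
/-- the preimage of the Sylow 2-subgroup is commutative -/
theorem comap_E_comm : ∀ x ∈ E.comap σ, ∀ y ∈ E.comap σ, x * y = y * x := by
  obtain ⟨c, hc⟩ := hs (eG [0])
  obtain ⟨t, ht⟩ := hs (eG [3,0,1,0])
  have hmap : ∀ k, σ (StemSeven.e c t k) = StemSeven.e (eG [0]) (eG [3,0,1,0]) k := by
    intro k
    unfold StemSeven.e
    rw [map_mul, map_mul, map_inv, map_pow, hc, ht]
  have hA : ∀ a ∈ E.comap σ, ∀ b ∈ E.comap σ, ⁅a, b⁆ ∈ Subgroup.center Γ := by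
    intro a ha b hb
    apply hk
    rw [MonoidHom.mem_ker, map_commutatorElement, commutatorElement_eq_one_iff_mul_comm]
    exact E_comm _ ha _ hb
  have htA : t ∈ E.comap σ := by rw [Subgroup.mem_comap, ht]; exact tt_mem_E
  have hcA : ∀ a ∈ E.comap σ, c * a * c⁻¹ ∈ E.comap σ := by
    intro a ha
    rw [Subgroup.mem_comap, map_mul, map_mul, map_inv, hc]
    exact E_conj _ ha
  have h7 : c ^ 7 ∈ Subgroup.center Γ := by
    apply hk
    rw [MonoidHom.mem_ker, map_pow, hc, x_pow_seven]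
  have hrel : t * StemSeven.e c t 2 * (StemSeven.e c t 3)⁻¹ ∈ Subgroup.center Γ := by
    apply hk
    rw [MonoidHom.mem_ker, map_mul, map_mul, map_inv, hmap, hmap, ht, E_rel]
  have key := StemSeven.comm_e c t (E.comap σ) hA htA hcA h7 hrel
  -- every element of the preimage is central or a central multiple of some `e k`
  have hform : ∀ x ∈ E.comap σ, x ∈ Subgroup.center Γ ∨
      ∃ k, ∃ κ ∈ Subgroup.center Γ, x = StemSeven.e c t k * κ := by
    intro x hx
    rcases E_orbit _ hx with h | ⟨k, h⟩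
    · left; exact hk h
    · right
      rw [← hmap] at h
      exact ⟨k, central_of_map_eq σ hk h⟩
  intro x hx y hy
  rcases hform x hx with h1 | ⟨j, κ, hκ, rfl⟩
  · rw [Subgroup.mem_center_iff] at h1; exact (h1 y).symm
  rcases hform y hy with h2 | ⟨k, κ', hκ', rfl⟩
  · rw [Subgroup.mem_center_iff] at h2; exact h2 _
  have hc2 : StemSeven.e c t j * StemSeven.e c t k = StemSeven.e c t k * StemSeven.e c t j :=
    commutatorElement_eq_one_iff_mul_comm.1 (key j k)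
  rw [Subgroup.mem_center_iff] at hκ hκ'
  calc StemSeven.e c t j * κ * (StemSeven.e c t k * κ')
      = StemSeven.e c t j * (κ * StemSeven.e c t k) * κ' := by group
    _ = StemSeven.e c t j * (StemSeven.e c t k * κ) * κ' := by rw [hκ]
    _ = (StemSeven.e c t j * StemSeven.e c t k) * (κ * κ') := by group
    _ = (StemSeven.e c t k * StemSeven.e c t j) * (κ' * κ) := by rw [hc2, hκ κ']
    _ = StemSeven.e c t k * (StemSeven.e c t j * κ') * κ := by group
    _ = StemSeven.e c t k * (κ' * StemSeven.e c t j) * κ := by rw [hκ']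
    _ = StemSeven.e c t k * κ' * (StemSeven.e c t j * κ) := by group

end Stem

section Main

variable {Γ : Type*} [Group Γ] [Finite Γ] (σ : Γ →* ↥J1) (hσ : Cfsg.IsStemExtension σ)

include hσ in
theorem ker_pow_of_order (g : ↥J1) (n m : ℕ) (hg : orderOf g = n) (hn : 0 < n)
    (hm : m * n = 175560) {z : Γ} (hz : z ∈ σ.ker) : z ^ m = 1 := by
  obtain ⟨hs, hk, hcm⟩ := hσ
  have h1 := Cfsg.Agent.Lib.Helper65.pow_index_eq_one_of_comm ((Subgroup.zpowers g).comap σ)
    (comap_zpowers_comm σ hs hk g) z (hk hz) (hcm hz)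
  rw [Subgroup.index_comap_of_surjective _ hs] at h1
  have h2 := (Subgroup.zpowers g).index_mul_card
  rw [Nat.card_zpowers, hg, card_J1, ← hm] at h2
  rw [Nat.eq_of_mul_eq_mul_right hn h2] at h1
  exact h1

include hσ in
theorem ker_pow_E {z : Γ} (hz : z ∈ σ.ker) : z ^ 21945 = 1 := by
  obtain ⟨hs, hk, hcm⟩ := hσ
  have h1 := Cfsg.Agent.Lib.Helper65.pow_index_eq_one_of_comm (E.comap σ)
    (comap_E_comm σ hs hk) z (hk hz) (hcm hz)
  rw [Subgroup.index_comap_of_surjective _ hs] at h1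
  have h2 := E.index_mul_card
  rw [card_E, card_J1, show 175560 = 21945 * 8 from rfl] at h2
  rw [Nat.eq_of_mul_eq_mul_right (by norm_num) h2] at h1
  exact h1

include hσ in
/-- every finite stem extension of `J₁` is an isomorphism -/
theorem stem_ker_eq_bot : σ.ker = ⊥ := by
  rw [eq_bot_iff]
  intro z hz
  rw [Subgroup.mem_bot]
  have h3 := orderOf_dvd_of_pow_eq_one
    (ker_pow_of_order σ hσ _ 3 58520 order_w3 (by norm_num) (by norm_num) hz)
  have h5 := orderOf_dvd_of_pow_eq_one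
    (ker_pow_of_order σ hσ _ 5 35112 order_y (by norm_num) (by norm_num) hz)
  have h7 := orderOf_dvd_of_pow_eq_one
    (ker_pow_of_order σ hσ _ 7 25080 order_x (by norm_num) (by norm_num) hz)
  have h11 := orderOf_dvd_of_pow_eq_one
    (ker_pow_of_order σ hσ _ 11 15960 order_w11 (by norm_num) (by norm_num) hz)
  have h19 := orderOf_dvd_of_pow_eq_one
    (ker_pow_of_order σ hσ _ 19 9240 order_w19 (by norm_num) (by norm_num) hz)
  have h2 := orderOf_dvd_of_pow_eq_one (ker_pow_E σ hσ hz)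
  have hd : orderOf z ∣ Nat.gcd 58520 (Nat.gcd 35112 (Nat.gcd 25080 (Nat.gcd 15960
      (Nat.gcd 9240 21945)))) :=
    Nat.dvd_gcd h3 (Nat.dvd_gcd h5 (Nat.dvd_gcd h7 (Nat.dvd_gcd h11 (Nat.dvd_gcd h19 h2))))
  have h1 : Nat.gcd 58520 (Nat.gcd 35112 (Nat.gcd 25080 (Nat.gcd 15960
      (Nat.gcd 9240 21945)))) = 1 := by norm_num
  rw [h1, Nat.dvd_one, orderOf_eq_one_iff] at hd
  exact hd

end Main

/-- the Schur multiplier of `J₁` is trivial -/
theorem multiplier_J1 : Cfsg.HasCyclicSchurMultiplier ↥J1 1 := by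
  refine ⟨⟨↥J1, inferInstance, inferInstance, MonoidHom.id _, ?_, ?_⟩, ?_⟩
  · refine ⟨Function.surjective_id, ?_, ?_⟩
    · rw [MonoidHom.ker_id]; exact bot_le
    · rw [MonoidHom.ker_id]; exact bot_le
  · rw [MonoidHom.ker_id]
    exact ⟨MulEquiv.ofUnique⟩
  · intro Γ _ _ σ hσ
    refine ⟨1, ?_⟩
    rintro ⟨z, hz⟩
    refine ⟨1, ?_⟩
    rw [stem_ker_eq_bot σ hσ, Subgroup.mem_bot] at hz
    subst hz
    rfl

end Cfsg.Agent.Lib.Helper57.J1
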