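import Mathlib
import Cfsg.Agent.Lib.Helper57.J1Abs

/-!
# An abstract criterion for all automorphisms to be inner

The group has a self-normalising-ish Frobenius subgroup `19:6` whose Sylow 19-subgroup is a Sylow
subgroup of the whole group, and a third generator living in the centraliser of an involution.
-/

set_option autoImplicit false

namespace Cfsg.Agent.Lib.Helper57.OutAbs

open Cfsg.Agent.Lib.Helper57.J1

variable {Γ : Type*} [Group Γ]

theorem inner_of_conj_mul (c : Γ) (α : MulAut Γ) (h : ∃ g, MulAut.conj c * α = MulAut.conj g) :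
    ∃ g, α = MulAut.conj g := by
  obtain ⟨g, hg⟩ := h
  refine ⟨c⁻¹ * g, ?_⟩
  rw [map_mul, map_inv, ← hg, inv_mul_cancel_left]

/-- `b ^ j * a ^ i * (b ^ j)⁻¹ = a ^ (r ^ j * i)` -/
theorem conj_pow_eq {a b : Γ} {r : ℕ} (h : b * a * b⁻¹ = a ^ r) (j i : ℕ) :
    b ^ j * a ^ i * (b ^ j)⁻¹ = a ^ (r ^ j * i) := by
  have h' : b * a = a ^ r * b := by rw [← h]; group
  rw [conj_pow_pow h' j i, mul_assoc, mul_inv_cancel, mul_one]

theorem key_arith : ∀ m < 19, ∀ j < 6, m ≠ 0 → (m * 8 ^ j) % 19 = (8 * m) % 19 → j = 1 := by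
  decide

variable [Finite Γ]

theorem inner_of_data (a b s : Γ)
    (ha : orderOf a = 19) (hidx : ¬ 19 ∣ (Subgroup.zpowers a).index)
    (hba : b * a * b⁻¹ = a ^ 8)
    (hN : ∀ γ ∈ Subgroup.normalizer (Subgroup.zpowers a : Set Γ),
      ∃ i j : ℕ, j < 6 ∧ γ = a ^ i * b ^ j)
    (hfin : ∀ s' : Γ, ∀ m : ℕ, 0 < m → m < 19 → s' * b ^ 3 = b ^ 3 * s' → s' * s' = 1 →
      s' * b * s' = b⁻¹ → (a ^ (2 * m) * b ^ 2 * s') ^ 5 = 1 →
      ∃ j : ℕ, a ^ m = b ^ j * a * (b ^ j)⁻¹ ∧ s' = b ^ j * s * (b ^ j)⁻¹)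
    (hs0 : s * b ^ 3 = b ^ 3 * s) (hs1 : s * s = 1) (hs2 : s * b * s = b⁻¹)
    (hs3 : (a ^ 2 * b ^ 2 * s) ^ 5 = 1)
    (hgen : ∀ F : Subgroup Γ, a ∈ F → b ∈ F → s ∈ F → F = ⊤)
    (α : MulAut Γ) : ∃ g : Γ, α = MulAut.conj g := by
  classical
  haveI : Fact (Nat.Prime 19) := ⟨by norm_num⟩
  have ha19 : a ^ 19 = 1 := by rw [← ha]; exact pow_orderOf_eq_one a
  set P : Subgroup Γ := Subgroup.zpowers a with hP
  have hPcard : Nat.card P = 19 := by rw [Nat.card_zpowers, ha]
  have hPp : IsPGroup 19 P := IsPGroup.of_card (n := 1) (by rw [hPcard]; norm_num)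
  -- Step 1: move `α a` into `P`
  have hαa : orderOf (α a) = 19 := by rw [MulEquiv.orderOf_eq, ha]
  have hZ : IsPGroup 19 (Subgroup.zpowers (α a)) :=
    IsPGroup.of_card (n := 1) (by rw [Nat.card_zpowers, hαa]; norm_num)
  obtain ⟨Q, hQ⟩ := hZ.exists_le_sylow
  obtain ⟨c, hc⟩ := MulAction.exists_smul_eq Γ Q (hPp.toSylow hidx)
  have hgQ : α a ∈ (Q : Subgroup Γ) := hQ (Subgroup.mem_zpowers _)
  have h1 : c * α a * c⁻¹ ∈ ((c • Q : Sylow 19 Γ) : Subgroup Γ) := by
    rw [Sylow.coe_subgroup_smul]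
    have := Subgroup.smul_mem_pointwise_smul (α a) (MulAut.conj c) (Q : Subgroup Γ) hgQ
    simpa [MulAut.smul_def] using this
  rw [hc, IsPGroup.toSylow_coe] at h1
  apply inner_of_conj_mul c
  -- rename
  set α1 : MulAut Γ := MulAut.conj c * α with hα1
  have hα1a : α1 a ∈ P := by
    rw [hα1, MulAut.mul_apply, MulAut.conj_apply]; exact h1
  rw [hP, mem_zpowers_iff_mem_range_orderOf, ha] at hα1a
  obtain ⟨m, hm, hme⟩ := Finset.mem_image.1 hα1a
  rw [Finset.mem_range] at hm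
  have hme' : α1 a = a ^ m := hme.symm
  have hm0 : m ≠ 0 := by
    rintro rfl
    rw [pow_zero] at hme'
    have : a = 1 := by
      have := congrArg α1.symm hme'
      simpa using this
    rw [this, orderOf_one] at ha
    norm_num at ha
  -- Step 2: `α1` preserves `P`, hence its normaliser
  have hmapP : P.map α1.toMonoidHom = P := by
    apply Subgroup.eq_of_le_of_card_ge
    · rw [hP, MonoidHom.map_zpowers, Subgroup.zpowers_le]
      show α1 a ∈ Subgroup.zpowers a
      rw [hme']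
      exact Subgroup.pow_mem _ (Subgroup.mem_zpowers a) m
    · rw [Subgroup.card_map_of_injective (MulEquiv.injective α1)]
  have hbN : b ∈ Subgroup.normalizer (P : Set Γ) := by
    apply Subgroup.mem_normalizer_fintype
    intro n hn
    rw [SetLike.mem_coe, hP, Subgroup.mem_zpowers_iff] at hn
    obtain ⟨k, rfl⟩ := hn
    have : b * a ^ k * b⁻¹ = (b * a * b⁻¹) ^ k := by
      have := map_zpow (MulAut.conj b) a k
      simpa [MulAut.conj_apply] using this
    rw [this, hba, SetLike.mem_coe, hP]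
    exact Subgroup.zpow_mem _ (Subgroup.pow_mem _ (Subgroup.mem_zpowers a) 8) k
  have hα1b : α1 b ∈ Subgroup.normalizer (P : Set Γ) := by
    have h2 : α1 b ∈ (Subgroup.normalizer (P : Set Γ)).map α1.toMonoidHom :=
      Subgroup.mem_map_of_mem _ hbN
    rw [Subgroup.map_equiv_normalizer_eq, hmapP] at h2
    exact h2
  obtain ⟨i, j, hj, hij⟩ := hN _ hα1b
  -- `j = 1`
  have hj1 : j = 1 := by
    have e1 : α1 b * α1 a * (α1 b)⁻¹ = (α1 a) ^ 8 := by
      rw [← map_inv, ← map_mul, ← map_mul, hba, map_pow]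
    rw [hij, hme'] at e1
    have e2 : a ^ i * b ^ j * a ^ m * (a ^ i * b ^ j)⁻¹ = a ^ (8 ^ j * m) := by
      have := conj_pow_eq hba j m
      calc a ^ i * b ^ j * a ^ m * (a ^ i * b ^ j)⁻¹
          = a ^ i * (b ^ j * a ^ m * (b ^ j)⁻¹) * (a ^ i)⁻¹ := by group
        _ = a ^ i * a ^ (8 ^ j * m) * (a ^ i)⁻¹ := by rw [this]
        _ = a ^ (8 ^ j * m) := by
          rw [← pow_add, add_comm, pow_add, mul_assoc, mul_inv_cancel, mul_one]
    rw [e2, ← pow_mul, pow_eq_pow_iff_modEq, ha] at e1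
    apply key_arith m hm j hj hm0
    have : 8 ^ j * m ≡ m * 8 [MOD 19] := e1
    unfold Nat.ModEq at this
    rw [mul_comm m (8 ^ j), this, mul_comm]
  subst hj1
  rw [pow_one] at hij
  -- Step 3: conjugate by a power of `a`
  apply inner_of_conj_mul (a ^ (11 * i))
  set α2 : MulAut Γ := MulAut.conj (a ^ (11 * i)) * α1 with hα2
  have hα2a : α2 a = a ^ m := by
    rw [hα2, MulAut.mul_apply, MulAut.conj_apply, hme', ← pow_add, add_comm, pow_add, mul_assoc,
      mul_inv_cancel, mul_one]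
  have hα2b : α2 b = b := by
    rw [hα2, MulAut.mul_apply, MulAut.conj_apply, hij]
    have e3 : b * (a ^ (11 * i))⁻¹ = (a ^ (8 * (11 * i)))⁻¹ * b := by
      have := conj_pow_eq hba 1 (11 * i)
      rw [pow_one, pow_one] at this
      rw [← this]; group
    calc a ^ (11 * i) * (a ^ i * b) * (a ^ (11 * i))⁻¹
        = a ^ (11 * i) * a ^ i * (b * (a ^ (11 * i))⁻¹) := by group
      _ = a ^ (11 * i) * a ^ i * ((a ^ (8 * (11 * i)))⁻¹ * b) := by rw [e3]
      _ = (a ^ (11 * i + i) * (a ^ (8 * (11 * i)))⁻¹) * b := by rw [pow_add]; group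
      _ = b := by
        have : a ^ (8 * (11 * i)) = a ^ (11 * i + i) := by
          rw [pow_eq_pow_iff_modEq, ha]
          unfold Nat.ModEq
          omega
        rw [this, mul_inv_cancel, one_mul]
  -- Step 4: the image of `s`
  have r0 : α2 s * b ^ 3 = b ^ 3 * α2 s := by
    have := congrArg α2 hs0
    rwa [map_mul, map_mul, map_pow, hα2b] at this
  have r1 : α2 s * α2 s = 1 := by
    have := congrArg α2 hs1
    rwa [map_mul, map_one] at this
  have r2 : α2 s * b * α2 s = b⁻¹ := by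
    have := congrArg α2 hs2
    rwa [map_mul, map_mul, map_inv, hα2b] at this
  have r3 : (a ^ (2 * m) * b ^ 2 * α2 s) ^ 5 = 1 := by
    have := congrArg α2 hs3
    rw [map_pow, map_mul, map_mul, map_pow, map_pow, hα2a, hα2b, map_one, ← pow_mul,
      mul_comm m 2] at this
    exact this
  obtain ⟨j, hja, hjs⟩ := hfin (α2 s) m (Nat.pos_of_ne_zero hm0) hm r0 r1 r2 r3
  refine ⟨b ^ j, ?_⟩
  have hF := hgen (MonoidHom.eqLocus α2.toMonoidHom (MulAut.conj (b ^ j)).toMonoidHom)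
    (by
      show α2 a = MulAut.conj (b ^ j) a
      rw [hα2a, MulAut.conj_apply, hja])
    (by
      show α2 b = MulAut.conj (b ^ j) b
      rw [hα2b, MulAut.conj_apply]
      have : b ^ j * b = b * b ^ j := by rw [← pow_succ, ← pow_succ']
      rw [this, mul_assoc, mul_inv_cancel, mul_one])
    (by
      show α2 s = MulAut.conj (b ^ j) s
      rw [MulAut.conj_apply, hjs])
  ext x
  have hx : x ∈ MonoidHom.eqLocus α2.toMonoidHom (MulAut.conj (b ^ j)).toMonoidHom := by
    rw [hF]; trivial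
  exact hx

end Cfsg.Agent.Lib.Helper57.OutAbs
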