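import Cfsg.Agent.Lib.Helper57.J1Out3
import Cfsg.Agent.Lib.Helper57.OutAbs
import Cfsg.Agent.Lib.Helper89.A5Sub
import Cfsg.Prelude.Def_KGroupFacts

/-!
# Every automorphism of `J₁` is inner
-/

set_option autoImplicit false
set_option maxRecDepth 100000

namespace Cfsg.Agent.Lib.Helper57.J1

open Cfsg Cfsg.Spor Matrix Cfsg.Agent.Lib.Helper89

/-! ### representation of group elements by computational matrices -/

/-- the group element `g` is represented by `M` -/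
def Rep (g : ↥J1) (M : M7) : Prop := ((g : GL (Fin 7) (ZMod 11)) : Mat) = toM M

theorem Rep.mul {g h : ↥J1} {M N : M7} (hg : Rep g M) (hh : Rep h N) : Rep (g * h) (mulC M N) := by
  unfold Rep at *
  rw [Subgroup.coe_mul, Units.val_mul, hg, hh, toM_mulC]

theorem Rep.pow {g : ↥J1} {M : M7} (hg : Rep g M) (n : ℕ) : Rep (g ^ n) (powC M n) := by
  unfold Rep at *
  rw [SubgroupClass.coe_pow, Units.val_pow_eq_pow_val, hg, toM_powC]

theorem Rep.inv {g : ↥J1} {M : M7} (hg : Rep g M) : Rep g⁻¹ (transpC M) := by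
  unfold Rep at *
  rw [val_inv_J1, hg, toM_transpC]

theorem Rep.one : Rep 1 I7 := by
  unfold Rep
  simp [toM_I7]

theorem Rep.eG (w : List Nat) : Rep (eG w) (evalC w) := val_eG w

theorem Rep.eq_iff {g h : ↥J1} {M N : M7} (hg : Rep g M) (hh : Rep h N) :
    g = h ↔ normC M = normC N := by
  unfold Rep at *
  rw [← toM_eq_iff, ← hg, ← hh]
  constructor
  · intro e; rw [e]
  · intro e; exact Subtype.ext (Units.ext e)

theorem Rep.eq_one_iff {g : ↥J1} {M : M7} (hg : Rep g M) : g = 1 ↔ normC M = I7 :=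
  Rep.eq_iff hg Rep.one

/-! ### the elements -/

/-- the element of order 19 -/
def a' : ↥J1 := eG wA'
/-- the element of order 6 -/
def b' : ↥J1 := eG wB'
/-- the third generator -/
def s₀ : ↥J1 := eG wS

theorem rep_a' : Rep a' ApL := by rw [lits_eq.2.2.2.1]; exact Rep.eG _
theorem rep_b' : Rep b' BpL := by rw [lits_eq.2.2.2.2.1]; exact Rep.eG _
theorem rep_s₀ : Rep s₀ SL := by rw [lits_eq.2.2.2.2.2]; exact Rep.eG _
theorem rep_tG : Rep tG tGL := by rw [lits_eq.1]; exact Rep.eG _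
theorem rep_cX : Rep (eG wX3) cXL := by rw [lits_eq.2.1]; exact Rep.eG _
theorem rep_cY : Rep (eG wY5) cYL := by rw [lits_eq.2.2.1]; exact Rep.eG _

theorem a'_pow : a' ^ 19 = 1 := (Rep.eq_one_iff (rep_a'.pow 19)).2 (by decide +kernel)

theorem a'_ne : a' ≠ 1 := fun h => absurd ((Rep.eq_one_iff rep_a').1 h) (by decide +kernel)

theorem order_a' : orderOf a' = 19 := by
  have h := orderOf_dvd_of_pow_eq_one a'_pow
  rcases (Nat.dvd_prime (by norm_num : Nat.Prime 19)).1 h with h1 | h1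
  · exact absurd (orderOf_eq_one_iff.1 h1) a'_ne
  · exact h1

theorem rel_ba' : b' * a' * b'⁻¹ = a' ^ 8 :=
  (Rep.eq_iff ((rep_b'.mul rep_a').mul rep_b'.inv) (rep_a'.pow 8)).2 (by decide +kernel)

theorem b'_cube : b' ^ 3 = tG := (Rep.eq_iff (rep_b'.pow 3) rep_tG).2 (by decide +kernel)

theorem rel_s0 : s₀ * b' ^ 3 = b' ^ 3 * s₀ :=
  (Rep.eq_iff (rep_s₀.mul (rep_b'.pow 3)) ((rep_b'.pow 3).mul rep_s₀)).2 (by decide +kernel)

theorem rel_s1 : s₀ * s₀ = 1 := (Rep.eq_one_iff (rep_s₀.mul rep_s₀)).2 (by decide +kernel)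

theorem rel_s2 : s₀ * b' * s₀ = b'⁻¹ :=
  (Rep.eq_iff ((rep_s₀.mul rep_b').mul rep_s₀) rep_b'.inv).2 (by decide +kernel)

theorem rel_s3 : (a' ^ 2 * b' ^ 2 * s₀) ^ 5 = 1 :=
  (Rep.eq_one_iff ((((rep_a'.pow 2).mul (rep_b'.pow 2)).mul rep_s₀).pow 5)).2 (by decide +kernel)

theorem gen_x : eG [0] = b' * a' * s₀ * a'⁻¹ * s₀ * b' * a' * s₀ * a' * b' * a' :=
  (Rep.eq_iff (Rep.eG _) ((((((((((rep_b'.mul rep_a').mul rep_s₀).mul rep_a'.inv).mul rep_s₀).mul
    rep_b').mul rep_a').mul rep_s₀).mul rep_a').mul rep_b').mul rep_a')).2 (by decide +kernel)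

theorem gen_y : eG [1] = (a' * s₀) ^ 4 :=
  (Rep.eq_iff (Rep.eG _) ((rep_a'.mul rep_s₀).pow 4)).2 (by decide +kernel)

theorem eq_top_of_gens (N : Subgroup ↥J1) (hx : eG [0] ∈ N) (hy : eG [1] ∈ N) : N = ⊤ := by
  rw [eq_top_iff]
  have h := Subgroup.closure_closure_coe_preimage
    (k := ({jankoX, jankoY} : Set (GL (Fin 7) (ZMod 11))))
  change Subgroup.closure (((↑) : ↥J1 → GL (Fin 7) (ZMod 11)) ⁻¹' {jankoX, jankoY}) = ⊤ at h
  rw [← h, Subgroup.closure_le]
  rintro ⟨γ, hγ⟩ hmem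
  simp only [Set.mem_preimage, Set.mem_insert_iff, Set.mem_singleton_iff] at hmem
  rcases hmem with rfl | rfl
  · have : (⟨jankoX, hγ⟩ : ↥J1) = eG [0] := Subtype.ext (by simp [eG, evalG, letG])
    rw [SetLike.mem_coe, this]; exact hx
  · have : (⟨jankoY, hγ⟩ : ↥J1) = eG [1] := Subtype.ext (by simp [eG, evalG, letG])
    rw [SetLike.mem_coe, this]; exact hy

theorem gen_top (F : Subgroup ↥J1) (ha : a' ∈ F) (hb : b' ∈ F) (hs : s₀ ∈ F) : F = ⊤ := by
  apply eq_top_of_gens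
  · rw [gen_x]
    exact F.mul_mem (F.mul_mem (F.mul_mem (F.mul_mem (F.mul_mem (F.mul_mem (F.mul_mem (F.mul_mem
      (F.mul_mem (F.mul_mem hb ha) hs) (F.inv_mem ha)) hs) hb) ha) hs) ha) hb) ha
  · rw [gen_y]
    exact F.pow_mem (F.mul_mem ha hs) 4

/-! ### the normaliser of `⟨a'⟩` -/

theorem a'_eq : a' = MulAut.conj (eG wg0) (eG wA) := by
  rw [MulAut.conj_apply, ← eG_invW, ← eG_append, ← eG_append]; rfl

theorem b'_eq : b' = MulAut.conj (eG wg0) (eG wB) := by
  rw [MulAut.conj_apply, ← eG_invW, ← eG_append, ← eG_append]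
  exact (eG_eq_iff _ _).2 (by decide +kernel)

theorem norm_a' (γ : ↥J1)
    (hγ : γ ∈ Subgroup.normalizer (Subgroup.zpowers a' : Set ↥J1)) :
    ∃ i j : ℕ, j < 6 ∧ γ = a' ^ i * b' ^ j := by
  have h1 : Subgroup.zpowers a' = (Subgroup.zpowers (eG wA)).map
      (MulAut.conj (eG wg0)).toMonoidHom := by
    rw [MonoidHom.map_zpowers, a'_eq]; rfl
  rw [h1, ← Subgroup.map_equiv_normalizer_eq] at hγ
  obtain ⟨γ0, hγ0, rfl⟩ := hγ
  obtain ⟨i, j, hj, rfl⟩ := norm_a γ0 hγ0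
  refine ⟨i, j, hj, ?_⟩
  rw [a'_eq, b'_eq]
  show (MulAut.conj (eG wg0)) (eG wA ^ i * eG wB ^ j) = _
  rw [map_mul, map_pow, map_pow]

theorem index_a' : ¬ 19 ∣ (Subgroup.zpowers a').index := by
  have h := (Subgroup.zpowers a').index_mul_card
  rw [Nat.card_zpowers, order_a', card_J1] at h
  have : (Subgroup.zpowers a').index = 9240 := by omega
  rw [this]; norm_num

/-! ### the centraliser of the involution -/

theorem map_ev {H K : Type*} [Group H] [Group K] (f : H →* K) (X Y : H) (w : List (Fin 2)) :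
    f (A5Pres.ev X Y w) = A5Pres.ev (f X) (f Y) w := by
  induction w with
  | nil => simp [A5Pres.ev]
  | cons k w ih =>
    rw [A5Pres.ev, A5Pres.ev, map_mul, ih]
    congr 1
    fin_cases k <;> rfl

/-- every element of the centraliser of `tG` is `tG ^ ε * w(cX, cY)` -/
theorem cent_surj (g : ↥CT2) : ∃ ε : ℕ, ε < 2 ∧ ∃ i : Fin 60,
    g = cT ^ ε * A5Pres.ev cX cY (A5Pres.nfw i) := by
  classical
  let φ := a5Hom cX cY cX_pow cY_pow cXY_pow
  have φinj : Function.Injective φ := a5Hom_injective cX cY cX_pow cY_pow cXY_pow cX_ne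
  have hcardZ : Nat.card (Subgroup.zpowers cT) = 2 := by rw [Nat.card_zpowers, order_cT]
  let e2 : Multiplicative (ZMod 2) ≃* Subgroup.zpowers cT :=
    mulEquivOfCyclicCardEq (by rw [hcardZ]; simp)
  let f : Multiplicative (ZMod 2) →* ↥CT2 := (Subgroup.zpowers cT).subtype.comp e2.toMonoidHom
  have comm : ∀ (m : Multiplicative (ZMod 2)) (n : alternatingGroup (Fin 5)),
      Commute (f m) (φ n) := by
    intro m n
    have hm : f m ∈ Subgroup.zpowers cT := (e2 m).2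
    obtain ⟨k, hk⟩ := Subgroup.mem_zpowers_iff.1 hm
    rw [← hk]
    exact Commute.zpow_left (cT_comm (φ n)) k
  let ψ := MonoidHom.noncommCoprod f φ comm
  have ψinj : Function.Injective ψ := by
    rw [MonoidHom.noncommCoprod_injective]
    refine ⟨(Subgroup.subtype_injective _).comp e2.injective, φinj, ?_⟩
    rw [disjoint_iff, Subgroup.eq_bot_iff_forall]
    rintro z ⟨⟨m, rfl⟩, ⟨σ, hσ⟩⟩
    have hσc : σ ∈ Subgroup.center (alternatingGroup (Fin 5)) := by
      rw [Subgroup.mem_center_iff]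
      intro τ
      apply φinj
      rw [map_mul, map_mul, hσ]
      exact ((comm m τ).eq).symm
    rw [alternatingGroup.center_eq_bot (by simp), Subgroup.mem_bot] at hσc
    rw [← hσ, hσc, map_one]
  have hcardD : Nat.card (Multiplicative (ZMod 2) × alternatingGroup (Fin 5)) = 120 := by
    rw [Nat.card_prod, card_A5]; simp
  have ψbij : Function.Bijective ψ := by
    rw [Nat.bijective_iff_injective_and_card]
    refine ⟨ψinj, ?_⟩
    have h1 := Nat.card_le_card_of_injective ψ ψinj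
    have h2 : Nat.card ↥CT2 ≤ 120 := card_centralizer_le
    rw [hcardD] at h1 ⊢
    omega
  obtain ⟨⟨m, π⟩, hmπ⟩ := ψbij.2 g
  have hψ : ψ (m, π) = f m * φ π := MonoidHom.noncommCoprod_apply _ _ _ _
  have hm : f m ∈ Subgroup.zpowers cT := (e2 m).2
  obtain ⟨k, hk⟩ := Subgroup.mem_zpowers_iff.1 hm
  have hcT2 : cT ^ 2 = 1 := by rw [← order_cT]; exact pow_orderOf_eq_one _
  have hk' : cT ^ (k % 2).toNat = f m := by
    rw [← hk, ← zpow_natCast, Int.toNat_of_nonneg (Int.emod_nonneg _ (by norm_num))]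
    have : (2 : ℤ) = ((orderOf cT : ℕ) : ℤ) := by rw [order_cT]; rfl
    rw [this, zpow_mod_orderOf]
  obtain ⟨i, hi⟩ := A5Iso.exists_index (a5PresEquiv.symm π)
  have hφ : φ π = A5Pres.ev cX cY (A5Pres.nfw i) := by
    show (PresentedGroup.toGroup (a5_rels_hold cX cY cX_pow cY_pow cXY_pow))
      (a5PresEquiv.symm π) = _
    have hX : PresentedGroup.toGroup (a5_rels_hold cX cY cX_pow cY_pow cXY_pow) A5Iso.X = cX :=
      PresentedGroup.toGroup.of (a5_rels_hold cX cY cX_pow cY_pow cXY_pow) (x := 0)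
    have hY : PresentedGroup.toGroup (a5_rels_hold cX cY cX_pow cY_pow cXY_pow) A5Iso.Y = cY :=
      PresentedGroup.toGroup.of (a5_rels_hold cX cY cX_pow cY_pow cXY_pow) (x := 1)
    rw [hi, map_ev, hX, hY]
  refine ⟨(k % 2).toNat, ?_, i, ?_⟩
  · have := Int.emod_lt_of_pos k (by norm_num : (0 : ℤ) < 2)
    have h0 := Int.emod_nonneg k (by norm_num : (2 : ℤ) ≠ 0)
    omega
  · rw [hk', ← hφ, ← hψ, hmπ]

theorem rep_ev {x y : ↥J1} {Xm Ym : M7} (hx : Rep x Xm) (hy : Rep y Ym) (w : List (Fin 2)) :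
    Rep (A5Pres.ev x y w) (evM Xm Ym w) := by
  induction w with
  | nil => exact Rep.one
  | cons k w ih =>
    rw [A5Pres.ev, evM]
    apply Rep.mul _ ih
    fin_cases k
    · exact hx
    · exact hy

/-- the elements commuting with `tG` are represented by the candidates -/
theorem rep_cand (s' : ↥J1) (h : s' * tG = tG * s') :
    ∃ ε ∈ [0, 1], ∃ w ∈ nfwL, Rep s' (candM ε w) := by
  have hmem : s' ∈ CT2 := by
    rw [Subgroup.mem_centralizer_iff]
    intro x hx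
    rw [Set.mem_singleton_iff] at hx
    subst hx
    exact h.symm
  obtain ⟨ε, hε, i, hi⟩ := cent_surj ⟨s', hmem⟩
  have hval := congrArg (Subgroup.subtype CT2) hi
  rw [map_mul, map_pow, map_ev] at hval
  refine ⟨ε, ?_, A5Pres.nfw i, ?_, ?_⟩
  · interval_cases ε <;> simp
  · exact (List.mem_ofFn' _ _).2 ⟨i, rfl⟩
  · have e : s' = tG ^ ε * A5Pres.ev (eG wX3) (eG wY5) (A5Pres.nfw i) := hval
    rw [e]
    exact (rep_tG.pow ε).mul (rep_ev rep_cX rep_cY _)

/-! ### the finite check, in group form -/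

theorem fin_J1 (s' : ↥J1) (m : ℕ) (hm0 : 0 < m) (hm : m < 19) (h0 : s' * b' ^ 3 = b' ^ 3 * s')
    (r1 : s' * s' = 1) (r2 : s' * b' * s' = b'⁻¹) (r3 : (a' ^ (2 * m) * b' ^ 2 * s') ^ 5 = 1) :
    ∃ j : ℕ, a' ^ m = b' ^ j * a' * (b' ^ j)⁻¹ ∧ s' = b' ^ j * s₀ * (b' ^ j)⁻¹ := by
  rw [b'_cube] at h0
  obtain ⟨ε, hε, w, hw, hrep⟩ := rep_cand s' h0
  have hc := fin_check ε hε w hw
  have c1 : normC (mulC (candM ε w) (candM ε w)) = I7 :=
    (Rep.eq_one_iff (hrep.mul hrep)).1 r1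
  have c2 : normC (mulC (mulC (candM ε w) BpL) (candM ε w)) = normC (transpC BpL) :=
    (Rep.eq_iff ((hrep.mul rep_b').mul hrep) rep_b'.inv).1 r2
  have c3 : rel3 m (candM ε w) = true := by
    unfold rel3
    rw [beq_iff_eq]
    exact (Rep.eq_one_iff ((((rep_a'.pow (2 * m)).mul (rep_b'.pow 2)).mul hrep).pow 5)).1 r3
  unfold chkCand at hc
  rw [c1, c2] at hc
  simp only [beq_self_eq_true, Bool.and_self, Bool.not_true, Bool.false_or,
    List.all_eq_true, Bool.or_eq_true, Bool.not_eq_eq_eq_not] at hc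
  have hmem : m ∈ List.range' 1 18 := List.mem_range'_1.2 ⟨hm0, by omega⟩
  rcases hc m hmem with h | h
  · rw [c3] at h; exact absurd h (by simp)
  · unfold goodOK at h
    rw [List.any_eq_true] at h
    obtain ⟨j, _, hj⟩ := h
    rw [Bool.and_eq_true, beq_iff_eq, beq_iff_eq] at hj
    refine ⟨j, ?_, ?_⟩
    · have := OutAbs.conj_pow_eq rel_ba' j 1
      rw [pow_one, mul_one] at this
      rw [this, hj.1, ← order_a', pow_mod_orderOf]
    · exact (Rep.eq_iff hrep (((rep_b'.pow j).mul rep_s₀).mul (rep_b'.pow j).inv)).2 hj.2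

/-- every automorphism of `J₁` is inner -/
theorem inner_J1 (α : MulAut ↥J1) : ∃ g : ↥J1, α = MulAut.conj g :=
  OutAbs.inner_of_data a' b' s₀ order_a' index_a' rel_ba' norm_a' fin_J1 rel_s0 rel_s1 rel_s2
    rel_s3 gen_top α

/-- the outer automorphism group of `J₁` is trivial -/
theorem card_out_J1 : Nat.card (Cfsg.Out ↥J1) = 1 := by
  show (Cfsg.Inn ↥J1).index = 1
  rw [Subgroup.index_eq_one, eq_top_iff]
  intro α _
  obtain ⟨g, hg⟩ := inner_J1 α
  exact ⟨g, hg.symm⟩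

end Cfsg.Agent.Lib.Helper57.J1
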