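import Mathlib

set_option autoImplicit false

namespace Cfsg.Agent.Lib.Helper57

universe u v

theorem orderOf_eq_six {M : Type*} [Monoid M] (x : M) (h6 : x ^ 6 = 1) (h3 : x ^ 3 ≠ 1)
    (h2 : x ^ 2 ≠ 1) : orderOf x = 6 := by
  apply orderOf_eq_of_pow_and_pow_div_prime (by norm_num) h6
  intro p hp hpd
  have h23 : p = 2 ∨ p = 3 := by
    have : p ∣ 2 * 3 := hpd
    rcases (Nat.Prime.dvd_mul hp).1 this with h | h
    · left; exact (Nat.prime_dvd_prime_iff_eq hp Nat.prime_two).1 h
    · right; exact (Nat.prime_dvd_prime_iff_eq hp Nat.prime_three).1 h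
  rcases h23 with rfl | rfl
  · exact h3
  · exact h2

/-- Pairs `(x, g)` with `(x, g) * (y, h) = (x + ρ g * y, g * h)`: the split extension of the
additive group of a ring `E` by a group `G` acting through `ρ : G →* E`. -/
@[ext]
structure AffGrp {E : Type u} {G : Type v} [Ring E] [Group G] (ρ : G →* E) where
  x : E
  g : G

namespace AffGrp

variable {E : Type u} {G : Type v} [Ring E] [Group G] (ρ : G →* E)

instance : Mul (AffGrp ρ) := ⟨fun a b => ⟨a.x + ρ a.g * b.x, a.g * b.g⟩⟩
instance : One (AffGrp ρ) := ⟨⟨0, 1⟩⟩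
instance : Inv (AffGrp ρ) := ⟨fun a => ⟨-(ρ a.g⁻¹ * a.x), a.g⁻¹⟩⟩

@[simp] theorem mul_x (a b : AffGrp ρ) : (a * b).x = a.x + ρ a.g * b.x := rfl
@[simp] theorem mul_g (a b : AffGrp ρ) : (a * b).g = a.g * b.g := rfl
@[simp] theorem one_x : (1 : AffGrp ρ).x = 0 := rfl
@[simp] theorem one_g : (1 : AffGrp ρ).g = 1 := rfl
@[simp] theorem inv_x (a : AffGrp ρ) : (a⁻¹).x = -(ρ a.g⁻¹ * a.x) := rfl
@[simp] theorem inv_g (a : AffGrp ρ) : (a⁻¹).g = a.g⁻¹ := rfl

instance : Group (AffGrp ρ) :=
  Group.ofLeftAxioms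
    (by
      intro a b c
      ext
      · simp only [mul_x, mul_g, map_mul, mul_add, mul_assoc, add_assoc]
      · simp only [mul_g, mul_assoc])
    (by
      intro a
      ext
      · simp
      · simp)
    (by
      intro a
      ext
      · simp
      · simp)

theorem pow_g (a : AffGrp ρ) (n : ℕ) : (a ^ n).g = a.g ^ n := by
  induction n with
  | zero => simp
  | succ n ih => rw [pow_succ, pow_succ, mul_g, ih]

theorem pow_x (a : AffGrp ρ) (n : ℕ) :
    (a ^ n).x = (∑ i ∈ Finset.range n, ρ a.g ^ i) * a.x := by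
  induction n with
  | zero => simp
  | succ n ih =>
    rw [pow_succ, mul_x, ih, pow_g, map_pow, Finset.sum_range_succ, add_mul]

theorem eq_one_iff (a : AffGrp ρ) : a = 1 ↔ a.x = 0 ∧ a.g = 1 := by
  constructor
  · rintro rfl
    exact ⟨rfl, rfl⟩
  · rintro ⟨h1, h2⟩
    ext
    · exact h1
    · exact h2

/-- elements with nontrivial group part acting freely have the order of their group part -/
theorem orderOf_eq_of_free (a : AffGrp ρ) (hfree : ∀ y : E, (1 - ρ a.g) * y = 0 → y = 0) :
    orderOf a = orderOf a.g := by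
  rw [orderOf_eq_orderOf_iff]
  intro n
  constructor
  · intro h
    rw [← pow_g, h]
    rfl
  · intro h
    rw [eq_one_iff, pow_g, pow_x]
    refine ⟨?_, h⟩
    apply hfree
    rw [← mul_assoc, mul_neg_geom_sum, ← map_pow, h, map_one, sub_self, zero_mul]

theorem orderOf_mk_zero (g : G) : orderOf (⟨0, g⟩ : AffGrp ρ) = orderOf g := by
  rw [orderOf_eq_orderOf_iff]
  intro n
  rw [eq_one_iff, pow_g, pow_x]
  simp

theorem orderOf_translation (p : ℕ) [hp : Fact p.Prime] (hp0 : (p : E) = 0) (y : E) (hy : y ≠ 0) :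
    orderOf (⟨y, 1⟩ : AffGrp ρ) = p := by
  apply orderOf_eq_prime
  · rw [eq_one_iff, pow_g, pow_x]
    refine ⟨?_, one_pow p⟩
    simp only [map_one, one_pow, Finset.sum_const, Finset.card_range, nsmul_eq_mul, mul_one]
    rw [hp0, zero_mul]
  · intro h
    rw [eq_one_iff] at h
    exact hy h.1

/-- The spectrum of `E ⋊ G` for a fixed-point-free action in characteristic `p`. -/
theorem range_orderOf (p : ℕ) [hp : Fact p.Prime] (hp0 : (p : E) = 0) [Nontrivial E]
    (hfree : ∀ g : G, g ≠ 1 → ∀ y : E, (1 - ρ g) * y = 0 → y = 0) :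
    Set.range (orderOf : AffGrp ρ → ℕ) = Set.range (orderOf : G → ℕ) ∪ {p} := by
  ext n
  constructor
  · rintro ⟨a, rfl⟩
    by_cases hg : a.g = 1
    · by_cases hx : a.x = 0
      · left
        refine ⟨1, ?_⟩
        have : a = 1 := (eq_one_iff ρ a).2 ⟨hx, hg⟩
        rw [this, orderOf_one, orderOf_one]
      · right
        have : a = ⟨a.x, 1⟩ := by
          ext
          · rfl
          · exact hg
        rw [this, orderOf_translation ρ p hp0 a.x hx]
        rfl
    · left
      exact ⟨a.g, (orderOf_eq_of_free ρ a (hfree a.g hg)).symm⟩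
  · rintro (⟨g, rfl⟩ | h)
    · exact ⟨⟨0, g⟩, orderOf_mk_zero ρ g⟩
    · rw [Set.mem_singleton_iff] at h
      subst h
      exact ⟨⟨1, 1⟩, orderOf_translation ρ n hp0 1 one_ne_zero⟩

/-- projection onto the group part -/
def proj : AffGrp ρ →* G where
  toFun a := a.g
  map_one' := rfl
  map_mul' _ _ := rfl

/-- inclusion of the translations -/
def transl : Multiplicative E →* AffGrp ρ where
  toFun y := ⟨Multiplicative.toAdd y, 1⟩
  map_one' := rfl
  map_mul' a b := by
    ext
    · simp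
    · simp

theorem isSolvable [hG : Group.IsSolvable G] : Group.IsSolvable (AffGrp ρ) := by
  apply Group.isSolvable_of_ker_le_range (transl ρ) (proj ρ)
  intro a ha
  rw [MonoidHom.mem_ker] at ha
  refine ⟨Multiplicative.ofAdd a.x, ?_⟩
  ext
  · rfl
  · exact ha.symm

/-- the underlying equivalence with the product -/
def equivProd : AffGrp ρ ≃ E × G where
  toFun a := (a.x, a.g)
  invFun b := ⟨b.1, b.2⟩
  left_inv _ := rfl
  right_inv _ := rfl

instance [Finite E] [Finite G] : Finite (AffGrp ρ) := Finite.of_equiv _ (equivProd ρ).symm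

end AffGrp

end Cfsg.Agent.Lib.Helper57
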