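import Mathlib

set_option autoImplicit false

/-!
Recognising a two-generator subgroup `⟨a, b⟩ ≤ G` from a labelling of (part of) a free orbit by
`Fin n` on which `a` and `b` act through two explicit permutations of `Fin n`
("matching Cayley graphs").
-/

namespace Cfsg.Agent.Lib.Helper57.CayMatch

open Subgroup

/-- the homomorphism from the free group on two letters -/
noncomputable def lift2 {Γ : Type*} [Group Γ] (a b : Γ) : FreeGroup (Fin 2) →* Γ :=
  FreeGroup.lift ![a, b]

theorem lift2_zero {Γ : Type*} [Group Γ] (a b : Γ) : lift2 a b (FreeGroup.of 0) = a := by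
  simp [lift2]

theorem lift2_one {Γ : Type*} [Group Γ] (a b : Γ) : lift2 a b (FreeGroup.of 1) = b := by
  simp [lift2]

theorem range_lift2 {Γ : Type*} [Group Γ] (a b : Γ) :
    (lift2 a b).range = closure {a, b} := by
  unfold lift2
  rw [FreeGroup.range_lift_eq_closure]
  congr 1
  ext x
  simp only [Set.mem_range, Set.mem_insert_iff, Set.mem_singleton_iff]
  constructor
  · rintro ⟨i, rfl⟩
    fin_cases i <;> simp
  · rintro (rfl | rfl)
    · exact ⟨0, rfl⟩
    · exact ⟨1, rfl⟩

theorem lift2_smul {G X : Type*} [Group G] [MulAction G X] {n : ℕ}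
    (a b : G) (πa πb : Equiv.Perm (Fin n)) (β : Fin n → X)
    (ha : ∀ s, a • β s = β (πa s)) (hb : ∀ s, b • β s = β (πb s))
    (w : FreeGroup (Fin 2)) : ∀ s, lift2 a b w • β s = β (lift2 πa πb w s) := by
  induction w using FreeGroup.induction_on with
  | C1 => intro s; simp
  | of i =>
    intro s
    fin_cases i
    · show lift2 a b (FreeGroup.of 0) • β s = β (lift2 πa πb (FreeGroup.of 0) s)
      rw [lift2_zero, lift2_zero]; exact ha s
    · show lift2 a b (FreeGroup.of 1) • β s = β (lift2 πa πb (FreeGroup.of 1) s)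
      rw [lift2_one, lift2_one]; exact hb s
  | inv_of i ih =>
    intro s
    rw [map_inv, map_inv]
    have h := ih ((lift2 πa πb (FreeGroup.of i))⁻¹ s)
    have h' : (lift2 πa πb (FreeGroup.of i)) ((lift2 πa πb (FreeGroup.of i))⁻¹ s) = s :=
      (Equiv.eq_symm_apply _).mp rfl
    rw [h'] at h
    rw [← h, inv_smul_smul]
  | mul x y ihx ihy =>
    intro s
    rw [map_mul, map_mul, mul_smul, ihy s, ihx, Equiv.Perm.mul_apply]

/-- the data on the side of the group in which `⟨a, b⟩` lives -/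
structure KSide {G X : Type*} [Group G] [MulAction G X] {n : ℕ} [NeZero n]
    (a b : G) (πa πb : Equiv.Perm (Fin n)) (β : Fin n → X) : Prop where
  ha : ∀ s, a • β s = β (πa s)
  hb : ∀ s, b • β s = β (πb s)
  hfree : ∀ k : G, k ∈ closure {a, b} → k • β 0 = β 0 → k = 1
  hinj : ∀ s, β s = β 0 → s = 0
  hconn : ∀ s : Fin n, ∃ w : FreeGroup (Fin 2), lift2 πa πb w 0 = s

section KS

variable {G X : Type*} [Group G] [MulAction G X] {n : ℕ} [NeZero n]
  {a b : G} {πa πb : Equiv.Perm (Fin n)} {β : Fin n → X}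

theorem KSide.ker_iff (h : KSide a b πa πb β) (w : FreeGroup (Fin 2)) :
    lift2 a b w = 1 ↔ lift2 πa πb w 0 = 0 := by
  have h1 := lift2_smul a b πa πb β h.ha h.hb w 0
  constructor
  · intro hw
    apply h.hinj
    rw [← h1, hw, one_smul]
  · intro hw
    apply h.hfree
    · rw [← range_lift2]; exact ⟨w, rfl⟩
    · rw [h1, hw]

theorem KSide.ker_imp (h : KSide a b πa πb β) (w : FreeGroup (Fin 2)) (hw : lift2 a b w = 1) :
    lift2 πa πb w = 1 := by
  ext s
  obtain ⟨v, hv⟩ := h.hconn s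
  have h2 : lift2 a b (v⁻¹ * w * v) = 1 := by
    rw [map_mul, map_mul, hw, map_inv]; group
  have h3 := (h.ker_iff _).1 h2
  rw [map_mul, map_mul, map_inv, Equiv.Perm.mul_apply, Equiv.Perm.mul_apply, hv,
    Equiv.Perm.inv_eq_iff_eq, hv] at h3
  rw [h3]; rfl

theorem KSide.card (h : KSide a b πa πb β) : Nat.card ↥(closure {a, b}) = n := by
  classical
  choose ws hws using h.hconn
  let f : Fin n → (lift2 a b).range := fun s => (lift2 a b).rangeRestrict (ws s)
  have hinj : Function.Injective f := by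
    intro s t hst
    have h1 : lift2 a b (ws s) = lift2 a b (ws t) := congrArg Subtype.val hst
    have h2 : lift2 a b ((ws t)⁻¹ * ws s) = 1 := by rw [map_mul, map_inv, h1, inv_mul_cancel]
    have h3 := (h.ker_iff _).1 h2
    rw [map_mul, map_inv, Equiv.Perm.mul_apply, hws s, Equiv.Perm.inv_eq_iff_eq, hws t] at h3
    exact h3
  have hsurj : Function.Surjective f := by
    rintro ⟨k, w, rfl⟩
    refine ⟨lift2 πa πb w 0, ?_⟩
    apply Subtype.ext
    show lift2 a b (ws (lift2 πa πb w 0)) = lift2 a b w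
    have h2 : lift2 a b ((ws (lift2 πa πb w 0))⁻¹ * w) = 1 := by
      rw [h.ker_iff, map_mul, map_inv, Equiv.Perm.mul_apply, Equiv.Perm.inv_eq_iff_eq, hws]
    rw [map_mul, map_inv, inv_mul_eq_one] at h2
    exact h2
  have e : Fin n ≃ (lift2 a b).range := Equiv.ofBijective f ⟨hinj, hsurj⟩
  rw [← range_lift2, ← Nat.card_congr e, Nat.card_eq_fintype_card, Fintype.card_fin]

variable {M Y : Type*} [Group M] [MulAction M Y]

theorem KSide.ker_le (h : KSide a b πa πb β) (u v : M) (βM : Fin n → Y)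
    (hMa : ∀ s, u • βM s = βM (πa s)) (hMb : ∀ s, v • βM s = βM (πb s))
    (hinjM : ∀ s, βM s = βM 0 → s = 0) : (lift2 u v).ker ≤ (lift2 a b).ker := by
  intro w hw
  rw [MonoidHom.mem_ker] at hw ⊢
  rw [h.ker_iff]
  have h1 := lift2_smul u v πa πb βM hMa hMb w 0
  apply hinjM
  rw [← h1, hw, one_smul]

/-- matching with a group of the right order -/
theorem KSide.nonempty_mulEquiv_of_card (h : KSide a b πa πb β) [Finite M] (u v : M)
    (βM : Fin n → Y)
    (hMa : ∀ s, u • βM s = βM (πa s)) (hMb : ∀ s, v • βM s = βM (πb s))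
    (hinjM : ∀ s, βM s = βM 0 → s = 0) (hcard : Nat.card M = n) :
    Nonempty (↥(closure {a, b}) ≃* M) := by
  classical
  set fK := lift2 a b with hfK
  set fM := lift2 u v with hfM
  have hle : fM.ker ≤ fK.ker := h.ker_le u v βM hMa hMb hinjM
  have hcK : Nat.card fK.range = n := by rw [range_lift2]; exact h.card
  let q : FreeGroup (Fin 2) ⧸ fM.ker →* FreeGroup (Fin 2) ⧸ fK.ker :=
    QuotientGroup.map _ _ (MonoidHom.id _) (by simpa using hle)
  have hq : Function.Surjective q := by
    intro x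
    induction x using QuotientGroup.induction_on with
    | H w => exact ⟨(w : FreeGroup (Fin 2) ⧸ fM.ker), rfl⟩
  let eK : FreeGroup (Fin 2) ⧸ fK.ker ≃* fK.range := QuotientGroup.quotientKerEquivRange fK
  let eM : FreeGroup (Fin 2) ⧸ fM.ker ≃* fM.range := QuotientGroup.quotientKerEquivRange fM
  have : Finite (FreeGroup (Fin 2) ⧸ fM.ker) := Finite.of_equiv _ eM.symm.toEquiv
  have : Finite (FreeGroup (Fin 2) ⧸ fK.ker) := Finite.of_surjective q hq
  have c1 : Nat.card (FreeGroup (Fin 2) ⧸ fK.ker) ≤ Nat.card (FreeGroup (Fin 2) ⧸ fM.ker) :=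
    Nat.card_le_card_of_surjective q hq
  have c2 : Nat.card (FreeGroup (Fin 2) ⧸ fK.ker) = Nat.card fK.range := Nat.card_congr eK.toEquiv
  have c3 : Nat.card (FreeGroup (Fin 2) ⧸ fM.ker) = Nat.card fM.range := Nat.card_congr eM.toEquiv
  have c4 : Nat.card fM.range ≤ Nat.card M := Subgroup.card_le_card_group _
  have c5 : Nat.card (FreeGroup (Fin 2) ⧸ fM.ker) = Nat.card (FreeGroup (Fin 2) ⧸ fK.ker) := by
    omega
  have hqb : Function.Bijective q := by
    refine ⟨?_, hq⟩
    exact ((Nat.bijective_iff_surjective_and_card q).2 ⟨hq, c5⟩).1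
  have htop : fM.range = ⊤ := by
    apply Subgroup.eq_top_of_card_eq
    omega
  let e1 : FreeGroup (Fin 2) ⧸ fM.ker ≃* FreeGroup (Fin 2) ⧸ fK.ker := MulEquiv.ofBijective q hqb
  let e2 : fM.range ≃* M := (MulEquiv.subgroupCongr htop).trans Subgroup.topEquiv
  have e3 : fK.range ≃* ↥(closure {a, b}) := MulEquiv.subgroupCongr (range_lift2 a b)
  exact ⟨e3.symm.trans (eK.symm.trans (e1.symm.trans (eM.trans e2)))⟩

/-- matching with a two-generator subgroup on which the labels are jointly faithful -/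
theorem KSide.nonempty_mulEquiv_closure (h : KSide a b πa πb β) (u v : M)
    (βM : Fin n → Y)
    (hMa : ∀ s, u • βM s = βM (πa s)) (hMb : ∀ s, v • βM s = βM (πb s))
    (hinjM : ∀ s, βM s = βM 0 → s = 0)
    (hfaith : ∀ g : M, (∀ s, g • βM s = βM s) → g = 1) :
    Nonempty (↥(closure {a, b}) ≃* ↥(closure {u, v})) := by
  set fK := lift2 a b with hfK
  set fM := lift2 u v with hfM
  have hle : fM.ker ≤ fK.ker := h.ker_le u v βM hMa hMb hinjM
  have hge : fK.ker ≤ fM.ker := by
    intro w hw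
    rw [MonoidHom.mem_ker] at hw ⊢
    have h1 := h.ker_imp w hw
    apply hfaith
    intro s
    rw [lift2_smul u v πa πb βM hMa hMb w s, h1]
    rfl
  have heq : fK.ker = fM.ker := le_antisymm hge hle
  let eK : FreeGroup (Fin 2) ⧸ fK.ker ≃* fK.range := QuotientGroup.quotientKerEquivRange fK
  let eM : FreeGroup (Fin 2) ⧸ fM.ker ≃* fM.range := QuotientGroup.quotientKerEquivRange fM
  let e1 : FreeGroup (Fin 2) ⧸ fK.ker ≃* FreeGroup (Fin 2) ⧸ fM.ker :=
    QuotientGroup.quotientMulEquivOfEq heq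
  have e3 : fK.range ≃* ↥(closure {a, b}) := MulEquiv.subgroupCongr (range_lift2 a b)
  have e4 : fM.range ≃* ↥(closure {u, v}) := MulEquiv.subgroupCongr (range_lift2 u v)
  exact ⟨e3.symm.trans (eK.symm.trans (e1.trans (eM.trans e4)))⟩

end KS

/-- connectivity from parents -/
theorem conn_of_parent {n : ℕ} [NeZero n] (πa πb : Equiv.Perm (Fin n)) (par : Fin n → Fin n)
    (hpar : ∀ s : Fin n, s ≠ 0 → par s < s ∧ (πa (par s) = s ∨ πb (par s) = s)) :
    ∀ s : Fin n, ∃ w : FreeGroup (Fin 2), lift2 πa πb w 0 = s := by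
  have key : ∀ m : ℕ, ∀ s : Fin n, s.val = m → ∃ w : FreeGroup (Fin 2), lift2 πa πb w 0 = s := by
    intro m
    induction m using Nat.strong_induction_on with
    | _ m ih =>
      intro s hs
      by_cases h0 : s = 0
      · exact ⟨1, by rw [h0]; simp⟩
      · obtain ⟨hlt, hor⟩ := hpar s h0
        obtain ⟨w, hw⟩ := ih (par s).val (by rw [← hs]; exact hlt) (par s) rfl
        rcases hor with h | h
        · refine ⟨FreeGroup.of 0 * w, ?_⟩
          rw [map_mul, Equiv.Perm.mul_apply, hw, lift2_zero, h]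
        · refine ⟨FreeGroup.of 1 * w, ?_⟩
          rw [map_mul, Equiv.Perm.mul_apply, hw, lift2_one, h]
  intro s
  exact key s.val s rfl

end Cfsg.Agent.Lib.Helper57.CayMatch
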