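import Cfsg.Agent.Lib.Helper57.CayMatch

set_option autoImplicit false

/-!
Interfaces for `CayMatch` with tables given as functions on `ℕ`, and the permutation group
attached to a subgroup of finite index in a simple group.
-/

namespace Cfsg.Agent.Lib.Helper57.CayMatch

open Subgroup MulAction

/-- a permutation of `Fin n` from two mutually inverse functions on `ℕ` -/
def mkPerm (n : ℕ) (p q : ℕ → ℕ)
    (h : ∀ s, s < n → p s < n ∧ q s < n ∧ q (p s) = s ∧ p (q s) = s) : Equiv.Perm (Fin n) where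
  toFun s := ⟨p s.val, (h s.val s.isLt).1⟩
  invFun s := ⟨q s.val, (h s.val s.isLt).2.1⟩
  left_inv s := Fin.ext (h s.val s.isLt).2.2.1
  right_inv s := Fin.ext (h s.val s.isLt).2.2.2

theorem mkPerm_val (n : ℕ) (p q : ℕ → ℕ)
    (h : ∀ s, s < n → p s < n ∧ q s < n ∧ q (p s) = s ∧ p (q s) = s) (s : Fin n) :
    (mkPerm n p q h s).val = p s.val := rfl

theorem kside_of_nat {G X : Type*} [Group G] [MulAction G X] (n : ℕ) [NeZero n] (a b : G)
    (pa qa pb qb : ℕ → ℕ)
    (hpa : ∀ s, s < n → pa s < n ∧ qa s < n ∧ qa (pa s) = s ∧ pa (qa s) = s)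
    (hpb : ∀ s, s < n → pb s < n ∧ qb s < n ∧ qb (pb s) = s ∧ pb (qb s) = s)
    (β : ℕ → X)
    (ha : ∀ s, s < n → a • β s = β (pa s)) (hb : ∀ s, s < n → b • β s = β (pb s))
    (hfree : ∀ k : G, k ∈ closure {a, b} → k • β 0 = β 0 → k = 1)
    (hinj : ∀ s, s < n → β s = β 0 → s = 0)
    (hpar : ∀ s, s < n → s ≠ 0 → qa s < s ∨ qb s < s) :
    KSide a b (mkPerm n pa qa hpa) (mkPerm n pb qb hpb) (fun s : Fin n => β s.val) := by
  have h0 : ((0 : Fin n) : ℕ) = 0 := Fin.val_zero n
  refine ⟨?_, ?_, ?_, ?_, ?_⟩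
  · intro s; exact ha s.val s.isLt
  · intro s; exact hb s.val s.isLt
  · intro k hk h
    rw [h0] at h
    exact hfree k hk h
  · intro s h
    rw [h0] at h
    exact Fin.ext (by rw [h0]; exact hinj s.val s.isLt h)
  · classical
    apply conn_of_parent _ _
      (fun s : Fin n => if qa s.val < s.val then (⟨qa s.val, (hpa s.val s.isLt).2.1⟩ : Fin n)
        else ⟨qb s.val, (hpb s.val s.isLt).2.1⟩)
    intro s hs
    have hs' : s.val ≠ 0 := fun h => hs (Fin.ext (by rw [h0]; exact h))
    by_cases hq : qa s.val < s.val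
    · rw [if_pos hq]
      refine ⟨hq, Or.inl ?_⟩
      exact Fin.ext (hpa s.val s.isLt).2.2.2
    · rw [if_neg hq]
      have h2 := (hpar s.val s.isLt hs').resolve_left hq
      refine ⟨h2, Or.inr ?_⟩
      exact Fin.ext (hpb s.val s.isLt).2.2.2

/-- the permutation group of a simple group on the cosets of a proper subgroup of index `m` -/
theorem exists_perm_group {G : Type*} [Group G] [Finite G] [IsSimpleGroup G] (Hs : Subgroup G)
    {m : ℕ} [NeZero m] (hm : Hs.index = m) (h2 : 2 ≤ m) :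
    ∃ (H : Subgroup (Equiv.Perm (Fin m))) (_ : G ≃* H), IsPretransitive H (Fin m) ∧
      m * Nat.card (stabilizer H (0 : Fin m)) = Nat.card G := by
  classical
  have hfi : Hs.FiniteIndex := ⟨by rw [hm]; exact NeZero.ne m⟩
  have hcard : Nat.card (G ⧸ Hs) = m := by rw [← hm]; rfl
  have : Finite (G ⧸ Hs) := Nat.finite_of_card_ne_zero (by rw [hcard]; exact NeZero.ne m)
  let ε : (G ⧸ Hs) ≃ Fin m := Finite.equivFinOfCardEq hcard
  let ρ : G →* Equiv.Perm (Fin m) :=
    (ε.permCongrHom.toMonoidHom).comp (MulAction.toPermHom G (G ⧸ Hs))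
  have hρ : ∀ g x, ρ g x = ε (g • ε.symm x) := fun g x => rfl
  have hker : ρ.ker = ⊥ := by
    rcases (ρ.normal_ker).eq_bot_or_eq_top with h | h
    · exact h
    · exfalso
      -- all of `G` fixes the base coset, so `Hs = ⊤`
      have htop : Hs = ⊤ := by
        rw [eq_top_iff]
        intro g _
        have hg : g ∈ ρ.ker := by rw [h]; trivial
        rw [MonoidHom.mem_ker] at hg
        have h1 := congrArg (fun σ => σ (ε ((1 : G) : G ⧸ Hs))) hg
        simp only [hρ, Equiv.symm_apply_apply, Equiv.Perm.one_apply] at h1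
        have h3 := ε.injective h1
        have h4 : g • ((1 : G) : G ⧸ Hs) = ((g * 1 : G) : G ⧸ Hs) := rfl
        rw [h4, mul_one] at h3
        have := (QuotientGroup.eq (s := Hs) (a := g) (b := 1)).1 h3
        simpa using this
      rw [htop, Subgroup.index_top] at hm
      omega
  have hinj : Function.Injective ρ := (MonoidHom.ker_eq_bot_iff ρ).1 hker
  let e : G ≃* ρ.range := MonoidHom.ofInjective hinj
  have htr : IsPretransitive ρ.range (Fin m) := by
    refine ⟨fun x y => ?_⟩
    obtain ⟨g, hg⟩ := MulAction.exists_smul_eq G (ε.symm x) (ε.symm y)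
    refine ⟨⟨ρ g, g, rfl⟩, ?_⟩
    show ρ g x = y
    rw [hρ, hg, Equiv.apply_symm_apply]
  refine ⟨ρ.range, e, htr, ?_⟩
  have h1 := @MulAction.index_stabilizer_of_transitive ρ.range (Fin m) _ _ (0 : Fin m) htr
  have h3 := Subgroup.card_mul_index (stabilizer ρ.range (0 : Fin m))
  rw [h1, Nat.card_eq_fintype_card (α := Fin m), Fintype.card_fin] at h3
  rw [mul_comm, h3]
  exact (Nat.card_congr e.toEquiv).symm

end Cfsg.Agent.Lib.Helper57.CayMatch
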