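import Cfsg.Agent.Lib.Helper57.CayNat

set_option autoImplicit false

/-!
The permutation group of a simple group on the cosets of a proper subgroup `Hs` of index `m`,
numbered so that the point `0` is the coset `Hs`: the stabiliser of `0` is a copy of `Hs`.
-/

namespace Cfsg.Agent.Lib.Helper57.CayMatch

open Subgroup MulAction

theorem exists_perm_group_stab {G : Type*} [Group G] [Finite G] [IsSimpleGroup G] (Hs : Subgroup G)
    {m : ℕ} [NeZero m] (hm : Hs.index = m) (h2 : 2 ≤ m) :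
    ∃ (H : Subgroup (Equiv.Perm (Fin m))) (_ : G ≃* H), IsPretransitive H (Fin m) ∧
      Nonempty (↥Hs ≃* ↥(stabilizer H (0 : Fin m))) := by
  classical
  have hfi : Hs.FiniteIndex := ⟨by rw [hm]; exact NeZero.ne m⟩
  have hcard : Nat.card (G ⧸ Hs) = m := by rw [← hm]; rfl
  have : Finite (G ⧸ Hs) := Nat.finite_of_card_ne_zero (by rw [hcard]; exact NeZero.ne m)
  let ε0 : (G ⧸ Hs) ≃ Fin m := Finite.equivFinOfCardEq hcard
  let ε : (G ⧸ Hs) ≃ Fin m := ε0.trans (Equiv.swap (ε0 ((1 : G) : G ⧸ Hs)) 0)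
  have hε1 : ε ((1 : G) : G ⧸ Hs) = 0 := by
    show Equiv.swap (ε0 ((1 : G) : G ⧸ Hs)) 0 (ε0 ((1 : G) : G ⧸ Hs)) = 0
    exact Equiv.swap_apply_left _ _
  let ρ : G →* Equiv.Perm (Fin m) :=
    (ε.permCongrHom.toMonoidHom).comp (MulAction.toPermHom G (G ⧸ Hs))
  have hρ : ∀ g x, ρ g x = ε (g • ε.symm x) := fun g x => rfl
  have hfix : ∀ g : G, ρ g 0 = 0 ↔ g ∈ Hs := by
    intro g
    rw [hρ, ← hε1, Equiv.symm_apply_apply]
    have h4 : g • ((1 : G) : G ⧸ Hs) = ((g * 1 : G) : G ⧸ Hs) := rfl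
    rw [h4, mul_one, ε.apply_eq_iff_eq]
    constructor
    · intro h
      have := (QuotientGroup.eq (s := Hs) (a := g) (b := 1)).1 h
      simpa using this
    · intro h
      apply (QuotientGroup.eq (s := Hs) (a := g) (b := 1)).2
      simpa using h
  have hker : ρ.ker = ⊥ := by
    rcases (ρ.normal_ker).eq_bot_or_eq_top with h | h
    · exact h
    · exfalso
      have htop : Hs = ⊤ := by
        rw [eq_top_iff]
        intro g _
        have hg : g ∈ ρ.ker := by rw [h]; trivial
        rw [MonoidHom.mem_ker] at hg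
        rw [← hfix, hg]
        rfl
      rw [htop, Subgroup.index_top] at hm
      omega
  have hinj : Function.Injective ρ := (MonoidHom.ker_eq_bot_iff ρ).1 hker
  let e : G ≃* ρ.range := MonoidHom.ofInjective hinj
  have he : ∀ g : G, ((e g : ρ.range) : Equiv.Perm (Fin m)) = ρ g := fun g => rfl
  have htr : IsPretransitive ρ.range (Fin m) := by
    refine ⟨fun x y => ?_⟩
    obtain ⟨g, hg⟩ := MulAction.exists_smul_eq G (ε.symm x) (ε.symm y)
    refine ⟨⟨ρ g, g, rfl⟩, ?_⟩
    show ρ g x = y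
    rw [hρ, hg, Equiv.apply_symm_apply]
  refine ⟨ρ.range, e, htr, ?_⟩
  -- the stabiliser of `0`
  let ψ : ↥Hs →* ↥(stabilizer ρ.range (0 : Fin m)) :=
    { toFun := fun g => ⟨e g.1, by
        rw [mem_stabilizer_iff]
        show ((e g.1 : ρ.range) : Equiv.Perm (Fin m)) 0 = 0
        rw [he, hfix]
        exact g.2⟩
      map_one' := by
        apply Subtype.ext
        show e ((1 : ↥Hs) : G) = 1
        rw [Subgroup.coe_one, map_one]
      map_mul' := by
        intro x y
        apply Subtype.ext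
        show e ((x * y : ↥Hs) : G) = e x.1 * e y.1
        rw [Subgroup.coe_mul, map_mul] }
  have hψi : Function.Injective ψ := by
    intro x y hxy
    have h1 : e x.1 = e y.1 := congrArg Subtype.val hxy
    exact Subtype.ext (e.injective h1)
  have hψs : Function.Surjective ψ := by
    rintro ⟨p, hp⟩
    obtain ⟨g, rfl⟩ := e.surjective p
    rw [mem_stabilizer_iff] at hp
    have hp' : ((e g : ρ.range) : Equiv.Perm (Fin m)) 0 = 0 := hp
    rw [he, hfix] at hp'
    exact ⟨⟨g, hp'⟩, rfl⟩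
  exact ⟨MulEquiv.ofBijective ψ ⟨hψi, hψs⟩⟩

end Cfsg.Agent.Lib.Helper57.CayMatch
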