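import Mathlib

/-!
# Abstract lemmas on centralisers of elements of prime order

Used for the set of element orders of `J₁`.
-/

set_option autoImplicit false

namespace Cfsg.Agent.Lib.Helper57.CentAbs

section Meta

variable {G : Type*} [Group G]

theorem conj_pow_iter {x n : G} {r : ℕ} (hrel : n * x * n⁻¹ = x ^ r) (j : ℕ) :
    n ^ j * x * (n ^ j)⁻¹ = x ^ (r ^ j) := by
  induction j with
  | zero => simp
  | succ j ih =>
    have h1 : n ^ (j + 1) * x * (n ^ (j + 1))⁻¹ = n * (n ^ j * x * (n ^ j)⁻¹) * n⁻¹ := by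
      rw [pow_succ']; group
    have h2 : n * x ^ (r ^ j) * n⁻¹ = (n * x * n⁻¹) ^ (r ^ j) := by
      rw [conj_pow]
    rw [h1, ih, h2, hrel, ← pow_mul, pow_succ, mul_comm]

/-- if `n ^ j` commutes with `x` then `j = 0` (for `j` smaller than the order of `r`) -/
theorem eq_zero_of_commute {x n : G} {q m r : ℕ} (hq : orderOf x = q)
    (hrel : n * x * n⁻¹ = x ^ r) (hr0 : 0 < r)
    (hr : ∀ j, 0 < j → j < m → ¬ q ∣ r ^ j - 1) {j : ℕ} (hj : j < m)
    (hc : n ^ j * x = x * n ^ j) : j = 0 := by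
  by_contra hj0
  have h1 := conj_pow_iter hrel j
  have h2 : n ^ j * x * (n ^ j)⁻¹ = x := by rw [hc]; group
  rw [h2] at h1
  have h3 : x ^ 1 = x ^ (r ^ j) := by rw [pow_one]; exact h1
  rw [pow_eq_pow_iff_modEq, hq] at h3
  have h4 : 1 ≤ r ^ j := Nat.one_le_pow _ _ hr0
  exact hr j (Nat.pos_of_ne_zero hj0) hj ((Nat.modEq_iff_dvd' h4).1 h3)

/-- an element of the form `x ^ i * n ^ j` centralising `x` is a power of `x` -/
theorem mem_zpowers_of_normal_form {x n : G} {q m r : ℕ} (hq : orderOf x = q)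
    (hrel : n * x * n⁻¹ = x ^ r) (hr0 : 0 < r)
    (hr : ∀ j, 0 < j → j < m → ¬ q ∣ r ^ j - 1) (g : G) (hg : g * x = x * g)
    (hform : ∃ i j : ℕ, j < m ∧ g = x ^ i * n ^ j) : g ∈ Subgroup.zpowers x := by
  obtain ⟨i, j, hj, rfl⟩ := hform
  have hc : n ^ j * x = x * n ^ j := by
    have h1 : x ^ i * (n ^ j * x) = x ^ i * (x * n ^ j) := by
      calc x ^ i * (n ^ j * x) = x ^ i * n ^ j * x := by rw [mul_assoc]
        _ = x * (x ^ i * n ^ j) := hg
        _ = x ^ i * (x * n ^ j) := by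
          rw [← mul_assoc, ← mul_assoc, ← pow_succ', ← pow_succ]
    exact mul_left_cancel h1
  have := eq_zero_of_commute hq hrel hr0 hr hj hc
  subst this
  rw [pow_zero, mul_one]
  exact Subgroup.pow_mem _ (Subgroup.mem_zpowers x) i

/-- a subgroup of order at most `q * m` containing `x` and `n` consists of the `x ^ i * n ^ j` -/
theorem normal_form_of_card_le [Finite G] (S : Subgroup G) {x n : G} {q m r : ℕ} (hx : x ∈ S)
    (hn : n ∈ S) (hq : orderOf x = q) (hrel : n * x * n⁻¹ = x ^ r) (hr0 : 0 < r)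
    (hr : ∀ j, 0 < j → j < m → ¬ q ∣ r ^ j - 1) (hcard : Nat.card S ≤ q * m) :
    ∀ g ∈ S, ∃ i j : ℕ, j < m ∧ g = x ^ i * n ^ j := by
  have key : ∀ i i' j j' : ℕ, j ≤ j' → j' < m → x ^ i * n ^ j = x ^ i' * n ^ j' → j = j' := by
    intro i i' j j' hjj hj' h
    have h1 : n ^ (j' - j) = (x ^ i')⁻¹ * x ^ i := by
      have : n ^ j' = n ^ (j' - j) * n ^ j := by rw [← pow_add, Nat.sub_add_cancel hjj]
      rw [this, ← mul_assoc] at h
      have h2 := mul_right_cancel h
      rw [h2]; group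
    have hc : n ^ (j' - j) * x = x * n ^ (j' - j) := by
      rw [h1]
      have c1 : Commute ((x ^ i')⁻¹ * x ^ i) x :=
        (((Commute.refl x).pow_left i').inv_left).mul_left ((Commute.refl x).pow_left i)
      exact c1.eq
    have := eq_zero_of_commute hq hrel hr0 hr (lt_of_le_of_lt (Nat.sub_le _ _) hj') hc
    omega
  let f : Fin q × Fin m → S := fun p =>
    ⟨x ^ (p.1 : ℕ) * n ^ (p.2 : ℕ), S.mul_mem (S.pow_mem hx _) (S.pow_mem hn _)⟩
  have finj : Function.Injective f := by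
    rintro ⟨i, j⟩ ⟨i', j'⟩ h
    have h' : x ^ (i : ℕ) * n ^ (j : ℕ) = x ^ (i' : ℕ) * n ^ (j' : ℕ) := congrArg Subtype.val h
    have hjj : (j : ℕ) = j' := by
      rcases le_total (j : ℕ) j' with hle | hle
      · exact key _ _ _ _ hle j'.2 h'
      · exact (key _ _ _ _ hle j.2 h'.symm).symm
    rw [hjj] at h'
    have h2 := mul_right_cancel h'
    have hii : (i : ℕ) = i' := by
      have hi : (i : ℕ) < orderOf x := by rw [hq]; exact i.2
      have hi' : (i' : ℕ) < orderOf x := by rw [hq]; exact i'.2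
      exact pow_injOn_Iio_orderOf (Set.mem_Iio.2 hi) (Set.mem_Iio.2 hi') h2
    exact Prod.ext (Fin.ext hii) (Fin.ext hjj)
  have hbij : Function.Bijective f := by
    apply Function.Injective.bijective_of_nat_card_le finj
    rw [Nat.card_prod, Nat.card_fin, Nat.card_fin]
    exact hcard
  intro g hg
  obtain ⟨⟨i, j⟩, hij⟩ := hbij.2 ⟨g, hg⟩
  exact ⟨i, j, j.2, (congrArg Subtype.val hij).symm⟩

end Meta

section Sylow

variable {G : Type*} [Group G] [Finite G]

/-- if `⟨x⟩` is a self-centralising Sylow subgroup of prime order `q` then every element of order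
divisible by `q` has order `q` -/
theorem orderOf_eq_of_dvd (x : G) (q : ℕ) [Fact q.Prime] (hq : orderOf x = q)
    (hidx : ¬ q ∣ (Subgroup.zpowers x).index)
    (hC : ∀ g, g * x = x * g → g ∈ Subgroup.zpowers x) (g : G) (hg : q ∣ orderOf g) :
    orderOf g = q := by
  have hqp : q.Prime := Fact.out
  set P : Subgroup G := Subgroup.zpowers x with hP
  have hPcard : Nat.card P = q := by rw [Nat.card_zpowers, hq]
  have hPp : IsPGroup q P := IsPGroup.of_card (n := 1) (by rw [hPcard, pow_one])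
  set h : G := g ^ (orderOf g / q) with hh
  have hho : orderOf h = q := orderOf_pow_orderOf_div (orderOf_pos g).ne' hg
  have hZ : IsPGroup q (Subgroup.zpowers h) :=
    IsPGroup.of_card (n := 1) (by rw [Nat.card_zpowers, hho, pow_one])
  obtain ⟨Q, hQ⟩ := hZ.exists_le_sylow
  obtain ⟨c, hc⟩ := MulAction.exists_smul_eq G Q (hPp.toSylow hidx)
  have hgQ : h ∈ (Q : Subgroup G) := hQ (Subgroup.mem_zpowers _)
  have h1 : c * h * c⁻¹ ∈ ((c • Q : Sylow q G) : Subgroup G) := by
    rw [Sylow.coe_subgroup_smul]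
    have := Subgroup.smul_mem_pointwise_smul h (MulAut.conj c) (Q : Subgroup G) hgQ
    simpa [MulAut.smul_def] using this
  rw [hc, IsPGroup.toSylow_coe] at h1
  set h' : G := c * h * c⁻¹ with hh'
  set g' : G := c * g * c⁻¹ with hg'
  have hh'o : orderOf h' = q := by
    have : h' = MulAut.conj c h := by simp [hh', MulAut.conj_apply]
    rw [this, MulEquiv.orderOf_eq, hho]
  have hg'o : orderOf g' = orderOf g := by
    have : g' = MulAut.conj c g := by simp [hg', MulAut.conj_apply]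
    rw [this, MulEquiv.orderOf_eq]
  have hcomm : g' * h' = h' * g' := by
    have : g * h = h * g := by
      rw [hh, ← pow_succ', ← pow_succ]
    rw [hg', hh']
    calc c * g * c⁻¹ * (c * h * c⁻¹) = c * (g * h) * c⁻¹ := by group
      _ = c * (h * g) * c⁻¹ := by rw [this]
      _ = c * h * c⁻¹ * (c * g * c⁻¹) := by group
  have hzz : Subgroup.zpowers h' = P := by
    apply Subgroup.eq_of_le_of_card_ge
    · rw [Subgroup.zpowers_le]; exact h1
    · rw [hPcard, Nat.card_zpowers, hh'o]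
  have hxm : x ∈ Subgroup.zpowers h' := by rw [hzz]; exact Subgroup.mem_zpowers x
  obtain ⟨k, hk⟩ := Subgroup.mem_zpowers_iff.1 hxm
  have hcx : g' * x = x * g' := by
    rw [← hk]
    exact ((show Commute g' h' from hcomm).zpow_right k).eq
  have hmem := hC g' hcx
  have hdvd : orderOf g' ∣ q := by
    rw [← hq]; exact orderOf_dvd_of_mem_zpowers hmem
  rw [hg'o] at hdvd
  exact Nat.dvd_antisymm hdvd hg

end Sylow

section Line

variable {n : ℕ} {K : Type*} [Field K]

/-- the stabiliser of the line through `v0` in a matrix group -/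
def lineStab (H : Subgroup (GL (Fin n) K)) (v0 : Fin n → K) : Subgroup ↥H where
  carrier := {g | ∃ c : K, c ≠ 0 ∧
    ((g : GL (Fin n) K) : Matrix (Fin n) (Fin n) K).mulVec v0 = c • v0}
  mul_mem' := by
    rintro a b ⟨c, hc, ha⟩ ⟨d, hd, hb⟩
    refine ⟨d * c, mul_ne_zero hd hc, ?_⟩
    rw [Subgroup.coe_mul, Units.val_mul, ← Matrix.mulVec_mulVec, hb, Matrix.mulVec_smul, ha,
      smul_smul]
  one_mem' := ⟨1, one_ne_zero, by simp⟩
  inv_mem' := by
    rintro a ⟨c, hc, ha⟩
    refine ⟨c⁻¹, inv_ne_zero hc, ?_⟩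
    have h1 : ((a⁻¹ : ↥H) : GL (Fin n) K).val.mulVec
        (((a : GL (Fin n) K) : Matrix (Fin n) (Fin n) K).mulVec v0) = v0 := by
      rw [Matrix.mulVec_mulVec, ← Units.val_mul, ← Subgroup.coe_mul, inv_mul_cancel]
      simp
    rw [ha, Matrix.mulVec_smul] at h1
    calc ((a⁻¹ : ↥H) : GL (Fin n) K).val.mulVec v0
        = c⁻¹ • (c • ((a⁻¹ : ↥H) : GL (Fin n) K).val.mulVec v0) := by
          rw [smul_smul, inv_mul_cancel₀ hc, one_smul]
      _ = c⁻¹ • v0 := by rw [h1]

theorem mem_lineStab (H : Subgroup (GL (Fin n) K)) (v0 : Fin n → K) (g : ↥H) :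
    g ∈ lineStab H v0 ↔ ∃ c : K, c ≠ 0 ∧
      ((g : GL (Fin n) K) : Matrix (Fin n) (Fin n) K).mulVec v0 = c • v0 := Iff.rfl

/-- the centraliser of an element with a one-dimensional fixed space stabilises that line -/
theorem cent_le_lineStab (H : Subgroup (GL (Fin n) K)) (v0 : Fin n → K) (hv0 : v0 ≠ 0) (x : ↥H)
    (hx0 : ((x : GL (Fin n) K) : Matrix (Fin n) (Fin n) K).mulVec v0 = v0)
    (hfix : ∀ v, ((x : GL (Fin n) K) : Matrix (Fin n) (Fin n) K).mulVec v = v → ∃ c : K, v = c • v0)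
    (g : ↥H) (hg : g * x = x * g) : g ∈ lineStab H v0 := by
  have h1 : ((x : GL (Fin n) K) : Matrix (Fin n) (Fin n) K).mulVec
      (((g : GL (Fin n) K) : Matrix (Fin n) (Fin n) K).mulVec v0)
      = ((g : GL (Fin n) K) : Matrix (Fin n) (Fin n) K).mulVec v0 := by
    rw [Matrix.mulVec_mulVec, ← Units.val_mul, ← Subgroup.coe_mul, ← hg, Subgroup.coe_mul,
      Units.val_mul, ← Matrix.mulVec_mulVec, hx0]
  obtain ⟨c, hc⟩ := hfix _ h1
  refine ⟨c, ?_, hc⟩
  rintro rfl
  rw [zero_smul] at hc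
  apply hv0
  have h2 : ((g⁻¹ : ↥H) : GL (Fin n) K).val.mulVec
      (((g : GL (Fin n) K) : Matrix (Fin n) (Fin n) K).mulVec v0) = v0 := by
    rw [Matrix.mulVec_mulVec, ← Units.val_mul, ← Subgroup.coe_mul, inv_mul_cancel]
    simp
  rw [hc, Matrix.mulVec_zero] at h2
  exact h2.symm

/-- a lower bound for the index of a line stabiliser from distinct images of the line -/
theorem card_lineStab_le (H : Subgroup (GL (Fin n) K)) [Finite ↥H] (v0 : Fin n → K) (N : ℕ)
    (γ : Fin N → ↥H)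
    (hinj : ∀ k k' : Fin N, (∃ c : K, c ≠ 0 ∧
      ((γ k' : GL (Fin n) K) : Matrix (Fin n) (Fin n) K).mulVec v0
        = c • ((γ k : GL (Fin n) K) : Matrix (Fin n) (Fin n) K).mulVec v0) → k = k') :
    N * Nat.card (lineStab H v0) ≤ Nat.card ↥H := by
  set S := lineStab H v0 with hS
  let f : Fin N → ↥H ⧸ S := fun k => (γ k : ↥H ⧸ S)
  have finj : Function.Injective f := by
    intro k k' h
    have h1 : (γ k)⁻¹ * γ k' ∈ S := QuotientGroup.eq.1 h
    obtain ⟨c, hc, h2⟩ := h1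
    apply hinj k k'
    refine ⟨c, hc, ?_⟩
    rw [Subgroup.coe_mul, Units.val_mul, ← Matrix.mulVec_mulVec] at h2
    have h3 : ((γ k : GL (Fin n) K) : Matrix (Fin n) (Fin n) K).mulVec
        ((((γ k)⁻¹ : ↥H) : GL (Fin n) K).val.mulVec
          (((γ k' : GL (Fin n) K) : Matrix (Fin n) (Fin n) K).mulVec v0))
        = ((γ k : GL (Fin n) K) : Matrix (Fin n) (Fin n) K).mulVec (c • v0) := by rw [h2]
    rw [Matrix.mulVec_mulVec, ← Units.val_mul, ← Subgroup.coe_mul, mul_inv_cancel,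
      Matrix.mulVec_smul] at h3
    simpa using h3
  have hidx : N ≤ S.index := by
    have := Nat.card_le_card_of_injective f finj
    rwa [Nat.card_fin, ← Subgroup.index_eq_card] at this
  calc N * Nat.card S ≤ S.index * Nat.card S := Nat.mul_le_mul_right _ hidx
    _ = Nat.card ↥H := S.index_mul_card

end Line

end Cfsg.Agent.Lib.Helper57.CentAbs
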