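import Cfsg.Agent.Lib.Helper22.CgDefs

/-!
# Cg hive (S4257), CG10 `cg10` in core form (helper57, second hand)

`cg10_core` is the exact statement of `cg10` with the verbatim statement of `cg9` as one explicit
hypothesis `h9`; this file imports `CgDefs` only.
-/

set_option autoImplicit false

namespace Cfsg.Agent.Lib.Helper22.Cg

open Subgroup

universe u

theorem cg10c_adj_symm {G : Type u} [Group G] {a b : ℕ} (h : Adj G a b) : Adj G b a := by
  obtain ⟨g, hg⟩ := h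
  exact ⟨g, by rwa [mul_comm]⟩

theorem cg10c_nb_of_dvd {G : Type u} [Group G] {a b : ℕ} (ha : a.Prime) (hb : b.Prime) (g : G)
    (h1 : a ∣ cs g) (h2 : b ∣ cs g) : Nb G a b := by
  by_cases h : b = a
  · exact Or.inl h
  · right
    exact ⟨g, Nat.Coprime.mul_dvd_of_dvd_of_dvd
      ((Nat.coprime_primes ha hb).mpr (fun e => h e.symm)) h1 h2⟩

theorem cg10c_exists_max {G : Type u} [Group G] [Finite G] (p : ℕ) (h : ∃ a : G, p ∣ cs a) :
    ∃ a0 : G, p ∣ cs a0 ∧ ∀ a : G, p ∣ cs a → cs a ≤ cs a0 := by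
  classical
  haveI := Fintype.ofFinite G
  obtain ⟨a, ha⟩ := h
  obtain ⟨a0, ha0, hmax⟩ := Finset.exists_max_image
    (Finset.univ.filter (fun a : G => p ∣ cs a)) (fun a => cs a)
    ⟨a, by simp [ha]⟩
  refine ⟨a0, by simpa using ha0, fun b hb => hmax b (by simp [hb])⟩

/-- CG10 in core form: `h9` is the verbatim statement of `cg9`. -/
theorem cg10_core {G : Type u} [Group G] [Finite G]
    (h9 : ∀ (p q t : ℕ), p.Prime → q.Prime → t.Prime →
      (∀ u v : ℕ, u.Prime → v.Prime → Nb G p u → Nb G q v → u ≠ v ∧ ¬ Adj G u v) →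
      ∀ a0 : G, p ∣ cs a0 → (∀ e : G, q ∣ cs e → cs e < cs a0) → (∃ e : G, q ∣ cs e) →
      ∀ c : G, t ∣ cs c → ¬ q ∣ cs c →
      (∀ u : ℕ, u.Prime → Nb G p u → u ≠ t ∧ ¬ Adj G u t) → False)
    (p r s t q : ℕ) (hp : p.Prime) (hr : r.Prime)
    (hs : s.Prime) (ht : t.Prime) (hq : q.Prime)
    (hpr : Adj G p r) (hrs : Adj G r s) (hst : Adj G s t) (htq : Adj G t q)
    (hH1 : ∀ u v : ℕ, u.Prime → v.Prime → Nb G p u → Nb G q v → u ≠ v ∧ ¬ Adj G u v) :
    False := by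
  -- symmetric form of H1
  have hH1' : ∀ u v : ℕ, u.Prime → v.Prime → Nb G q u → Nb G p v → u ≠ v ∧ ¬ Adj G u v := by
    intro u v hu hv h1 h2
    obtain ⟨a, b⟩ := hH1 v u hv hu h2 h1
    exact ⟨fun e => a e.symm, fun h => b (cg10c_adj_symm h)⟩
  obtain ⟨hpq, hnpq⟩ := hH1 p q hp hq (Or.inl rfl) (Or.inl rfl)
  -- vertices
  have hpv : ∃ a : G, p ∣ cs a := by
    obtain ⟨g, hg⟩ := hpr
    exact ⟨g, dvd_of_mul_right_dvd hg⟩
  have hqv : ∃ e : G, q ∣ cs e := by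
    obtain ⟨g, hg⟩ := htq
    exact ⟨g, dvd_of_mul_left_dvd hg⟩
  obtain ⟨a0, hpa0, hamax⟩ := cg10c_exists_max p hpv
  obtain ⟨e0, hqe0, hemax⟩ := cg10c_exists_max q hqv
  have hne : cs a0 ≠ cs e0 := by
    intro e
    apply hnpq
    refine ⟨a0, Nat.Coprime.mul_dvd_of_dvd_of_dvd ((Nat.coprime_primes hp hq).mpr hpq) hpa0 ?_⟩
    rw [e]; exact hqe0
  have hNbpr : Nb G p r := Or.inr hpr
  have hNbqt : Nb G q t := Or.inr (cg10c_adj_symm htq)
  rcases Nat.lt_or_gt_of_ne hne with hlt | hlt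
  · -- cs a0 < cs e0 : apply CG9 with (q, p, r)
    obtain ⟨c, hc⟩ := hrs
    have hrc : r ∣ cs c := dvd_of_mul_right_dvd hc
    have hsc : s ∣ cs c := dvd_of_mul_left_dvd hc
    refine h9 q p r hq hp hr hH1' e0 hqe0 (fun e he => lt_of_le_of_lt (hamax e he) hlt) hpv c hrc
      ?_ ?_
    · intro hpc
      have hNbps : Nb G p s := cg10c_nb_of_dvd hp hs c hpc hsc
      exact (hH1 s t hs ht hNbps hNbqt).2 hst
    · intro u hu hNbqu
      obtain ⟨a, b⟩ := hH1 r u hr hu hNbpr hNbqu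
      exact ⟨fun e => a e.symm, fun h => b (cg10c_adj_symm h)⟩
  · -- cs e0 < cs a0 : apply CG9 with (p, q, t)
    obtain ⟨c, hc⟩ := hst
    have hsc : s ∣ cs c := dvd_of_mul_right_dvd hc
    have htc : t ∣ cs c := dvd_of_mul_left_dvd hc
    refine h9 p q t hp hq ht hH1 a0 hpa0 (fun e he => lt_of_le_of_lt (hemax e he) hlt) hqv c htc
      ?_ ?_
    · intro hqc
      have hNbqs : Nb G q s := cg10c_nb_of_dvd hq hs c hqc hsc
      exact (hH1 r s hr hs hNbpr hNbqs).2 hrs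
    · intro u hu hNbpu
      exact hH1 u t hu ht hNbpu hNbqt

end Cfsg.Agent.Lib.Helper22.Cg
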