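import Mathlib
import Cfsg.Prelude.Def_SporadicB

/-!
# A class of 3-transpositions from a maximal subgroup with a central involution

Abstract part of the Fi23 realization (S0472): `G` finite simple, `H` a maximal subgroup, `z` a central
involution of `H`.  Then `C_G(z) = H`, the class of `z` has `|G : H|` elements, generates `G`, and the
3-transposition property can be read off from representatives of the `H`-orbits on `G ⧸ H`.
Also: transport of `IsNonsplitDoubleCover` along an isomorphism, and `C(g z g⁻¹) ≃* C(z)`.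
-/

set_option autoImplicit false

namespace Cfsg.Agent.Lib.Helper57.ThreeTransp

open Cfsg

variable {G : Type*} [Group G]

/-- an element of a simple group acting trivially on the cosets of a proper subgroup is trivial -/
theorem eq_one_of_smul_eq [IsSimpleGroup G] {H : Subgroup G} (hH : H ≠ ⊤) (k : G)
    (hk : ∀ x : G ⧸ H, k • x = x) : k = 1 := by
  have hmem : k ∈ H.normalCore := by
    intro b
    have h1 := hk ((b⁻¹ : G) : G ⧸ H)
    have h2 : ((k * b⁻¹ : G) : G ⧸ H) = ((b⁻¹ : G) : G ⧸ H) := h1
    rw [QuotientGroup.eq] at h2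
    have h3 := H.inv_mem h2
    have e : ((k * b⁻¹)⁻¹ * b⁻¹)⁻¹ = b * k * b⁻¹ := by group
    rw [e] at h3
    exact h3
  have hn : H.normalCore = ⊥ := by
    rcases (H.normalCore_normal).eq_bot_or_eq_top with h | h
    · exact h
    · exfalso
      apply hH
      rw [eq_top_iff, ← h]
      exact H.normalCore_le
  rw [hn] at hmem
  exact Subgroup.mem_bot.mp hmem

/-- centre of a finite simple group of non-prime order is trivial -/
theorem center_eq_bot_of_not_prime {K : Type*} [Group K] [IsSimpleGroup K] [Finite K]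
    (h : ¬ (Nat.card K).Prime) : Subgroup.center K = ⊥ := by
  rcases (inferInstance : (Subgroup.center K).Normal).eq_bot_or_eq_top with h0 | h0
  · exact h0
  · exfalso
    let _ : CommGroup K := Group.commGroupOfCenterEqTop h0
    exact h IsSimpleGroup.prime_card

section Class

set_option linter.unusedSectionVars false

variable [IsSimpleGroup G] {H : Subgroup G} {z : G}

theorem centralizer_eq (hmax : ∀ K : Subgroup G, H ≤ K → K = H ∨ K = ⊤) (hH : H ≠ ⊤)
    (hzH : z ∈ H) (hc : ∀ h ∈ H, h * z = z * h) (hz1 : z ≠ 1) :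
    Subgroup.centralizer ({z} : Set G) = H := by
  have hle : H ≤ Subgroup.centralizer ({z} : Set G) := by
    intro h hh
    rw [Subgroup.mem_centralizer_singleton_iff]
    exact hc h hh
  rcases hmax _ hle with h | h
  · exact h
  · exfalso
    have hzc : ∀ g : G, g * z = z * g := by
      intro g
      have hg : g ∈ Subgroup.centralizer ({z} : Set G) := by rw [h]; trivial
      exact Subgroup.mem_centralizer_singleton_iff.mp hg
    have hn : (Subgroup.zpowers z).Normal := by
      refine ⟨fun n hn g => ?_⟩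
      obtain ⟨k, rfl⟩ := Subgroup.mem_zpowers_iff.mp hn
      have hcomm : Commute g (z ^ k) := (show Commute g z from hzc g).zpow_right k
      have e : g * z ^ k * g⁻¹ = z ^ k := by
        rw [hcomm.eq, mul_assoc, mul_inv_cancel, mul_one]
      rw [e]
      exact Subgroup.zpow_mem_zpowers z k
    rcases hn.eq_bot_or_eq_top with hb | ht
    · exact hz1 (Subgroup.zpowers_eq_bot.mp hb)
    · apply hH
      rw [eq_top_iff, ← ht]
      exact Subgroup.zpowers_le.mpr hzH

theorem conj_eq_of_coset_eq (hc : ∀ h ∈ H, h * z = z * h) {a b : G}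
    (hab : ((a : G) : G ⧸ H) = ((b : G) : G ⧸ H)) : a * z * a⁻¹ = b * z * b⁻¹ := by
  rw [QuotientGroup.eq] at hab
  have h1 := hc _ hab
  have h2 : b = a * (a⁻¹ * b) := by group
  rw [h2]
  have h3 : a * (a⁻¹ * b) * z * (a * (a⁻¹ * b))⁻¹ = a * ((a⁻¹ * b) * z) * (a⁻¹ * b)⁻¹ * a⁻¹ := by
    group
  rw [h3, h1]
  group

theorem coset_eq_of_conj_eq (hcent : Subgroup.centralizer ({z} : Set G) = H) {a b : G}
    (hab : a * z * a⁻¹ = b * z * b⁻¹) : ((a : G) : G ⧸ H) = ((b : G) : G ⧸ H) := by
  rw [QuotientGroup.eq, ← hcent, Subgroup.mem_centralizer_singleton_iff]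
  have h1 : a⁻¹ * b * z = a⁻¹ * (b * z * b⁻¹) * b := by group
  rw [h1, ← hab]
  group

theorem card_conjugatesOf (hcent : Subgroup.centralizer ({z} : Set G) = H) :
    Nat.card (conjugatesOf z) = H.index := by
  have hc : ∀ h ∈ H, h * z = z * h := by
    intro h hh
    rw [← hcent] at hh
    exact Subgroup.mem_centralizer_singleton_iff.mp hh
  rw [Subgroup.index_eq_card]
  symm
  let f : G ⧸ H → conjugatesOf z := fun x =>
    Quotient.liftOn' x (fun g : G => (⟨g * z * g⁻¹, isConj_iff.mpr ⟨g, rfl⟩⟩ : conjugatesOf z))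
      (by
        intro a b hab
        apply Subtype.ext
        have : ((a : G) : G ⧸ H) = ((b : G) : G ⧸ H) := Quotient.sound' hab
        exact conj_eq_of_coset_eq hc this)
  apply Nat.card_congr
  refine Equiv.ofBijective f ⟨?_, ?_⟩
  · intro x y
    induction x using QuotientGroup.induction_on with
    | H a =>
      induction y using QuotientGroup.induction_on with
      | H b =>
        intro hxy
        have : a * z * a⁻¹ = b * z * b⁻¹ := congrArg Subtype.val hxy
        exact coset_eq_of_conj_eq hcent this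
  · rintro ⟨d, hd⟩
    obtain ⟨g, rfl⟩ := isConj_iff.mp (show IsConj z _ from hd)
    exact ⟨((g : G) : G ⧸ H), rfl⟩

theorem closure_conjugatesOf (hz1 : z ≠ 1) : Subgroup.closure (conjugatesOf z) = ⊤ := by
  have h1 : Subgroup.normalClosure ({z} : Set G) = Subgroup.closure (conjugatesOf z) := by
    unfold Subgroup.normalClosure
    congr 1
    simp [Group.conjugatesOfSet]
  rw [← h1]
  rcases (Subgroup.normalClosure_normal (s := ({z} : Set G))).eq_bot_or_eq_top with h | h
  · exfalso
    apply hz1
    have : z ∈ Subgroup.normalClosure ({z} : Set G) :=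
      Subgroup.subset_normalClosure (Set.mem_singleton z)
    rw [h] at this
    exact Subgroup.mem_bot.mp this
  · exact h

theorem orderOf_conj_two (hz2 : z * z = 1) (hz1 : z ≠ 1) (g : G) : orderOf (g * z * g⁻¹) = 2 := by
  apply orderOf_eq_prime
  · rw [conj_pow, pow_two, hz2]; group
  · intro h
    apply hz1
    have : z = g⁻¹ * (g * z * g⁻¹) * g := by group
    rw [this, h]; group

/-- the 3-transposition property from representatives of the `H`-orbits on the cosets -/
theorem isThreeTranspositionSet (hc : ∀ h ∈ H, h * z = z * h)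
    (hz2 : z * z = 1) (hz1 : z ≠ 1) (R : Set G)
    (hR : ∀ x : G ⧸ H, ∃ h ∈ H, ∃ r ∈ R, x = ((h * r : G) : G ⧸ H))
    (hRz : ∀ r ∈ R, (z * (r * z * r⁻¹)) ^ 2 = 1 ∨ (z * (r * z * r⁻¹)) ^ 3 = 1) :
    IsThreeTranspositionSet (conjugatesOf z) := by
  refine ⟨?_, ?_⟩
  · intro d hd
    obtain ⟨g, rfl⟩ := isConj_iff.mp (show IsConj z _ from hd)
    exact orderOf_conj_two hz2 hz1 g
  · intro d hd e he
    obtain ⟨u, rfl⟩ := isConj_iff.mp (show IsConj z _ from hd)
    obtain ⟨v, rfl⟩ := isConj_iff.mp (show IsConj z _ from he)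
    -- reduce to `d = z`
    obtain ⟨h, hh, r, hr, hx⟩ := hR (((u⁻¹ * v : G)) : G ⧸ H)
    have key : u⁻¹ * v * z * (u⁻¹ * v)⁻¹ = h * (r * z * r⁻¹) * h⁻¹ := by
      have h1 := conj_eq_of_coset_eq hc hx
      rw [h1]; group
    have hzh : z * h = h * z := (hc h hh).symm
    have e1 : u * z * u⁻¹ * (v * z * v⁻¹) = u * (z * (u⁻¹ * v * z * (u⁻¹ * v)⁻¹)) * u⁻¹ := by
      group
    have e2 : z * (h * (r * z * r⁻¹) * h⁻¹) = h * (z * (r * z * r⁻¹)) * h⁻¹ := by
      rw [← mul_assoc, ← mul_assoc, hzh]; group
    have e3 : ∀ n : ℕ, (u * z * u⁻¹ * (v * z * v⁻¹)) ^ n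
        = u * (h * (z * (r * z * r⁻¹)) ^ n * h⁻¹) * u⁻¹ := by
      intro n
      rw [e1, key, e2, conj_pow, conj_pow]
    rcases hRz r hr with h2 | h3
    · left
      rw [e3, h2]; group
    · right
      rw [e3, h3]; group

end Class

/-! ### transport of `IsNonsplitDoubleCover` -/

section Transport

variable {X Y K : Type*} [Group X] [Group Y] [Group K]

theorem map_center_eq (e : X ≃* Y) :
    (Subgroup.center X).map (e : X →* Y) = Subgroup.center Y := by
  ext y
  constructor
  · rintro ⟨x, hx, rfl⟩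
    rw [Subgroup.mem_center_iff]
    intro g
    obtain ⟨g', rfl⟩ := e.surjective g
    have := Subgroup.mem_center_iff.mp hx g'
    show e g' * e x = e x * e g'
    rw [← map_mul, ← map_mul, this]
  · intro hy
    refine ⟨e.symm y, ?_, by simp⟩
    rw [SetLike.mem_coe, Subgroup.mem_center_iff]
    intro g
    apply e.injective
    rw [map_mul, map_mul, e.apply_symm_apply]
    exact Subgroup.mem_center_iff.mp hy (e g)

theorem nonsplit_of_mulEquiv [Finite X] (e : X ≃* Y) (h : IsNonsplitDoubleCover Y K) :
    IsNonsplitDoubleCover X K := by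
  have : Finite Y := Finite.of_equiv X e.toEquiv
  obtain ⟨h1, ⟨q⟩, h3⟩ := h
  refine ⟨?_, ?_, ?_⟩
  · rw [← h1]
    exact Nat.card_congr (Subgroup.centerCongr e).toEquiv
  · exact ⟨(QuotientGroup.congr (Subgroup.center X) (Subgroup.center Y) e (map_center_eq e)).trans q⟩
  · intro L hL
    apply h3 (L.map (e : X →* Y))
    rw [Subgroup.isComplement'_iff_card_mul_and_disjoint] at hL ⊢
    obtain ⟨hcard, hdisj⟩ := hL
    refine ⟨?_, ?_⟩
    · rw [← Nat.card_congr e.toEquiv, ← hcard]
      congr 1
      · exact (Nat.card_congr (Subgroup.centerCongr e).toEquiv).symm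
      · exact (Nat.card_congr (e.subgroupMap L).toEquiv).symm
    · rw [Subgroup.disjoint_def] at hdisj ⊢
      intro y hy1 hy2
      obtain ⟨l, hl, rfl⟩ := hy2
      have hlc : l ∈ Subgroup.center X := by
        rw [← map_center_eq e] at hy1
        obtain ⟨x, hx, hxe⟩ := hy1
        have : x = l := e.injective hxe
        rw [← this]; exact hx
      have := hdisj hlc hl
      rw [this]; simp

/-- the centraliser of a conjugate is isomorphic to the centraliser -/
def centConj (g z : G) :
    Subgroup.centralizer ({g * z * g⁻¹} : Set G) ≃* Subgroup.centralizer ({z} : Set G) where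
  toFun x := ⟨g⁻¹ * x * g, by
    have hx := Subgroup.mem_centralizer_singleton_iff.mp x.2
    rw [Subgroup.mem_centralizer_singleton_iff]
    have e1 : g⁻¹ * ↑x * g * z = g⁻¹ * (↑x * (g * z * g⁻¹)) * g := by group
    rw [e1, hx]; group⟩
  invFun y := ⟨g * y * g⁻¹, by
    have hy := Subgroup.mem_centralizer_singleton_iff.mp y.2
    rw [Subgroup.mem_centralizer_singleton_iff]
    have e1 : g * ↑y * g⁻¹ * (g * z * g⁻¹) = g * (↑y * z) * g⁻¹ := by group
    rw [e1, hy]; group⟩
  left_inv x := by apply Subtype.ext; simp [mul_assoc]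
  right_inv y := by apply Subtype.ext; simp [mul_assoc]
  map_mul' x y := by apply Subtype.ext; simp [mul_assoc]

end Transport

end Cfsg.Agent.Lib.Helper57.ThreeTransp
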