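import Cfsg.Agent.Lib.Helper57.U62ChkDefs

/-! Kernel checks on helper28's coset table of `H = C(a)` in the presented `Fi22` (for S1684 / S0471), part B:
`a` is a product of six conjugates of `c`. -/

set_option autoImplicit false
set_option linter.all false
set_option maxRecDepth 100000

namespace Cfsg.Agent.Lib.Helper57.U62

open Cfsg.Agent.Lib.Helper28

theorem six_fix : fixAllM sixW = true := by decide +kernel

end Cfsg.Agent.Lib.Helper57.U62
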