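import Cfsg.Agent.Lib.Helper57.U62ChkDefs

/-! Kernel checks on helper28's coset table of `H = C(a)` in the presented `Fi22` (for S1684 / S0471), part C:
the five test transpositions. -/

set_option autoImplicit false
set_option linter.all false
set_option maxRecDepth 100000

namespace Cfsg.Agent.Lib.Helper57.U62

open Cfsg.Agent.Lib.Helper28

theorem tw_ptP : allBelowF (fun j => Nat.beq (walkM (tw j) 0) (omP (tix j)) && Nat.blt (tix j) 693) 5 = true := by
  decide +kernel

theorem tw_pt (j : ℕ) (hj : j < 5) : walkM (tw j) 0 = om (tix j) ∧ tix j < 693 := by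
  have h := allB _ _ tw_ptP j hj
  rw [Bool.and_eq_true] at h
  have h2 : tix j < 693 := Nat.le_of_ble_eq_true h.2
  rw [om_eq _ h2]
  exact ⟨Nat.eq_of_beq_eq_true h.1, h2⟩

/-- the points fixed by the five test transpositions -/
theorem test_all : allBelowF (fun q =>
    (Nat.beq (walkM (tW 0) q) q && Nat.beq (walkM (tW 1) q) q &&
      Nat.beq (walkM (tW 2) q) q && Nat.beq (walkM (tW 3) q) q &&
      Nat.beq (walkM (tW 4) q) q).not ||
      (Nat.beq q 14 || Nat.beq q 1 || Nat.beq q 0)) 3510 = true := by decide +kernel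

theorem tW_fix14 : allBelowF (fun j => Nat.beq (walkM (tW j) 14) 14) 5 = true := by decide +kernel

theorem a_14 : walkM [1] 14 = 1 := by decide +kernel

theorem a_1 : walkM [1] 1 = 14 := by decide +kernel

theorem ab_ne : walkM [0, 2] 0 ≠ walkM [2, 0] 0 := by decide +kernel

theorem gpt_ok : allBelowF (fun s => Nat.beq s 0 ||
    (Nat.blt (gpt s) 3510 && Nat.beq (cert.ORB (gpt s)) 2)) 8 = true := by decide +kernel

theorem gpt_zero : gpt 0 = 14 := rfl

end Cfsg.Agent.Lib.Helper57.U62
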