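import Cfsg.Agent.Lib.Helper57.U62ChkDefs

/-! Kernel checks on helper28's coset table of `H = C(a)` in the presented `Fi22` (for S1684 / S0471), part D:
the enumeration of the 693 points. -/

set_option autoImplicit false
set_option linter.all false
set_option maxRecDepth 100000

namespace Cfsg.Agent.Lib.Helper57.U62

open Cfsg.Agent.Lib.Helper28

theorem om_okP : allBelowF (fun i => Nat.blt (omP i) 3510 && Nat.beq (cert.ORB (omP i)) 2 &&
    Nat.beq (oixP (omP i)) i) 693 = true := by decide +kernel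

theorem oix_okP : allBelowF (fun p => (Nat.beq (cert.ORB p) 2).not ||
    (Nat.blt (oixP p) 693 && Nat.beq (omP (oixP p)) p)) 3510 = true := by decide +kernel

theorem om_facts (i : ℕ) (hi : i < 693) : om i < 3510 ∧ cert.ORB (om i) = 2 ∧ oix (om i) = i := by
  have h := allB _ _ om_okP i hi
  simp only [Bool.and_eq_true] at h
  have h1 : omP i < 3510 := Nat.le_of_ble_eq_true h.1.1
  rw [om_eq i hi, oix_eq _ h1]
  exact ⟨h1, Nat.eq_of_beq_eq_true h.1.2, Nat.eq_of_beq_eq_true h.2⟩

theorem oix_facts (p : ℕ) (hp : p < 3510) (ho : cert.ORB p = 2) : oix p < 693 ∧ om (oix p) = p := by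
  have h := allB _ _ oix_okP p hp
  rw [Bool.or_eq_true] at h
  rcases h with h | h
  · exfalso
    have h1 : Nat.beq (cert.ORB p) 2 = true := by rw [ho]; rfl
    rw [h1] at h
    exact Bool.noConfusion h
  · rw [Bool.and_eq_true] at h
    have h1 : oixP p < 693 := Nat.le_of_ble_eq_true h.1
    rw [oix_eq p hp, om_eq _ h1]
    exact ⟨h1, Nat.eq_of_beq_eq_true h.2⟩

end Cfsg.Agent.Lib.Helper57.U62
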