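import Cfsg.Agent.Lib.Helper57.U62ChkDefs

/-! Kernel checks on helper28's coset table of `H = C(a)` in the presented `Fi22` (for S1684 / S0471), part E:
the action of the generators of `H` on the 693 points. -/

set_option autoImplicit false
set_option linter.all false
set_option maxRecDepth 100000

namespace Cfsg.Agent.Lib.Helper57.U62

open Cfsg.Agent.Lib.Helper28

/-- the action of the inverses of `c, ..., i` on the 693 points -/
theorem match_genP : allBelowF (fun s => allBelowF (fun i =>
    Nat.beq (walkM [2 * s + 5] (omP i)) (omP (gTP s i)) && Nat.blt (gTP s i) 693) 693) 7 = true := by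
  decide +kernel

theorem match_xP : allBelowF (fun i => Nat.beq (walkM (invw Xw) (omP i)) (omP (gTP 7 i)) &&
    Nat.blt (gTP 7 i) 693) 693 = true := by
  decide +kernel

theorem match_aP : allBelowF (fun i => Nat.beq (walkM [1] (omP i)) (omP i)) 693 = true := by
  decide +kernel

theorem gT_lt' (s : ℕ) (hs : s < 8) (i : ℕ) (hi : i < 693) : gT s i < 693 := by
  rw [gT_eq s hs i hi]
  by_cases h7 : s < 7
  · have h := allB _ _ (allB _ _ match_genP s h7) i hi
    rw [Bool.and_eq_true] at h
    exact Nat.le_of_ble_eq_true h.2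
  · have e : s = 7 := by omega
    subst e
    have h := allB _ _ match_xP i hi
    rw [Bool.and_eq_true] at h
    exact Nat.le_of_ble_eq_true h.2

theorem match_gen (s : ℕ) (hs : s < 7) (i : ℕ) (hi : i < 693) :
    walkM [2 * s + 5] (om i) = om (gT s i) := by
  have h := allB _ _ (allB _ _ match_genP s hs) i hi
  rw [Bool.and_eq_true] at h
  rw [om_eq i hi, gT_eq s (by omega) i hi, om_eq _ (Nat.le_of_ble_eq_true h.2)]
  exact Nat.eq_of_beq_eq_true h.1

theorem match_x (i : ℕ) (hi : i < 693) : walkM (invw Xw) (om i) = om (gT 7 i) := by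
  have h := allB _ _ match_xP i hi
  rw [Bool.and_eq_true] at h
  rw [om_eq i hi, gT_eq 7 (by norm_num) i hi, om_eq _ (Nat.le_of_ble_eq_true h.2)]
  exact Nat.eq_of_beq_eq_true h.1

theorem match_a (i : ℕ) (hi : i < 693) : walkM [1] (om i) = om i := by
  rw [om_eq i hi]
  exact Nat.eq_of_beq_eq_true (allB _ _ match_aP i hi)

end Cfsg.Agent.Lib.Helper57.U62
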