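import Cfsg.Agent.Lib.Helper57.U62ChkDefs

/-! Kernel checks on helper28's coset table of `H = C(a)` in the presented `Fi22` (for S1684 / S0471), part F:
the spanning tree and the stabiliser of the point of `c`. -/

set_option autoImplicit false
set_option linter.all false
set_option maxRecDepth 100000

namespace Cfsg.Agent.Lib.Helper57.U62

open Cfsg.Agent.Lib.Helper28

theorem tree_okP : allBelowF (fun i => Nat.beq i 5 ||
    (Nat.blt (rkP (parP i)) (rkP i) && Nat.blt (parP i) 693 &&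
      Nat.blt (letP i) 8 && Nat.beq (gTP (letP i) (parP i)) i)) 693 = true := by
  decide +kernel

theorem stab_fixP : (Nat.beq (gTP 0 5) 5 && Nat.beq (gTP 2 5) 5 && Nat.beq (gTP 3 5) 5 &&
    Nat.beq (gTP 5 5) 5 && Nat.beq (gTP 6 5) 5) = true := by decide +kernel

theorem stab_uniqueP : allBelowF (fun i => (Nat.beq (gTP 0 i) i && Nat.beq (gTP 2 i) i &&
    Nat.beq (gTP 3 i) i && Nat.beq (gTP 5 i) i && Nat.beq (gTP 6 i) i).not || Nat.beq i 5) 693 = true := by
  decide +kernel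

theorem tree_ok (i : ℕ) (hi : i < 693) (h5 : i ≠ 5) :
    rkL.getD (parL.getD i 0) 0 < rkL.getD i 0 ∧ parL.getD i 0 < 693 ∧ letL.getD i 0 < 8 ∧
      gT (letL.getD i 0) (parL.getD i 0) = i := by
  have ht := allB _ _ tree_okP i hi
  rw [Bool.or_eq_true] at ht
  rcases ht with ht | ht
  · exact absurd (Nat.eq_of_beq_eq_true ht) h5
  · simp only [Bool.and_eq_true] at ht
    obtain ⟨⟨⟨h1, h2⟩, h3⟩, h4⟩ := ht
    have h2' : parP i < 693 := Nat.le_of_ble_eq_true h2
    have h3' : letP i < 8 := Nat.le_of_ble_eq_true h3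
    rw [par_eq i hi, let_eq i hi, rk_eq i hi, rk_eq _ h2', gT_eq _ h3' _ h2']
    exact ⟨Nat.le_of_ble_eq_true h1, h2', h3', Nat.eq_of_beq_eq_true h4⟩

theorem stab_fix (s : ℕ) (hs : s ∈ [0, 2, 3, 5, 6]) : gT s 5 = 5 := by
  have hf := stab_fixP
  simp only [Bool.and_eq_true] at hf
  obtain ⟨⟨⟨⟨f0, f2⟩, f3⟩, f5⟩, f6⟩ := hf
  simp only [List.mem_cons, List.not_mem_nil, or_false] at hs
  rcases hs with rfl | rfl | rfl | rfl | rfl
  · rw [gT_eq 0 (by norm_num) 5 (by norm_num)]; exact Nat.eq_of_beq_eq_true f0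
  · rw [gT_eq 2 (by norm_num) 5 (by norm_num)]; exact Nat.eq_of_beq_eq_true f2
  · rw [gT_eq 3 (by norm_num) 5 (by norm_num)]; exact Nat.eq_of_beq_eq_true f3
  · rw [gT_eq 5 (by norm_num) 5 (by norm_num)]; exact Nat.eq_of_beq_eq_true f5
  · rw [gT_eq 6 (by norm_num) 5 (by norm_num)]; exact Nat.eq_of_beq_eq_true f6

theorem stab_unique (i : ℕ) (hi : i < 693) (h : ∀ s ∈ [0, 2, 3, 5, 6], gT s i = i) : i = 5 := by
  have hu := allB _ _ stab_uniqueP i hi
  rw [Bool.or_eq_true] at hu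
  rcases hu with hu | hu
  · exfalso
    have e : ∀ s, s ∈ [0, 2, 3, 5, 6] → s < 8 → Nat.beq (gTP s i) i = true := by
      intro s hs hs8
      rw [← gT_eq s hs8 i hi, h s hs]
      exact Nat.beq_refl _
    rw [e 0 (by simp) (by norm_num), e 2 (by simp) (by norm_num), e 3 (by simp) (by norm_num),
      e 5 (by simp) (by norm_num), e 6 (by simp) (by norm_num)] at hu
    exact Bool.noConfusion hu
  · exact Nat.eq_of_beq_eq_true hu

end Cfsg.Agent.Lib.Helper57.U62
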