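import Cfsg.Agent.Lib.Helper57.U62ChkA
import Cfsg.Agent.Lib.Helper57.U62ChkB
import Cfsg.Agent.Lib.Helper57.U62ChkC
import Cfsg.Agent.Lib.Helper57.U62ChkD
import Cfsg.Agent.Lib.Helper57.U62ChkE
import Cfsg.Agent.Lib.Helper57.U62ChkF

/-! Kernel checks on helper28's coset table of `H = C(a)` in the presented `Fi22` (for S1684 / S0471):
the parts `U62ChkA` ... `U62ChkF` together. -/
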