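import Mathlib
import Cfsg.Agent.Lib.Helper57.U62Defs
import Cfsg.Agent.Lib.Helper90.U62_TV
import Cfsg.Agent.Lib.Helper65.U62_TH
import Cfsg.Agent.Lib.Helper57.U62ChkDefs

/-! A light copy of helper90's `U62_GEN` (same proof; the table `gT` is read through the packed `gTP` of
`U62ChkDefs`, so that the kernel never indexes a long list): the eight unitary transvections with centres
`dec (gcode s)` act on the 693 isotropic points as the tables `gT s`. -/

set_option autoImplicit false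
set_option linter.all false
set_option maxRecDepth 1000000

namespace Cfsg.Agent.Lib.Helper57.U62

open Cfsg.Agent.Lib.Helper28.Sp44F4

/-- the centre of the `s`-th transvection -/
def genp_u (s : ℕ) : Fin 6 → F4 := dec (gcode.getD s 0)

/-- explicit image `x + h(x,u) u` -/
def genp_lhs (x u : Fin 6 → F4) : Fin 6 → F4 := fun j => x j + th_herm x u * u j

theorem genp_lhs_eq (x u : Fin 6 → F4) : x + Cfsg.hermForm 6 F4 2 x u • u = genp_lhs x u := by
  funext j
  simp [genp_lhs, th_herm_eq]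

/-- the centre is a nonzero isotropic vector -/
def genp_chk0 (s : ℕ) : Bool :=
  !th_isz (genp_u s) && decide (th_herm (genp_u s) (genp_u s) = F4.o)

theorem genp_all0 : (List.range 8).all genp_chk0 = true := by decide +kernel

/-- the image of point `i` under transvection `s` is point `gT s i` -/
def genp_chk (s i : ℕ) : Bool :=
  decide (gTP s i < 693) &&
    (th_veq (genp_lhs (dec (th_vc i)) (genp_u s)) (dec (th_vc (gTP s i))) ||
      th_veq (genp_lhs (dec (th_vc i)) (genp_u s)) (th_sm F4.w (dec (th_vc (gTP s i)))) ||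
      th_veq (genp_lhs (dec (th_vc i)) (genp_u s)) (th_sm F4.v (dec (th_vc (gTP s i)))))

theorem genp_all : (List.range 8).all (fun s => (List.range 693).all (fun i => genp_chk s i)) = true := by
  decide +kernel

theorem genp_u_ok (s : Fin 8) :
    genp_u s.val ≠ 0 ∧ Cfsg.hermForm 6 F4 2 (genp_u s.val) (genp_u s.val) = 0 := by
  have h := List.all_eq_true.mp genp_all0 s.val (List.mem_range.2 s.isLt)
  simp only [genp_chk0, Bool.and_eq_true, Bool.not_eq_true', decide_eq_true_eq] at h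
  refine ⟨?_, ?_⟩
  · intro h0
    have := (th_isz_iff (genp_u s.val)).2 h0
    rw [this] at h
    exact Bool.noConfusion h.1
  · rw [th_herm_eq]
    exact h.2

/-- the eight transvections -/
noncomputable def genp_tau (s : Fin 8) : ↥(Cfsg.SU 6 F4 2) :=
  Classical.choose (exists_tv (genp_u s.val) (genp_u_ok s).1 (genp_u_ok s).2)

theorem genp_tau_spec (s : Fin 8) (v : Fin 6 → F4) :
    ((genp_tau s : Matrix.SpecialLinearGroup (Fin 6) F4) : Matrix (Fin 6) (Fin 6) F4).mulVec v
      = v + Cfsg.hermForm 6 F4 2 v (genp_u s.val) • (genp_u s.val) :=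
  Classical.choose_spec (exists_tv (genp_u s.val) (genp_u_ok s).1 (genp_u_ok s).2) v

theorem genp_vs_eq (i : ℕ) (hi : i < 693) : vs ⟨i, hi⟩ = dec (th_vc i) := by
  unfold vs
  rw [th_vc_eq i hi]

theorem genp_point (s : Fin 8) (i : Fin 693) :
    ∃ hlt : gT s.val i.val < 693, ∃ c : F4, c ≠ 0 ∧
      ((genp_tau s : Matrix.SpecialLinearGroup (Fin 6) F4) : Matrix (Fin 6) (Fin 6) F4).mulVec (vs i)
        = c • vs ⟨gT s.val i.val, hlt⟩ := by
  have h1 := List.all_eq_true.mp genp_all s.val (List.mem_range.2 s.isLt)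
  have h := List.all_eq_true.mp h1 i.val (List.mem_range.2 i.isLt)
  simp only [genp_chk, Bool.and_eq_true, Bool.or_eq_true, decide_eq_true_eq, th_veq_iff] at h
  rw [← gT_eq s.val s.isLt i.val i.isLt] at h
  obtain ⟨hlt, hc⟩ := h
  refine ⟨hlt, ?_⟩
  have hvi : vs i = dec (th_vc i.val) := genp_vs_eq i.val i.isLt
  rw [genp_tau_spec, genp_lhs_eq, hvi, genp_vs_eq _ hlt]
  rcases hc with (hc | hc) | hc
  · exact ⟨1, by decide, by rw [hc, one_smul]⟩
  · exact ⟨F4.w, by decide, by rw [hc, th_sm_eq]⟩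
  · exact ⟨F4.v, by decide, by rw [hc, th_sm_eq]⟩

theorem exists_gens_packed : ∃ τ : Fin 8 → ↥(Cfsg.SU 6 F4 2),
    ∀ θ : ↥(Cfsg.SU 6 F4 2) →* Equiv.Perm (Fin 693),
      (∀ (A : ↥(Cfsg.SU 6 F4 2)) (i j : Fin 693), θ A i = j ↔ ∃ c : F4, c ≠ 0 ∧
        ((A : Matrix.SpecialLinearGroup (Fin 6) F4) : Matrix (Fin 6) (Fin 6) F4).mulVec (vs i) = c • vs j) →
      ∀ (s : Fin 8) (i : Fin 693), ((θ (τ s) i : Fin 693) : ℕ) = gT s.val i.val := by
  refine ⟨genp_tau, ?_⟩
  intro θ hθ s i
  obtain ⟨hlt, c, hc, hcv⟩ := genp_point s i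
  have := (hθ (genp_tau s) i ⟨gT s.val i.val, hlt⟩).2 ⟨c, hc, hcv⟩
  rw [this]

end Cfsg.Agent.Lib.Helper57.U62
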