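import Cfsg.Prelude.Def_SporadicB
import Cfsg.Agent.S1687
import Cfsg.Agent.S1696
import Cfsg.Agent.Lib.Helper28.PSetup
import Cfsg.Agent.Lib.Helper57.U62Chk
import Cfsg.Agent.Lib.Helper97.U62_FAITH
import Cfsg.Agent.Lib.Helper57.U62GenP
import Cfsg.Agent.Lib.Helper90.U62_RESTR
import Cfsg.Agent.Lib.Helper90.U62_TV
import Cfsg.Agent.Lib.Helper49.U62_ISO
import Cfsg.Agent.Lib.Helper49.U62_NS
import Cfsg.Agent.Lib.Helper74.U62_CARD
import Cfsg.Agent.Lib.Helper65.U62_TH
import Cfsg.Agent.Lib.Helper65.U62_COMM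
import Cfsg.Agent.Lib.Helper49.U62_CENT

/-!
# The Fi22 side of S1684: the action of `H = C(a)` on the 693 transpositions commuting with `a`

`H = <a, c, ..., i, (abcdeh)^5>` in the presented `Fi22`, acting on the 693-orbit of helper28's coset table
of `H`.  The kernel of the action is `{1, a}` and equals the centre of `H`.
-/

set_option autoImplicit false
set_option linter.all false
set_option maxRecDepth 100000

namespace Cfsg.Agent.Lib.Helper57.U62

open Cfsg Cfsg.Spor Cfsg.Agent.Lib.Helper28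

/-- the presented `Fi22` -/
abbrev G : Type := Cfsg.Spor.Fi22

/-- the subgroup `<a, c, ..., i, (abcdeh)^5>`, in the form of helper28's coset enumeration -/
noncomputable abbrev H : Subgroup G :=
  (Subgroup.closure Cfsg.Agent.S1687.subS).map (PresentedGroup.mk Fi22Glue.relSet)

/-- the generators, in helper28's numbering -/
noncomputable abbrev gam : ℕ → G := fun i => PresentedGroup.of (Fi22Glue.genOf i)

/-- the central involution `a` -/
noncomputable def aG : G := evw gam [0]

/-- the conjugate of `a` by a word -/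
noncomputable def tG (g : List ℕ) : G := (evw gam g)⁻¹ * aG * evw gam g

theorem cert_n : cert.n = 3510 := rfl

theorem cert_k : cert.k = 9 := rfl

theorem evw_single (l : ℕ) : evw gam [l] = letG gam l := by
  show letG gam l * 1 = _
  rw [mul_one]

theorem tG_eq (g : List ℕ) : tG g = evw gam (invw g ++ [0] ++ g) := by
  unfold tG aG
  rw [evw_append, evw_append, evw_invw]

theorem letG_one : letG gam 1 = aG⁻¹ := by
  have h := letG_flipL gam 0
  rw [show flipL 0 = 1 from rfl] at h
  rw [h, ← evw_single 0]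
  rfl

theorem subs_eq : cert.subs = [[0], [4], [6], [8], [10], [12], [14], [16], Xw] := rfl

/-! ### the 693 points -/

/-- the enumeration of the 693 points -/
def eOm : Fin 693 → ℕ := fun i => om i.val

theorem om_inj (i j : ℕ) (hi : i < 693) (hj : j < 693) (h : om i = om j) : i = j := by
  rw [← (om_facts i hi).2.2, ← (om_facts j hj).2.2, h]

theorem eOm_inj : Function.Injective eOm := by
  intro i j h
  exact Fin.ext (om_inj i.val j.val i.isLt j.isLt h)

theorem flipL_lt (l : ℕ) (hl : l < 18) : flipL l < 18 := by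
  rcases Nat.mod_two_eq_zero_or_one l with h | h
  · rw [flipL_even l h]; omega
  · rw [flipL_odd l h]; omega

theorem invw_lt (w : List ℕ) (hw : ∀ l ∈ w, l < 18) : ∀ l ∈ invw w, l < 18 := by
  induction w with
  | nil => intro l hl; simp [invw] at hl
  | cons a w ih =>
    intro l hl
    simp only [invw, List.mem_append, List.mem_singleton] at hl
    rcases hl with hl | rfl
    · exact ih (fun l' hl' => hw l' (by simp [hl'])) l hl
    · exact flipL_lt a (hw a (by simp))

/-- the words of the eight generators `c, ..., i, x` -/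
def gword (s : ℕ) : List ℕ := [[4], [6], [8], [10], [12], [14], [16], Xw].getD s []

theorem gword_mem (s : ℕ) (hs : s < 8) : gword s ∈ cert.subs := by
  rw [subs_eq]
  interval_cases s <;> simp [gword]

theorem gword_lt (s : ℕ) (hs : s < 8) : ∀ l ∈ gword s, l < 18 := by
  interval_cases s <;> decide

theorem gword_match (s : ℕ) (hs : s < 8) (i : ℕ) (hi : i < 693) :
    walkM (invw (gword s)) (om i) = om (gT s i) := by
  by_cases h7 : s < 7
  · have e : invw (gword s) = [2 * s + 5] := by interval_cases s <;> rfl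
    rw [e]
    exact match_gen s h7 i hi
  · have e : s = 7 := by omega
    subst e
    exact match_x i hi

section WithSetup

variable {φ : G →* Equiv.Perm ℕ} (hS : Setup cert H gam φ)

include hS

theorem H_ne_top : H ≠ ⊤ := by
  intro h
  have hidx : H.index = 3510 := hS.index_eq
  rw [h, Subgroup.index_top] at hidx
  omega

theorem rN_w (w : List ℕ) (hw : ∀ l ∈ w, l < 18) (p : ℕ) (hp : p < 3510) :
    rN φ p (evw gam w) = walkM w p ∧ walkM w p < 3510 := by
  have h1 := rN_word cert gam φ hS.hφ hS.hpts w hw p hp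
  have h2 := walk_eq w hw p hp
  rw [h1.1, h2.1]
  exact ⟨rfl, h2.2⟩

theorem rN_lt (g : G) (p : ℕ) (hp : p < 3510) : rN φ p g < 3510 :=
  (rN_invariant cert gam φ hS.hφ hS.hpts hS.hgen g).1 p hp

theorem phi_eq (g : G) (p : ℕ) : φ g p = rN φ p g⁻¹ := by
  unfold rN
  rw [map_inv, inv_inv]

/-- a word fixing all points is trivial -/
theorem word_one [IsSimpleGroup G] (w : List ℕ) (hw : ∀ l ∈ w, l < 18) (h : fixAllM w = true) :
    evw gam w = 1 :=
  faith hS (H_ne_top hS) w hw (fixAllM_sound w hw h)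

/-! ### `a` is central in `H` -/

theorem comm_of_word [IsSimpleGroup G] (w : List ℕ)
    (hw : ∀ l ∈ [0] ++ w ++ [1] ++ invw w, l < 18)
    (h : fixAllM ([0] ++ w ++ [1] ++ invw w) = true) : evw gam w * aG = aG * evw gam w := by
  have h1 := word_one hS _ hw h
  rw [evw_append, evw_append, evw_append, evw_invw, evw_single 1, letG_one] at h1
  change aG * evw gam w * aG⁻¹ * (evw gam w)⁻¹ = 1 at h1
  have h2 : aG * evw gam w * aG⁻¹ = evw gam w := mul_inv_eq_one.mp h1
  have h3 : aG * evw gam w = evw gam w * aG := mul_inv_eq_iff_eq_mul.mp h2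
  exact h3.symm

theorem sub_comm [IsSimpleGroup G] (w : List ℕ) (hw : w ∈ cert.subs) :
    evw gam w * aG = aG * evw gam w := by
  rw [subs_eq] at hw
  simp only [List.mem_cons, List.not_mem_nil, or_false] at hw
  have hg : ∀ j, j < 7 → evw gam [2 * j + 4] * aG = aG * evw gam [2 * j + 4] := by
    intro j hj
    have hc := allB _ _ comm_gen j hj
    interval_cases j <;> exact comm_of_word hS _ (by decide) hc
  rcases hw with rfl | rfl | rfl | rfl | rfl | rfl | rfl | rfl | rfl
  · rfl
  · exact hg 0 (by norm_num)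
  · exact hg 1 (by norm_num)
  · exact hg 2 (by norm_num)
  · exact hg 3 (by norm_num)
  · exact hg 4 (by norm_num)
  · exact hg 5 (by norm_num)
  · exact hg 6 (by norm_num)
  · exact comm_of_word hS Xw (by decide) comm_ax

/-- `a` commutes with `H` -/
theorem aG_comm [IsSimpleGroup G] : ∀ h ∈ H, h * aG = aG * h := by
  intro h hh
  have hc := hS.hH hh
  clear hh
  induction hc using Subgroup.closure_induction with
  | mem y hy =>
    obtain ⟨w, hw, rfl⟩ := hy
    exact sub_comm hS w hw
  | one => rw [one_mul, mul_one]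
  | mul x y _ _ hx hy => rw [mul_assoc, hy, ← mul_assoc, hx, mul_assoc]
  | inv x _ hx =>
    have : x⁻¹ * (x * aG) * x⁻¹ = x⁻¹ * (aG * x) * x⁻¹ := by rw [hx]
    simpa [mul_assoc] using this.symm

theorem aG_mem : aG ∈ H := by
  have := hS.hsubs [0] (by rw [subs_eq]; simp)
  exact this

/-! ### the action on the 693 points -/

theorem phi_om_mem (h : G) (hh : h ∈ H) (i : Fin 693) : ∃ j : Fin 693, φ h (eOm i) = eOm j := by
  obtain ⟨h1, h2, _⟩ := om_facts i.val i.isLt
  have hlt : rN φ (om i.val) h⁻¹ < 3510 := rN_lt hS _ _ h1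
  have horb := (hS.orb_pres Fi22aData.orb_ok h (hS.hH hh)).2 (om i.val) h1
  rw [h2] at horb
  obtain ⟨h3, h4⟩ := oix_facts _ hlt horb
  refine ⟨⟨oix (rN φ (om i.val) h⁻¹), h3⟩, ?_⟩
  show φ h (om i.val) = om (oix (rN φ (om i.val) h⁻¹))
  rw [h4, phi_eq hS]

theorem exists_rho : ∃ ρ : ↥H →* Equiv.Perm (Fin 693), ∀ (h : ↥H) (i : Fin 693),
    eOm (ρ h i) = φ (h : G) (eOm i) := by
  obtain ⟨ρ, hρ⟩ := exists_restrict (φ.comp H.subtype) eOm eOm_inj
    (fun h i => phi_om_mem hS h.1 h.2 i)
  exact ⟨ρ, hρ⟩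

section WithRho

variable (ρ : ↥H →* Equiv.Perm (Fin 693))
  (hρ : ∀ (h : ↥H) (i : Fin 693), eOm (ρ h i) = φ (h : G) (eOm i))

include hρ

theorem rho_word (w : List ℕ) (hw : ∀ l ∈ w, l < 18) (hm : evw gam w ∈ H) (i : Fin 693) :
    om (ρ ⟨evw gam w, hm⟩ i).val = walkM (invw w) (om i.val) := by
  have h1 := hρ ⟨evw gam w, hm⟩ i
  have h2 : φ (evw gam w) (om i.val) = walkM (invw w) (om i.val) := by
    rw [phi_eq hS, ← evw_invw]
    exact (rN_w hS (invw w) (invw_lt w hw) _ (om_facts i.val i.isLt).1).1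
  exact h1.trans h2

/-- the eight generators `c, ..., i, x` as elements of `H` -/
noncomputable def gel (s : Fin 8) : ↥H := ⟨evw gam (gword s.val), hS.hsubs _ (gword_mem s.val s.isLt)⟩

theorem rho_gel (s : Fin 8) (i : Fin 693) : ((ρ (gel hS s) i : Fin 693) : ℕ) = gT s.val i.val := by
  have h1 := rho_word hS ρ hρ (gword s.val) (gword_lt s.val s.isLt)
    (hS.hsubs _ (gword_mem s.val s.isLt)) i
  rw [gword_match s.val s.isLt i.val i.isLt] at h1
  exact om_inj _ _ (Fin.isLt _) (gT_lt' s.val s.isLt i.val i.isLt) h1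

theorem rho_a : ρ ⟨aG, aG_mem hS⟩ = 1 := by
  apply Equiv.ext
  intro i
  apply Fin.ext
  have h1 := rho_word hS ρ hρ [0] (by decide) (aG_mem hS) i
  have h2 : walkM (invw [0]) (om i.val) = om i.val := match_a i.val i.isLt
  rw [h2] at h1
  have := om_inj _ _ (Fin.isLt _) i.isLt h1
  exact this

end WithRho

/-! ### the kernel of the action -/

theorem rN_base (h : G) (hh : h ∈ H) : rN φ 0 h = 0 := by
  have h0 : (0 : ℕ) < cert.n := by rw [cert_n]; norm_num
  have h1 := (hS.psi_equiv h).1 0 h0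
  have hlt : rN φ 0 h < cert.n := by rw [cert_n]; exact rN_lt hS h 0 (by norm_num)
  have h2 : ract (psi cert H gam 0) h = psi cert H gam 0 := by
    rw [psi_zero cert H gam hS.hglob]
    unfold ract basePt
    show ((h⁻¹ * 1 : G) : G ⧸ H) = ((1 : G) : G ⧸ H)
    rw [QuotientGroup.eq]
    simpa using hh
  rw [h2] at h1
  exact hS.psi_injOn hlt h0 h1

/-- the generators `b, ..., i` are conjugates of `a` -/
theorem tG_gw [IsSimpleGroup G] (s : ℕ) (hs : s < 8) : tG (gw s) = gam (s + 1) := by
  have hc := allB _ _ conj_gen s hs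
  have hl : ∀ l ∈ invw (gw s) ++ [0] ++ gw s ++ [2 * s + 3], l < 18 := by
    interval_cases s <;> decide
  have h1 := word_one hS _ hl hc
  rw [evw_append, ← tG_eq, evw_single] at h1
  have h2 : letG gam (2 * s + 3) = (gam (s + 1))⁻¹ := by
    have := letG_flipL gam (2 * (s + 1))
    rw [flipL_even' (s + 1)] at this
    rw [show 2 * s + 3 = 2 * (s + 1) + 1 by ring, this]
    congr 1
    simp [letG]
  rw [h2] at h1
  exact mul_inv_eq_one.mp h1

theorem center_bot [IsSimpleGroup G] : Subgroup.center G = ⊥ := by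
  rcases (inferInstance : (Subgroup.center G).Normal).eq_bot_or_eq_top with h | h
  · exact h
  · exfalso
    have hc : gam 0 * gam 1 = gam 1 * gam 0 := by
      have : gam 1 ∈ Subgroup.center G := by rw [h]; trivial
      exact Subgroup.mem_center_iff.mp this (gam 0)
    have e1 : evw gam [0, 2] = gam 0 * gam 1 := by simp [evw, letG]
    have e2 : evw gam [2, 0] = gam 1 * gam 0 := by simp [evw, letG]
    have h1 := (rN_w hS [0, 2] (by decide) 0 (by norm_num)).1
    have h2 := (rN_w hS [2, 0] (by decide) 0 (by norm_num)).1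
    rw [e1, hc, ← e2, h2] at h1
    exact ab_ne h1.symm

section WithRho2

variable (ρ : ↥H →* Equiv.Perm (Fin 693))
  (hρ : ∀ (h : ↥H) (i : Fin 693), eOm (ρ h i) = φ (h : G) (eOm i))

include hρ

/-- an element of the kernel commutes with the transposition of every point of the orbit -/
theorem ker_comm [IsSimpleGroup G] (h : ↥H) (hk : ρ h = 1) (g : List ℕ) (hg : ∀ l ∈ g, l < 18)
    (i : ℕ) (hi : i < 693) (hgi : walkM g 0 = om i) : (h : G) * tG g = tG g * (h : G) := by
  apply comm_of_fix hS aG (aG_comm hS) g hg (h : G)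
  rw [(walk_eq g hg 0 (by norm_num)).1, hgi]
  have h1 := hρ h ⟨i, hi⟩
  rw [hk] at h1
  exact h1.symm

theorem ker_comm_gen [IsSimpleGroup G] (h : ↥H) (hk : ρ h = 1) (s : ℕ) (hs0 : 1 ≤ s) (hs : s < 8) :
    (h : G) * gam (s + 1) = gam (s + 1) * (h : G) := by
  rw [← tG_gw hS s hs]
  have hp := allB _ _ gpt_ok s hs
  rw [Bool.or_eq_true] at hp
  rcases hp with hp | hp
  · exfalso
    have : s = 0 := Nat.eq_of_beq_eq_true hp
    omega
  · rw [Bool.and_eq_true] at hp
    obtain ⟨h3, h4⟩ := oix_facts (gpt s) (Nat.le_of_ble_eq_true hp.1) (Nat.eq_of_beq_eq_true hp.2)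
    have hw := Nat.eq_of_beq_eq_true (allB _ _ gw_pt s hs)
    exact ker_comm hS ρ hρ h hk (gw s) (gw_lt s hs) (oix (gpt s)) h3 (by rw [hw, h4])

theorem ker_fix14 [IsSimpleGroup G] (h : ↥H) (hk : ρ h = 1) (h14 : rN φ 14 (h : G) = 14) : h = 1 := by
  have hb : (h : G) * gam 1 = gam 1 * (h : G) := by
    rw [← tG_gw hS 0 (by norm_num)]
    apply comm_of_fix hS aG (aG_comm hS) (gw 0) (gw_lt 0 (by norm_num)) (h : G)
    have hw := Nat.eq_of_beq_eq_true (allB _ _ gw_pt 0 (by norm_num))
    rw [(walk_eq (gw 0) (gw_lt 0 (by norm_num)) 0 (by norm_num)).1, hw, gpt_zero]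
    unfold rN at h14
    have := congrArg (φ (h : G)) h14
    simpa using this.symm
  have ha : (h : G) * gam 0 = gam 0 * (h : G) := by
    have := aG_comm hS (h : G) h.2
    have e : aG = gam 0 := by simp [aG, evw, letG]
    rwa [e] at this
  have hall : ∀ j, j < 9 → (h : G) * gam j = gam j * (h : G) := by
    intro j hj
    rcases Nat.lt_or_ge j 2 with h2 | h2
    · interval_cases j
      · exact ha
      · exact hb
    · have := ker_comm_gen hS ρ hρ h hk (j - 1) (by omega) (by omega)
      rwa [show j - 1 + 1 = j by omega] at this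
  have hcen : (h : G) ∈ Subgroup.center G := by
    rw [Subgroup.mem_center_iff]
    intro g
    have hg : g ∈ Subgroup.closure (gam '' {i | i < cert.k}) := by rw [hS.hgen]; trivial
    induction hg using Subgroup.closure_induction with
    | mem y hy =>
      obtain ⟨j, hj, rfl⟩ := hy
      exact (hall j hj).symm
    | one => rw [one_mul, mul_one]
    | mul x y _ _ hx hy => rw [mul_assoc, hy, ← mul_assoc, hx, mul_assoc]
    | inv x _ hx =>
      have : x⁻¹ * (x * (h : G)) * x⁻¹ = x⁻¹ * ((h : G) * x) * x⁻¹ := by rw [hx]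
      simpa [mul_assoc] using this.symm
  rw [center_bot hS] at hcen
  exact Subtype.ext (Subgroup.mem_bot.mp hcen)

theorem ker_le [IsSimpleGroup G] (h : ↥H) (hk : ρ h = 1) : h = 1 ∨ h = ⟨aG, aG_mem hS⟩ := by
  have hq : rN φ 14 (h : G) < 3510 := rN_lt hS _ _ (by norm_num)
  have hfix : ∀ j, j < 5 → walkM (tW j) (rN φ 14 (h : G)) = rN φ 14 (h : G) := by
    intro j hj
    have htp := tw_pt j hj
    have hc := ker_comm hS ρ hρ h hk (tw j) (tw_lt j hj) (tix j) htp.2 htp.1
    have e : tG (tw j) = evw gam (tW j) := tG_eq (tw j)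
    rw [e] at hc
    have h14 : rN φ 14 (evw gam (tW j)) = 14 := by
      rw [(rN_w hS (tW j) (tW_lt j hj) 14 (by norm_num)).1]
      exact Nat.eq_of_beq_eq_true (allB _ _ tW_fix14 j hj)
    rw [← (rN_w hS (tW j) (tW_lt j hj) _ hq).1, ← rN_mul, hc, rN_mul, h14]
  have ht := allB _ _ test_all _ hq
  rw [Bool.or_eq_true] at ht
  rcases ht with ht | ht
  · exfalso
    have h5 : (Nat.beq (walkM (tW 0) (rN φ 14 (h : G))) (rN φ 14 (h : G)) &&
        Nat.beq (walkM (tW 1) (rN φ 14 (h : G))) (rN φ 14 (h : G)) &&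
        Nat.beq (walkM (tW 2) (rN φ 14 (h : G))) (rN φ 14 (h : G)) &&
        Nat.beq (walkM (tW 3) (rN φ 14 (h : G))) (rN φ 14 (h : G)) &&
        Nat.beq (walkM (tW 4) (rN φ 14 (h : G))) (rN φ 14 (h : G))) = true := by
      rw [hfix 0 (by norm_num), hfix 1 (by norm_num), hfix 2 (by norm_num), hfix 3 (by norm_num),
        hfix 4 (by norm_num)]
      simp [Nat.beq_refl]
    rw [h5] at ht
    exact Bool.noConfusion ht
  · rw [Bool.or_eq_true, Bool.or_eq_true] at ht
    rcases ht with (ht | ht) | ht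
    · left
      exact ker_fix14 hS ρ hρ h hk (Nat.eq_of_beq_eq_true ht)
    · right
      have h1 : rN φ 14 (h : G) = 1 := Nat.eq_of_beq_eq_true ht
      have hk' : ρ (h * (⟨aG, aG_mem hS⟩ : ↥H)⁻¹) = 1 := by
        rw [map_mul, map_inv, rho_a hS ρ hρ, hk, inv_one, mul_one]
      have h14 : rN φ 14 ((h * (⟨aG, aG_mem hS⟩ : ↥H)⁻¹ : ↥H) : G) = 14 := by
        show rN φ 14 ((h : G) * aG⁻¹) = 14
        rw [rN_mul, h1, ← letG_one, ← evw_single 1, (rN_w hS [1] (by decide) 1 (by norm_num)).1]
        exact a_1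
      have := ker_fix14 hS ρ hρ _ hk' h14
      exact mul_inv_eq_one.mp this
    · exfalso
      have h0 : rN φ 14 (h : G) = 0 := Nat.eq_of_beq_eq_true ht
      have hb := rN_base hS (h : G) h.2
      have := congrArg (fun p => rN φ p (h : G)⁻¹) (h0.trans hb.symm)
      simp only [rN_inv_cancel] at this
      omega

end WithRho2

/-! ### the main theorem -/

open Cfsg.Agent.Lib.Helper28.Sp44F4 in
theorem main_aux [IsSimpleGroup G] (hcardG : Nat.card G = 64561751654400) :
    Cfsg.IsNonsplitDoubleCover ↥H (Cfsg.PSU 6 F4 2) := by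
  obtain ⟨ρ, hρ⟩ := exists_rho hS
  obtain ⟨θ, hθ⟩ := exists_theta
  obtain ⟨τ, hτ⟩ := exists_gens_packed
  have hτθ := hτ θ hθ
  haveI : Finite G := Nat.finite_of_card_ne_zero (by rw [hcardG]; norm_num)
  haveI : Finite (Cfsg.PSU 6 F4 2) := Nat.finite_of_card_ne_zero (by rw [card_PSU]; norm_num)
  -- the generators act in the same way on both sides
  have hg : ∀ s, ρ (gel hS s) = θ (τ s) := by
    intro s
    apply Equiv.ext
    intro i
    apply Fin.ext
    rw [rho_gel hS ρ hρ s i, hτθ s i]
  -- the centraliser of the generators is trivial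
  have hcent : ∀ π : Equiv.Perm (Fin 693), (∀ s, π * ρ (gel hS s) = ρ (gel hS s) * π) → π = 1 := by
    intro π hπ
    refine cent_trivial (fun s => ρ (gel hS s))
      (fun i => if h : parL.getD i.val 0 < 693 then ⟨parL.getD i.val 0, h⟩ else i)
      (fun i => if h : letL.getD i.val 0 < 8 then ⟨letL.getD i.val 0, h⟩ else 0)
      (fun i => rkL.getD i.val 0) ⟨5, by norm_num⟩ ?_ [0, 2, 3, 5, 6] ?_ ?_ π hπ
    · intro i hi
      have hi5 : i.val ≠ 5 := fun h => hi (Fin.ext h)
      obtain ⟨h1, h2, h3, h4⟩ := tree_ok i.val i.isLt hi5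
      simp only [dif_pos h2, dif_pos h3]
      refine ⟨h1, ?_⟩
      apply Fin.ext
      rw [rho_gel hS ρ hρ]
      exact h4
    · intro s hs
      apply Fin.ext
      rw [rho_gel hS ρ hρ]
      apply stab_fix
      simp only [List.mem_cons, List.not_mem_nil, or_false] at hs ⊢
      rcases hs with rfl | rfl | rfl | rfl | rfl <;> simp
    · intro i hi
      apply Fin.ext
      apply stab_unique i.val i.isLt
      intro s hs
      simp only [List.mem_cons, List.not_mem_nil, or_false] at hs
      have key : ∀ t : Fin 8, t ∈ ([0, 2, 3, 5, 6] : List (Fin 8)) → gT t.val i.val = i.val := by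
        intro t ht
        have := congrArg Fin.val (hi t ht)
        rwa [rho_gel hS ρ hρ] at this
      rcases hs with rfl | rfl | rfl | rfl | rfl
      · exact key 0 (by simp)
      · exact key 2 (by simp)
      · exact key 3 (by simp)
      · exact key 5 (by simp)
      · exact key 6 (by simp)
  -- the element `a` of `H`
  have haH : (⟨aG, aG_mem hS⟩ : ↥H) ∈ Subgroup.center ↥H := by
    rw [Subgroup.mem_center_iff]
    intro h
    exact Subtype.ext (aG_comm hS (h : G) h.2)
  have ha1 : (⟨aG, aG_mem hS⟩ : ↥H) ≠ 1 := by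
    intro h
    have h1 : aG = 1 := congrArg Subtype.val h
    have h2 := (rN_w hS [1] (by decide) 14 (by norm_num)).1
    rw [evw_single, letG_one, h1, inv_one, rN_one] at h2
    have := a_14
    omega
  -- kernel = centre
  have hker : ρ.ker = Subgroup.center ↥H := by
    apply le_antisymm
    · intro h hh
      rcases ker_le hS ρ hρ h (MonoidHom.mem_ker.mp hh) with rfl | rfl
      · exact Subgroup.one_mem _
      · exact haH
    · intro c hc
      rw [MonoidHom.mem_ker]
      apply hcent
      intro s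
      rw [← map_mul, ← map_mul, Subgroup.mem_center_iff.mp hc (gel hS s)]
  have hZ : Nat.card (Subgroup.center ↥H) = 2 := by
    rw [Nat.card_eq_two_iff]
    refine ⟨1, ⟨⟨aG, aG_mem hS⟩, haH⟩, ?_, ?_⟩
    · intro h
      exact ha1 (congrArg Subtype.val h).symm
    · apply Set.eq_univ_of_forall
      intro c
      have hc : (c : ↥H) ∈ ρ.ker := by rw [hker]; exact c.2
      rcases ker_le hS ρ hρ (c : ↥H) (MonoidHom.mem_ker.mp hc) with h | h
      · left; exact Subtype.ext h
      · right; exact Subtype.ext h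
  -- order of `H`
  have hcardH : Nat.card ↥H = 2 * Nat.card (Cfsg.PSU 6 F4 2) := by
    have hidx : H.index = 3510 := hS.index_eq
    have h1 := H.card_mul_index
    rw [hidx, hcardG] at h1
    rw [card_PSU]
    omega
  -- the action of `PSU`
  have hZθ : Subgroup.center ↥(Cfsg.SU 6 F4 2) ≤ θ.ker := by
    intro z hz
    rw [MonoidHom.mem_ker]
    apply hcent
    intro s
    rw [hg s, ← map_mul, ← map_mul, Subgroup.mem_center_iff.mp hz (τ s)]
  let θ' : Cfsg.PSU 6 F4 2 →* Equiv.Perm (Fin 693) :=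
    QuotientGroup.lift (Subgroup.center ↥(Cfsg.SU 6 F4 2)) θ hZθ
  have hθ' : ∀ A : ↥(Cfsg.SU 6 F4 2), θ' (QuotientGroup.mk A) = θ A := fun A => rfl
  have hle : ρ.range ≤ θ'.range := by
    have hkH : Subgroup.closure {g | ∃ w ∈ cert.subs, g = evw gam w} ≤ H := by
      rw [Subgroup.closure_le]
      rintro g ⟨w, hw, rfl⟩
      exact hS.hsubs w hw
    have key : ∀ g (hgc : g ∈ Subgroup.closure {g | ∃ w ∈ cert.subs, g = evw gam w}) (hh : g ∈ H),
        ρ ⟨g, hh⟩ ∈ θ'.range := by
      intro g hgc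
      induction hgc using Subgroup.closure_induction with
      | mem y hy =>
        intro hh
        obtain ⟨w, hw, rfl⟩ := hy
        rw [subs_eq] at hw
        simp only [List.mem_cons, List.not_mem_nil, or_false] at hw
        have hs : ∀ s : Fin 8, ρ ⟨evw gam (gword s.val), hS.hsubs _ (gword_mem s.val s.isLt)⟩ ∈ θ'.range :=
          fun s => ⟨QuotientGroup.mk (τ s), (hθ' (τ s)).trans (hg s).symm⟩
        rcases hw with rfl | rfl | rfl | rfl | rfl | rfl | rfl | rfl | rfl
        · have : ρ ⟨evw gam [0], hh⟩ = 1 := rho_a hS ρ hρ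
          rw [this]
          exact Subgroup.one_mem _
        · exact hs 0
        · exact hs 1
        · exact hs 2
        · exact hs 3
        · exact hs 4
        · exact hs 5
        · exact hs 6
        · exact hs 7
      | one =>
        intro hh
        have : (⟨1, hh⟩ : ↥H) = 1 := rfl
        rw [this, map_one]
        exact Subgroup.one_mem _
      | mul x y hx hy ihx ihy =>
        intro hh
        have : (⟨x * y, hh⟩ : ↥H) = ⟨x, hkH hx⟩ * ⟨y, hkH hy⟩ := rfl
        rw [this, map_mul]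
        exact Subgroup.mul_mem _ (ihx _) (ihy _)
      | inv x hx ihx =>
        intro hh
        have : (⟨x⁻¹, hh⟩ : ↥H) = (⟨x, hkH hx⟩ : ↥H)⁻¹ := rfl
        rw [this, map_inv]
        exact Subgroup.inv_mem _ (ihx _)
    rintro π ⟨h, rfl⟩
    exact key (h : G) (hS.hH h.2) h.2
  refine ⟨hZ, iso_of_perm ρ θ' hle hker hZ hcardH, ?_⟩
  -- non-split: `a` is a product of six conjugates of `c`
  have hkw : ∀ i : Fin 6, evw gam (kw i.val) ∈ H := by
    intro i
    apply PSetup.mem_of_fix0 hS (kw i.val) (kw_lt i.val i.isLt)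
    rw [(walk_eq (kw i.val) (kw_lt i.val i.isLt) 0 (by norm_num)).1]
    exact Nat.eq_of_beq_eq_true (allB _ _ kw_fix0 i.val i.isLt)
  have h6 := word_one hS sixW sixW_lt six_fix
  have hcj : ∀ i, evw gam (cj i) = (evw gam (kw i))⁻¹ * evw gam [4] * evw gam (kw i) := by
    intro i
    unfold cj
    rw [evw_append, evw_append, evw_invw]
  unfold sixW at h6
  simp only [evw_append, hcj, evw_single 1, letG_one] at h6
  have h7 := inv_mul_eq_one.mp h6
  refine nonsplit_of_even (⟨aG, aG_mem hS⟩ : ↥H) (gel hS 0) ha1 haH hZ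
    (fun i => ⟨evw gam (kw i.val), hkw i⟩) ?_
  have hfr : List.finRange 6 = [0, 1, 2, 3, 4, 5] := by decide
  rw [hfr]
  simp only [List.map_cons, List.map_nil, List.prod_cons, List.prod_nil, mul_one]
  apply Subtype.ext
  simp only [Subgroup.coe_mul, Subgroup.coe_inv]
  exact h7

end WithSetup

open Cfsg.Agent.Lib.Helper28.Sp44F4 in
/-- `H = <a, c, ..., i, (abcdeh)^5>` is a non-split double cover of `PSU(6, 2)` -/
theorem main : ∃ (K : Type) (_ : Field K) (_ : Fintype K), Fintype.card K = 4 ∧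
    Cfsg.IsNonsplitDoubleCover ↥H (Cfsg.PSU 6 K 2) := by
  obtain ⟨φ, hS⟩ := Cfsg.Agent.S1687.setup
  have h22 := Cfsg.Agent.S1696.result
  haveI : IsSimpleGroup G := h22.1
  exact ⟨F4, inferInstance, inferInstance, F4.card_eq, main_aux hS h22.2⟩

end Cfsg.Agent.Lib.Helper57.U62
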