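import Cfsg.Prelude.Def_SporadicB
import Cfsg.Agent.Lib.Helper57.U62Fi
import Cfsg.Agent.Lib.Helper57.ThreeTransp

/-!
# `Fi22` as a 3-transposition group (S0471)

Glue, as for `Fi23` (`Fi23TT`): helper98's `S1696` (the presented `Fi22` is simple of the right order), helper28's
coset enumeration of `H = <a, c, ..., i, (abcdeh)^5>` (3510 cosets, `H`-orbits 1 + 2816 + 693), and `U62Fi`
(`H` is a non-split double cover of `PSU(6, 2)`, `a` is central in `H`).  `H` is maximal, so `C(a) = H`; the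
class of `a` has 3510 elements, generates, and is a class of 3-transpositions (two word identities).
-/

set_option autoImplicit false
set_option linter.all false
set_option maxRecDepth 100000

namespace Cfsg.Agent.Lib.Helper57.Fi22TT

open Cfsg Cfsg.Spor Cfsg.Agent.Lib.Helper28 Cfsg.Agent.Lib.Helper57 Cfsg.Agent.Lib.Helper57.U62

/-- the path from the base point to the root 7 of the orbit of length 693 -/
def w7 : List ℕ := [2, 0, 4, 2, 6, 8, 14]

theorem orb_lt_chk : allBelowF (fun p => Nat.blt (cert.ORB p) 3) 3510 = true := by decide +kernel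

theorem orb_lt (p : ℕ) (hp : p < 3510) : cert.ORB p < 3 :=
  Nat.le_of_ble_eq_true (allB _ _ orb_lt_chk p hp)

theorem orb_0 : cert.ORB 0 = 0 := by decide +kernel
theorem orb_1 : cert.ORB 1 = 1 := by decide +kernel
theorem orb_7 : cert.ORB 7 = 2 := by decide +kernel
theorem root_0 : cert.ROOT 0 = 0 := by decide +kernel
theorem root_1 : cert.ROOT 1 = 1 := by decide +kernel
theorem root_2 : cert.ROOT 2 = 7 := by decide +kernel
theorem walk_1 : walkT cert 0 [2] = 1 := by decide +kernel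
theorem walk_7 : walkT cert 0 w7 = 7 := by decide +kernel

/-- `(a * b⁻¹ a b)^3` -/
def T1 : List ℕ := [0, 3, 0, 2, 0, 3, 0, 2, 0, 3, 0, 2]

/-- `(a * w7⁻¹ a w7)^2` -/
def T2 : List ℕ := ([0] ++ invw w7 ++ [0] ++ w7) ++ ([0] ++ invw w7 ++ [0] ++ w7)

theorem t1_fix : fixAllM T1 = true := by decide +kernel
theorem t2_fix : fixAllM T2 = true := by decide +kernel
theorem aa_fix : fixAllM [0, 0] = true := by decide +kernel

/-- the sizes of the three orbits of `H` on its 3510 cosets -/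
def sz : ℕ → ℕ := fun j => [1, 2816, 693].getD j 0

theorem arith : ∀ J ∈ (Finset.range 3).powerset, 0 ∈ J → (∑ j ∈ J, sz j) ∣ 3510 →
    J = {0} ∨ J = Finset.range 3 := by decide

theorem cnt_all (j : ℕ) (hj : j < 3) : countLab cert.ORB j 3510 = sz j := by
  interval_cases j
  · have := Cfsg.Agent.S1687.cnt0
    rw [show Cfsg.Agent.S1687.cert.ORB 0 = 0 from orb_0] at this
    exact this
  · have := Cfsg.Agent.S1687.cnt1
    rw [show Cfsg.Agent.S1687.cert.ORB 1 = 1 from orb_1] at this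
    exact this
  · have := Cfsg.Agent.S1687.cnt7
    rw [show Cfsg.Agent.S1687.cert.ORB 7 = 2 from orb_7] at this
    exact this

section WithSetup

variable {φ : G →* Equiv.Perm ℕ} (hS : Setup cert H gam φ)

include hS

theorem maximal (K : Subgroup G) (hK : H ≤ K) : K = H ∨ K = ⊤ := by
  have hn : cert.n = 3510 := rfl
  apply PSetup.maximal hS Fi22aData.orb_ok 3 ?_ sz ?_ orb_0 rfl ?_ K hK
  · intro p hp
    rw [hn] at hp
    exact orb_lt p hp
  · intro j hj
    rw [hn]; exact cnt_all j hj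
  · rw [hn]; exact arith

/-- representatives of the `H`-orbits on the cosets -/
def R : Set G := {1, (evw gam [2])⁻¹, (evw gam w7)⁻¹}

theorem psi_root (w : List ℕ) (hw : ∀ l ∈ w, l < 2 * cert.k) (r : ℕ)
    (hwr : walkT cert 0 w = r) :
    psi cert H gam r = (((evw gam w)⁻¹ : G) : G ⧸ H) := by
  have h := (PSetup.act_word hS w hw 0 (PSetup.pos_n hS)).1
  rw [hwr, psi_zero cert H gam hS.hglob] at h
  rw [← h]
  unfold basePt
  show (((evw gam w)⁻¹ * 1 : G) : G ⧸ H) = _
  rw [mul_one]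

theorem hR : ∀ x : G ⧸ H, ∃ h ∈ H, ∃ r ∈ R, x = ((h * r : G) : G ⧸ H) := by
  intro x
  have hn : cert.n = 3510 := rfl
  obtain ⟨p, hp, rfl⟩ := PSetup.surj hS x
  obtain ⟨h, hh, hpe⟩ := hS.reach_root Fi22aData.orb_ok _ p rfl hp
  have hlt := orb_lt p (by rw [← hn]; exact hp)
  have key : ∀ (w : List ℕ) (hw : ∀ l ∈ w, l < 2 * cert.k) (r : ℕ),
      walkT cert 0 w = r → r < cert.n → cert.ROOT (cert.ORB p) = r →
      (evw gam w)⁻¹ ∈ R →
      ∃ h ∈ H, ∃ r ∈ R, psi cert H gam p = ((h * r : G) : G ⧸ H) := by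
    intro w hw r hwr hr hroot hmem
    rw [hroot] at hpe
    refine ⟨h⁻¹, H.inv_mem hh, (evw gam w)⁻¹, hmem, ?_⟩
    have h1 := (hS.psi_equiv h).1 r hr
    rw [← hpe, psi_root hS w hw r hwr] at h1
    rw [h1]
    rfl
  have hcases : cert.ORB p = 0 ∨ cert.ORB p = 1 ∨ cert.ORB p = 2 := by
    omega
  rcases hcases with h0 | h1 | h2
  · refine key [] (by simp) 0 rfl (by rw [hn]; norm_num) (by rw [h0]; exact root_0) ?_
    left
    simp [evw]
  · refine key [2] (by decide) 1 walk_1 (by rw [hn]; norm_num) (by rw [h1]; exact root_1) ?_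
    right; left; rfl
  · refine key w7 (by decide) 7 walk_7 (by rw [hn]; norm_num) (by rw [h2]; exact root_2) ?_
    right; right; rfl

theorem aG_sq [IsSimpleGroup G] : aG * aG = 1 := by
  have := word_one hS [0, 0] (by decide) aa_fix
  rwa [show ([0, 0] : List ℕ) = [0] ++ [0] from rfl, evw_append] at this

theorem aG_ne : aG ≠ 1 := by
  intro h1
  have h2 := (rN_w hS [1] (by decide) 14 (by norm_num)).1
  rw [evw_single, letG_one, h1, inv_one, rN_one] at h2
  have := a_14
  omega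

theorem hRz [IsSimpleGroup G] :
    ∀ r ∈ R, (aG * (r * aG * r⁻¹)) ^ 2 = 1 ∨ (aG * (r * aG * r⁻¹)) ^ 3 = 1 := by
  intro r hr
  rcases hr with rfl | rfl | rfl
  · left
    rw [one_mul, inv_one, mul_one, aG_sq hS, one_pow]
  · right
    rw [inv_inv]
    have h := word_one hS T1 (by decide) t1_fix
    have e : evw gam T1 = (aG * ((evw gam [2])⁻¹ * aG * evw gam [2])) ^ 3 := by
      have e1 : evw gam [0, 3, 0, 2] = aG * ((evw gam [2])⁻¹ * aG * evw gam [2]) := by
        rw [show ([0, 3, 0, 2] : List ℕ) = [0] ++ (invw [2] ++ [0] ++ [2]) from rfl, evw_append,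
          ← tG_eq]
        rfl
      rw [show T1 = [0, 3, 0, 2] ++ ([0, 3, 0, 2] ++ [0, 3, 0, 2]) from rfl, evw_append, evw_append,
        e1]
      simp only [pow_succ, pow_zero, one_mul, mul_assoc]
    rw [← e]
    exact h
  · left
    rw [inv_inv]
    have h := word_one hS T2 (by decide) t2_fix
    have e : evw gam T2 = (aG * ((evw gam w7)⁻¹ * aG * evw gam w7)) ^ 2 := by
      have e1 : evw gam ([0] ++ invw w7 ++ [0] ++ w7) = aG * ((evw gam w7)⁻¹ * aG * evw gam w7) := by
        rw [show ([0] ++ invw w7 ++ [0] ++ w7 : List ℕ) = [0] ++ (invw w7 ++ [0] ++ w7) from rfl,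
          evw_append, ← tG_eq]
        rfl
      unfold T2
      rw [evw_append, e1, pow_two]
    rw [← e]
    exact h

end WithSetup

/-! ### the theorem -/

theorem main : ∃ (G : Type) (_ : Group G) (_ : Finite G), Cfsg.IsFi22 G ∧ ∃ D : Set G,
    Cfsg.IsThreeTranspositionClass D ∧ Nat.card D = 3510 ∧ ∀ d ∈ D, ∃ (F : Type) (_ : Field F)
      (_ : Fintype F), Fintype.card F = 4 ∧
      Cfsg.IsNonsplitDoubleCover (Subgroup.centralizer ({d} : Set G)) (Cfsg.PSU 6 F 2) := by
  have h22 : Cfsg.IsFi22 Cfsg.Spor.Fi22 := Cfsg.Agent.S1696.result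
  haveI : IsSimpleGroup G := h22.1
  haveI : Finite G := Nat.finite_of_card_ne_zero (by rw [h22.2]; norm_num)
  obtain ⟨φ, hS⟩ := Cfsg.Agent.S1687.setup
  have hidx : H.index = 3510 := hS.index_eq
  have hHtop : H ≠ ⊤ := H_ne_top hS
  have hcent : Subgroup.centralizer ({aG} : Set G) = H :=
    ThreeTransp.centralizer_eq (maximal hS) hHtop (aG_mem hS) (aG_comm hS) (aG_ne hS)
  obtain ⟨K, iK, fK, hK4, hcov⟩ := U62.main
  refine ⟨G, inferInstance, inferInstance, h22, conjugatesOf aG,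
    ⟨?_, ⟨aG, mem_conjugatesOf_self, rfl⟩, ThreeTransp.closure_conjugatesOf (aG_ne hS)⟩, ?_, ?_⟩
  · exact ThreeTransp.isThreeTranspositionSet (aG_comm hS) (aG_sq hS) (aG_ne hS) (R) (hR hS) (hRz hS)
  · rw [ThreeTransp.card_conjugatesOf hcent, hidx]
  · intro d hd
    obtain ⟨g, rfl⟩ := isConj_iff.mp (show IsConj aG d from hd)
    refine ⟨K, iK, fK, hK4, ?_⟩
    have e1 := ThreeTransp.centConj g aG
    have e2 : Subgroup.centralizer ({aG} : Set G) ≃* ↥H := MulEquiv.subgroupCongr hcent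
    exact ThreeTransp.nonsplit_of_mulEquiv (e1.trans e2) hcov

end Cfsg.Agent.Lib.Helper57.Fi22TT
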