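import Cfsg.Agent.Lib.Helper57.Fi23TTDefs

set_option autoImplicit false
set_option maxRecDepth 1000000
set_option linter.all false
set_option Elab.async false

namespace Cfsg.Agent.Lib.Helper57.Fi23TT

open Cfsg.Agent.Lib.Helper98.PermModel Cfsg.Agent.Lib.Helper98.Fi23Model

theorem t1_0 : allRange 0 4000 (fixB tab T1) = true := by decide +kernel
theorem t1_4000 : allRange 4000 4000 (fixB tab T1) = true := by decide +kernel
theorem t1_8000 : allRange 8000 4000 (fixB tab T1) = true := by decide +kernel
theorem t1_12000 : allRange 12000 4000 (fixB tab T1) = true := by decide +kernel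
theorem t1_16000 : allRange 16000 4000 (fixB tab T1) = true := by decide +kernel
theorem t1_20000 : allRange 20000 4000 (fixB tab T1) = true := by decide +kernel
theorem t1_24000 : allRange 24000 4000 (fixB tab T1) = true := by decide +kernel
theorem t1_28000 : allRange 28000 3671 (fixB tab T1) = true := by decide +kernel

theorem t1_fix : FixUpTo tab T1 31671 :=
  (FixUpTo.addR (FixUpTo.addR (FixUpTo.addR (FixUpTo.addR (FixUpTo.addR (FixUpTo.addR (FixUpTo.addR (FixUpTo.addR (upTo_zero _) t1_0 (by decide : 4000 = 0 + 4000)) t1_4000 (by decide : 8000 = 4000 + 4000)) t1_8000 (by decide : 12000 = 8000 + 4000)) t1_12000 (by decide : 16000 = 12000 + 4000)) t1_16000 (by decide : 20000 = 16000 + 4000)) t1_20000 (by decide : 24000 = 20000 + 4000)) t1_24000 (by decide : 28000 = 24000 + 4000)) t1_28000 (by decide : 31671 = 28000 + 3671))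

end Cfsg.Agent.Lib.Helper57.Fi23TT
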