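import Cfsg.Agent.Lib.Helper28.Fi23Data
import Cfsg.Agent.Lib.Helper28.TCFast
import Cfsg.Agent.Lib.Helper28.TCOrbit

/-! Small facts about the orbit labels of helper28's coset table of `Fi23` (31671 cosets of `<a..i>`):
there are exactly the labels 0, 1, 2, with roots 0, 1, 52. -/

set_option autoImplicit false
set_option maxRecDepth 1000000
set_option linter.all false
set_option Elab.async false

namespace Cfsg.Agent.Lib.Helper57.Fi23TT

open Cfsg.Agent.Lib.Helper28

/-- the path from the base point to the root 52 of the orbit of length 3510 -/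
def w52 : List ℕ := [14, 12, 10, 8, 6, 4, 16, 6, 8, 10, 12, 14]

theorem orb_lt_0 : allRangeF (fun p => Nat.blt (Fi23Data.cert.ORB p) 3) 0 8000 = true := by decide +kernel
theorem orb_lt_1 : allRangeF (fun p => Nat.blt (Fi23Data.cert.ORB p) 3) 8000 8000 = true := by decide +kernel
theorem orb_lt_2 : allRangeF (fun p => Nat.blt (Fi23Data.cert.ORB p) 3) 16000 8000 = true := by decide +kernel
theorem orb_lt_3 : allRangeF (fun p => Nat.blt (Fi23Data.cert.ORB p) 3) 24000 7671 = true := by decide +kernel

theorem orb_lt (p : ℕ) (hp : p < 31671) : Fi23Data.cert.ORB p < 3 := by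
  have key : Nat.blt (Fi23Data.cert.ORB p) 3 = true := by
    by_cases h0 : p < 8000
    · exact allRangeF_sound _ _ (fun _ => rfl) 0 8000 orb_lt_0 p (by omega) (by omega)
    by_cases h1 : p < 16000
    · exact allRangeF_sound _ _ (fun _ => rfl) 8000 8000 orb_lt_1 p (by omega) (by omega)
    by_cases h2 : p < 24000
    · exact allRangeF_sound _ _ (fun _ => rfl) 16000 8000 orb_lt_2 p (by omega) (by omega)
    exact allRangeF_sound _ _ (fun _ => rfl) 24000 7671 orb_lt_3 p (by omega) (by omega)
  simpa [Nat.blt] using key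

theorem orb_0 : Fi23Data.cert.ORB 0 = 0 := by decide +kernel
theorem orb_1 : Fi23Data.cert.ORB 1 = 1 := by decide +kernel
theorem orb_52 : Fi23Data.cert.ORB 52 = 2 := by decide +kernel
theorem root_0 : Fi23Data.cert.ROOT 0 = 0 := by decide +kernel
theorem root_1 : Fi23Data.cert.ROOT 1 = 1 := by decide +kernel
theorem root_2 : Fi23Data.cert.ROOT 2 = 52 := by decide +kernel
theorem walk_1 : walkT Fi23Data.cert 0 [14] = 1 := by decide +kernel
theorem walk_52 : walkT Fi23Data.cert 0 w52 = 52 := by decide +kernel

end Cfsg.Agent.Lib.Helper57.Fi23TT
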