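import Cfsg.Agent.S1689
import Cfsg.Agent.S1696
import Cfsg.Agent.S1697
import Cfsg.Agent.Lib.Helper28.PSetup
import Cfsg.Agent.Lib.Helper98.Fi23CoverMain
import Cfsg.Agent.Lib.Helper57.ThreeTransp
import Cfsg.Agent.Lib.Helper57.Fi23TTChkA
import Cfsg.Agent.Lib.Helper57.Fi23TTChkB
import Cfsg.Agent.Lib.Helper57.Fi23TTChkC

/-!
# `Fi23` as a 3-transposition group

Glue: helper98's `Fi23Main` / `Fi23CoverMain` (the presented `Fi23` is simple, embeds into its permutation
model, `H = <a..i>` is a non-split double cover of `Fi22` with central involution `z = (bcdefgh)^9`) and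
helper28's coset enumeration of `H` (31671 cosets, `H`-orbits 1 + 28160 + 3510).  `H` is maximal, so
`C(z) = H`; the class of `z` has 31671 elements, generates, and is a class of 3-transpositions (two word
identities, checked in the permutation model).
-/

set_option autoImplicit false
set_option linter.all false

namespace Cfsg.Agent.Lib.Helper57.Fi23TT

open Cfsg Cfsg.Spor Cfsg.Agent.Lib.Helper28
open Cfsg.Agent.Lib.Helper98 Cfsg.Agent.Lib.Helper98.CoxPres Cfsg.Agent.Lib.Helper98.Fi23Pres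
open Cfsg.Agent.Lib.Helper98.PermModel
open Cfsg.Agent.Lib.Helper57

set_option maxRecDepth 100000

/-- the subgroup `<a, ..., i>`, in the form of helper28's coset enumeration -/
noncomputable abbrev H : Subgroup Cfsg.Spor.Fi23 :=
  (Subgroup.closure Cfsg.Agent.S1689.subS).map (PresentedGroup.mk Fi23GlueR.relSet)

/-- the generators, in helper28's numbering -/
noncomputable abbrev gam : ℕ → Cfsg.Spor.Fi23 := fun i => PresentedGroup.of (Fi23GlueR.genOf i)

theorem H_eq : H = Fi23Cover.H9 := Fi23Cover.closure_eq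

/-- the central involution of `H` -/
noncomputable def zG : Cfsg.Spor.Fi23 := (Fi23Cover.zw.map gP).prod

theorem zG_mem : zG ∈ H := by
  rw [H_eq]
  have h := (Fi23Cover.z).2
  rw [Fi23Cover.z_coe] at h
  exact h

theorem zG_comm : ∀ h ∈ H, h * zG = zG * h := by
  intro h hh
  rw [H_eq] at hh
  have hc := Fi23Cover.z_central Fi23CoverMain.z_commute
  have h2 := Subgroup.mem_center_iff.mp hc ⟨h, hh⟩
  have h3 := congrArg Subtype.val h2
  rw [Subgroup.coe_mul, Subgroup.coe_mul, Fi23Cover.z_coe] at h3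
  exact h3

theorem zG_sq : zG * zG = 1 := Fi23CoverMain.z_sq

theorem zG_ne : zG ≠ 1 := Fi23CoverMain.z_ne

/-! ### maximality of `H` -/

/-- the sizes of the three orbits of `H` on its 31671 cosets -/
def sz : ℕ → ℕ := fun j => [1, 28160, 3510].getD j 0

theorem arith : ∀ J ∈ (Finset.range 3).powerset, 0 ∈ J → (∑ j ∈ J, sz j) ∣ 31671 →
    J = {0} ∨ J = Finset.range 3 := by decide

theorem cnt_all (j : ℕ) (hj : j < 3) : countLab Fi23Data.cert.ORB j 31671 = sz j := by
  interval_cases j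
  · have := Cfsg.Agent.S1689.cnt0
    rw [show Cfsg.Agent.S1689.cert.ORB 0 = 0 from orb_0] at this
    exact this
  · have := Cfsg.Agent.S1689.cnt1
    rw [show Cfsg.Agent.S1689.cert.ORB 1 = 1 from orb_1] at this
    exact this
  · have := Cfsg.Agent.S1689.cnt52
    rw [show Cfsg.Agent.S1689.cert.ORB 52 = 2 from orb_52] at this
    exact this

section WithSetup

variable {φ : Cfsg.Spor.Fi23 →* Equiv.Perm ℕ} (hS : Setup Fi23Data.cert H gam φ)

include hS

theorem maximal (K : Subgroup Cfsg.Spor.Fi23) (hK : H ≤ K) : K = H ∨ K = ⊤ := by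
  have hn : Fi23Data.cert.n = 31671 := rfl
  apply PSetup.maximal hS Fi23Data.orb_ok 3 ?_ sz ?_ orb_0 rfl ?_ K hK
  · intro p hp
    rw [hn] at hp
    exact orb_lt p hp
  · intro j hj
    rw [hn]; exact cnt_all j hj
  · rw [hn]; exact arith

/-- representatives of the `H`-orbits on the cosets -/
def R : Set Cfsg.Spor.Fi23 := {1, (evw gam [14])⁻¹, (evw gam w52)⁻¹}

theorem psi_root (w : List ℕ) (hw : ∀ l ∈ w, l < 2 * Fi23Data.cert.k) (r : ℕ)
    (hwr : walkT Fi23Data.cert 0 w = r) :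
    psi Fi23Data.cert H gam r = (((evw gam w)⁻¹ : Cfsg.Spor.Fi23) : Cfsg.Spor.Fi23 ⧸ H) := by
  have h := (PSetup.act_word hS w hw 0 (PSetup.pos_n hS)).1
  rw [hwr, psi_zero Fi23Data.cert H gam hS.hglob] at h
  rw [← h]
  unfold basePt
  show (((evw gam w)⁻¹ * 1 : Cfsg.Spor.Fi23) : Cfsg.Spor.Fi23 ⧸ H) = _
  rw [mul_one]

theorem hR : ∀ x : Cfsg.Spor.Fi23 ⧸ H, ∃ h ∈ H, ∃ r ∈ R,
    x = ((h * r : Cfsg.Spor.Fi23) : Cfsg.Spor.Fi23 ⧸ H) := by
  intro x
  have hn : Fi23Data.cert.n = 31671 := rfl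
  obtain ⟨p, hp, rfl⟩ := PSetup.surj hS x
  obtain ⟨h, hh, hpe⟩ := hS.reach_root Fi23Data.orb_ok _ p rfl hp
  have hlt := orb_lt p (by rw [← hn]; exact hp)
  -- the root of the orbit of `p` and the word leading to it
  have key : ∀ (w : List ℕ) (hw : ∀ l ∈ w, l < 2 * Fi23Data.cert.k) (r : ℕ),
      walkT Fi23Data.cert 0 w = r → r < Fi23Data.cert.n → Fi23Data.cert.ROOT (Fi23Data.cert.ORB p) = r →
      (evw gam w)⁻¹ ∈ R →
      ∃ h ∈ H, ∃ r ∈ R, psi Fi23Data.cert H gam p = ((h * r : Cfsg.Spor.Fi23) : Cfsg.Spor.Fi23 ⧸ H) := by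
    intro w hw r hwr hr hroot hmem
    rw [hroot] at hpe
    refine ⟨h⁻¹, H.inv_mem hh, (evw gam w)⁻¹, hmem, ?_⟩
    have h1 := (hS.psi_equiv h).1 r hr
    rw [← hpe, psi_root hS w hw r hwr] at h1
    rw [h1]
    rfl
  have hcases : Fi23Data.cert.ORB p = 0 ∨ Fi23Data.cert.ORB p = 1 ∨ Fi23Data.cert.ORB p = 2 := by
    omega
  rcases hcases with h0 | h1 | h2
  · refine key [] (by simp) 0 rfl (by rw [hn]; norm_num) (by rw [h0]; exact root_0) ?_
    left
    simp [evw]
  · refine key [14] (by decide) 1 walk_1 (by rw [hn]; norm_num) (by rw [h1]; exact root_1) ?_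
    right; left; rfl
  · refine key w52 (by decide) 52 walk_52 (by rw [hn]; norm_num) (by rw [h2]; exact root_2) ?_
    right; right; rfl

end WithSetup

/-! ### the two word identities -/

theorem gP_sq (x : ℕ) (hx : x < 10) : gP x * gP x = 1 := (link.rel_genP).sq wf x hx

/-- a word identity checked in the permutation model -/
theorem word_id (w : List ℕ) (hw : ∀ c ∈ w, c < 10) (k : ℕ) (T : List ℕ)
    (hT : T = (List.replicate k (Fi23Cover.zw ++ (w.reverse ++ (Fi23Cover.zw ++ w)))).flatten)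
    (hTlt : ∀ c ∈ T, c < 10)
    (hfix : FixUpTo Fi23Model.tab T 31671) :
    (zG * (((w.map gP).prod)⁻¹ * zG * (((w.map gP).prod)⁻¹)⁻¹)) ^ k = 1 := by
  obtain ⟨φ, hinj, hφ⟩ := Fi23CoverMain.exists_phi
  have hsq : ∀ x ∈ w, gP x * gP x = 1 := fun x hx => gP_sq x (hw x hx)
  have hrev : ((w.map gP).prod)⁻¹ = (w.reverse.map gP).prod := (prod_reverse_of_sq w hsq).symm
  have e1 : zG * (((w.map gP).prod)⁻¹ * zG * (((w.map gP).prod)⁻¹)⁻¹)
      = ((Fi23Cover.zw ++ (w.reverse ++ (Fi23Cover.zw ++ w))).map gP).prod := by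
    rw [inv_inv, hrev]
    simp only [List.map_append, List.prod_append, zG, mul_assoc]
  rw [e1, ← prod_replicate_flatten, ← hT]
  apply hinj
  rw [map_one, Fi23CoverMain.map_word φ hφ T hTlt]
  exact ev_eq_one_of_fixUpTo Fi23Main.htab hTlt hfix

theorem gam_j : evw gam [14] = ([9].map gP).prod := by
  simp only [evw, List.map, List.prod_cons, List.prod_nil]
  rfl

theorem gam_w52 : evw gam w52 = ([9, 6, 5, 3, 1, 2, 0, 1, 3, 5, 6, 9].map gP).prod := by
  simp only [w52, evw, List.map, List.prod_cons, List.prod_nil]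
  rfl

theorem hRz : ∀ r ∈ R, (zG * (r * zG * r⁻¹)) ^ 2 = 1 ∨ (zG * (r * zG * r⁻¹)) ^ 3 = 1 := by
  intro r hr
  rcases hr with rfl | rfl | rfl
  · left
    rw [one_mul, inv_one, mul_one, zG_sq, one_pow]
  · right
    rw [gam_j]
    exact word_id [9] (by decide) 3 T1 (by decide) (by decide) t1_fix
  · left
    rw [gam_w52]
    exact word_id [9, 6, 5, 3, 1, 2, 0, 1, 3, 5, 6, 9] (by decide) 2 T2 (by decide) (by decide) t2_fix

/-! ### the theorem -/

theorem main : ∃ (G : Type) (_ : Group G) (_ : Finite G), Cfsg.IsFi23 G ∧ ∃ D : Set G,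
    Cfsg.IsThreeTranspositionClass D ∧ Nat.card D = 31671 ∧ ∀ d ∈ D, ∃ (K : Type) (_ : Group K),
      Cfsg.IsFi22 K ∧ Cfsg.IsNonsplitDoubleCover (Subgroup.centralizer ({d} : Set G)) K := by
  have h23 : Cfsg.IsFi23 Cfsg.Spor.Fi23 := Cfsg.Agent.S1697.result
  haveI : IsSimpleGroup Cfsg.Spor.Fi23 := h23.1
  haveI : Finite Cfsg.Spor.Fi23 := Fi23Main.finite_X
  obtain ⟨φ, hS⟩ := Cfsg.Agent.S1689.setup
  have hidx : H.index = 31671 := hS.index_eq
  have hHtop : H ≠ ⊤ := by
    intro h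
    rw [h, Subgroup.index_top] at hidx
    omega
  have hcent : Subgroup.centralizer ({zG} : Set Cfsg.Spor.Fi23) = H :=
    ThreeTransp.centralizer_eq (maximal hS) hHtop zG_mem zG_comm zG_ne
  refine ⟨Cfsg.Spor.Fi23, inferInstance, inferInstance, h23, conjugatesOf zG,
    ⟨?_, ⟨zG, mem_conjugatesOf_self, rfl⟩, ThreeTransp.closure_conjugatesOf zG_ne⟩, ?_, ?_⟩
  · exact ThreeTransp.isThreeTranspositionSet zG_comm zG_sq zG_ne R (hR hS) hRz
  · rw [ThreeTransp.card_conjugatesOf hcent, hidx]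
  · intro d hd
    obtain ⟨g, rfl⟩ := isConj_iff.mp (show IsConj zG d from hd)
    refine ⟨Cfsg.Spor.Fi22, inferInstance, Cfsg.Agent.S1696.result, ?_⟩
    have e1 := ThreeTransp.centConj g zG
    have e2 : Subgroup.centralizer ({zG} : Set Cfsg.Spor.Fi23) ≃* Fi23Cover.H9 :=
      MulEquiv.subgroupCongr (hcent.trans H_eq)
    exact ThreeTransp.nonsplit_of_mulEquiv (e1.trans e2) Fi23CoverMain.cover_main

end Cfsg.Agent.Lib.Helper57.Fi23TT
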