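import Cfsg.Agent.Lib.Helper98.Fi23Model
import Cfsg.Agent.Lib.Helper98.PermModel2

/-! The two 3-transposition words of `Fi23` in the generator numbering of helper98's `Fi23Pres`
(`z = (bcdefgh)^9`): `T1 = (z j z j)^3` and `T2 = (z r z r^-1)^2` with `r^-1 = j g f e d c h d e f g j`. -/

set_option autoImplicit false
set_option maxRecDepth 1000000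
set_option linter.all false
set_option Elab.async false

namespace Cfsg.Agent.Lib.Helper57.Fi23TT

def T1 : List ℕ := [4, 2, 1, 3, 5, 6, 0, 4, 2, 1, 3, 5, 6, 0, 4, 2, 1, 3, 5, 6, 0, 4, 2, 1, 3, 5, 6, 0, 4, 2, 1, 3, 5, 6, 0, 4, 2, 1, 3, 5, 6, 0, 4, 2, 1, 3, 5, 6, 0, 4, 2, 1, 3, 5, 6, 0, 4, 2, 1, 3, 5, 6, 0, 9, 4, 2, 1, 3, 5, 6, 0, 4, 2, 1, 3, 5, 6, 0, 4, 2, 1, 3, 5, 6, 0, 4, 2, 1, 3, 5, 6, 0, 4, 2, 1, 3, 5, 6, 0, 4, 2, 1, 3, 5, 6, 0, 4, 2, 1, 3, 5, 6, 0, 4, 2, 1, 3, 5, 6, 0, 4, 2, 1, 3, 5, 6, 0, 9, 4, 2, 1, 3, 5, 6, 0, 4, 2, 1, 3, 5, 6, 0, 4, 2, 1, 3, 5, 6, 0, 4, 2, 1, 3, 5, 6, 0, 4, 2, 1, 3, 5, 6, 0, 4, 2, 1, 3, 5, 6, 0, 4, 2, 1, 3, 5, 6, 0, 4, 2, 1, 3,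 5, 6, 0, 4, 2, 1, 3, 5, 6, 0, 9, 4, 2, 1, 3, 5, 6, 0, 4, 2, 1, 3, 5, 6, 0, 4, 2, 1, 3, 5, 6, 0, 4, 2, 1, 3, 5, 6, 0, 4, 2, 1, 3, 5, 6, 0, 4, 2, 1, 3, 5, 6, 0, 4, 2, 1, 3, 5, 6, 0, 4, 2, 1, 3, 5, 6, 0, 4, 2, 1, 3, 5, 6, 0, 9, 4, 2, 1, 3, 5, 6, 0, 4, 2, 1, 3, 5, 6, 0, 4, 2, 1, 3, 5, 6, 0, 4, 2, 1, 3, 5, 6, 0, 4, 2, 1, 3, 5, 6, 0, 4, 2, 1, 3, 5, 6, 0, 4, 2, 1, 3, 5, 6, 0, 4, 2, 1, 3, 5, 6, 0, 4, 2, 1, 3, 5, 6, 0, 9, 4, 2, 1, 3, 5, 6, 0, 4, 2, 1, 3, 5, 6, 0, 4, 2, 1, 3, 5, 6, 0, 4, 2, 1, 3, 5, 6, 0, 4, 2, 1, 3, 5, 6, 0, 4, 2, 1, 3, 5, 6, 0, 4, 2, 1, 3, 5, 6, 0, 4, 2, 1, 3, 5, 6, 0, 4, 2, 1, 3, 5, 6, 0, 9]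

def T2 : List ℕ := [4, 2, 1, 3, 5, 6, 0, 4, 2, 1, 3, 5, 6, 0, 4, 2, 1, 3, 5, 6, 0, 4, 2, 1, 3, 5, 6, 0, 4, 2, 1, 3, 5, 6, 0, 4, 2, 1, 3, 5, 6, 0, 4, 2, 1, 3, 5, 6, 0, 4, 2, 1, 3, 5, 6, 0, 4, 2, 1, 3, 5, 6, 0, 9, 6, 5, 3, 1, 0, 2, 1, 3, 5, 6, 9, 4, 2, 1, 3, 5, 6, 0, 4, 2, 1, 3, 5, 6, 0, 4, 2, 1, 3, 5, 6, 0, 4, 2, 1, 3, 5, 6, 0, 4, 2, 1, 3, 5, 6, 0, 4, 2, 1, 3, 5, 6, 0, 4, 2, 1, 3, 5, 6, 0, 4, 2, 1, 3, 5, 6, 0, 4, 2, 1, 3, 5, 6, 0, 9, 6, 5, 3, 1, 2, 0, 1, 3, 5, 6, 9, 4, 2, 1, 3, 5, 6, 0, 4, 2, 1, 3, 5, 6, 0, 4, 2, 1, 3, 5, 6, 0, 4, 2, 1, 3, 5, 6, 0, 4, 2, 1, 3, 5, 6, 0, 4, 2, 1, 3, 5, 6, 0, 4, 2, 1, 3, 5, 6, 0, 4, 2, 1, 3, 5, 6, 0, 4, 2, 1, 3, 5, 6, 0,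 9, 6, 5, 3, 1, 0, 2, 1, 3, 5, 6, 9, 4, 2, 1, 3, 5, 6, 0, 4, 2, 1, 3, 5, 6, 0, 4, 2, 1, 3, 5, 6, 0, 4, 2, 1, 3, 5, 6, 0, 4, 2, 1, 3, 5, 6, 0, 4, 2, 1, 3, 5, 6, 0, 4, 2, 1, 3, 5, 6, 0, 4, 2, 1, 3, 5, 6, 0, 4, 2, 1, 3, 5, 6, 0, 9, 6, 5, 3, 1, 2, 0, 1, 3, 5, 6, 9]

end Cfsg.Agent.Lib.Helper57.Fi23TT
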