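import Cfsg.Agent.S5119
import Cfsg.Agent.S5338
import Cfsg.Agent.Lib.Helper85.SimpleCrit
import Cfsg.Agent.Lib.Helper85.Saturated
import Cfsg.Agent.Lib.Helper85.GroupFusion
import Cfsg.Agent.Lib.Helper95.FusionTransport

set_option autoImplicit false

/-! A criterion for the fusion system of a finite group on a Sylow subgroup to be simple, for a Sylow
subgroup that is not self-normalising: no proper non-trivial strongly closed subgroup, and a
subgroup `R` normal in `S` containing the `p`-elements of its centraliser, such that the normaliser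
of `S` lies in the subgroup generated by the `p`-elements of the normaliser of `R`. -/

namespace Cfsg.Agent.Lib.Helper57.FusCrit

open Cfsg Cfsg.FusionSystem Cfsg.Agent.Lib.Helper87 Cfsg.Agent.Lib.Helper85
  Cfsg.Agent.Lib.Helper95.Fusion

variable {G : Type*} [Group G]

/-- the hypothesis on the centric subgroup -/
def PropR (p : ℕ) (S : Subgroup G) : Prop :=
  ∃ R : Subgroup G, R ≤ S ∧ S ≤ Subgroup.normalizer (R : Set G) ∧
    (∀ g : G, (∀ x ∈ R, g * x = x * g) → (∃ k : ℕ, g ^ (p ^ k) = 1) → g ∈ R) ∧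
    ∀ g : G, (∀ x ∈ S, g * x * g⁻¹ ∈ S) →
      g ∈ Subgroup.closure
        {h : G | h ∈ Subgroup.normalizer (R : Set G) ∧ ∃ k : ℕ, orderOf h = p ^ k}

theorem isSimple_of_propR [Finite G] {p : ℕ} [Fact p.Prime] (S : Sylow p G)
    (hS1 : (S : Subgroup G) ≠ ⊥) (hA : PropA (S : Subgroup G)) (hR : PropR p (S : Subgroup G)) :
    (groupFusionSystem (S : Subgroup G)).IsSimple p := by
  obtain ⟨R, hRS, hnorm, hcent, hN⟩ := hR
  have hSp : IsPGroup p (S : Subgroup G) := S.isPGroup'
  have hF : (groupFusionSystem (S : Subgroup G)).IsSaturated p := groupFusionSystem_isSaturated S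
  -- `R` is fully normalised
  have hfn : (groupFusionSystem (S : Subgroup G)).IsFullyNormalized R := by
    refine ⟨hRS, fun Q' _ => ?_⟩
    have hle : normalizerIn (S : Subgroup G) Q' ≤ normalizerIn (S : Subgroup G) R := by
      intro x hx
      exact Subgroup.mem_inf.mpr ⟨(Subgroup.mem_inf.mp hx).1, hnorm (Subgroup.mem_inf.mp hx).1⟩
    exact Nat.card_le_card_of_injective (Subgroup.inclusion hle) (Subgroup.inclusion_injective hle)
  -- `R` is centric
  have hcen : (groupFusionSystem (S : Subgroup G)).IsCentric R := by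
    refine ⟨hRS, fun Q' hQ' => ?_⟩
    obtain ⟨φ, hφ, hrange⟩ := hQ'
    obtain ⟨-, -, g, hg⟩ := hφ
    intro x hx
    have hxS : x ∈ (S : Subgroup G) := (Subgroup.mem_inf.mp hx).1
    have hxc : x ∈ Subgroup.centralizer (Q' : Set G) := (Subgroup.mem_inf.mp hx).2
    have hmemR : g⁻¹ * x * g ∈ R := by
      apply hcent
      · intro r hr
        have hmem : g * r * g⁻¹ ∈ Q' := by
          rw [← hrange]
          exact ⟨⟨r, hr⟩, hg _⟩
        have h1 : g * r * g⁻¹ * x = x * (g * r * g⁻¹) := hxc (g * r * g⁻¹) hmem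
        have h2 : g⁻¹ * (g * r * g⁻¹ * x) * g = g⁻¹ * (x * (g * r * g⁻¹)) * g := by rw [h1]
        have e1 : g⁻¹ * (g * r * g⁻¹ * x) * g = r * (g⁻¹ * x * g) := by group
        have e2 : g⁻¹ * (x * (g * r * g⁻¹)) * g = g⁻¹ * x * g * r := by group
        rw [e1, e2] at h2
        exact h2.symm
      · obtain ⟨k, hk⟩ := hSp ⟨x, hxS⟩
        refine ⟨k, ?_⟩
        have hxk : x ^ (p ^ k) = 1 := congrArg Subtype.val hk
        have e : g⁻¹ * x * g = g⁻¹ * x * g⁻¹⁻¹ := by rw [inv_inv]
        rw [e, conj_pow, hxk, mul_one, mul_inv_cancel]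
    rw [← hrange]
    refine ⟨⟨g⁻¹ * x * g, hmemR⟩, ?_⟩
    rw [hg]
    show g * (g⁻¹ * x * g) * g⁻¹ = x
    group
  refine ⟨hF, hS1, fun T E hE => ?_⟩
  obtain ⟨⟨hEsat, -, hEinv⟩, -⟩ := hE
  have hsub : E.IsSubsystemOf (groupFusionSystem (S : Subgroup G)) := hEinv.1
  have hsc := hEinv.2.1
  by_cases hT : T = ⊥
  · exact Or.inl hT
  right
  have hTS : T = (S : Subgroup G) := by
    apply hA T hsc.1 hT
    intro x hx g hg
    have hRz : Subgroup.zpowers x ≤ T := by
      rw [Subgroup.zpowers_le]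
      exact hx
    have hφ : conjHom (Subgroup.zpowers x) g ∈
        (groupFusionSystem (S : Subgroup G)).Hom (Subgroup.zpowers x) := by
      refine ⟨hRz.trans hsc.1, ?_, g, fun y => rfl⟩
      rintro ⟨y, k, rfl⟩
      rw [conjHom_apply]
      have : g * x ^ k * g⁻¹ = (g * x * g⁻¹) ^ k := by
        rw [conj_zpow]
      show g * x ^ k * g⁻¹ ∈ (S : Subgroup G)
      rw [this]
      exact Subgroup.zpow_mem _ hg k
    exact hsc.2 _ hRz _ hφ ⟨x, Subgroup.mem_zpowers x⟩
  subst hTS
  refine ⟨rfl, ?_⟩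
  have hstrong : StrongInv E (groupFusionSystem (S : Subgroup G)) :=
    (Cfsg.Agent.S5119.result p hSp _ hF E hsub hsc).mp hEinv
  have hle : E ≤ groupFusionSystem (S : Subgroup G) := hsub
  apply Cfsg.Agent.S5338.result p hSp _ hF E hEsat hle
  · intro Q φ hφ R' hRQ ψ hψ hψQ
    exact hstrong R' Q hRQ (hom_le _ hφ) ψ hψ hψQ φ hφ
  · apply le_antisymm
    · intro α hα
      rw [mem_autGroup_iff _ le_rfl] at hα ⊢
      exact hsub _ hα
    · rw [autGroup_groupFusionSystem le_rfl]
      intro α hα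
      obtain ⟨g, -, hgα⟩ := (mem_autInducedBy_iff _ _ α).mp hα
      have hgS : ∀ x ∈ (S : Subgroup G), g * x * g⁻¹ ∈ (S : Subgroup G) := by
        intro x hx
        rw [← hgα ⟨x, hx⟩]
        exact (α ⟨x, hx⟩).2
      have hgK := hN g hgS
      have hfa := (fc_fa_of_fullyNormalized hSp _ hF hfn).2
      have hFaut : ∀ (g : G) (hg : g ∈ Subgroup.normalizer (R : Set G)),
          conjAut R g hg ∈ (groupFusionSystem (S : Subgroup G)).autGroup R := by
        intro g hg
        rw [autGroup_groupFusionSystem hRS]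
        exact conjAut_mem_autInducedBy (Subgroup.mem_top g) hg
      obtain ⟨hgN, hmem⟩ := conjAut_mem_autE_of_closure E _ hstrong hfa hFaut hgK
      have hαF : α ∈ (groupFusionSystem (S : Subgroup G)).autGroup (S : Subgroup G) := by
        rw [autGroup_groupFusionSystem le_rfl]
        exact (mem_autInducedBy_iff _ _ α).mpr ⟨g, Subgroup.mem_top g, hgα⟩
      have hψ := (mem_autGroup_iff _ le_rfl α).mp hαF
      have hres : ((S : Subgroup G).subtype.comp α.toMonoidHom).comp (Subgroup.inclusion hRS) ∈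
          E.Hom R := by
        have h1 := (mem_autGroup_iff E hRS _).mp hmem
        have h2 : ((S : Subgroup G).subtype.comp α.toMonoidHom).comp (Subgroup.inclusion hRS) =
            R.subtype.comp (conjAut R g hgN).toMonoidHom := by
          ext x
          exact hgα ⟨x, hRS x.2⟩
        rw [h2]
        exact h1
      have := Cfsg.Agent.Lib.Helper88.mem_of_restrict_mem hSp _ E hF hEsat hle _ hRS rfl
        hcen hψ hres
      exact (mem_autGroup_iff E le_rfl α).mpr this

end Cfsg.Agent.Lib.Helper57.FusCrit
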