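import Cfsg.Agent.Lib.Helper57.FusCrit
import Cfsg.Agent.Lib.Helper41.FusionInner

set_option autoImplicit false

/-! Transport of the hypotheses of `FusCrit.isSimple_of_propR`: conjugation, quotients by central
subgroups of order prime to `p`, and the version for one subgroup of Sylow order. -/

namespace Cfsg.Agent.Lib.Helper57.FusCrit

open Cfsg Cfsg.FusionSystem Cfsg.Agent.Lib.Helper95.Fusion Cfsg.Agent.Lib.Helper41.FusionInner
open scoped Pointwise

variable {G : Type*} [Group G]

/-- the version of `PropR` before a quotient by the central subgroup `Z` -/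
def PropRt (p : ℕ) (Z S : Subgroup G) : Prop :=
  ∃ R : Subgroup G, R ≤ S ∧ S ≤ Subgroup.normalizer (R : Set G) ∧
    (∀ g : G, (∀ x ∈ R, g * x = x * g) → (∃ k : ℕ, g ^ (p ^ k) = 1) → g ∈ R) ∧
    ∀ g : G, (∀ x ∈ S, g * x * g⁻¹ ∈ S) → ∃ z ∈ Z, z * g ∈ Subgroup.closure
        {h : G | h ∈ Subgroup.normalizer (R : Set G) ∧ ∃ k : ℕ, orderOf h = p ^ k}

theorem conj_mem_conj_smul (k : G) (S : Subgroup G) {x : G} (hx : x ∈ S) :
    k * x * k⁻¹ ∈ MulAut.conj k • S := by
  rw [mem_conj_smul_iff]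
  have : k⁻¹ * (k * x * k⁻¹) * k = x := by group
  rw [this]
  exact hx

theorem propR_conj {p : ℕ} {S : Subgroup G} (k : G) (h : PropR p S) :
    PropR p (MulAut.conj k • S) := by
  obtain ⟨R, hRS, hnorm, hcent, hN⟩ := h
  refine ⟨MulAut.conj k • R, ?_, ?_, ?_, ?_⟩
  · intro x hx
    rw [mem_conj_smul_iff] at hx ⊢
    exact hRS hx
  · intro s hs
    rw [mem_conj_smul_iff] at hs
    have h1 := hnorm hs
    rw [Subgroup.mem_normalizer_iff] at h1 ⊢
    intro y
    rw [mem_conj_smul_iff, mem_conj_smul_iff, h1 (k⁻¹ * y * k)]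
    have : k⁻¹ * s * k * (k⁻¹ * y * k) * (k⁻¹ * s * k)⁻¹ = k⁻¹ * (s * y * s⁻¹) * k := by group
    rw [this]
  · intro g hg hp
    rw [mem_conj_smul_iff]
    apply hcent
    · intro x hx
      have h1 := hg (k * x * k⁻¹) (conj_mem_conj_smul k R hx)
      have h2 : k⁻¹ * (g * (k * x * k⁻¹)) * k = k⁻¹ * (k * x * k⁻¹ * g) * k := by rw [h1]
      have e1 : k⁻¹ * (g * (k * x * k⁻¹)) * k = k⁻¹ * g * k * x := by group
      have e2 : k⁻¹ * (k * x * k⁻¹ * g) * k = x * (k⁻¹ * g * k) := by group
      rw [e1, e2] at h2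
      exact h2
    · obtain ⟨j, hj⟩ := hp
      refine ⟨j, ?_⟩
      have e : k⁻¹ * g * k = k⁻¹ * g * k⁻¹⁻¹ := by rw [inv_inv]
      rw [e, conj_pow, hj, mul_one, mul_inv_cancel]
  · intro g hg
    have h1 : ∀ x ∈ S, (k⁻¹ * g * k) * x * (k⁻¹ * g * k)⁻¹ ∈ S := by
      intro x hx
      have h2 := hg (k * x * k⁻¹) (conj_mem_conj_smul k S hx)
      rw [mem_conj_smul_iff] at h2
      have : k⁻¹ * (g * (k * x * k⁻¹) * g⁻¹) * k = (k⁻¹ * g * k) * x * (k⁻¹ * g * k)⁻¹ := by group
      rw [← this]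
      exact h2
    have h3 := hN _ h1
    -- conjugate the closure
    have key : ∀ y ∈ Subgroup.closure
        {h : G | h ∈ Subgroup.normalizer (R : Set G) ∧ ∃ j : ℕ, orderOf h = p ^ j},
        k * y * k⁻¹ ∈ Subgroup.closure
          {h : G | h ∈ Subgroup.normalizer ((MulAut.conj k • R : Subgroup G) : Set G) ∧
            ∃ j : ℕ, orderOf h = p ^ j} := by
      intro y hy
      induction hy using Subgroup.closure_induction with
      | mem y hy =>
        apply Subgroup.subset_closure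
        refine ⟨?_, ?_⟩
        · have h4 := hy.1
          rw [Subgroup.mem_normalizer_iff] at h4 ⊢
          intro u
          rw [mem_conj_smul_iff, mem_conj_smul_iff, h4 (k⁻¹ * u * k)]
          have : k⁻¹ * (k * y * k⁻¹ * u * (k * y * k⁻¹)⁻¹) * k = y * (k⁻¹ * u * k) * y⁻¹ := by group
          rw [this]
        · obtain ⟨j, hj⟩ := hy.2
          refine ⟨j, ?_⟩
          rw [← hj]
          exact MulEquiv.orderOf_eq (MulAut.conj k) y
      | one =>
        have : k * 1 * k⁻¹ = 1 := by group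
        rw [this]
        exact Subgroup.one_mem _
      | mul a b _ _ iha ihb =>
        have : k * (a * b) * k⁻¹ = (k * a * k⁻¹) * (k * b * k⁻¹) := by group
        rw [this]
        exact Subgroup.mul_mem _ iha ihb
      | inv a _ iha =>
        have : k * a⁻¹ * k⁻¹ = (k * a * k⁻¹)⁻¹ := by group
        rw [this]
        exact Subgroup.inv_mem _ iha
    have h5 := key _ h3
    have : k * (k⁻¹ * g * k) * k⁻¹ = g := by group
    rwa [this] at h5

section Quot

variable {H : Type*} [Group H] (π : G →* H) (hπ : Function.Surjective π)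
  (hker : π.ker ≤ Subgroup.center G)

/-- a `p`-element of the quotient lifts to a `p`-element -/
theorem exists_pLift [Finite G] {p : ℕ} [Fact p.Prime] (hcop : (Nat.card π.ker).Coprime p)
    (g : G) (k : ℕ) (hk : π g ^ (p ^ k) = 1) : ∃ g' : G, π g' = π g ∧ g' ^ (p ^ k) = 1 := by
  set m := Nat.card π.ker with hm
  have hcop' : Nat.Coprime m (p ^ k) := Nat.Coprime.pow_right k hcop
  have hpk : 0 < p ^ k := pow_pos (Fact.out : p.Prime).pos k
  -- m * a ≡ 1 mod p ^ k
  obtain ⟨a, ha⟩ : ∃ a : ℕ, (m * a) % (p ^ k) = 1 % (p ^ k) := by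
    by_cases h1 : p ^ k = 1
    · exact ⟨0, by rw [h1, Nat.mod_one, Nat.mod_one]⟩
    · have h2 : 1 < p ^ k := by omega
      obtain ⟨a, -, ha⟩ := Nat.exists_mul_mod_eq_one_of_coprime hcop' h2
      exact ⟨a, by rw [ha, Nat.mod_eq_of_lt h2]⟩
  have hz : g ^ (p ^ k) ∈ π.ker := by
    rw [MonoidHom.mem_ker, map_pow, hk]
  have hzm : (g ^ (p ^ k)) ^ m = 1 := by
    have := pow_card_eq_one' (G := π.ker) (x := ⟨g ^ (p ^ k), hz⟩)
    exact congrArg Subtype.val this
  refine ⟨g ^ (m * a), ?_, ?_⟩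
  · rw [map_pow]
    have h3 : π g ^ (m * a) = π g ^ ((m * a) % (p ^ k)) := by
      conv_lhs => rw [← Nat.div_add_mod (m * a) (p ^ k), pow_add, pow_mul, hk, one_pow, one_mul]
    rw [h3, ha]
    by_cases h1 : p ^ k = 1
    · rw [h1, Nat.mod_one, pow_zero]
      rw [h1, pow_one] at hk
      exact hk.symm
    · have h2 : 1 < p ^ k := by omega
      rw [Nat.mod_eq_of_lt h2, pow_one]
  · rw [← pow_mul, mul_comm (m * a) (p ^ k), ← mul_assoc, pow_mul, pow_mul, hzm, one_pow]

include hπ hker in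
theorem propR_map [Finite G] {p n : ℕ} [Fact p.Prime] (hcop : (Nat.card π.ker).Coprime p)
    {S : Subgroup G} (hS : Nat.card S = p ^ n) (hR : PropRt p π.ker S) : PropR p (S.map π) := by
  obtain ⟨R, hRS, hnorm, hcent, hN⟩ := hR
  have hRpow : ∀ x ∈ R, x ^ (p ^ n) = 1 := fun x hx => exists_pow_eq_one_of_card hS (hRS hx)
  refine ⟨R.map π, Subgroup.map_mono hRS, ?_, ?_, ?_⟩
  · intro y hy
    obtain ⟨s, hs, rfl⟩ := Subgroup.mem_map.mp hy
    exact Subgroup.le_normalizer_map π (Subgroup.mem_map_of_mem π (hnorm hs))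
  · intro y hy hp
    obtain ⟨k, hk⟩ := hp
    obtain ⟨g0, rfl⟩ := hπ y
    obtain ⟨g, hg1, hg2⟩ := exists_pLift π hcop g0 k hk
    rw [← hg1]
    apply Subgroup.mem_map_of_mem
    apply hcent g _ ⟨k, hg2⟩
    intro x hx
    have h1 : π (g * x * g⁻¹) = π x := by
      have := hy (π x) (Subgroup.mem_map_of_mem π hx)
      rw [map_mul, map_mul, map_inv, hg1, this]
      group
    have h2 : (g * x * g⁻¹) ^ (p ^ n) = 1 := by
      rw [conj_pow, hRpow x hx, mul_one, mul_inv_cancel]
    have h3 := eq_of_map_eq π hker hcop h2 (hRpow x hx) h1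
    calc g * x = g * x * g⁻¹ * g := by group
      _ = x * g := by rw [h3]
  · intro y hy
    obtain ⟨g, rfl⟩ := hπ y
    have hnormS : ∀ x ∈ S, g * x * g⁻¹ ∈ S := by
      intro x hx
      have h1 := hy (π x) (Subgroup.mem_map_of_mem π hx)
      obtain ⟨s, hs, hsx⟩ := Subgroup.mem_map.mp h1
      have h2 : π (g * x * g⁻¹) = π s := by
        rw [hsx, map_mul, map_mul, map_inv]
      have h3 : (g * x * g⁻¹) ^ (p ^ n) = 1 := by
        rw [conj_pow, exists_pow_eq_one_of_card hS hx, mul_one, mul_inv_cancel]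
      have h4 := eq_of_map_eq π hker hcop h3 (exists_pow_eq_one_of_card hS hs) h2
      rw [h4]
      exact hs
    obtain ⟨z, hz, hzg⟩ := hN g hnormS
    have hπz : π (z * g) = π g := by
      rw [map_mul, MonoidHom.mem_ker.mp hz, one_mul]
    rw [← hπz]
    have key : ∀ u ∈ Subgroup.closure
        {h : G | h ∈ Subgroup.normalizer (R : Set G) ∧ ∃ j : ℕ, orderOf h = p ^ j},
        π u ∈ Subgroup.closure
          {h : H | h ∈ Subgroup.normalizer ((R.map π : Subgroup H) : Set H) ∧
            ∃ j : ℕ, orderOf h = p ^ j} := by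
      intro u hu
      induction hu using Subgroup.closure_induction with
      | mem u hu =>
        apply Subgroup.subset_closure
        refine ⟨Subgroup.le_normalizer_map π (Subgroup.mem_map_of_mem π hu.1), ?_⟩
        obtain ⟨j, hj⟩ := hu.2
        have hdvd : orderOf (π u) ∣ p ^ j := by
          rw [← hj]
          exact orderOf_map_dvd π u
        obtain ⟨j', -, hj'⟩ := (Nat.dvd_prime_pow (Fact.out : p.Prime)).mp hdvd
        exact ⟨j', hj'⟩
      | one =>
        rw [map_one]
        exact Subgroup.one_mem _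
      | mul a b _ _ iha ihb =>
        rw [map_mul]
        exact Subgroup.mul_mem _ iha ihb
      | inv a _ iha =>
        rw [map_inv]
        exact Subgroup.inv_mem _ iha
    exact key _ hzg

end Quot

theorem isSimple_of_one_propR [Finite G] {p : ℕ} [Fact p.Prime] (S0 : Sylow p G)
    (hS : (S0 : Subgroup G) ≠ ⊥) (hA : PropA (S0 : Subgroup G)) (hR : PropR p (S0 : Subgroup G))
    (S : Sylow p G) : (groupFusionSystem (S : Subgroup G)).IsSimple p := by
  obtain ⟨k, rfl⟩ := MulAction.exists_smul_eq G S0 S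
  have hcoe : ((k • S0 : Sylow p G) : Subgroup G) = MulAut.conj k • (S0 : Subgroup G) := rfl
  apply isSimple_of_propR
  · rw [hcoe]
    intro hbot
    apply hS
    rw [eq_bot_iff] at hbot ⊢
    intro x hx
    have h1 := hbot (conj_mem_conj_smul k _ hx)
    rw [Subgroup.mem_bot] at h1 ⊢
    have : x = k⁻¹ * (k * x * k⁻¹) * k := by group
    rw [this, h1]
    group
  · rw [hcoe]
    exact propA_conj k hA
  · rw [hcoe]
    exact propR_conj k hR

theorem isSimple_of_card_propR [Finite G] {p : ℕ} [Fact p.Prime] (S0 : Subgroup G) {n m : ℕ}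
    (hG : Nat.card G = p ^ n * m) (hm : ¬ p ∣ m) (hn : n ≠ 0) (hS0 : Nat.card S0 = p ^ n)
    (hA : PropA S0) (hR : PropR p S0)
    (S : Sylow p G) : (groupFusionSystem (S : Subgroup G)).IsSimple p := by
  have hp : p.Prime := Fact.out
  have hm0 : m ≠ 0 := by
    rintro rfl
    exact hm (dvd_zero p)
  have hfac : (Nat.card G).factorization p = n := by
    rw [hG, Nat.factorization_mul (pow_ne_zero _ hp.ne_zero) hm0, hp.factorization_pow]
    simp [Nat.factorization_eq_zero_of_not_dvd hm]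
  have hc : Nat.card S0 = p ^ (Nat.card G).factorization p := by rw [hfac, hS0]
  have hcoe : ((Sylow.ofCard S0 hc : Sylow p G) : Subgroup G) = S0 := rfl
  apply isSimple_of_one_propR (Sylow.ofCard S0 hc)
  · rw [hcoe]
    intro hbot
    rw [hbot, Subgroup.card_bot] at hS0
    have : 1 < p ^ n := Nat.one_lt_pow hn hp.one_lt
    omega
  · rw [hcoe]
    exact hA
  · rw [hcoe]
    exact hR

/-- the final form: a central extension `π : G →* H` with kernel of order prime to `p`, the
hypotheses checked on one subgroup `S0` of `G` of Sylow order -/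
theorem isSimple_of_cover [Finite G] {H : Type*} [Group H] [Finite H] {p : ℕ} [Fact p.Prime]
    (π : G →* H) (hπ : Function.Surjective π) (hker : π.ker ≤ Subgroup.center G)
    (hcop : (Nat.card π.ker).Coprime p) (S0 : Subgroup G) {n m : ℕ}
    (hH : Nat.card H = p ^ n * m) (hm : ¬ p ∣ m) (hn : n ≠ 0) (hS0 : Nat.card S0 = p ^ n)
    (hA : PropA S0) (hR : PropRt p π.ker S0) (S : Sylow p H) :
    (groupFusionSystem (S : Subgroup H)).IsSimple p :=
  isSimple_of_card_propR (S0.map π) hH hm hn (card_map_eq π hker hcop hS0)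
    (propA_map π hπ hker hcop hS0 hA) (propR_map π hπ hker hcop hS0 hR) S

end Cfsg.Agent.Lib.Helper57.FusCrit
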