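import Mathlib

set_option autoImplicit false

namespace Cfsg.Agent.Lib.Helper57.G24

open Quaternion

/-- the field with 49 elements, as `F_7[ω]/(ω² = -1)` -/
abbrev K : Type := QuadraticAlgebra (ZMod 7) (-1) 0

/-- quaternions over `K` -/
abbrev E : Type := ℍ[K]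

instance decEqE : DecidableEq E := fun a b =>
  decidable_of_iff (a.re = b.re ∧ a.imI = b.imI ∧ a.imJ = b.imJ ∧ a.imK = b.imK)
    (QuaternionAlgebra.ext_iff).symm

/-- the group `3 : 8`, 24 elements -/
def Glist : List E := [
  ⟨⟨0, 0⟩, ⟨0, 0⟩, ⟨3, 3⟩, ⟨4, 4⟩⟩,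
  ⟨⟨0, 0⟩, ⟨0, 0⟩, ⟨3, 4⟩, ⟨4, 3⟩⟩,
  ⟨⟨0, 0⟩, ⟨0, 0⟩, ⟨4, 3⟩, ⟨3, 4⟩⟩,
  ⟨⟨0, 0⟩, ⟨0, 0⟩, ⟨4, 4⟩, ⟨3, 3⟩⟩,
  ⟨⟨0, 0⟩, ⟨3, 3⟩, ⟨0, 0⟩, ⟨4, 4⟩⟩,
  ⟨⟨0, 0⟩, ⟨3, 3⟩, ⟨4, 4⟩, ⟨0, 0⟩⟩,
  ⟨⟨0, 0⟩, ⟨3, 4⟩, ⟨0, 0⟩, ⟨4, 3⟩⟩,
  ⟨⟨0, 0⟩, ⟨3, 4⟩, ⟨4, 3⟩, ⟨0, 0⟩⟩,
  ⟨⟨0, 0⟩, ⟨4, 3⟩, ⟨0, 0⟩, ⟨3, 4⟩⟩,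
  ⟨⟨0, 0⟩, ⟨4, 3⟩, ⟨3, 4⟩, ⟨0, 0⟩⟩,
  ⟨⟨0, 0⟩, ⟨4, 4⟩, ⟨0, 0⟩, ⟨3, 3⟩⟩,
  ⟨⟨0, 0⟩, ⟨4, 4⟩, ⟨3, 3⟩, ⟨0, 0⟩⟩,
  ⟨⟨0, 1⟩, ⟨0, 0⟩, ⟨0, 0⟩, ⟨0, 0⟩⟩,
  ⟨⟨0, 3⟩, ⟨0, 3⟩, ⟨0, 3⟩, ⟨0, 3⟩⟩,
  ⟨⟨0, 3⟩, ⟨0, 4⟩, ⟨0, 4⟩, ⟨0, 4⟩⟩,
  ⟨⟨0, 4⟩, ⟨0, 3⟩, ⟨0, 3⟩, ⟨0, 3⟩⟩,
  ⟨⟨0, 4⟩, ⟨0, 4⟩, ⟨0, 4⟩, ⟨0, 4⟩⟩,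
  ⟨⟨0, 6⟩, ⟨0, 0⟩, ⟨0, 0⟩, ⟨0, 0⟩⟩,
  ⟨⟨1, 0⟩, ⟨0, 0⟩, ⟨0, 0⟩, ⟨0, 0⟩⟩,
  ⟨⟨3, 0⟩, ⟨3, 0⟩, ⟨3, 0⟩, ⟨3, 0⟩⟩,
  ⟨⟨3, 0⟩, ⟨4, 0⟩, ⟨4, 0⟩, ⟨4, 0⟩⟩,
  ⟨⟨4, 0⟩, ⟨3, 0⟩, ⟨3, 0⟩, ⟨3, 0⟩⟩,
  ⟨⟨4, 0⟩, ⟨4, 0⟩, ⟨4, 0⟩, ⟨4, 0⟩⟩,
  ⟨⟨6, 0⟩, ⟨0, 0⟩, ⟨0, 0⟩, ⟨0, 0⟩⟩]

/-- its derived subgroup, 3 elements -/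
def Xlist : List E := [
  ⟨⟨1, 0⟩, ⟨0, 0⟩, ⟨0, 0⟩, ⟨0, 0⟩⟩,
  ⟨⟨3, 0⟩, ⟨3, 0⟩, ⟨3, 0⟩, ⟨3, 0⟩⟩,
  ⟨⟨3, 0⟩, ⟨4, 0⟩, ⟨4, 0⟩, ⟨4, 0⟩⟩]

/-- pairs `(a, (1 - a)⁻¹)` -/
def InvPairs : List (E × E) := [
  (⟨⟨0, 0⟩, ⟨0, 0⟩, ⟨3, 3⟩, ⟨4, 4⟩⟩, ⟨⟨4, 3⟩, ⟨0, 0⟩, ⟨3, 0⟩, ⟨4, 0⟩⟩),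
  (⟨⟨0, 0⟩, ⟨0, 0⟩, ⟨3, 4⟩, ⟨4, 3⟩⟩, ⟨⟨4, 4⟩, ⟨0, 0⟩, ⟨3, 0⟩, ⟨4, 0⟩⟩),
  (⟨⟨0, 0⟩, ⟨0, 0⟩, ⟨4, 3⟩, ⟨3, 4⟩⟩, ⟨⟨4, 4⟩, ⟨0, 0⟩, ⟨4, 0⟩, ⟨3, 0⟩⟩),
  (⟨⟨0, 0⟩, ⟨0, 0⟩, ⟨4, 4⟩, ⟨3, 3⟩⟩, ⟨⟨4, 3⟩, ⟨0, 0⟩, ⟨4, 0⟩, ⟨3, 0⟩⟩),
  (⟨⟨0, 0⟩, ⟨3, 3⟩, ⟨0, 0⟩, ⟨4, 4⟩⟩, ⟨⟨4, 3⟩, ⟨3, 0⟩, ⟨0, 0⟩, ⟨4, 0⟩⟩),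
  (⟨⟨0, 0⟩, ⟨3, 3⟩, ⟨4, 4⟩, ⟨0, 0⟩⟩, ⟨⟨4, 3⟩, ⟨3, 0⟩, ⟨4, 0⟩, ⟨0, 0⟩⟩),
  (⟨⟨0, 0⟩, ⟨3, 4⟩, ⟨0, 0⟩, ⟨4, 3⟩⟩, ⟨⟨4, 4⟩, ⟨3, 0⟩, ⟨0, 0⟩, ⟨4, 0⟩⟩),
  (⟨⟨0, 0⟩, ⟨3, 4⟩, ⟨4, 3⟩, ⟨0, 0⟩⟩, ⟨⟨4, 4⟩, ⟨3, 0⟩, ⟨4, 0⟩, ⟨0, 0⟩⟩),
  (⟨⟨0, 0⟩, ⟨4, 3⟩, ⟨0, 0⟩, ⟨3, 4⟩⟩, ⟨⟨4, 4⟩, ⟨4, 0⟩, ⟨0, 0⟩, ⟨3, 0⟩⟩),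
  (⟨⟨0, 0⟩, ⟨4, 3⟩, ⟨3, 4⟩, ⟨0, 0⟩⟩, ⟨⟨4, 4⟩, ⟨4, 0⟩, ⟨3, 0⟩, ⟨0, 0⟩⟩),
  (⟨⟨0, 0⟩, ⟨4, 4⟩, ⟨0, 0⟩, ⟨3, 3⟩⟩, ⟨⟨4, 3⟩, ⟨4, 0⟩, ⟨0, 0⟩, ⟨3, 0⟩⟩),
  (⟨⟨0, 0⟩, ⟨4, 4⟩, ⟨3, 3⟩, ⟨0, 0⟩⟩, ⟨⟨4, 3⟩, ⟨4, 0⟩, ⟨3, 0⟩, ⟨0, 0⟩⟩),
  (⟨⟨0, 1⟩, ⟨0, 0⟩, ⟨0, 0⟩, ⟨0, 0⟩⟩, ⟨⟨4, 4⟩, ⟨0, 0⟩, ⟨0, 0⟩, ⟨0, 0⟩⟩),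
  (⟨⟨0, 3⟩, ⟨0, 3⟩, ⟨0, 3⟩, ⟨0, 3⟩⟩, ⟨⟨4, 6⟩, ⟨3, 0⟩, ⟨3, 0⟩, ⟨3, 0⟩⟩),
  (⟨⟨0, 3⟩, ⟨0, 4⟩, ⟨0, 4⟩, ⟨0, 4⟩⟩, ⟨⟨4, 6⟩, ⟨4, 0⟩, ⟨4, 0⟩, ⟨4, 0⟩⟩),
  (⟨⟨0, 4⟩, ⟨0, 3⟩, ⟨0, 3⟩, ⟨0, 3⟩⟩, ⟨⟨4, 1⟩, ⟨4, 0⟩, ⟨4, 0⟩, ⟨4, 0⟩⟩),
  (⟨⟨0, 4⟩, ⟨0, 4⟩, ⟨0, 4⟩, ⟨0, 4⟩⟩, ⟨⟨4, 1⟩, ⟨3, 0⟩, ⟨3, 0⟩, ⟨3, 0⟩⟩),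
  (⟨⟨0, 6⟩, ⟨0, 0⟩, ⟨0, 0⟩, ⟨0, 0⟩⟩, ⟨⟨4, 3⟩, ⟨0, 0⟩, ⟨0, 0⟩, ⟨0, 0⟩⟩),
  (⟨⟨3, 0⟩, ⟨3, 0⟩, ⟨3, 0⟩, ⟨3, 0⟩⟩, ⟨⟨4, 0⟩, ⟨1, 0⟩, ⟨1, 0⟩, ⟨1, 0⟩⟩),
  (⟨⟨3, 0⟩, ⟨4, 0⟩, ⟨4, 0⟩, ⟨4, 0⟩⟩, ⟨⟨4, 0⟩, ⟨6, 0⟩, ⟨6, 0⟩, ⟨6, 0⟩⟩),
  (⟨⟨4, 0⟩, ⟨3, 0⟩, ⟨3, 0⟩, ⟨3, 0⟩⟩, ⟨⟨4, 0⟩, ⟨3, 0⟩, ⟨3, 0⟩, ⟨3, 0⟩⟩),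
  (⟨⟨4, 0⟩, ⟨4, 0⟩, ⟨4, 0⟩, ⟨4, 0⟩⟩, ⟨⟨4, 0⟩, ⟨4, 0⟩, ⟨4, 0⟩, ⟨4, 0⟩⟩),
  (⟨⟨6, 0⟩, ⟨0, 0⟩, ⟨0, 0⟩, ⟨0, 0⟩⟩, ⟨⟨4, 0⟩, ⟨0, 0⟩, ⟨0, 0⟩, ⟨0, 0⟩⟩)]


set_option maxRecDepth 1000000

theorem Glist_closed : ∀ a ∈ Glist, ∀ b ∈ Glist, a * b ∈ Glist := by decide +kernel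
theorem Glist_one : (1 : E) ∈ Glist := by decide +kernel
theorem Glist_inv : ∀ a ∈ Glist, a ^ 23 ∈ Glist ∧ a ^ 23 * a = 1 := by decide +kernel
theorem Glist_pow : ∀ a ∈ Glist, a ^ 8 = 1 ∨ a ^ 12 = 1 := by decide +kernel

theorem Xlist_closed : ∀ a ∈ Xlist, ∀ b ∈ Xlist, a * b ∈ Xlist := by decide +kernel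
theorem Xlist_one : (1 : E) ∈ Xlist := by decide +kernel
theorem Xlist_inv : ∀ a ∈ Xlist, a ^ 23 ∈ Xlist := by decide +kernel

theorem comm_G_X : ∀ a ∈ Glist, ∀ b ∈ Glist, a * b * a ^ 23 * b ^ 23 ∈ Xlist := by decide +kernel
theorem comm_X : ∀ a ∈ Xlist, ∀ b ∈ Xlist, a * b * a ^ 23 * b ^ 23 = 1 := by decide +kernel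

theorem InvPairs_spec : ∀ pr ∈ InvPairs, pr.2 * (1 - pr.1) = 1 := by decide +kernel
theorem InvPairs_cover : ∀ a ∈ Glist, a ≠ 1 → a ∈ InvPairs.map Prod.fst := by decide +kernel

/-- an element of order 8 -/
def c8 : E := ⟨⟨0, 0⟩, ⟨0, 0⟩, ⟨3, 3⟩, ⟨4, 4⟩⟩
/-- an element of order 12 -/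
def c12 : E := ⟨⟨0, 3⟩, ⟨0, 3⟩, ⟨0, 3⟩, ⟨0, 3⟩⟩

theorem c8_mem : c8 ∈ Glist := by decide +kernel
theorem c12_mem : c12 ∈ Glist := by decide +kernel
theorem c8_pow : c8 ^ 8 = 1 ∧ c8 ^ 4 ≠ 1 := by decide +kernel
theorem c12_pow : c12 ^ 12 = 1 ∧ c12 ^ 6 ≠ 1 ∧ c12 ^ 4 ≠ 1 := by decide +kernel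

theorem seven_eq_zero : ((7 : ℕ) : E) = 0 := by decide +kernel
theorem one_ne_zero_E : (1 : E) ≠ 0 := by decide +kernel

end Cfsg.Agent.Lib.Helper57.G24
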