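import Mathlib

set_option autoImplicit false

namespace Cfsg.Agent.Lib.Helper57

open scoped commutatorElement

universe u

theorem orderOf_eq_twelve {M : Type*} [Monoid M] (x : M) (h12 : x ^ 12 = 1) (h6 : x ^ 6 ≠ 1)
    (h4 : x ^ 4 ≠ 1) : orderOf x = 12 := by
  apply orderOf_eq_of_pow_and_pow_div_prime (by norm_num) h12
  intro p hp hpd
  have h23 : p = 2 ∨ p = 3 := by
    have : p ∣ 2 * (2 * 3) := hpd
    rcases (Nat.Prime.dvd_mul hp).1 this with h | h
    · left; exact (Nat.prime_dvd_prime_iff_eq hp Nat.prime_two).1 h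
    · rcases (Nat.Prime.dvd_mul hp).1 h with h | h
      · left; exact (Nat.prime_dvd_prime_iff_eq hp Nat.prime_two).1 h
      · right; exact (Nat.prime_dvd_prime_iff_eq hp Nat.prime_three).1 h
  rcases h23 with rfl | rfl
  · exact h6
  · exact h4

/-- A finite group presented as a list of elements of a monoid, closed under the operations. -/
structure ListGrp (E : Type u) [Monoid E] where
  /-- the elements -/
  L : List E
  /-- an inverse function -/
  inv : E → E
  one_mem : (1 : E) ∈ L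
  mul_mem : ∀ a ∈ L, ∀ b ∈ L, a * b ∈ L
  inv_mem : ∀ a ∈ L, inv a ∈ L ∧ inv a * a = 1

namespace ListGrp

variable {E : Type u} [Monoid E] (D : ListGrp E)

/-- the underlying type -/
def Carrier : Type u := {c : E // c ∈ D.L}

instance instMul : Mul D.Carrier := ⟨fun a b => ⟨a.1 * b.1, D.mul_mem a.1 a.2 b.1 b.2⟩⟩
instance instOne : One D.Carrier := ⟨⟨1, D.one_mem⟩⟩
instance instInv : Inv D.Carrier := ⟨fun a => ⟨D.inv a.1, (D.inv_mem a.1 a.2).1⟩⟩

theorem mul_val (a b : D.Carrier) : (a * b).1 = a.1 * b.1 := rfl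
theorem one_val : (1 : D.Carrier).1 = 1 := rfl
theorem inv_val (a : D.Carrier) : (a⁻¹).1 = D.inv a.1 := rfl

instance instGroup : Group D.Carrier := Group.ofLeftAxioms
  (fun a b c => Subtype.ext (mul_assoc a.1 b.1 c.1))
  (fun a => Subtype.ext (one_mul a.1))
  (fun a => Subtype.ext (D.inv_mem a.1 a.2).2)

instance instFinite : Finite D.Carrier := (List.finite_toSet D.L).to_subtype

/-- the inclusion -/
def incl : D.Carrier →* E where
  toFun a := a.1
  map_one' := rfl
  map_mul' _ _ := rfl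

theorem incl_apply (a : D.Carrier) : D.incl a = a.1 := rfl

theorem pow_val (a : D.Carrier) (n : ℕ) : (a ^ n).1 = a.1 ^ n := map_pow D.incl a n

theorem eq_one_iff (a : D.Carrier) : a = 1 ↔ a.1 = 1 := by
  constructor
  · rintro rfl; rfl
  · intro h; exact Subtype.ext h

theorem pow_eq_one_iff (a : D.Carrier) (n : ℕ) : a ^ n = 1 ↔ a.1 ^ n = 1 := by
  rw [eq_one_iff, pow_val]

theorem inv_val_eq (a : D.Carrier) (b : E) (hb : b * a.1 = 1) : (a⁻¹).1 = b := by
  have h1 : (a⁻¹).1 * a.1 = 1 := (D.inv_mem a.1 a.2).2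
  have h2 : a.1 * (a⁻¹).1 = 1 := by
    have := mul_inv_cancel a
    exact congrArg Subtype.val this
  calc (a⁻¹).1 = (b * a.1) * (a⁻¹).1 := by rw [hb, one_mul]
    _ = b * (a.1 * (a⁻¹).1) := mul_assoc _ _ _
    _ = b := by rw [h2, mul_one]

theorem comm_val (a b : D.Carrier) :
    (⁅a, b⁆ : D.Carrier).1 = a.1 * b.1 * D.inv a.1 * D.inv b.1 := by
  rw [commutatorElement_def]
  rfl

/-- subgroup cut out by a sublist closed under the operations -/
def subOf (L' : List E) (h1 : (1 : E) ∈ L') (hm : ∀ a ∈ L', ∀ b ∈ L', a * b ∈ L')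
    (hs : ∀ a ∈ L', D.inv a ∈ L') : Subgroup D.Carrier where
  carrier := {c | c.1 ∈ L'}
  mul_mem' := fun {a b} ha hb => hm a.1 ha b.1 hb
  one_mem' := h1
  inv_mem' := fun {a} ha => hs a.1 ha

theorem mem_subOf (L' : List E) (h1 : (1 : E) ∈ L') (hm : ∀ a ∈ L', ∀ b ∈ L', a * b ∈ L')
    (hs : ∀ a ∈ L', D.inv a ∈ L') (c : D.Carrier) : c ∈ D.subOf L' h1 hm hs ↔ c.1 ∈ L' := Iff.rfl

/-- metabelian criterion -/
theorem isSolvable_of_two (L' : List E) (h1' : (1 : E) ∈ L') (hm : ∀ a ∈ L', ∀ b ∈ L', a * b ∈ L')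
    (hs : ∀ a ∈ L', D.inv a ∈ L')
    (h1 : ∀ a ∈ D.L, ∀ b ∈ D.L, a * b * D.inv a * D.inv b ∈ L')
    (h2 : ∀ a ∈ L', ∀ b ∈ L', a * b * D.inv a * D.inv b = 1) :
    Group.IsSolvable D.Carrier := by
  have hd1 : derivedSeries D.Carrier 1 ≤ D.subOf L' h1' hm hs := by
    rw [derivedSeries_succ, derivedSeries_zero, Subgroup.commutator_le]
    intro a _ b _
    rw [mem_subOf, comm_val]
    exact h1 a.1 a.2 b.1 b.2
  have hd2 : derivedSeries D.Carrier 2 ≤ ⊥ := by
    rw [derivedSeries_succ]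
    refine (Subgroup.commutator_mono hd1 hd1).trans ?_
    rw [Subgroup.commutator_le]
    intro a ha b hb
    rw [Subgroup.mem_bot, eq_one_iff, comm_val]
    exact h2 a.1 ha b.1 hb
  exact ⟨⟨2, le_bot_iff.mp hd2⟩⟩

end ListGrp

/-- fixed-point-freeness from a list of inverses of `1 - a` -/
theorem free_of_invPairs {E : Type u} [Ring E] (L : List E) (P : List (E × E))
    (hspec : ∀ pr ∈ P, pr.2 * (1 - pr.1) = 1)
    (hcover : ∀ a ∈ L, a ≠ 1 → a ∈ P.map Prod.fst)
    (a : E) (ha : a ∈ L) (hne : a ≠ 1) (y : E) (hy : (1 - a) * y = 0) : y = 0 := by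
  have hcov := hcover a ha hne
  rw [List.mem_map] at hcov
  obtain ⟨pr, hpr, hfst⟩ := hcov
  have hs := hspec pr hpr
  rw [hfst] at hs
  have : y = pr.2 * ((1 - a) * y) := by
    rw [← mul_assoc, hs, one_mul]
  rw [this, hy, mul_zero]

end Cfsg.Agent.Lib.Helper57
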