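import Mathlib
import Cfsg.Agent.Lib.Helper57.G24Data
import Cfsg.Agent.Lib.Helper57.ListGrp
import Cfsg.Agent.Lib.Helper57.AffGrp

set_option autoImplicit false

namespace Cfsg.Agent.Lib.Helper57.G24

/-- the list-group data of `3 : 8` -/
def D : ListGrp E where
  L := Glist
  inv := fun a => a ^ 23
  one_mem := Glist_one
  mul_mem := Glist_closed
  inv_mem := Glist_inv

/-- the group `3 : 8` -/
abbrev G : Type := D.Carrier

theorem orderOf_mem (a : G) : orderOf a ∈ ({1, 2, 3, 4, 6, 8, 12} : Set ℕ) := by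
  rcases Glist_pow a.1 a.2 with h | h
  · have hd : orderOf a ∣ 8 := orderOf_dvd_of_pow_eq_one ((D.pow_eq_one_iff a 8).2 h)
    have hmem : orderOf a ∈ Nat.divisors 8 := Nat.mem_divisors.mpr ⟨hd, by norm_num⟩
    have h8 : Nat.divisors 8 = {1, 2, 4, 8} := by decide
    rw [h8] at hmem
    simp only [Finset.mem_insert, Finset.mem_singleton] at hmem
    rcases hmem with h | h | h | h <;> simp [h]
  · have hd : orderOf a ∣ 12 := orderOf_dvd_of_pow_eq_one ((D.pow_eq_one_iff a 12).2 h)
    have hmem : orderOf a ∈ Nat.divisors 12 := Nat.mem_divisors.mpr ⟨hd, by norm_num⟩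
    have h12 : Nat.divisors 12 = {1, 2, 3, 4, 6, 12} := by decide
    rw [h12] at hmem
    simp only [Finset.mem_insert, Finset.mem_singleton] at hmem
    rcases hmem with h | h | h | h | h | h <;> simp [h]

/-- an element of order 8 -/
def g8 : G := ⟨c8, c8_mem⟩
/-- an element of order 12 -/
def g12 : G := ⟨c12, c12_mem⟩

theorem orderOf_g8 : orderOf g8 = 8 := by
  have : Fact (Nat.Prime 2) := ⟨Nat.prime_two⟩
  have h := orderOf_eq_prime_pow (x := g8) (p := 2) (n := 2)
    (by rw [D.pow_eq_one_iff]; exact c8_pow.2) (by rw [D.pow_eq_one_iff]; exact c8_pow.1)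
  simpa using h

theorem orderOf_g12 : orderOf g12 = 12 := by
  apply orderOf_eq_twelve
  · rw [D.pow_eq_one_iff]; exact c12_pow.1
  · rw [Ne, D.pow_eq_one_iff]; exact c12_pow.2.1
  · rw [Ne, D.pow_eq_one_iff]; exact c12_pow.2.2

theorem range_orderOf_G : Set.range (orderOf : G → ℕ) = {1, 2, 3, 4, 6, 8, 12} := by
  ext n
  constructor
  · rintro ⟨a, rfl⟩
    exact orderOf_mem a
  · intro hn
    simp only [Set.mem_insert_iff, Set.mem_singleton_iff] at hn
    rcases hn with rfl | rfl | rfl | rfl | rfl | rfl | rfl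
    · exact ⟨1, orderOf_one⟩
    · refine ⟨g12 ^ 6, ?_⟩
      rw [orderOf_pow_of_dvd (by norm_num) (by rw [orderOf_g12]; norm_num), orderOf_g12]
    · refine ⟨g12 ^ 4, ?_⟩
      rw [orderOf_pow_of_dvd (by norm_num) (by rw [orderOf_g12]; norm_num), orderOf_g12]
    · refine ⟨g12 ^ 3, ?_⟩
      rw [orderOf_pow_of_dvd (by norm_num) (by rw [orderOf_g12]; norm_num), orderOf_g12]
    · refine ⟨g12 ^ 2, ?_⟩
      rw [orderOf_pow_of_dvd (by norm_num) (by rw [orderOf_g12]; norm_num), orderOf_g12]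
    · exact ⟨g8, orderOf_g8⟩
    · exact ⟨g12, orderOf_g12⟩

theorem free (g : G) (hg : g ≠ 1) (y : E) (hy : (1 - D.incl g) * y = 0) : y = 0 :=
  free_of_invPairs Glist InvPairs InvPairs_spec InvPairs_cover g.1 g.2
    (fun h => hg ((D.eq_one_iff g).2 h)) y hy

instance instSolvableG : Group.IsSolvable G :=
  D.isSolvable_of_two Xlist Xlist_one Xlist_closed Xlist_inv comm_G_X comm_X

instance instFiniteK : Finite K :=
  Finite.of_equiv _ (QuadraticAlgebra.equivProd (R := ZMod 7) (-1) 0).symm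

instance instFiniteE : Finite E :=
  Finite.of_equiv _ (QuaternionAlgebra.equivProd (R := K) (-1) 0 (-1)).symm

instance instNontrivialE : Nontrivial E := ⟨⟨1, 0, one_ne_zero_E⟩⟩

/-- The Frobenius group `7^8 : (3 : 8)`. -/
abbrev Frob : Type := AffGrp D.incl

theorem range_orderOf_Frob : Set.range (orderOf : Frob → ℕ) = {1, 2, 3, 4, 6, 7, 8, 12} := by
  have : Fact (Nat.Prime 7) := ⟨by norm_num⟩
  rw [AffGrp.range_orderOf D.incl 7 seven_eq_zero free, range_orderOf_G]
  ext n
  simp only [Set.mem_union, Set.mem_insert_iff, Set.mem_singleton_iff]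
  tauto

theorem isSolvable_Frob : Group.IsSolvable Frob := AffGrp.isSolvable D.incl

end Cfsg.Agent.Lib.Helper57.G24
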