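import Mathlib
import Cfsg.Prelude.Def_SporadicCombinatorics

set_option autoImplicit false

/-! The hexacode over an abstract field with four elements, transferred to the concrete model
`K = F_2[w]/(w^2 = w + 1)`. -/

namespace Cfsg.Agent.Lib.Helper57.Hexa

/-- the concrete field with four elements -/
abbrev K : Type := QuadraticAlgebra (ZMod 2) 1 1

instance decEqK : DecidableEq K := fun a b =>
  decidable_of_iff (a.re = b.re ∧ a.im = b.im) (QuadraticAlgebra.ext_iff).symm

instance fintypeK : Fintype K := Fintype.ofEquiv _ (QuadraticAlgebra.equivProd (R := ZMod 2) 1 1).symm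

/-- the generator `w` with `w^2 = w + 1` -/
def w : K := ⟨0, 1⟩

/-- the three generating words -/
def u1 : Fin 6 → K := ![w, w ^ 2, w ^ 2, w, w ^ 2, w]
def u2 : Fin 6 → K := ![w ^ 2, w, w, w ^ 2, w ^ 2, w]
def u3 : Fin 6 → K := ![w ^ 2, w, w ^ 2, w, w, w ^ 2]

/-- the encoding map of the concrete hexacode -/
def encK (a b c : K) : Fin 6 → K := fun i => a * u1 i + b * u2 i + c * u3 i

/-- decidable membership: re-encode the information symbols and compare -/
def memK (v : Fin 6 → K) : Prop :=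
  v = encK (w * v 0 + w ^ 2 * v 1) (w ^ 2 * v 0 + w ^ 2 * v 1 + v 2) (v 1 + v 2)

instance (v : Fin 6 → K) : Decidable (memK v) := by unfold memK; infer_instance

/-- the weight of a concrete word -/
def wtK (v : Fin 6 → K) : ℕ := (Finset.univ.filter fun i => v i ≠ 0).card

set_option maxRecDepth 1000000

theorem card_K : Fintype.card K = 4 := by decide +kernel

theorem memK_encK : ∀ a b c : K, memK (encK a b c) := by decide +kernel

theorem encK_injective : ∀ a b c a' b' c' : K, encK a b c = encK a' b' c' →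
    a = a' ∧ b = b' ∧ c = c' := by decide +kernel

theorem encK_eq_zero : ∀ a b c : K, encK a b c = 0 → a = 0 ∧ b = 0 ∧ c = 0 := by decide +kernel

theorem wtK_encK : ∀ a b c : K, encK a b c ≠ 0 → wtK (encK a b c) = 4 ∨ wtK (encK a b c) = 6 := by
  decide +kernel

theorem count4 : (Finset.univ.filter fun t : K × K × K => wtK (encK t.1 t.2.1 t.2.2) = 4).card = 45 := by
  decide +kernel

theorem count6 : (Finset.univ.filter fun t : K × K × K => wtK (encK t.1 t.2.1 t.2.2) = 6).card = 18 := by
  decide +kernel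

theorem w_rel : w * w = (1 : ZMod 2) • (1 : K) + (1 : ZMod 2) • w := by decide +kernel

theorem K_cases : ∀ z : K, z = 0 ∨ z = 1 ∨ z = w ∨ z = w + 1 := by decide +kernel


section transfer

variable {F : Type*} [Field F] [Fintype F]

theorem charP_two (hF : Fintype.card F = 4) : CharP F 2 := by
  obtain ⟨p, hp⟩ := CharP.exists F
  obtain ⟨n, hprime, hcard⟩ := FiniteField.card F p
  rw [hF] at hcard
  have h2 : p ∣ 2 ^ 2 := by
    have : p ∣ p ^ (n : ℕ) := dvd_pow_self p n.pos.ne'
    rw [← hcard] at this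
    exact this
  have : p = 2 := (Nat.prime_dvd_prime_iff_eq hprime Nat.prime_two).1 (hprime.dvd_of_dvd_pow h2)
  subst this
  exact hp

variable [CharP F 2] (ω : F) (hω : ω ^ 2 + ω + 1 = 0)

include hω in
theorem omega_mul_self : ω * ω = 1 + ω := by
  have h : ω * ω = -(ω + 1) := by
    rw [eq_neg_iff_add_eq_zero, ← add_assoc, ← pow_two]
    exact hω
  rw [h, CharTwo.neg_eq, add_comm]

include hω in
theorem omega_ne_zero : ω ≠ 0 := by
  rintro rfl
  simp at hω

include hω in
theorem omega_add_one_ne_zero : ω + 1 ≠ 0 := by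
  intro h
  have h1 : ω = 1 := by
    have := eq_neg_of_add_eq_zero_left h
    rw [this, CharTwo.neg_eq]
  rw [h1] at hω
  have h2 : (1 : F) ^ 2 + 1 = 0 := by
    rw [one_pow]
    exact CharTwo.add_self_eq_zero 1
  rw [h2, zero_add] at hω
  exact one_ne_zero hω

/-- the ring homomorphism from the concrete model -/
noncomputable def phi : K →+* F :=
  letI := ZMod.algebra F 2
  ((QuadraticAlgebra.lift ⟨ω, by rw [one_smul, one_smul]; exact omega_mul_self ω hω⟩ :
    K →ₐ[ZMod 2] F) : K →+* F)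

theorem phi_w : phi ω hω w = ω := by
  letI := ZMod.algebra F 2
  show (w.re • (1 : F) + w.im • ω) = ω
  simp [w]

theorem phi_injective : Function.Injective (phi ω hω) := by
  rw [injective_iff_map_eq_zero]
  intro z hz
  rcases K_cases z with rfl | rfl | rfl | rfl
  · rfl
  · rw [map_one] at hz
    exact absurd hz one_ne_zero
  · rw [phi_w] at hz
    exact absurd hz (omega_ne_zero ω hω)
  · rw [map_add, map_one, phi_w] at hz
    exact absurd hz (omega_add_one_ne_zero ω hω)

theorem phi_bijective (hF : Fintype.card F = 4) : Function.Bijective (phi ω hω) := by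
  rw [Fintype.bijective_iff_injective_and_card]
  exact ⟨phi_injective ω hω, by rw [card_K, hF]⟩

theorem phi_eq_zero_iff (z : K) : phi ω hω z = 0 ↔ z = 0 :=
  map_eq_zero_iff _ (phi_injective ω hω)

/-- the coordinatewise map on words -/
noncomputable def Phi (v : Fin 6 → K) : Fin 6 → F := fun i => phi ω hω (v i)

theorem Phi_injective : Function.Injective (Phi ω hω) := by
  intro v v' h
  funext i
  exact phi_injective ω hω (congrFun h i)

theorem Phi_zero : Phi ω hω 0 = 0 := by
  funext i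
  simp [Phi]

theorem Phi_eq_zero_iff (v : Fin 6 → K) : Phi ω hω v = 0 ↔ v = 0 := by
  constructor
  · intro h
    apply Phi_injective ω hω
    rw [h, Phi_zero]
  · rintro rfl
    exact Phi_zero ω hω

theorem phi_u1 (i : Fin 6) : phi ω hω (u1 i) = ![ω, ω ^ 2, ω ^ 2, ω, ω ^ 2, ω] i := by
  fin_cases i <;> simp [u1, phi_w]

theorem phi_u2 (i : Fin 6) : phi ω hω (u2 i) = ![ω ^ 2, ω, ω, ω ^ 2, ω ^ 2, ω] i := by
  fin_cases i <;> simp [u2, phi_w]

theorem phi_u3 (i : Fin 6) : phi ω hω (u3 i) = ![ω ^ 2, ω, ω ^ 2, ω, ω, ω ^ 2] i := by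
  fin_cases i <;> simp [u3, phi_w]

theorem Phi_encK (a b c : K) :
    Phi ω hω (encK a b c) = phi ω hω a • ![ω, ω ^ 2, ω ^ 2, ω, ω ^ 2, ω] +
      phi ω hω b • ![ω ^ 2, ω, ω, ω ^ 2, ω ^ 2, ω] + phi ω hω c • ![ω ^ 2, ω, ω ^ 2, ω, ω, ω ^ 2] := by
  funext i
  simp only [Phi, encK, map_add, map_mul, phi_u1, phi_u2, phi_u3, Pi.add_apply, Pi.smul_apply,
    smul_eq_mul]

theorem mem_hexacode_iff (hF : Fintype.card F = 4) (x : Fin 6 → F) :
    x ∈ Cfsg.hexacode F ω ↔ ∃ a b c : K, x = Phi ω hω (encK a b c) := by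
  unfold Cfsg.hexacode
  rw [Submodule.mem_span_triple]
  constructor
  · rintro ⟨a, b, c, rfl⟩
    obtain ⟨a', rfl⟩ := (phi_bijective ω hω hF).2 a
    obtain ⟨b', rfl⟩ := (phi_bijective ω hω hF).2 b
    obtain ⟨c', rfl⟩ := (phi_bijective ω hω hF).2 c
    exact ⟨a', b', c', (Phi_encK ω hω a' b' c').symm⟩
  · rintro ⟨a, b, c, rfl⟩
    exact ⟨_, _, _, (Phi_encK ω hω a b c).symm⟩

theorem wt_Phi [DecidableEq F] (v : Fin 6 → K) :
    (Finset.univ.filter fun i => Phi ω hω v i ≠ 0).card = wtK v := by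
  unfold wtK
  congr 1
  apply Finset.filter_congr
  intro i _
  simp only [Phi, ne_eq, phi_eq_zero_iff]

end transfer

end Cfsg.Agent.Lib.Helper57.Hexa
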