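import Mathlib

set_option autoImplicit false
set_option maxRecDepth 1000000

namespace Cfsg.Agent.Lib.Helper57.J1

/-- binary trees of codes of vectors with scalars -/
inductive VT where
  | leaf : VT
  | node : Nat → Nat → VT → VT → VT

/-- the tree of the images of the fixed line of an element of order 7 -/
def lineTree7 : VT :=
  (.node 1948717 1 .leaf (.node 19342324 1 (.node 17905933 10 (.node 18036514 10 (.node 3411244 1 (.node 2081674 1 (.node 19475083 10 (.node 3542023 1 .leaf (.node 14039950 8 (.node 14388584 8 .leaf (.node 2888777 9 (.node 11647120 6 (.node 11166827 6 (.node 10210421 5 (.node 15446190 8 .leaf .leaf) .leaf) .leaf) (.node 18113590 2 .leaf (.node 12297781 7 .leaf (.node 9056994 1 (.node 12007414 6 (.node 10259998 5 .leaf .leaf) .leaf) .leaf)))) (.node 199409 10 .leaf (.node 9087596 7 (.node 2597706 1 (.node 15575253 8 .leaf .leaf) .leaf) .leaf)))) (.node 11487037 8 (.node 11239350 6 (.node 11221497 6 (.node 14848582 8 .leaf .leaf) .leaf) .leaf) (.node 5397217 4 (.node 2262217 1 .leaf .leaf) .leaf)))) (.node 15831993 2 (.node 18225054 10 (.node 8234887 4 (.node 18915700 10 .leaf (.node 13989141 10 (.node 13334234 7 .leaf (.node 18596040 5 (.node 8357933 4 (.node 10338098 5 .leaf (.node 10652962 9 .leaf .leaf)) .leaf) (.node 674356 6 .leaf .leaf))) (.node 7865826 3 (.node 10441597 5 .leaf .leaf) .leaf))) (.node 13489477 4 (.node 8095297 4 .leaf (.node 475267 1 .leaf (.node 15249641 9 (.node 1386331 1 .leaf .leaf) .leaf))) (.node 9011839 2 (.node 12728606 7 (.node 1157146 1 (.node 10762489 6 .leaf (.node 14450338 10 (.node 8764262 4 .leaf .leaf) .leaf)) (.node 7313109 2 .leaf (.node 12366883 9 .leaf .leaf))) .leaf) (.node 15618153 9 (.node 15758887 8 (.node 12691053 7 .leaf .leaf) .leaf) .leaf)))) (.node 7923356 2 (.node 8034478 4 (.node 15894671 8 (.node 18219356 10 (.node 11545425 6 .leaf (.node 12697983 9 .leaf (.node 11654490 5 .leaf .leaf))) .leaf) .leaf) (.node 5380838 10 (.node 14019721 7 .leaf (.node 4933985 1 (.node 12911229 7 .leaf (.node 1042306 5 .leaf .leaf)) (.node 1868494 9 .leaf (.node 14885839 8 .leaf .leaf)))) (.node 13707530 6 .leaf (.node 5656729 7 (.node 9655625 5 .leaf .leaf) .leaf)))) (.node 12569778 6 .leaf (.node 1812449 3 (.node 19338507 10 (.node 6720924 3 (.node 9613847 5 .leaf .leaf) .leaf) .leaf) .leaf)))) (.node 8189237 8 (.node 15849802 8 (.node 3212452 1 (.node 11661167 6 .leaf (.node 4114221 3 (.node 10537528 5 .leaf .leaf) (.node 14418779 10 (.node 17043940 9 .leaf .leaf) (.node 9416562 6 (.node 9404198 5 .leaf .leaf) (.node 4075710 2 .leaf .leaf))))) (.node 9081414 9 (.node 8601043 4 (.node 781913 1 .leaf .leaf) (.node 3097392 9 .leaf (.node 18216485 1 .leaf .leaf))) (.node 8365138 10 (.node 5633937 3 .leaf (.node 13346477 9 (.node 17253666 9 .leaf .leaf) .leaf)) (.node 16451315 10 .leaf .leaf)))) (.node 13959649 3 (.node 1269059 1 (.node 115369 1 (.node 15955270 9 .leaf (.node 5210910 8 .leaf .leaf)) (.node 6240092 4 (.node 7393353 4 .leaf .leaf) .leaf)) (.node 8830228 6 (.node 802748 1 .leaf .leaf) .leaf)) (.node 1277673 5 (.node 7184453 4 (.node 15788543 8 (.node 10074153 5 (.node 16235583 9 .leaf .leaf) .leaf) .leaf) (.node 15031622 10 .leaf .leaf)) (.node 7393079 5 .leaf (.node 11126435 3 (.node 17628017 9 .leaf .leaf) .leaf))))) (.node 782034 9 .leaf .leaf)))) (.node 19023049 9 (.node 8365468 4 (.node 2532058 1 (.node 2001748 1 (.node 5844389 3 .leaf (.node 8374840 4 (.node 4904758 2 (.node 10859630 6 .leaf (.node 2557534 6 (.node 15615491 8 .leaf (.node 10774468 7 .leaf .leaf)) .leaf)) (.node 14809994 9 (.node 15656103 8 .leaf .leaf) .leaf)) (.node 14535038 10 (.node 8825796 4 (.node 16465219 9 (.node 12344091 6 .leaf .leaf) .leaf) (.node 16553835 5 .leaf .leaf)) (.node 4284149 4 .leaf .leaf)))) (.node 4099503 9 (.node 10903553 6 .leaf (.node 7179855 3 (.node 15789555 8 (.node 11347073 6 (.node 17599891 9 .leaf .leaf) (.node 8012093 1 .leaf .leaf)) .leaf) (.node 6810079 8 .leaf (.node 11826793 7 (.node 1075163 1 .leaf .leaf) .leaf)))) (.node 14343000 10 .leaf (.node 7025074 1 (.node 16792381 9 .leaf .leaf) .leaf)))) (.node 12346357 1 (.node 7518940 4 .leaf (.node 9974152 6 .leaf .leaf)) (.node 13992451 8 (.node 1272041 1 (.node 12485804 7 (.node 17234581 9 .leaf .leaf) (.node 943130 10 .leaf (.node 9294671 5 .leaf .leaf))) (.node 15969086 8 (.node 18051540 10 (.node 8331632 4 .leaf (.node 8677109 1 .leaf .leaf)) (.node 14429306 1 (.node 17055578 9 .leaf .leaf) .leaf)) (.node 16883637 9 (.node 12371096 6 (.node 17592180 9 .leaf .leaf) .leaf) (.node 13114553 7 (.node 13302213 7 .leaf .leaf) (.node 11387563 6 .leaf .leaf))))) (.node 19167281 8 .leaf .leaf)))) (.node 12789700 4 (.node 1162700 1 (.node 105700 1 (.node 3547688 2 (.node 12885357 7 .leaf (.node 16895231 7 .leaf (.node 11653643 5 .leaf .leaf))) .leaf) (.node 562497 3 (.node 12550825 7 (.node 9189192 5 (.node 12768086 7 .leaf .leaf) (.node 3068803 6 .leaf (.node 13968736 2 .leaf .leaf))) .leaf) .leaf)) (.node 12560021 1 (.node 9188048 5 .leaf .leaf) (.node 13933063 9 (.node 8109223 4 (.node 5590883 3 (.node 14613853 8 (.node 15708144 8 .leaf .leaf) .leaf) (.node 15606812 10 (.node 18245525 10 .leaf .leaf) (.node 16988797 7 (.node 7610857 4 .leaf .leaf) .leaf))) (.node 19061186 8 .leaf .leaf)) (.node 17490210 9 (.node 12390742 6 (.node 10242574 5 .leaf .leaf) (.node 6337255 2 (.node 7278282 4 .leaf (.node 13009096 1 .leaf .leaf)) .leaf)) .leaf)))) (.node 10315163 6 .leaf (.node 9605014 7 (.node 8616950 4 (.node 16488308 9 (.node 18165378 10 (.node 1651398 1 .leaf .leaf) .leaf) .leaf) .leaf) .leaf)))) (.node 683419 6 (.node 62129 1 (.node 15948978 9 (.node 13690601 7 (.node 17320326 9 .leaf (.node 9728610 4 (.node 12760573 7 (.node 8180657 4 .leaf (.node 18743660 9 .leaf .leaf)) (.node 7768135 10 .leaf .leaf)) (.node 17281881 8 (.node 16683217 9 (.node 9161681 5 .leaf .leaf) (.node 12380138 6 .leaf .leaf)) .leaf))) (.node 13887446 1 (.node 8108244 4 .leaf .leaf) (.node 6420833 7 .leaf (.node 14001428 5 .leaf (.node 9606026 1 .leaf .leaf))))) (.node 7939691 5 (.node 8024809 4 (.node 13408088 7 .leaf (.node 15545839 8 .leaf (.node 6365371 10 (.node 6872207 3 .leaf .leaf) (.node 16190538 8 .leaf .leaf)))) (.node 9615639 6 .leaf .leaf)) (.node 1030602 9 (.node 5418722 3 (.node 9505332 5 .leaf (.node 17267053 4 .leaf .leaf)) (.node 19212029 9 (.node 3518109 1 (.node 7837138 4 .leaf .leaf) .leaf) (.node 17097202 1 .leaf (.node 2900129 8 .leaf .leaf)))) .leaf))) (.node 8198928 7 (.node 13510179 7 (.node 7034589 3 (.node 2411069 1 (.node 11705992 6 .leaf (.node 9325130 5 .leaf .leaf)) (.node 11129284 7 .leaf (.node 11190333 7 .leaf .leaf))) (.node 5254558 8 (.node 2249248 1 .leaf (.node 18502243 5 (.node 3453583 1 .leaf .leaf) .leaf)) (.node 1994202 6 (.node 7796646 4 .leaf .leaf) (.node 4282763 5 .leaf .leaf)))) (.node 3374427 9 (.node 9686161 5 .leaf (.node 6466439 8 .leaf (.node 13040578 3 (.node 7068898 3 .leaf (.node 10600261 6 .leaf .leaf)) (.node 17593258 3 .leaf .leaf)))) (.node 15641814 10 .leaf (.node 7587625 8 (.node 15823545 8 .leaf .leaf) (.node 14238588 2 .leaf .leaf))))) (.node 9846486 4 (.node 18769191 10 (.node 8255732 4 (.node 11085878 6 (.node 10294626 5 .leaf .leaf) (.node 19145688 1 .leaf .leaf)) .leaf) (.node 10202732 6 .leaf (.node 11001860 7 .leaf (.node 13166033 5 .leaf .leaf)))) (.node 2865941 6 (.node 17548708 9 (.node 15231162 8 .leaf .leaf) .leaf) (.node 4759525 7 (.node 19230311 10 .leaf .leaf) .leaf))))) (.node 13342836 6 (.node 6991612 3 (.node 19028725 10 (.node 11502294 6 .leaf .leaf) .leaf) .leaf) .leaf)))) (.node 7887397 8 (.node 2488597 1 .leaf (.node 15439271 4 (.node 8789793 4 (.node 18865254 10 (.node 11575389 6 (.node 6508129 3 .leaf (.node 18015427 9 .leaf (.node 7856410 9 .leaf (.node 6942618 10 .leaf .leaf)))) (.node 9750654 8 (.node 18777903 10 (.node 8245832 4 .leaf (.node 4221262 5 (.node 17125263 9 .leaf .leaf) .leaf)) (.node 16638238 7 (.node 3284128 1 .leaf .leaf) (.node 297672 3 .leaf (.node 15478453 9 .leaf .leaf)))) (.node 2163789 7 (.node 3935075 2 (.node 8499745 4 (.node 10419498 5 .leaf .leaf) .leaf) (.node 1144870 4 (.node 12483890 7 .leaf .leaf) .leaf)) (.node 12480502 10 (.node 14344166 8 (.node 10058676 5 .leaf .leaf) .leaf) (.node 9948027 8 .leaf .leaf))))) (.node 18616610 4 (.node 8349199 4 .leaf (.node 2202828 5 .leaf (.node 4150092 4 .leaf (.node 8456900 5 .leaf .leaf)))) (.node 11452288 1 (.node 7546418 4 .leaf (.node 15012724 3 .leaf .leaf)) (.node 2340779 10 .leaf .leaf)))) (.node 7874516 5 (.node 15938176 8 (.node 16943620 9 (.node 18123997 10 (.node 3419197 1 (.node 9764591 5 .leaf .leaf) .leaf) .leaf) (.node 1209220 10 (.node 3600587 2 .leaf .leaf) (.node 11486421 5 .leaf .leaf))) (.node 3589697 7 (.node 19176939 10 (.node 3514919 1 (.node 19343457 10 (.node 8322381 4 .leaf (.node 8365467 4 .leaf .leaf)) .leaf) (.node 1880660 6 .leaf .leaf)) (.node 14669106 7 (.node 8712287 4 (.node 5596966 3 .leaf .leaf) .leaf) .leaf)) (.node 7262465 6 (.node 5523662 3 (.node 2273712 1 .leaf (.node 118130 3 .leaf .leaf)) (.node 7087686 10 .leaf .leaf)) (.node 18359936 8 (.node 3440646 1 .leaf .leaf) (.node 5217213 2 .leaf .leaf))))) (.node 18041838 1 (.node 3411728 1 (.node 2081718 1 (.node 7799298 4 (.node 13463681 7 .leaf .leaf) .leaf) (.node 12180839 1 (.node 1107349 1 .leaf .leaf) .leaf)) (.node 943878 10 .leaf (.node 5842387 2 .leaf .leaf))) (.node 14282203 8 (.node 12568942 7 (.node 4056812 2 .leaf .leaf) (.node 9233456 6 (.node 5220590 2 .leaf (.node 13784893 1 (.node 13233056 7 .leaf .leaf) .leaf)) (.node 13385637 8 .leaf .leaf))) .leaf)))) (.node 14487265 5 (.node 17044919 9 (.node 3321099 1 (.node 2073479 1 (.node 11697302 6 (.node 18600935 10 (.node 13077395 7 .leaf .leaf) (.node 9501471 1 .leaf (.node 8280525 7 .leaf .leaf))) (.node 3794935 2 (.node 2116555 1 (.node 11618674 6 .leaf (.node 12269335 8 .leaf .leaf)) (.node 16139806 8 .leaf .leaf)) (.node 10543094 4 (.node 12002364 6 .leaf .leaf) .leaf))) (.node 3243428 10 (.node 11751147 6 .leaf (.node 10672058 3 .leaf .leaf)) (.node 9342895 9 .leaf (.node 10432555 2 (.node 16172960 9 .leaf .leaf) .leaf)))) (.node 11588160 6 (.node 18610857 10 (.node 13087339 7 .leaf (.node 4186106 1 .leaf .leaf)) .leaf) (.node 19469758 4 (.node 1769978 1 .leaf (.node 1015147 3 .leaf (.node 12983268 7 .leaf .leaf))) (.node 14244132 9 .leaf .leaf)))) (.node 18783766 6 (.node 13189386 7 (.node 12122650 6 (.node 11260921 6 (.node 17631527 9 .leaf .leaf) (.node 16235451 9 (.node 7641712 4 (.node 15825976 8 .leaf .leaf) .leaf) .leaf)) (.node 8435593 4 (.node 15929145 8 (.node 10075143 5 .leaf (.node 12453398 7 .leaf .leaf)) (.node 15795935 6 .leaf .leaf)) (.node 19019793 4 (.node 6636422 3 .leaf .leaf) .leaf))) (.node 14467102 6 (.node 10060348 5 .leaf .leaf) .leaf)) (.node 9589295 10 (.node 5979898 3 (.node 14652958 8 (.node 10140472 5 (.node 5209689 2 .leaf .leaf) (.node 11712581 10 .leaf .leaf)) (.node 11965196 8 .leaf (.node 15672801 8 .leaf .leaf))) (.node 18730130 9 (.node 16419899 9 .leaf (.node 44925 7 .leaf .leaf)) (.node 7099665 1 (.node 18843089 10 .leaf (.node 14124837 4 .leaf .leaf)) .leaf))) .leaf))) (.node 13663585 7 (.node 12224125 6 (.node 10162967 5 (.node 16206125 9 (.node 18191042 10 .leaf .leaf) (.node 14443034 7 .leaf (.node 2830983 7 .leaf .leaf))) (.node 19160450 8 .leaf (.node 9002984 1 .leaf .leaf))) (.node 9773325 9 (.node 8676581 4 .leaf (.node 5431790 2 .leaf (.node 13414501 5 (.node 14395448 8 .leaf .leaf) .leaf))) (.node 9997813 4 (.node 5198513 2 .leaf .leaf) (.node 8790420 2 (.node 2570690 1 .leaf (.node 13051391 6 .leaf .leaf)) (.node 13455740 2 .leaf .leaf))))) (.node 7547046 4 (.node 8013798 4 .leaf .leaf) .leaf))))) (.node 7346142 6 (.node 18996495 10 (.node 9861787 5 (.node 6070307 3 (.node 9637431 5 (.node 11960532 6 (.node 6480310 3 .leaf .leaf) (.node 801868 2 .leaf (.node 16873099 9 .leaf (.node 14722731 3 .leaf .leaf)))) .leaf) (.node 333048 1 (.node 16047340 9 .leaf .leaf) (.node 2695683 2 (.node 5859525 3 (.node 9573807 5 .leaf (.node 15452020 10 .leaf .leaf)) (.node 14520023 7 (.node 11296748 6 (.node 3824173 2 .leaf .leaf) (.node 13506560 8 .leaf .leaf)) (.node 16584228 8 (.node 13841719 7 (.node 6965289 3 .leaf .leaf) .leaf) .leaf))) (.node 11778933 6 (.node 3752002 2 .leaf (.node 5837822 7 .leaf .leaf)) (.node 16989490 6 .leaf .leaf))))) (.node 16047219 6 (.node 15140203 8 (.node 15681480 8 .leaf (.node 13089594 10 .leaf (.node 9893863 6 (.node 16256263 9 (.node 7637422 4 .leaf .leaf) (.node 13765511 6 .leaf (.node 117580 9 .leaf .leaf))) (.node 4906958 2 .leaf .leaf)))) (.node 16479145 6 (.node 7585612 4 (.node 11062678 6 .leaf (.node 8629028 3 .leaf .leaf)) .leaf) (.node 7031146 6 (.node 14540494 8 .leaf (.node 12494505 7 .leaf .leaf)) .leaf))) (.node 8403693 6 (.node 10417143 5 (.node 947013 1 (.node 3699323 2 (.node 19166973 10 (.node 13163173 7 .leaf .leaf) (.node 2502545 6 .leaf .leaf)) (.node 11468634 3 .leaf .leaf)) (.node 2663035 5 (.node 4025847 2 .leaf .leaf) (.node 3138477 6 .leaf (.node 12294008 5 .leaf .leaf)))) (.node 5140862 1 (.node 17133755 9 (.node 7664900 4 .leaf .leaf) .leaf) (.node 11883873 1 (.node 10185088 5 .leaf .leaf) (.node 3956382 5 .leaf .leaf)))) (.node 16659072 10 (.node 7649709 4 (.node 13516658 7 (.node 18435539 10 .leaf .leaf) (.node 1242923 10 .leaf .leaf)) (.node 108153 7 .leaf .leaf)) (.node 8870137 3 .leaf .leaf))))) (.node 14991131 2 (.node 15724798 8 (.node 8748674 4 (.node 795334 1 (.node 3672966 2 .leaf (.node 18702773 1 .leaf (.node 18346340 10 .leaf (.node 12970420 9 .leaf .leaf)))) (.node 5912292 5 (.node 19126845 10 .leaf (.node 9079753 8 .leaf .leaf)) (.node 7475854 10 .leaf .leaf))) (.node 18326188 5 (.node 3437578 1 .leaf (.node 1656997 5 (.node 10712670 6 .leaf (.node 12864402 9 .leaf .leaf)) (.node 5571754 3 .leaf .leaf))) (.node 10708556 3 (.node 17556265 9 .leaf (.node 16421857 6 .leaf .leaf)) (.node 10621810 5 .leaf .leaf)))) (.node 1981101 2 (.node 13645358 7 (.node 4075380 2 (.node 10532699 5 (.node 2729079 1 .leaf .leaf) (.node 13869395 5 (.node 3032415 1 .leaf .leaf) .leaf)) (.node 2561846 8 .leaf .leaf)) (.node 8298049 2 .leaf (.node 5221415 3 .leaf (.node 16242216 1 (.node 12341275 6 .leaf .leaf) .leaf)))) (.node 18426079 3 (.node 14816308 8 (.node 10052461 5 (.node 12052602 6 (.node 7559729 4 .leaf .leaf) .leaf) (.node 821976 10 .leaf .leaf)) (.node 10753788 8 .leaf (.node 16795230 2 .leaf .leaf))) (.node 8537376 8 .leaf (.node 14094543 6 .leaf .leaf))))) (.node 13149137 9 (.node 4147661 2 (.node 10899087 6 (.node 2762387 1 .leaf (.node 2321540 10 .leaf .leaf)) .leaf) (.node 13285042 8 .leaf (.node 2073996 10 .leaf (.node 13200990 7 (.node 1200090 1 .leaf (.node 13654774 8 .leaf .leaf)) .leaf)))) (.node 13409133 9 (.node 8092943 4 (.node 10438594 5 .leaf (.node 6103989 2 .leaf (.node 17178844 2 .leaf .leaf))) (.node 11304910 6 .leaf .leaf)) (.node 5281177 7 (.node 480107 1 (.node 9013071 5 .leaf .leaf) .leaf) .leaf))))) (.node 14598046 5 (.node 12612567 7 (.node 1146597 1 (.node 16073772 9 (.node 1461252 1 (.node 16003384 9 .leaf .leaf) .leaf) .leaf) .leaf) .leaf) (.node 3446125 7 .leaf .leaf))))) (.node 2959408 3 (.node 19395289 10 (.node 14713029 8 (.node 8713618 4 (.node 5597329 3 (.node 19155478 10 (.node 13066318 7 .leaf (.node 19011521 1 (.node 14788268 8 .leaf (.node 18867575 8 .leaf .leaf)) (.node 5955060 6 (.node 6906835 3 (.node 7296510 4 .leaf .leaf) (.node 1472109 4 .leaf .leaf)) (.node 10783400 5 (.node 13855963 7 (.node 1259633 1 .leaf .leaf) .leaf) .leaf)))) (.node 15593160 10 (.node 1417560 1 (.node 5347233 3 (.node 16759479 9 (.node 1523589 1 .leaf (.node 17991491 6 .leaf .leaf)) .leaf) (.node 1196053 7 (.node 12482823 7 .leaf .leaf) (.node 2779987 4 .leaf .leaf))) (.node 12481613 7 (.node 9184352 5 (.node 12768273 7 .leaf .leaf) .leaf) .leaf)) (.node 10318969 9 (.node 12840290 7 (.node 2938860 1 (.node 2038730 1 .leaf .leaf) (.node 3655917 7 (.node 10803530 6 .leaf .leaf) (.node 6963100 4 .leaf .leaf))) (.node 12242825 2 (.node 6559961 3 (.node 4560018 2 .leaf .leaf) (.node 16711421 8 .leaf .leaf)) (.node 19278755 2 (.node 5099755 2 .leaf .leaf) (.node 12857571 4 .leaf .leaf)))) (.node 6076687 2 .leaf .leaf)))) (.node 602988 10 (.node 5449841 3 (.node 4519240 2 (.node 410840 1 (.node 5411957 3 .leaf (.node 2186108 9 (.node 17509921 9 .leaf .leaf) .leaf)) (.node 16370706 10 (.node 1488246 1 .leaf .leaf) .leaf)) (.node 357985 1 (.node 3608078 2 .leaf (.node 9428310 8 .leaf .leaf)) .leaf)) (.node 3611466 7 (.node 10480581 5 .leaf .leaf) .leaf)) (.node 9022652 5 (.node 6003592 3 (.node 16799993 9 (.node 18136933 10 .leaf (.node 2270522 10 .leaf (.node 12944988 3 .leaf .leaf))) (.node 14688983 3 .leaf (.node 17151839 2 .leaf (.node 12414348 10 .leaf .leaf)))) (.node 4607197 1 (.node 17232105 9 .leaf (.node 11523524 7 (.node 13891659 7 .leaf .leaf) (.node 4731310 7 .leaf .leaf))) (.node 12754985 10 (.node 2931105 1 (.node 11728904 6 .leaf .leaf) (.node 15419768 10 .leaf .leaf)) (.node 2362295 1 .leaf .leaf)))) (.node 16736368 6 (.node 1521488 1 (.node 7137714 4 .leaf .leaf) .leaf) .leaf)))) (.node 5459037 9 (.node 16755123 9 (.node 1523193 1 (.node 5393224 3 (.node 2261854 1 (.node 5930100 3 (.node 539100 1 .leaf .leaf) (.node 16218797 4 .leaf .leaf)) .leaf) (.node 19103822 3 (.node 9938160 5 .leaf (.node 15776047 8 .leaf (.node 185010 10 .leaf .leaf))) (.node 4614754 8 (.node 17229411 9 .leaf .leaf) (.node 5809112 3 .leaf .leaf)))) (.node 9770091 10 (.node 5304850 2 (.node 12949278 7 .leaf .leaf) (.node 14928684 6 .leaf (.node 11199420 8 .leaf .leaf))) (.node 4638195 9 (.node 10840193 6 (.node 6498075 3 .leaf .leaf) .leaf) (.node 18807207 3 .leaf .leaf)))) (.node 3861925 2 (.node 12992035 7 (.node 12193600 6 (.node 3811545 2 (.node 6339422 3 .leaf (.node 13838166 8 .leaf .leaf)) .leaf) (.node 1104192 9 (.node 3568060 2 .leaf .leaf) (.node 7171132 10 .leaf .leaf))) (.node 3563462 2 (.node 2095512 1 .leaf (.node 6840450 3 .leaf (.node 181017 2 .leaf .leaf))) (.node 15715866 9 (.node 11424249 6 .leaf .leaf) (.node 12840477 2 .leaf .leaf)))) (.node 3235211 8 .leaf (.node 4878655 8 (.node 17166788 9 (.node 7661061 4 .leaf (.node 18876353 5 .leaf .leaf)) (.node 19387710 9 .leaf .leaf)) (.node 7841295 6 (.node 712845 1 .leaf .leaf) .leaf))))) (.node 13802372 6 (.node 12150513 6 (.node 17617645 9 (.node 6239498 3 .leaf .leaf) (.node 9569979 3 .leaf (.node 1128678 7 .leaf (.node 4336046 2 (.node 394186 1 .leaf .leaf) .leaf)))) .leaf) (.node 4947459 2 (.node 449769 1 .leaf .leaf) .leaf)))) (.node 16920530 6 (.node 1538230 1 (.node 14265670 8 (.node 3068440 1 .leaf (.node 16901567 5 (.node 6189283 3 .leaf .leaf) (.node 2544433 1 (.node 5815492 3 .leaf .leaf) (.node 17742638 4 (.node 6607789 3 .leaf .leaf) (.node 18707712 3 .leaf .leaf))))) (.node 6344768 7 (.node 2348358 1 (.node 19450839 10 (.node 13105324 7 .leaf .leaf) (.node 1052811 4 (.node 17797055 10 (.node 3389475 1 .leaf .leaf) .leaf) (.node 17884142 10 .leaf .leaf))) (.node 17796571 7 (.node 3389431 1 (.node 9751303 5 .leaf .leaf) .leaf) (.node 9288753 2 .leaf (.node 16790797 4 .leaf .leaf)))) (.node 1941424 4 (.node 9737322 5 .leaf .leaf) (.node 9921594 10 (.node 15363910 8 .leaf .leaf) .leaf)))) (.node 3158211 10 (.node 19377216 10 (.node 8318564 4 (.node 16556112 9 (.node 6254667 3 (.node 16770194 9 (.node 15253151 8 .leaf .leaf) .leaf) .leaf) (.node 19255588 6 .leaf (.node 16052323 5 .leaf .leaf))) (.node 300565 1 .leaf (.node 16846215 10 (.node 18132852 10 .leaf .leaf) .leaf))) (.node 8945299 2 (.node 813209 1 .leaf (.node 8274773 3 .leaf (.node 4687430 10 (.node 426130 1 .leaf .leaf) (.node 18557089 10 .leaf .leaf)))) .leaf)) (.node 974502 2 (.node 12533863 7 (.node 14341592 8 .leaf (.node 2193499 9 .leaf .leaf)) (.node 1646690 5 .leaf (.node 4540185 8 (.node 10836464 6 .leaf .leaf) (.node 17810464 4 .leaf .leaf)))) (.node 10716255 10 (.node 974205 1 (.node 7116693 4 (.node 15789720 8 .leaf .leaf) (.node 4400298 2 .leaf .leaf)) (.node 3305479 3 .leaf (.node 2774124 1 .leaf .leaf))) (.node 16338641 6 (.node 1485331 1 .leaf .leaf) .leaf))))) (.node 17929451 10 (.node 8273805 4 (.node 4886388 2 (.node 6322559 3 .leaf (.node 12124971 10 (.node 6527698 3 .leaf (.node 5867181 8 (.node 2304941 1 .leaf .leaf) .leaf)) (.node 3113584 9 .leaf (.node 2064855 6 .leaf .leaf)))) (.node 6035833 9 .leaf (.node 11172096 1 (.node 6575163 3 .leaf (.node 19014524 1 .leaf (.node 8250562 9 .leaf .leaf))) .leaf))) (.node 18308181 7 (.node 8237406 4 (.node 13450933 7 (.node 13341307 7 (.node 13246498 7 .leaf .leaf) (.node 16352238 7 .leaf .leaf)) (.node 17188139 10 (.node 13769735 7 .leaf .leaf) (.node 13767172 8 .leaf (.node 10096340 2 .leaf .leaf)))) (.node 12966174 5 (.node 17308292 9 .leaf .leaf) .leaf)) (.node 16513927 7 (.node 13838969 7 (.node 14470017 8 .leaf (.node 4918200 1 .leaf (.node 3169442 8 .leaf .leaf))) (.node 7718998 1 (.node 5618889 3 (.node 2282369 1 .leaf .leaf) .leaf) (.node 12340131 5 (.node 3838187 2 .leaf .leaf) (.node 21176 2 .leaf (.node 9119100 6 .leaf .leaf))))) (.node 7061572 1 (.node 2413522 1 (.node 17469915 9 .leaf (.node 7449718 9 .leaf .leaf)) (.node 18495335 4 .leaf .leaf)) (.node 9808271 2 (.node 891661 1 (.node 1852621 1 .leaf .leaf) .leaf) .leaf))))) (.node 7752075 9 (.node 13464672 7 (.node 8085309 4 (.node 13503458 7 .leaf (.node 10522755 10 .leaf .leaf)) (.node 18540369 4 (.node 11560682 6 .leaf (.node 8575436 10 .leaf (.node 15851397 2 .leaf .leaf))) (.node 7005230 7 (.node 16780138 9 .leaf .leaf) (.node 10730896 7 .leaf .leaf)))) .leaf) .leaf)))) (.node 410510 7 (.node 14251128 8 (.node 18207597 10 (.node 14685418 8 (.node 1335038 1 (.node 5356671 3 (.node 4515610 2 .leaf .leaf) (.node 6229454 5 (.node 566314 1 (.node 7113690 4 .leaf (.node 6787804 8 .leaf .leaf)) (.node 4464109 2 .leaf (.node 17935236 6 .leaf .leaf))) (.node 16607757 4 .leaf (.node 17695415 1 .leaf .leaf)))) (.node 1367697 7 (.node 7245261 4 .leaf .leaf) (.node 105689 4 .leaf (.node 8776241 6 .leaf .leaf)))) (.node 7236065 5 (.node 10958278 6 (.node 7526608 4 (.node 5566298 3 .leaf (.node 2675498 10 .leaf (.node 13403721 8 .leaf .leaf))) (.node 5153050 6 (.node 10944121 6 .leaf .leaf) .leaf)) (.node 12395032 10 (.node 7520415 4 (.node 10979189 6 .leaf .leaf) (.node 13988613 1 .leaf .leaf)) (.node 5558191 10 .leaf (.node 13463022 10 (.node 14398308 8 .leaf .leaf) .leaf)))) (.node 8644626 2 .leaf (.node 1637505 1 (.node 1920425 1 (.node 7740283 4 (.node 7965486 4 .leaf .leaf) .leaf) .leaf) (.node 2440406 8 .leaf .leaf))))) (.node 12088055 2 (.node 7452589 4 (.node 15858921 8 (.node 16941816 9 (.node 15204992 8 .leaf (.node 1602547 6 .leaf .leaf)) (.node 10784126 9 (.node 7417916 4 .leaf .leaf) (.node 10168665 2 (.node 5230787 2 .leaf .leaf) .leaf))) (.node 8542127 6 (.node 776557 1 (.node 8991005 5 .leaf (.node 17619999 9 .leaf .leaf)) .leaf) (.node 17585723 1 (.node 4807903 2 .leaf .leaf) .leaf))) (.node 1260073 7 (.node 8888441 5 (.node 11919832 6 (.node 3777631 2 (.node 343421 1 .leaf .leaf) .leaf) (.node 776843 7 .leaf .leaf)) (.node 10660079 1 .leaf (.node 11026819 1 .leaf .leaf))) (.node 9343016 8 (.node 5241731 2 (.node 476521 1 (.node 10651026 6 .leaf .leaf) .leaf) .leaf) (.node 18984703 9 .leaf .leaf)))) (.node 8900420 3 (.node 11919711 6 .leaf (.node 18060197 5 (.node 9977551 5 (.node 2678611 1 .leaf .leaf) (.node 18137890 2 .leaf .leaf)) .leaf)) (.node 9818436 4 (.node 2664146 1 (.node 13560812 7 (.node 9223809 5 .leaf .leaf) (.node 7181450 7 (.node 10318309 5 .leaf .leaf) .leaf)) (.node 9184902 8 (.node 8653063 4 .leaf .leaf) (.node 8334580 7 .leaf .leaf))) .leaf)))) (.node 8580793 8 (.node 15873573 8 (.node 4481962 2 (.node 6346582 3 (.node 576962 1 (.node 7104252 4 .leaf .leaf) (.node 17349465 2 .leaf (.node 161250 5 .leaf (.node 8645704 5 .leaf .leaf)))) (.node 19219530 2 (.node 1747230 1 (.node 17733926 10 .leaf (.node 4813568 2 .leaf .leaf)) (.node 4720563 4 .leaf .leaf)) (.node 18100809 4 (.node 16373270 9 .leaf (.node 14227180 6 .leaf .leaf)) (.node 494175 1 .leaf .leaf)))) (.node 304063 5 (.node 17865123 10 .leaf .leaf) (.node 18999498 10 .leaf (.node 4469884 7 (.node 10913794 6 .leaf .leaf) .leaf)))) (.node 17875045 10 (.node 14660460 8 (.node 10044299 5 .leaf (.node 3845359 7 .leaf .leaf)) (.node 9106461 1 (.node 9418893 5 .leaf .leaf) (.node 8615531 6 (.node 13487794 7 .leaf .leaf) (.node 3749472 8 .leaf .leaf)))) (.node 10230682 4 (.node 930062 1 (.node 15966864 9 (.node 4673285 2 (.node 10922374 6 (.node 3742795 2 .leaf .leaf) .leaf) (.node 6817229 8 .leaf .leaf)) .leaf) (.node 13483548 5 (.node 8090721 4 .leaf .leaf) (.node 9318321 8 .leaf .leaf))) (.node 7927976 2 .leaf (.node 18780587 7 (.node 16426697 9 .leaf .leaf) .leaf))))) (.node 15472249 9 (.node 10088530 5 (.node 8631602 4 (.node 4935470 2 (.node 2220240 1 .leaf .leaf) (.node 11226337 3 (.node 14848472 8 .leaf .leaf) (.node 1299430 6 .leaf .leaf))) (.node 15342757 7 (.node 15643662 8 (.node 16981075 9 .leaf (.node 15350688 8 .leaf .leaf)) (.node 11894191 8 .leaf .leaf)) (.node 2682846 2 (.node 7871238 4 (.node 4958152 2 .leaf .leaf) (.node 4869624 8 .leaf .leaf)) .leaf))) (.node 14518241 7 (.node 17026098 9 .leaf .leaf) (.node 12428296 7 .leaf (.node 11126556 2 (.node 3793119 2 .leaf .leaf) .leaf)))) (.node 16854641 4 (.node 4821389 2 (.node 10929711 6 (.node 11214743 6 (.node 10216229 5 .leaf .leaf) (.node 11057773 6 .leaf .leaf)) (.node 5223769 5 .leaf (.node 18312251 1 .leaf .leaf))) (.node 15184302 2 .leaf (.node 19029605 1 (.node 16366780 9 .leaf .leaf) (.node 10273153 8 .leaf .leaf)))) .leaf)))) (.node 14433431 5 (.node 4379838 2 (.node 15087864 8 (.node 1371624 1 (.node 12418858 7 (.node 12087021 6 (.node 13968681 7 .leaf .leaf) (.node 17673063 1 .leaf (.node 13234112 5 (.node 9230673 5 .leaf (.node 10880684 10 .leaf .leaf)) .leaf))) (.node 6411065 4 (.node 14145516 7 .leaf (.node 3477607 1 .leaf .leaf)) .leaf)) (.node 12707431 2 (.node 1155221 1 .leaf (.node 15722213 8 .leaf .leaf)) (.node 14592381 2 .leaf (.node 17979159 8 (.node 1634469 1 .leaf .leaf) .leaf)))) (.node 661662 9 (.node 7165786 4 (.node 5481202 3 (.node 11844878 6 .leaf (.node 17207950 7 .leaf .leaf)) (.node 17198688 7 .leaf .leaf)) (.node 19235184 10 (.node 16329523 9 .leaf .leaf) (.node 11683167 8 .leaf .leaf))) (.node 17463414 3 (.node 13814593 7 (.node 12143143 6 (.node 3818343 2 .leaf (.node 8232555 5 .leaf .leaf)) (.node 14353318 8 .leaf .leaf)) (.node 16884506 8 (.node 6185961 3 (.node 14611279 8 (.node 5739020 3 .leaf .leaf) .leaf) .leaf) (.node 8157304 3 .leaf .leaf))) (.node 6348222 8 .leaf .leaf)))) (.node 7169174 9 (.node 5482368 3 (.node 9576370 5 (.node 5284148 2 (.node 15034009 8 .leaf (.node 9169645 6 (.node 12013200 6 .leaf .leaf) .leaf)) .leaf) .leaf) (.node 19066136 6 (.node 6634541 3 .leaf .leaf) .leaf)) (.node 5841144 1 (.node 19133313 10 (.node 5073311 2 (.node 10948543 6 (.node 10228329 5 (.node 15441427 8 .leaf .leaf) .leaf) .leaf) (.node 8665757 4 .leaf .leaf)) (.node 9201105 4 .leaf (.node 5300163 7 (.node 481833 1 (.node 43803 1 .leaf .leaf) (.node 18929824 3 .leaf .leaf)) (.node 9703706 7 .leaf .leaf)))) (.node 11134960 2 (.node 17639909 9 .leaf (.node 344829 5 .leaf .leaf)) (.node 9012565 6 (.node 8545273 4 .leaf .leaf) .leaf))))) (.node 6934731 1 (.node 9590153 5 (.node 16162411 9 (.node 15258948 8 (.node 8740325 4 (.node 794575 1 .leaf .leaf) .leaf) (.node 115380 3 (.node 3547996 2 .leaf (.node 7368593 5 (.node 16567662 9 .leaf .leaf) (.node 19469715 10 .leaf .leaf))) .leaf)) (.node 3554288 7 (.node 8375918 4 (.node 16515071 9 .leaf (.node 779208 7 .leaf .leaf)) .leaf) (.node 4845501 8 .leaf (.node 1242076 6 (.node 112916 1 .leaf .leaf) (.node 4739472 8 .leaf .leaf))))) (.node 7569574 1 (.node 16500507 9 .leaf (.node 7075894 4 (.node 16781931 9 .leaf .leaf) .leaf)) (.node 16952420 6 (.node 15204784 8 (.node 5741165 3 .leaf (.node 708786 8 .leaf (.node 13063458 10 .leaf .leaf))) (.node 12496056 8 (.node 12083875 6 .leaf .leaf) (.node 7762899 8 .leaf .leaf))) (.node 10962568 1 (.node 13894541 7 (.node 18399855 10 .leaf .leaf) (.node 17624201 10 .leaf .leaf)) (.node 4323881 3 (.node 4314509 2 .leaf .leaf) .leaf))))) (.node 17305762 10 (.node 9125337 5 (.node 8602374 4 .leaf .leaf) .leaf) .leaf))))) (.node 14255121 1 (.node 18207234 10 (.node 6735718 3 (.node 612338 1 (.node 14214476 8 (.node 4354559 2 (.node 395869 1 .leaf .leaf) (.node 10255158 6 .leaf (.node 9926852 4 (.node 2674002 1 (.node 11717883 6 .leaf .leaf) (.node 10024136 1 .leaf .leaf)) (.node 2852851 10 .leaf (.node 13310166 3 .leaf .leaf))))) .leaf) (.node 17033072 7 (.node 12289377 6 .leaf (.node 8932715 5 (.node 812065 1 .leaf (.node 19402307 4 .leaf .leaf)) (.node 15510925 1 (.node 17005330 9 .leaf (.node 10016502 6 .leaf .leaf)) .leaf))) (.node 975536 3 (.node 7115846 4 (.node 15789709 8 (.node 16939759 9 .leaf (.node 15220129 1 .leaf .leaf)) .leaf) .leaf) (.node 16626743 4 .leaf (.node 7166853 1 .leaf .leaf))))) (.node 10844758 2 (.node 2757448 1 (.node 9787350 5 .leaf (.node 7988993 4 .leaf (.node 1600446 6 (.node 8881016 5 (.node 9348681 5 .leaf .leaf) .leaf) .leaf))) (.node 13238886 3 (.node 8195958 4 (.node 11009230 6 (.node 6542845 3 .leaf .leaf) .leaf) .leaf) (.node 19236229 8 (.node 3520309 1 .leaf (.node 1750508 5 .leaf .leaf)) (.node 10704881 3 (.node 973171 1 (.node 12533016 7 .leaf (.node 9818700 9 .leaf .leaf)) .leaf) (.node 14413587 3 (.node 4392202 2 .leaf .leaf) .leaf))))) (.node 8027647 10 (.node 11082831 6 (.node 14902251 8 (.node 3126311 1 (.node 7884636 4 (.node 7975144 4 .leaf .leaf) (.node 7360772 5 (.node 10384089 5 .leaf .leaf) .leaf)) (.node 9265686 10 .leaf (.node 18671049 9 .leaf .leaf))) (.node 18660456 10 (.node 14767028 8 (.node 4440371 2 (.node 8509249 4 .leaf .leaf) .leaf) (.node 9936653 4 .leaf .leaf)) (.node 2831588 1 .leaf .leaf))) (.node 15570589 9 (.node 4426874 2 (.node 12917279 7 (.node 7065763 3 (.node 14081838 7 .leaf .leaf) .leaf) .leaf) (.node 5943653 8 .leaf (.node 15898114 10 .leaf .leaf))) (.node 3106742 6 .leaf (.node 4294665 7 .leaf (.node 15445024 6 .leaf .leaf))))) (.node 4593491 2 (.node 13018710 7 (.node 14371501 8 (.node 12669570 7 (.node 12179608 6 .leaf .leaf) (.node 459372 1 .leaf (.node 7212283 2 .leaf .leaf))) (.node 16056921 3 (.node 9021838 5 .leaf .leaf) .leaf)) (.node 10481461 1 (.node 15344561 8 .leaf .leaf) .leaf)) (.node 14861287 10 (.node 4473602 2 (.node 19257514 10 .leaf (.node 14269663 5 .leaf (.node 2551638 9 .leaf .leaf))) .leaf) .leaf))))) (.node 2602689 5 (.node 9714585 5 (.node 9390591 5 (.node 12029898 6 (.node 14949969 8 .leaf (.node 12804287 9 (.node 4098271 2 (.node 2144131 1 .leaf .leaf) (.node 17084695 5 (.node 9048326 5 .leaf .leaf) .leaf)) (.node 10498874 5 (.node 5290825 2 (.node 10558582 5 .leaf (.node 12129580 10 .leaf .leaf)) .leaf) (.node 10544612 1 (.node 5299262 2 .leaf .leaf) .leaf)))) (.node 4892636 10 .leaf (.node 17507403 3 .leaf .leaf))) (.node 18087091 5 (.node 1644281 1 (.node 1921041 1 (.node 5809310 3 .leaf .leaf) .leaf) (.node 156938 5 (.node 17717436 10 (.node 1610676 1 .leaf .leaf) .leaf) (.node 194921 9 .leaf (.node 1091839 4 (.node 16099711 9 .leaf .leaf) (.node 930799 1 .leaf .leaf))))) (.node 17729778 5 (.node 1611798 1 (.node 14216445 8 .leaf (.node 7908946 4 .leaf .leaf)) (.node 12203885 6 (.node 3814625 2 .leaf .leaf) .leaf)) (.node 5264326 10 (.node 10559847 5 .leaf .leaf) .leaf)))) (.node 201840 8 (.node 1789910 1 .leaf (.node 4345254 2 (.node 10826938 6 (.node 10233191 5 (.node 9448209 5 .leaf (.node 9907767 1 (.node 6067964 3 .leaf .leaf) .leaf)) .leaf) (.node 17031939 4 (.node 9145830 5 (.node 6006694 3 .leaf .leaf) (.node 14077152 5 .leaf .leaf)) .leaf)) (.node 10591659 1 (.node 6078909 3 .leaf (.node 18392001 10 (.node 11465366 6 .leaf .leaf) .leaf)) (.node 11639485 7 (.node 1058135 1 .leaf .leaf) .leaf)))) (.node 12278091 10 .leaf (.node 9076750 1 (.node 16243778 9 (.node 3248268 1 (.node 11751367 6 .leaf .leaf) .leaf) (.node 4481357 4 .leaf .leaf)) (.node 18137548 3 .leaf .leaf))))) (.node 1798622 4 (.node 15472293 8 (.node 11332652 6 (.node 7488262 4 (.node 16531142 9 (.node 3274392 1 .leaf (.node 2386264 2 .leaf .leaf)) (.node 11547262 10 (.node 18614575 10 (.node 16294499 9 .leaf .leaf) .leaf) (.node 6714467 3 (.node 16849097 9 .leaf .leaf) (.node 1293380 6 .leaf .leaf)))) (.node 18779982 2 .leaf (.node 16411418 9 .leaf .leaf))) (.node 17541701 5 (.node 13812745 7 .leaf (.node 9892708 7 (.node 18764989 10 (.node 5020984 2 .leaf .leaf) .leaf) (.node 13606341 9 (.node 3008501 1 .leaf .leaf) .leaf))) (.node 18600308 5 .leaf (.node 18195805 4 (.node 5063785 2 (.node 17134459 9 .leaf .leaf) .leaf) (.node 17695668 7 .leaf .leaf))))) (.node 13011120 10 (.node 18481497 10 (.node 14814383 8 (.node 18317564 10 .leaf .leaf) .leaf) (.node 9567856 1 (.node 11950775 6 .leaf .leaf) .leaf)) (.node 11154232 6 (.node 14001868 7 (.node 18391429 10 .leaf (.node 12326084 5 .leaf .leaf)) (.node 16148606 1 (.node 4706208 2 (.node 8473785 4 (.node 8041881 4 .leaf .leaf) .leaf) .leaf) .leaf)) (.node 4226201 8 (.node 8459320 4 .leaf (.node 12563310 7 .leaf .leaf)) (.node 18989498 6 .leaf .leaf))))) (.node 18971668 3 (.node 14683362 8 (.node 3106412 1 (.node 9771488 5 (.node 2659878 1 (.node 17410482 9 .leaf .leaf) .leaf) (.node 7846543 3 (.node 16482093 9 .leaf .leaf) .leaf)) (.node 17281540 8 .leaf (.node 18885318 10 .leaf (.node 15603369 6 .leaf .leaf)))) (.node 15122647 2 .leaf .leaf)) (.node 4661724 1 (.node 15041621 8 (.node 18296906 10 .leaf .leaf) (.node 5407964 8 .leaf .leaf)) .leaf))))) (.node 9876604 3 (.node 9464478 5 (.node 9410006 5 (.node 15342625 8 (.node 4398736 2 (.node 10917215 6 .leaf .leaf) .leaf) .leaf) (.node 3491170 5 (.node 15507394 8 (.node 8845057 4 .leaf (.node 14399859 5 (.node 3080639 1 .leaf .leaf) (.node 18188193 4 (.node 14733082 8 .leaf .leaf) .leaf))) (.node 2279498 2 .leaf (.node 17168306 3 (.node 9059832 5 (.node 15424817 8 .leaf .leaf) (.node 15484778 2 .leaf .leaf)) .leaf))) (.node 9891839 8 (.node 12863962 7 .leaf (.node 9330080 4 (.node 2619750 1 .leaf .leaf) (.node 581131 8 .leaf (.node 7938734 1 (.node 5547048 3 .leaf .leaf) .leaf)))) (.node 2769669 5 (.node 9794115 5 (.node 2661935 1 (.node 17410229 9 .leaf .leaf) .leaf) (.node 5190670 2 (.node 2243440 1 .leaf (.node 3236960 2 .leaf .leaf)) .leaf)) (.node 3380235 1 (.node 9685897 5 (.node 12762795 7 .leaf .leaf) .leaf) .leaf))))) .leaf) .leaf)))) (.node 17940748 8 (.node 14787378 8 (.node 12710248 7 (.node 6980139 3 (.node 2406119 1 .leaf (.node 15991371 8 (.node 1453761 1 (.node 3646380 2 (.node 6294377 3 (.node 14553518 8 (.node 8820548 4 .leaf (.node 2171588 2 .leaf .leaf)) (.node 5053092 6 .leaf (.node 14337060 6 .leaf .leaf))) (.node 1591811 7 (.node 16008928 9 .leaf (.node 3979174 9 (.node 12934879 7 .leaf .leaf) .leaf)) (.node 13742554 5 .leaf .leaf))) (.node 16012316 9 .leaf .leaf)) (.node 10802716 2 (.node 14934602 8 (.node 16962375 9 (.node 18122171 10 .leaf .leaf) .leaf) (.node 5482445 3 .leaf (.node 12113663 4 (.node 18563084 10 .leaf .leaf) .leaf))) (.node 17043335 4 .leaf (.node 5292409 3 (.node 19183198 10 (.node 9846706 5 .leaf .leaf) .leaf) (.node 9245863 3 (.node 840533 1 .leaf .leaf) .leaf))))) (.node 15417634 6 (.node 17035481 9 (.node 3320241 1 (.node 3969658 2 (.node 360878 1 .leaf (.node 19432238 6 .leaf .leaf)) (.node 13595813 2 .leaf .leaf)) (.node 756702 7 .leaf .leaf)) (.node 12497508 6 (.node 12083215 6 (.node 7452402 4 (.node 2449052 1 .leaf .leaf) (.node 16516908 7 .leaf (.node 6928351 8 .leaf .leaf))) (.node 6419062 4 (.node 2355112 1 .leaf (.node 316779 5 .leaf .leaf)) (.node 5362720 7 .leaf .leaf))) (.node 3151413 9 (.node 13555323 7 .leaf .leaf) .leaf))) (.node 10963118 6 (.node 7526795 4 (.node 18978741 10 (.node 3496901 1 .leaf .leaf) .leaf) .leaf) (.node 15491036 6 (.node 1408276 1 .leaf .leaf) .leaf))))) (.node 333906 3 (.node 3602369 2 .leaf (.node 4960418 10 (.node 10854900 6 (.node 18677517 10 (.node 14762254 8 .leaf .leaf) (.node 13640452 5 (.node 8149119 4 .leaf .leaf) (.node 13212519 3 (.node 6983901 3 .leaf .leaf) (.node 1773750 4 .leaf .leaf)))) (.node 7986616 9 (.node 726056 1 .leaf (.node 4381543 10 .leaf (.node 11822647 4 (.node 10187871 5 (.node 8693136 4 .leaf .leaf) .leaf) .leaf))) .leaf)) (.node 1207999 1 .leaf (.node 18102613 8 (.node 6692412 3 (.node 11820073 6 (.node 3759482 2 .leaf .leaf) (.node 6477142 8 .leaf .leaf)) (.node 3175327 7 .leaf (.node 16182222 1 .leaf .leaf))) .leaf)))) (.node 12308715 1 (.node 18545352 10 (.node 6666870 3 (.node 2377640 1 (.node 19448177 10 (.node 13106292 7 (.node 17281485 9 .leaf .leaf) .leaf) .leaf) (.node 14341581 6 .leaf (.node 18065037 5 (.node 9977331 5 .leaf (.node 7358429 1 .leaf .leaf)) (.node 17368352 10 .leaf .leaf)))) (.node 16881195 1 .leaf (.node 7787462 4 (.node 10991388 6 (.node 18665109 10 (.node 3468389 1 .leaf .leaf) .leaf) .leaf) (.node 7377294 6 (.node 5523035 3 (.node 19162232 10 .leaf .leaf) (.node 10727201 6 .leaf .leaf)) .leaf)))) (.node 2169541 8 (.node 197231 1 (.node 10719522 6 .leaf (.node 813396 1 (.node 7218300 4 .leaf .leaf) .leaf)) (.node 7219147 9 .leaf (.node 18714455 1 (.node 17963012 10 .leaf (.node 1066264 6 .leaf (.node 16804261 5 .leaf .leaf))) (.node 1866316 6 .leaf .leaf)))) (.node 6933235 6 (.node 16779797 9 .leaf (.node 10200444 3 .leaf (.node 11618454 5 .leaf (.node 7552106 6 .leaf .leaf)))) .leaf))) (.node 1648868 8 (.node 8959940 5 (.node 814540 1 (.node 12431343 7 .leaf (.node 6105243 6 (.node 4637062 2 .leaf (.node 4226432 8 .leaf .leaf)) .leaf)) (.node 4471171 4 .leaf .leaf)) .leaf) (.node 18671852 10 .leaf .leaf))))) (.node 3602490 4 (.node 14991098 8 (.node 5696318 3 (.node 14063357 7 (.node 1278487 1 (.node 3599761 2 (.node 327251 1 .leaf (.node 4743938 2 .leaf .leaf)) (.node 3331516 9 (.node 11754425 6 (.node 7447319 4 .leaf .leaf) .leaf) .leaf)) (.node 11584662 2 .leaf (.node 13960980 2 (.node 1269180 1 .leaf (.node 10585169 10 .leaf .leaf)) (.node 13917795 7 (.node 3036815 1 .leaf .leaf) .leaf)))) (.node 12762607 8 (.node 1160237 1 (.node 12478544 7 (.node 17234449 9 .leaf (.node 4020391 10 (.node 6380408 3 .leaf .leaf) (.node 11844042 10 .leaf .leaf))) .leaf) (.node 15734951 6 (.node 18233876 10 .leaf (.node 17672645 5 .leaf .leaf)) (.node 19190403 6 (.node 6680532 3 .leaf .leaf) .leaf))) (.node 19043487 6 (.node 11495705 6 .leaf .leaf) (.node 6326750 5 (.node 11810712 6 .leaf .leaf) .leaf)))) (.node 686038 10 (.node 12493801 7 (.node 4028388 2 (.node 17145811 9 .leaf (.node 4083080 4 .leaf (.node 18844178 2 .leaf .leaf))) (.node 16670380 6 (.node 13780988 7 (.node 17334505 9 .leaf .leaf) .leaf) .leaf)) (.node 12984203 4 (.node 17319534 9 (.node 15280354 8 .leaf .leaf) .leaf) (.node 9721130 5 .leaf (.node 4655355 9 (.node 15044667 8 .leaf .leaf) .leaf)))) (.node 16502663 1 (.node 15178373 8 .leaf (.node 3151952 4 .leaf (.node 15903625 1 (.node 18218542 10 .leaf .leaf) .leaf))) .leaf))) (.node 12499851 10 (.node 4028278 2 (.node 4275525 2 (.node 19274311 10 (.node 9841778 5 (.node 8571288 4 .leaf .leaf) (.node 2833667 1 .leaf (.node 2438129 3 .leaf .leaf))) (.node 13180696 9 (.node 6947271 3 .leaf .leaf) (.node 4519417 7 .leaf .leaf))) (.node 5499022 5 .leaf (.node 4654497 9 .leaf .leaf))) .leaf) (.node 2185272 4 (.node 1970222 1 .leaf (.node 5055898 7 (.node 8425374 4 (.node 11020384 6 (.node 3773804 2 .leaf .leaf) .leaf) .leaf) (.node 8323722 5 .leaf (.node 12078276 3 (.node 17645420 9 .leaf .leaf) .leaf)))) (.node 7622539 5 (.node 11063691 6 (.node 17668718 9 (.node 16628976 9 (.node 4793548 2 .leaf .leaf) .leaf) .leaf) (.node 17454140 4 (.node 1586740 1 .leaf (.node 8804423 1 (.node 10398268 5 .leaf .leaf) .leaf)) (.node 9280591 6 (.node 2615251 1 .leaf .leaf) .leaf))) (.node 464465 9 .leaf .leaf))))) (.node 4845633 5 (.node 4261632 2 (.node 2158982 1 (.node 9821813 5 (.node 8677163 4 (.node 788833 1 (.node 7163872 4 .leaf .leaf) (.node 11336622 1 .leaf (.node 8282968 9 (.node 7987255 4 .leaf .leaf) .leaf))) (.node 874149 10 (.node 5375811 3 (.node 11760167 6 .leaf .leaf) (.node 7421921 6 .leaf .leaf)) .leaf)) (.node 5386701 1 (.node 11760057 6 (.node 3748691 2 .leaf .leaf) .leaf) (.node 2900250 6 .leaf (.node 11944021 7 (.node 18578506 10 .leaf .leaf) (.node 11478655 2 .leaf .leaf))))) (.node 11286342 3 (.node 3822160 2 (.node 2119030 1 .leaf (.node 5749690 2 .leaf (.node 677029 2 .leaf .leaf))) .leaf) (.node 9928271 9 (.node 9461464 5 .leaf .leaf) .leaf))) (.node 5271256 5 (.node 2250766 1 (.node 5896573 3 (.node 11863698 6 (.node 1078518 1 .leaf (.node 15854345 1 .leaf .leaf)) .leaf) (.node 6855663 1 (.node 6847413 3 .leaf .leaf) (.node 10236128 4 .leaf (.node 10518124 2 (.node 15347751 8 .leaf .leaf) .leaf)))) (.node 5715942 2 (.node 11782343 6 .leaf .leaf) .leaf)) (.node 11293382 10 (.node 13948848 7 (.node 13335939 7 (.node 6987069 3 (.node 6883372 3 .leaf (.node 14293730 7 .leaf .leaf)) (.node 488125 1 .leaf .leaf)) (.node 44980 8 (.node 12414249 7 .leaf .leaf) .leaf)) (.node 12402270 4 (.node 2899040 1 (.node 2035110 1 .leaf .leaf) .leaf) (.node 15831025 10 .leaf (.node 1742181 3 .leaf .leaf)))) (.node 2416976 5 (.node 19428618 10 (.node 1766238 1 .leaf (.node 19104361 9 .leaf (.node 9041736 3 .leaf .leaf))) (.node 7889861 8 (.node 16474338 9 (.node 4766884 2 .leaf .leaf) .leaf) .leaf)) (.node 17289273 6 (.node 4752551 2 (.node 8474786 4 .leaf .leaf) .leaf) .leaf))))) (.node 3371468 1 (.node 5882779 3 (.node 9565424 5 (.node 869584 1 (.node 14289518 8 (.node 11286210 6 (.node 17598978 9 .leaf .leaf) .leaf) .leaf) (.node 13415480 5 (.node 13352505 7 .leaf .leaf) .leaf)) (.node 13500488 9 (.node 8086354 4 (.node 5587308 3 .leaf (.node 10502031 7 .leaf .leaf)) (.node 14869713 8 (.node 11312643 6 .leaf .leaf) (.node 9785271 3 .leaf .leaf))) (.node 11792408 6 (.node 18592289 10 (.node 8352455 4 .leaf .leaf) .leaf) (.node 8673787 8 .leaf (.node 18827051 8 .leaf .leaf))))) (.node 7932321 7 (.node 5542637 3 .leaf (.node 10160129 5 (.node 16193199 9 .leaf .leaf) (.node 14157144 4 (.node 12166034 6 .leaf .leaf) .leaf))) (.node 17643505 8 (.node 1603955 1 (.node 8881401 5 (.node 12733446 7 .leaf .leaf) (.node 10982225 5 .leaf .leaf)) (.node 11946397 4 (.node 3781240 2 .leaf .leaf) .leaf)) (.node 5239169 3 (.node 19188038 10 .leaf .leaf) .leaf)))) .leaf)))) (.node 15140170 7 (.node 5739636 3 (.node 7372420 4 (.node 670220 1 (.node 3663528 2 .leaf (.node 6674702 5 (.node 9616674 5 (.node 15448401 8 .leaf (.node 750453 3 .leaf .leaf)) (.node 65077 9 (.node 8870885 5 (.node 2578005 1 .leaf .leaf) .leaf) (.node 17093055 1 .leaf (.node 16481708 2 .leaf .leaf)))) (.node 8860721 6 (.node 2577081 1 .leaf .leaf) (.node 18619360 6 .leaf (.node 18148285 6 .leaf .leaf))))) (.node 10091599 5 (.node 15316456 8 .leaf (.node 16820 8 (.node 14184115 8 (.node 1289465 1 .leaf .leaf) (.node 11379974 2 .leaf .leaf)) (.node 5975553 7 (.node 14109470 7 (.node 12157212 6 (.node 10165343 5 .leaf .leaf) (.node 7686207 9 .leaf .leaf)) (.node 7058679 3 .leaf .leaf)) (.node 11348789 6 (.node 14973465 8 .leaf (.node 5518789 3 .leaf .leaf)) .leaf)))) (.node 14176855 5 (.node 1288805 1 (.node 7232666 4 (.node 2429076 1 .leaf (.node 4406392 6 .leaf .leaf)) (.node 16612080 1 .leaf (.node 17999576 1 .leaf .leaf))) (.node 19269636 4 (.node 11593770 6 .leaf .leaf) .leaf)) (.node 11745383 9 (.node 7448013 4 .leaf .leaf) (.node 3695935 7 .leaf .leaf))))) (.node 14845403 4 (.node 8776153 4 (.node 11035663 6 (.node 10297574 5 (.node 18728183 10 (.node 6717943 3 (.node 11828554 6 .leaf .leaf) .leaf) .leaf) (.node 15885629 5 (.node 11358821 6 (.node 3835459 2 .leaf .leaf) .leaf) (.node 16158593 8 (.node 1468963 1 .leaf .leaf) .leaf))) (.node 11832657 4 .leaf (.node 1726318 10 .leaf .leaf))) (.node 5199734 7 .leaf (.node 19175949 7 .leaf (.node 9162858 6 .leaf (.node 7865000 8 .leaf .leaf))))) (.node 15195070 7 (.node 1381370 1 .leaf (.node 6243029 5 .leaf (.node 16179405 2 (.node 1470855 1 (.node 8879465 5 .leaf (.node 4329590 3 .leaf .leaf)) (.node 13781989 5 .leaf (.node 1019250 1 .leaf .leaf))) (.node 13384757 9 .leaf (.node 5358695 3 .leaf .leaf))))) (.node 8830680 2 (.node 10397135 5 (.node 12853006 7 (.node 12100100 6 .leaf (.node 2383998 3 (.node 17475283 9 .leaf .leaf) .leaf)) (.node 16346958 3 .leaf (.node 18720318 4 .leaf .leaf))) (.node 10626364 5 (.node 11998163 6 .leaf .leaf) (.node 9527574 8 .leaf (.node 6167492 3 (.node 14054403 7 .leaf .leaf) .leaf)))) .leaf)))) (.node 7330324 2 (.node 11051074 6 (.node 11131748 6 (.node 18652349 10 (.node 14770570 8 (.node 10046554 5 .leaf (.node 2619464 1 (.node 17417709 9 (.node 12395372 6 .leaf .leaf) (.node 14570425 3 .leaf .leaf)) .leaf)) (.node 16287206 10 (.node 9173021 5 .leaf .leaf) (.node 13194633 8 (.node 4155933 2 .leaf .leaf) .leaf))) (.node 10622964 7 (.node 965724 1 .leaf .leaf) (.node 18154137 9 (.node 11461935 6 (.node 13889976 7 (.node 12227700 6 .leaf .leaf) .leaf) (.node 14947021 2 .leaf .leaf)) (.node 2317624 10 .leaf (.node 13439306 9 .leaf .leaf))))) (.node 1114675 7 (.node 10680759 6 (.node 13864038 7 (.node 9195385 5 .leaf (.node 1035233 6 .leaf .leaf)) (.node 14233693 2 .leaf (.node 3052875 1 .leaf .leaf))) (.node 9505464 7 .leaf (.node 12816409 3 .leaf (.node 11017303 7 .leaf .leaf)))) .leaf)) (.node 10681969 1 (.node 13864808 7 (.node 12225951 6 (.node 18551545 10 (.node 5144558 2 (.node 10943735 6 (.node 994885 1 .leaf .leaf) .leaf) (.node 16418128 1 (.node 12261425 6 .leaf .leaf) .leaf)) .leaf) (.node 833911 10 (.node 8909143 5 (.node 8538146 4 .leaf .leaf) (.node 4128356 1 .leaf .leaf)) .leaf)) (.node 8910353 8 .leaf .leaf)) (.node 7422845 7 (.node 10454412 5 (.node 2721962 1 (.node 4022041 2 .leaf (.node 11613790 5 .leaf .leaf)) .leaf) (.node 10467304 9 (.node 15392103 8 .leaf .leaf) (.node 12146112 1 .leaf .leaf))) (.node 14916210 3 (.node 16968381 9 (.node 4694207 2 .leaf (.node 12547448 1 .leaf .leaf)) .leaf) (.node 2035220 4 (.node 185020 1 .leaf .leaf) .leaf))))) (.node 12724625 2 (.node 12094204 6 (.node 2871034 1 (.node 3889425 2 (.node 10814144 6 (.node 983104 1 (.node 8982282 5 .leaf (.node 6763681 7 .leaf .leaf)) .leaf) (.node 9475841 5 (.node 12880561 7 .leaf .leaf) (.node 9727785 8 .leaf (.node 4251479 7 .leaf .leaf)))) .leaf) (.node 18885956 9 (.node 8312954 4 (.node 2527284 1 (.node 15609221 8 .leaf .leaf) (.node 11042571 6 .leaf .leaf)) (.node 18821991 6 .leaf .leaf)) (.node 15527018 6 (.node 17002404 9 (.node 13834371 7 (.node 14474054 8 .leaf .leaf) (.node 18213691 6 .leaf .leaf)) .leaf) (.node 4442274 2 .leaf (.node 16547895 6 .leaf .leaf))))) (.node 7822783 8 (.node 2482723 1 .leaf .leaf) (.node 11524877 6 .leaf .leaf))) (.node 2965150 7 (.node 5946084 3 (.node 11866614 6 (.node 11257269 6 (.node 7427454 4 (.node 18989103 10 (.node 13129480 7 .leaf .leaf) .leaf) .leaf) (.node 18834212 3 (.node 14719519 8 .leaf .leaf) (.node 2108514 4 .leaf .leaf))) (.node 15530340 10 (.node 18252477 10 (.node 18005010 10 .leaf (.node 7925842 1 .leaf .leaf)) (.node 9226086 5 .leaf .leaf)) .leaf)) (.node 19054344 5 (.node 17932113 10 .leaf (.node 1566555 4 (.node 12525239 7 .leaf .leaf) (.node 1941226 8 (.node 11683970 6 .leaf .leaf) (.node 15879007 7 .leaf .leaf)))) (.node 12526933 6 (.node 6928813 3 .leaf .leaf) .leaf))) (.node 19374554 4 (.node 8317596 4 (.node 16556167 9 .leaf .leaf) .leaf) .leaf))))) (.node 12170929 8 (.node 11263781 6 (.node 2795541 1 (.node 15522508 8 (.node 11334995 6 (.node 14977106 8 (.node 12655655 7 .leaf .leaf) (.node 8106011 2 .leaf (.node 15493908 6 .leaf .leaf))) (.node 9307497 8 (.node 16216586 9 (.node 6178041 3 .leaf .leaf) (.node 5701928 7 .leaf (.node 2882210 1 .leaf (.node 14068946 1 .leaf .leaf)))) (.node 5739240 9 (.node 14067868 7 (.node 7054917 3 .leaf .leaf) (.node 15724347 8 .leaf .leaf)) (.node 7303759 7 .leaf .leaf)))) (.node 17664109 8 (.node 6250960 3 .leaf (.node 4606240 8 .leaf (.node 1750024 10 (.node 8947356 5 .leaf .leaf) (.node 13150105 1 .leaf .leaf)))) (.node 3316215 9 (.node 13657656 7 (.node 12217140 6 .leaf (.node 8007869 7 .leaf (.node 1091124 9 (.node 3565684 2 .leaf .leaf) .leaf))) (.node 13244364 3 .leaf .leaf)) (.node 4988501 2 (.node 8531183 4 (.node 15918926 8 (.node 5761691 3 .leaf .leaf) .leaf) (.node 14841058 4 .leaf .leaf)) (.node 6789652 7 .leaf .leaf))))) (.node 6400395 6 (.node 9629082 5 (.node 11953558 6 .leaf (.node 2829399 1 .leaf (.node 11603659 4 .leaf (.node 494780 7 .leaf .leaf)))) (.node 16414443 1 (.node 4741353 2 (.node 12966273 7 (.node 8079523 4 .leaf .leaf) .leaf) (.node 12913121 10 .leaf .leaf)) (.node 10374430 10 .leaf .leaf))) (.node 4249730 1 (.node 12980364 7 (.node 13365771 7 (.node 18449256 10 .leaf (.node 2988437 1 .leaf .leaf)) (.node 9858223 5 .leaf .leaf)) (.node 18597151 2 (.node 16283026 9 (.node 16703897 9 .leaf (.node 19155390 5 .leaf .leaf)) .leaf) (.node 760497 8 .leaf (.node 8727995 3 .leaf (.node 17727721 7 .leaf .leaf))))) (.node 17421999 6 .leaf (.node 18522054 5 (.node 9868046 5 (.node 2668656 1 .leaf .leaf) .leaf) .leaf))))) (.node 10108363 3 (.node 12055143 6 (.node 7559443 4 (.node 13417713 7 (.node 12132363 6 .leaf (.node 8703707 2 .leaf .leaf)) (.node 17263027 2 (.node 15277252 8 (.node 8731119 4 .leaf (.node 3956635 1 .leaf .leaf)) (.node 16692644 8 .leaf .leaf)) (.node 12980463 3 (.node 4115662 2 .leaf .leaf) .leaf))) .leaf) (.node 7390802 10 (.node 10382658 5 .leaf .leaf) (.node 12819467 2 (.node 17349475 9 .leaf (.node 121485 4 .leaf .leaf)) (.node 7088796 10 (.node 644436 1 (.node 17818208 10 .leaf .leaf) .leaf) (.node 19417762 1 (.node 6730318 3 .leaf .leaf) .leaf))))) (.node 9266917 8 (.node 842447 1 (.node 5381806 3 (.node 14020579 7 (.node 4158243 2 (.node 15015100 8 .leaf .leaf) .leaf) (.node 9399963 8 .leaf .leaf)) (.node 14847328 3 .leaf (.node 3301640 10 .leaf .leaf))) (.node 11799921 1 (.node 17681257 9 .leaf (.node 2244485 5 (.node 17499318 9 .leaf .leaf) .leaf)) (.node 16381399 2 (.node 16701983 9 (.node 18145964 10 .leaf .leaf) (.node 16669104 7 .leaf .leaf)) (.node 10824100 7 (.node 6495138 3 .leaf .leaf) .leaf)))) (.node 16228652 2 (.node 1475332 1 (.node 8880048 5 .leaf (.node 12560615 8 .leaf .leaf)) (.node 13376958 6 .leaf (.node 14570205 1 (.node 18339762 10 .leaf .leaf) .leaf))) .leaf)))) (.node 11254728 2 (.node 7427740 4 (.node 8014095 4 (.node 11074229 6 (.node 3770405 2 .leaf .leaf) (.node 18382827 4 .leaf .leaf)) (.node 11632655 10 (.node 14882858 8 (.node 10129296 5 .leaf (.node 11215447 2 .leaf .leaf)) (.node 15342460 8 (.node 11407276 6 (.node 17604906 9 .leaf .leaf) (.node 8336131 7 (.node 15810829 8 .leaf .leaf) .leaf)) .leaf)) (.node 11902529 1 (.node 3758513 2 (.node 341683 1 (.node 9011377 5 (.node 11925420 6 .leaf .leaf) .leaf) (.node 11166617 7 .leaf (.node 13517538 6 .leaf .leaf))) (.node 860388 4 (.node 14278837 8 .leaf .leaf) .leaf)) (.node 14287307 2 (.node 18204429 10 (.node 9883875 5 .leaf .leaf) (.node 6839922 5 .leaf .leaf)) (.node 8744264 9 (.node 15830200 8 (.node 3210670 1 .leaf .leaf) .leaf) .leaf))))) (.node 15366979 10 (.node 10027491 5 .leaf (.node 10822615 4 (.node 2755435 1 .leaf .leaf) (.node 10322621 4 (.node 18724575 10 (.node 5013636 2 .leaf .leaf) .leaf) .leaf))) (.node 2604548 2 (.node 11722107 6 (.node 18598680 10 .leaf .leaf) (.node 9941350 7 .leaf (.node 7332249 9 .leaf (.node 12452430 5 .leaf (.node 12624877 6 .leaf .leaf))))) (.node 18604719 9 (.node 13077196 7 (.node 1188836 1 (.node 108076 1 .leaf .leaf) (.node 8040825 1 .leaf .leaf)) (.node 2974566 10 .leaf .leaf)) (.node 11571099 9 (.node 18612408 10 .leaf .leaf) .leaf))))) (.node 9534416 9 (.node 9487292 5 (.node 6098368 3 .leaf .leaf) .leaf) .leaf))))) (.node 6867598 8 (.node 14135231 7 (.node 1285021 1 (.node 16064576 9 (.node 1460416 1 (.node 3646259 2 (.node 6294344 3 .leaf .leaf) (.node 11472330 2 .leaf (.node 10641599 2 (.node 2738979 1 .leaf (.node 3893726 9 .leaf .leaf)) .leaf))) (.node 15411188 1 (.node 11417781 6 (.node 10279479 5 (.node 5995221 3 .leaf (.node 15795473 5 (.node 3207513 1 .leaf .leaf) .leaf)) (.node 2401411 7 (.node 5940320 3 .leaf (.node 2458116 2 .leaf .leaf)) (.node 9958432 3 (.node 905312 1 .leaf .leaf) .leaf))) (.node 6738920 5 (.node 4592677 2 (.node 4215651 2 (.node 383241 1 .leaf .leaf) .leaf) (.node 1830236 1 (.node 19335438 10 .leaf .leaf) .leaf)) (.node 17881986 2 .leaf (.node 13092058 2 .leaf .leaf)))) (.node 4427512 6 (.node 17087752 9 (.node 1553432 1 (.node 7138682 4 (.node 5488572 3 .leaf (.node 5621804 2 .leaf .leaf)) .leaf) .leaf) (.node 15772571 9 (.node 10008329 5 .leaf (.node 5284038 9 .leaf .leaf)) (.node 13761617 4 (.node 6956874 3 (.node 9603848 5 .leaf .leaf) .leaf) (.node 16649029 2 (.node 7649808 4 .leaf .leaf) (.node 9912959 8 .leaf .leaf))))) (.node 9524208 2 .leaf .leaf)))) (.node 11892222 5 (.node 10178114 5 .leaf (.node 16894274 3 (.node 3307404 1 (.node 19363653 10 .leaf .leaf) (.node 13570712 9 (.node 14355628 8 .leaf (.node 9373904 4 (.node 8562071 4 .leaf .leaf) .leaf)) .leaf)) (.node 15806297 5 (.node 4483040 2 (.node 19256777 10 (.node 17913710 10 .leaf .leaf) .leaf) .leaf) (.node 17159506 9 .leaf .leaf)))) (.node 2169883 7 (.node 19467064 10 (.node 9914268 5 (.node 2672858 1 .leaf (.node 18493366 6 .leaf .leaf)) (.node 13620718 2 .leaf .leaf)) (.node 18909958 10 (.node 14684099 8 (.node 11384671 6 .leaf (.node 7647289 6 .leaf .leaf)) (.node 13364715 1 .leaf .leaf)) (.node 11076770 7 (.node 3769536 2 (.node 10881960 6 .leaf .leaf) .leaf) .leaf))) (.node 15477738 3 (.node 11340946 6 (.node 10291018 5 (.node 12749298 7 (.node 2930588 1 .leaf .leaf) (.node 2360392 1 .leaf .leaf)) (.node 6736808 1 .leaf (.node 1449262 3 .leaf .leaf))) (.node 3181025 6 .leaf (.node 1285956 3 .leaf .leaf))) (.node 16361159 6 .leaf .leaf))))) (.node 9383749 6 (.node 15336234 8 (.node 12639529 7 (.node 18515278 10 (.node 9964912 5 .leaf (.node 11558636 3 (.node 18613541 10 (.node 17972186 10 .leaf .leaf) .leaf) .leaf)) (.node 18781126 4 (.node 17956951 10 (.node 5036450 2 .leaf .leaf) (.node 10812748 10 .leaf (.node 11674521 8 .leaf .leaf))) (.node 5195070 9 (.node 17110589 9 (.node 9061790 5 .leaf .leaf) .leaf) .leaf))) (.node 19408346 7 (.node 5137837 2 (.node 17135636 9 (.node 9061317 5 .leaf .leaf) (.node 11660298 8 .leaf .leaf)) (.node 2674893 5 (.node 4013362 2 (.node 8501593 4 .leaf .leaf) .leaf) .leaf)) (.node 5153303 2 (.node 8428850 4 (.node 18898067 10 (.node 6761734 3 .leaf .leaf) (.node 15563362 6 .leaf .leaf)) (.node 9609161 8 (.node 5275590 2 .leaf .leaf) (.node 2113332 9 .leaf .leaf))) (.node 3832665 2 (.node 19315902 10 (.node 5107840 2 .leaf .leaf) .leaf) .leaf)))) (.node 3999590 1 (.node 17180329 9 (.node 12383977 6 (.node 18538510 10 (.node 9876010 5 (.node 18766507 10 .leaf (.node 13287989 9 .leaf .leaf)) .leaf) (.node 16001415 2 (.node 3226235 1 .leaf .leaf) (.node 18513804 8 .leaf .leaf))) (.node 2104444 2 .leaf .leaf)) .leaf) (.node 3540494 9 (.node 7842616 4 (.node 7973427 4 (.node 724857 1 .leaf .leaf) .leaf) (.node 2894486 9 .leaf (.node 18497678 8 (.node 6624586 3 (.node 14637943 8 .leaf .leaf) .leaf) (.node 1785366 9 .leaf .leaf)))) (.node 6709803 2 .leaf (.node 5488308 7 .leaf .leaf))))) (.node 16700322 5 (.node 12282238 6 (.node 2888128 1 (.node 9789396 5 (.node 2661506 1 (.node 19422371 10 (.node 16310009 9 .leaf .leaf) (.node 13730762 2 .leaf .leaf)) (.node 5512431 6 (.node 7317619 4 .leaf .leaf) .leaf)) (.node 8759576 9 (.node 11028194 6 .leaf .leaf) .leaf)) (.node 12164505 5 (.node 2877425 1 (.node 5907518 3 .leaf .leaf) .leaf) (.node 18265160 10 .leaf (.node 17664934 5 .leaf .leaf)))) (.node 2716858 6 (.node 5863969 3 (.node 4609166 2 (.node 8407884 4 (.node 15922061 8 .leaf .leaf) .leaf) .leaf) (.node 2458809 2 .leaf (.node 18654021 5 .leaf .leaf))) (.node 13144583 2 (.node 18469364 10 (.node 6631626 3 (.node 9611977 5 .leaf .leaf) .leaf) .leaf) (.node 18408622 4 .leaf (.node 2312289 8 .leaf .leaf))))) (.node 6670192 2 .leaf (.node 4633322 4 (.node 19242994 10 (.node 5109115 2 .leaf (.node 6823070 9 .leaf (.node 14954644 7 .leaf .leaf))) .leaf) .leaf))))) (.node 14855017 7 (.node 12654918 7 (.node 2922008 1 (.node 9700010 5 (.node 6025944 3 .leaf (.node 13869835 10 (.node 13333937 7 .leaf (.node 2518110 4 (.node 9806215 5 .leaf .leaf) .leaf)) (.node 9960490 3 (.node 2677060 1 .leaf (.node 9706995 6 .leaf .leaf)) (.node 2821721 5 .leaf (.node 18709725 5 .leaf .leaf))))) (.node 13489906 10 .leaf (.node 12609455 4 (.node 6981932 3 .leaf (.node 1087956 8 .leaf .leaf)) .leaf))) (.node 10430014 3 (.node 16172091 9 (.node 15269739 8 (.node 11323445 6 (.node 11151449 6 .leaf .leaf) (.node 14109558 9 .leaf (.node 7378856 5 .leaf (.node 8478878 6 .leaf .leaf)))) (.node 18866486 10 (.node 6754452 3 (.node 19050285 10 .leaf .leaf) .leaf) .leaf)) (.node 5955489 2 (.node 19122918 10 (.node 14800380 8 (.node 11390622 6 .leaf .leaf) .leaf) .leaf) (.node 1222530 8 .leaf (.node 6979776 8 .leaf .leaf)))) (.node 18330247 7 (.node 14697365 8 (.node 10057202 5 .leaf (.node 8861667 3 .leaf .leaf)) (.node 18521130 4 (.node 11551761 6 .leaf .leaf) (.node 2815781 7 .leaf (.node 7619239 8 .leaf .leaf)))) (.node 11712812 6 (.node 2836362 1 (.node 13672153 7 .leaf .leaf) .leaf) (.node 18682258 2 .leaf .leaf))))) (.node 17620824 6 (.node 15196974 8 .leaf (.node 1003740 4 .leaf (.node 17225572 7 (.node 3337522 1 (.node 9681123 5 .leaf (.node 17550325 9 .leaf .leaf)) (.node 10490711 6 (.node 953701 1 .leaf .leaf) .leaf)) (.node 1126852 5 .leaf (.node 15232647 8 (.node 15687123 8 .leaf .leaf) .leaf))))) (.node 5424343 3 (.node 7256426 4 (.node 16560226 9 (.node 6258451 3 (.node 14051610 7 .leaf (.node 13597134 9 .leaf (.node 11387487 7 .leaf .leaf))) (.node 13447830 10 .leaf (.node 3217391 3 .leaf .leaf))) (.node 740829 3 (.node 3661714 2 .leaf (.node 15107224 2 .leaf .leaf)) .leaf)) (.node 3674782 1 .leaf (.node 13600335 3 (.node 17353920 9 (.node 9131255 5 .leaf .leaf) (.node 15941509 2 .leaf (.node 13066317 6 .leaf .leaf))) (.node 2402708 4 (.node 218428 1 .leaf .leaf) .leaf)))) (.node 3225245 7 (.node 19356481 10 (.node 17903315 10 (.node 8277853 4 .leaf .leaf) .leaf) (.node 18764406 8 .leaf .leaf)) (.node 13672319 1 (.node 7078930 3 .leaf .leaf) .leaf))))) (.node 15023581 5 (.node 10035114 5 (.node 9376687 5 (.node 8561631 4 (.node 7942056 4 (.node 10357667 5 (.node 5265151 2 .leaf (.node 9885118 3 .leaf .leaf)) (.node 11169137 8 .leaf .leaf)) (.node 18804193 7 (.node 5014681 2 (.node 15077129 8 .leaf .leaf) (.node 17054753 3 .leaf .leaf)) (.node 6392233 4 .leaf .leaf))) (.node 3888534 10 (.node 15062158 8 .leaf .leaf) (.node 10054869 7 (.node 914079 1 .leaf .leaf) .leaf))) (.node 15216917 10 (.node 15690082 8 (.node 3197932 1 (.node 11667888 6 (.node 10276157 5 .leaf (.node 18361025 10 .leaf .leaf)) .leaf) (.node 312786 8 (.node 5369375 3 .leaf .leaf) .leaf)) (.node 14300385 2 (.node 1300035 1 (.node 118185 1 .leaf (.node 19023016 4 .leaf .leaf)) (.node 7887396 6 (.node 717036 1 .leaf .leaf) (.node 3278375 9 .leaf .leaf))) (.node 1187847 5 (.node 17784779 10 .leaf .leaf) (.node 18143577 3 .leaf .leaf)))) (.node 487520 6 (.node 44320 1 (.node 7087587 4 (.node 2415887 1 (.node 1991187 1 .leaf .leaf) (.node 1784761 4 .leaf .leaf)) .leaf) (.node 17730351 6 .leaf .leaf)) (.node 9671047 3 .leaf .leaf)))) (.node 14559579 7 (.node 3095159 1 (.node 9780046 5 (.node 9388281 5 (.node 2625041 1 .leaf (.node 15320823 5 (.node 5787332 3 .leaf .leaf) .leaf)) (.node 6922433 7 (.node 11910328 6 (.node 17674504 9 .leaf (.node 5687694 9 .leaf .leaf)) .leaf) (.node 7964254 1 .leaf .leaf))) (.node 11428869 10 (.node 17602443 9 .leaf (.node 8456757 10 .leaf .leaf)) (.node 4102055 7 (.node 8401834 4 (.node 15926252 8 .leaf .leaf) .leaf) (.node 17392189 1 .leaf .leaf)))) (.node 16161212 1 (.node 13806178 7 .leaf .leaf) .leaf)) (.node 12988339 4 (.node 14365143 8 (.node 11363518 6 .leaf .leaf) (.node 15746908 9 (.node 12680768 7 (.node 13310881 7 (.node 8192856 4 .leaf .leaf) .leaf) .leaf) (.node 6880864 7 (.node 14584142 8 .leaf .leaf) (.node 17143798 10 .leaf .leaf)))) (.node 14143053 2 (.node 13266650 7 .leaf (.node 15316214 4 .leaf (.node 16574955 5 .leaf .leaf))) (.node 7345317 9 (.node 2439317 1 (.node 15618450 8 .leaf .leaf) .leaf) .leaf))))) (.node 2294260 9 (.node 9735199 5 (.node 12038181 6 .leaf (.node 18104285 7 .leaf (.node 8231939 2 .leaf (.node 1191884 10 .leaf .leaf)))) (.node 11623261 1 .leaf (.node 7775285 7 (.node 4956678 2 (.node 8534615 4 .leaf (.node 6316069 1 (.node 19090138 10 .leaf .leaf) .leaf)) (.node 18275203 4 .leaf .leaf)) (.node 13687708 10 .leaf (.node 19384695 4 .leaf .leaf))))) (.node 12860496 9 (.node 1169136 1 (.node 7185157 4 (.node 16441294 9 (.node 16661811 9 .leaf .leaf) .leaf) .leaf) .leaf) .leaf))))) (.node 14110185 9 (.node 3054305 1 (.node 11734504 6 (.node 6551766 3 .leaf (.node 14172049 6 .leaf (.node 15955578 3 (.node 7570674 4 (.node 4919476 2 (.node 10581451 5 .leaf (.node 3117643 5 .leaf .leaf)) .leaf) (.node 11860707 2 (.node 6602157 3 .leaf .leaf) .leaf)) (.node 6107630 9 (.node 7330412 4 (.node 18997925 10 (.node 14674870 8 .leaf .leaf) .leaf) (.node 715847 5 .leaf (.node 19225669 1 .leaf .leaf))) (.node 68223 2 .leaf .leaf))))) .leaf) (.node 18356273 6 (.node 13197097 7 .leaf (.node 16960791 1 (.node 9142409 5 .leaf (.node 14660262 1 (.node 11376993 6 (.node 13944943 7 (.node 17304453 9 .leaf .leaf) .leaf) (.node 13484285 8 (.node 7042047 3 .leaf .leaf) (.node 10160250 4 (.node 5227937 2 .leaf .leaf) .leaf))) (.node 5580004 10 .leaf (.node 18226967 5 .leaf .leaf)))) (.node 11859783 3 (.node 13930313 7 (.node 4143283 2 (.node 19287653 10 .leaf .leaf) (.node 1382272 6 .leaf .leaf)) .leaf) (.node 10959422 8 (.node 13894596 7 (.node 7010444 3 .leaf .leaf) .leaf) .leaf)))) (.node 10595014 9 (.node 2734744 1 (.node 11720039 6 (.node 10273121 5 (.node 9453049 5 .leaf (.node 12005027 1 (.node 2862927 1 .leaf .leaf) .leaf)) (.node 2702118 6 (.node 4018433 2 .leaf .leaf) (.node 16878148 4 (.node 9073021 5 .leaf .leaf) .leaf))) .leaf) (.node 12395296 4 .leaf (.node 17858622 1 (.node 17879764 10 .leaf (.node 1628892 7 (.node 17744684 10 .leaf .leaf) .leaf)) (.node 17731858 4 (.node 8219498 4 (.node 13441231 7 (.node 4054238 2 .leaf .leaf) .leaf) .leaf) (.node 9464268 3 .leaf .leaf))))) (.node 16146549 8 (.node 4705955 2 (.node 10923859 6 (.node 10221465 5 (.node 18735102 10 (.node 5015429 2 .leaf .leaf) .leaf) (.node 10926048 2 .leaf .leaf)) (.node 18840570 10 .leaf (.node 15611168 1 (.node 18245129 10 .leaf .leaf) .leaf))) (.node 11647714 3 (.node 2830444 1 (.node 2028874 1 (.node 3896025 2 .leaf .leaf) .leaf) .leaf) (.node 8983734 4 (.node 12725549 7 (.node 9326934 5 .leaf (.node 5596262 6 .leaf .leaf)) .leaf) (.node 5078448 2 .leaf (.node 19163991 5 .leaf .leaf))))) (.node 2675927 5 (.node 2014827 1 (.node 17527885 9 (.node 4782625 2 .leaf .leaf) .leaf) .leaf) .leaf))))) (.node 13685332 2 (.node 18420205 10 .leaf .leaf) .leaf))))) (.node 15579565 9 (.node 12578875 7 (.node 14462295 8 (.node 3086315 1 (.node 13552375 7 (.node 3003595 1 (.node 2044615 1 .leaf .leaf) (.node 1611347 3 .leaf (.node 13096557 1 (.node 14483469 8 (.node 1316679 1 (.node 14315324 8 .leaf (.node 11967516 7 .leaf .leaf)) (.node 933923 10 (.node 5376262 3 .leaf (.node 17356186 4 .leaf (.node 3329239 6 .leaf .leaf))) (.node 4268980 9 (.node 10605090 5 (.node 6083782 3 .leaf .leaf) .leaf) .leaf))) (.node 5386426 3 (.node 19013600 10 (.node 11494286 6 (.node 2816496 1 .leaf .leaf) .leaf) (.node 19211534 5 .leaf .leaf)) (.node 19359527 6 (.node 1759957 1 (.node 1931557 1 .leaf .leaf) .leaf) .leaf))) (.node 18205199 2 (.node 11537461 6 (.node 18614135 10 (.node 9879772 5 .leaf .leaf) .leaf) .leaf) .leaf)))) (.node 17730307 3 (.node 16278131 9 (.node 9165387 5 (.node 833217 1 (.node 75747 1 (.node 17724817 10 .leaf (.node 15941882 3 .leaf .leaf)) (.node 631181 3 (.node 5457530 3 .leaf (.node 7910002 2 .leaf .leaf)) .leaf)) (.node 5451480 2 (.node 4519527 2 .leaf .leaf) (.node 12415580 2 .leaf .leaf))) (.node 4354362 7 (.node 17086422 9 .leaf (.node 6153038 4 .leaf .leaf)) (.node 4505029 5 (.node 15084356 8 (.node 3142866 1 (.node 2057276 1 .leaf .leaf) .leaf) (.node 5915085 9 (.node 537735 1 (.node 48885 1 .leaf .leaf) .leaf) (.node 3074930 8 .leaf .leaf))) (.node 1336335 5 .leaf .leaf)))) (.node 16603874 4 (.node 3281004 1 (.node 13654246 7 (.node 14360654 8 (.node 1305514 1 .leaf (.node 4550822 2 .leaf (.node 12187660 3 .leaf .leaf))) .leaf) (.node 3520760 5 .leaf .leaf)) (.node 11509532 10 (.node 2817882 1 (.node 7772843 4 .leaf .leaf) .leaf) (.node 9899121 1 .leaf .leaf))) (.node 2659251 1 .leaf (.node 1962874 7 (.node 1950004 1 .leaf .leaf) (.node 11373451 4 .leaf .leaf))))) (.node 2165626 8 (.node 13580678 7 (.node 7084440 3 (.node 644040 1 (.node 14206193 8 .leaf (.node 3131074 2 .leaf .leaf)) (.node 14789457 4 (.node 18319830 10 .leaf .leaf) .leaf)) .leaf) (.node 3946922 9 (.node 10816092 6 (.node 11208913 6 (.node 14851893 8 (.node 18314154 10 .leaf (.node 14745039 8 .leaf .leaf)) .leaf) (.node 17609967 2 .leaf (.node 10127327 1 .leaf .leaf))) (.node 19184727 1 (.node 16337366 9 .leaf (.node 14731410 5 .leaf .leaf)) (.node 11863864 5 .leaf (.node 12938179 7 .leaf .leaf)))) (.node 17455527 1 (.node 4784110 2 (.node 2206480 1 (.node 5900225 3 .leaf (.node 2470898 2 .leaf (.node 15819750 9 .leaf .leaf))) .leaf) (.node 19135645 7 .leaf (.node 3344693 5 .leaf .leaf))) .leaf))) (.node 12259501 7 (.node 11194602 6 (.node 6580091 3 .leaf .leaf) .leaf) .leaf)))) (.node 17396171 9 (.node 12386407 6 .leaf (.node 1577225 8 (.node 17749381 10 (.node 3385141 1 (.node 5915790 3 .leaf (.node 17774186 2 (.node 3387396 1 .leaf .leaf) (.node 16832553 1 (.node 4830573 2 (.node 439143 1 .leaf .leaf) .leaf) (.node 16482038 4 .leaf .leaf)))) (.node 1941930 5 (.node 15578145 8 .leaf .leaf) (.node 18281759 7 (.node 18002348 10 .leaf (.node 14806903 4 .leaf .leaf)) .leaf))) (.node 6647135 7 (.node 604285 1 (.node 54935 1 .leaf (.node 5920949 10 (.node 16830870 9 .leaf .leaf) (.node 17470146 2 (.node 6199271 3 .leaf .leaf) .leaf))) (.node 16991195 9 .leaf (.node 7721814 3 (.node 15817561 8 .leaf .leaf) .leaf))) (.node 2190310 2 (.node 13585375 7 (.node 9214646 5 (.node 2609256 1 .leaf .leaf) .leaf) (.node 4641319 3 .leaf .leaf)) (.node 3311539 1 (.node 301049 1 .leaf (.node 18014910 9 (.node 5032226 2 .leaf .leaf) .leaf)) .leaf)))) (.node 1416195 7 (.node 128745 1 (.node 12402390 7 (.node 1127490 1 (.node 1874060 1 .leaf .leaf) .leaf) .leaf) (.node 6425882 1 .leaf (.node 6630911 6 (.node 19061516 10 (.node 11503119 6 .leaf (.node 7692708 8 .leaf .leaf)) (.node 2947759 7 .leaf .leaf)) .leaf))) (.node 17066974 2 (.node 6234394 3 (.node 19097563 10 (.node 3507703 1 .leaf (.node 5625301 5 .leaf .leaf)) .leaf) (.node 5355637 7 .leaf (.node 17556969 5 (.node 18053597 10 .leaf .leaf) .leaf))) (.node 16916351 9 (.node 4686199 2 .leaf .leaf) .leaf))))) (.node 17756399 4 (.node 3385779 1 (.node 15505524 8 (.node 10093007 5 (.node 8632141 4 (.node 16500297 9 (.node 1500027 1 .leaf .leaf) (.node 15174820 2 .leaf .leaf)) (.node 14154944 6 (.node 9269942 5 .leaf (.node 11396848 4 .leaf .leaf)) .leaf)) (.node 10408915 1 .leaf (.node 18348870 1 (.node 5092946 2 .leaf (.node 4259773 9 .leaf .leaf)) (.node 13784750 6 .leaf .leaf)))) (.node 1104896 6 .leaf (.node 17906417 10 (.node 18035139 10 (.node 13153911 7 (.node 13301420 7 .leaf .leaf) .leaf) .leaf) (.node 4296326 10 (.node 10603847 5 (.node 2735547 1 .leaf .leaf) .leaf) (.node 2629991 3 (.node 17416037 9 .leaf .leaf) .leaf))))) (.node 5426037 10 (.node 7255590 4 (.node 4860978 2 .leaf (.node 10336349 2 (.node 6037109 3 .leaf .leaf) (.node 11343454 4 .leaf .leaf))) (.node 6526312 10 (.node 16868545 9 .leaf .leaf) (.node 6511198 5 (.node 4564462 2 .leaf .leaf) (.node 17812642 7 (.node 17883944 10 .leaf .leaf) (.node 16529602 5 .leaf .leaf))))) (.node 17041454 3 (.node 16742903 9 (.node 3293643 1 .leaf .leaf) (.node 7848116 8 .leaf (.node 15679951 8 (.node 5723015 3 .leaf .leaf) (.node 17083529 6 (.node 12372922 6 .leaf .leaf) .leaf)))) (.node 17283069 1 (.node 7718228 4 .leaf (.node 15036077 7 .leaf .leaf)) (.node 2338788 5 (.node 9726520 5 (.node 16124428 9 .leaf .leaf) (.node 1908182 5 .leaf .leaf)) .leaf))))) (.node 8704565 4 (.node 4964587 2 (.node 15117532 8 (.node 8832759 4 (.node 11038841 6 (.node 1003531 1 .leaf .leaf) .leaf) (.node 9934860 5 (.node 8573302 4 .leaf (.node 13860803 1 .leaf .leaf)) .leaf)) (.node 7445461 8 .leaf .leaf)) (.node 13261931 3 (.node 13248984 7 (.node 13240019 7 .leaf (.node 5021237 9 (.node 10490371 5 .leaf .leaf) .leaf)) (.node 9042122 4 (.node 8599933 4 .leaf .leaf) .leaf)) (.node 7477416 9 .leaf .leaf))) (.node 13399145 2 .leaf .leaf))))) (.node 10483077 10 (.node 953007 1 (.node 86637 1 (.node 1779437 1 (.node 161767 1 (.node 17862087 10 (.node 5004561 2 .leaf (.node 10085054 2 .leaf .leaf)) (.node 3761891 3 (.node 6337870 3 .leaf (.node 7260606 9 .leaf (.node 11816168 8 .leaf .leaf))) (.node 2913680 6 (.node 264880 1 (.node 24080 1 .leaf (.node 14677103 7 .leaf .leaf)) (.node 6907440 1 (.node 7296488 4 .leaf .leaf) (.node 9120255 5 .leaf .leaf))) (.node 8751513 7 .leaf .leaf)))) (.node 6166897 9 (.node 560627 1 (.node 7113074 4 (.node 13377596 7 (.node 14392324 8 .leaf .leaf) .leaf) (.node 10622074 10 .leaf (.node 8363092 4 .leaf .leaf))) (.node 13919379 6 (.node 12229097 6 .leaf .leaf) .leaf)) (.node 11110210 8 (.node 18654307 10 (.node 9870081 5 .leaf (.node 4979382 4 .leaf (.node 5975311 9 .leaf .leaf))) (.node 18095067 9 (.node 3416567 1 (.node 310597 1 (.node 17864529 10 .leaf .leaf) .leaf) .leaf) (.node 7750545 6 .leaf .leaf))) (.node 1972674 9 (.node 179334 1 .leaf .leaf) .leaf)))) (.node 1373384 2 (.node 7245877 4 (.node 7901257 4 .leaf (.node 347898 2 (.node 10652500 6 (.node 11120891 6 .leaf .leaf) .leaf) (.node 17976773 2 (.node 6657003 3 .leaf .leaf) (.node 13110724 3 .leaf .leaf)))) (.node 10651532 7 (.node 11121573 6 (.node 10205823 5 .leaf (.node 15376692 1 .leaf .leaf)) (.node 2366365 6 (.node 13682527 7 .leaf .leaf) .leaf)) (.node 13199858 1 (.node 13300475 7 (.node 8187620 4 .leaf .leaf) (.node 8211160 1 .leaf .leaf)) (.node 9304956 9 (.node 16215717 9 .leaf .leaf) (.node 162306 2 .leaf .leaf))))) (.node 11924892 8 (.node 10249108 5 (.node 6001579 3 .leaf .leaf) .leaf) .leaf))) (.node 7235471 3 (.node 7901829 4 (.node 5535531 3 (.node 11847287 6 .leaf (.node 13897918 2 .leaf (.node 1597211 9 (.node 145201 1 .leaf .leaf) .leaf))) (.node 10331366 6 (.node 12073326 6 (.node 3789556 2 (.node 15105003 8 .leaf .leaf) (.node 15463471 1 (.node 8843726 4 .leaf .leaf) .leaf)) .leaf) .leaf)) (.node 11265893 2 (.node 3805253 2 (.node 6334923 3 .leaf (.node 12499103 10 (.node 6935743 3 .leaf .leaf) (.node 9105075 2 (.node 5197127 2 .leaf .leaf) .leaf))) .leaf) (.node 11362572 2 (.node 3822710 2 (.node 15107819 8 (.node 12593570 7 .leaf .leaf) .leaf) .leaf) .leaf))) (.node 5244306 6 (.node 6408194 3 (.node 7290636 4 (.node 11041284 6 (.node 7528720 4 (.node 10464301 5 .leaf (.node 14054855 10 .leaf .leaf)) .leaf) (.node 13970683 4 (.node 12230703 6 .leaf .leaf) (.node 15186348 8 .leaf .leaf))) (.node 11108428 10 .leaf (.node 7414770 10 (.node 674070 1 .leaf (.node 5773065 1 .leaf .leaf)) .leaf))) (.node 11940699 2 (.node 17655672 9 (.node 15188801 8 .leaf (.node 161305 5 .leaf (.node 12402369 8 .leaf .leaf))) (.node 1786225 4 .leaf (.node 44375 2 .leaf .leaf))) (.node 11441277 4 (.node 17569321 9 .leaf (.node 17680334 4 .leaf .leaf)) .leaf))) (.node 16195807 1 (.node 15261940 8 (.node 12695827 7 (.node 12180741 6 .leaf .leaf) .leaf) (.node 576170 9 .leaf .leaf)) .leaf)))) (.node 8058282 10 (.node 5578442 3 (.node 9577932 5 (.node 16151202 9 (.node 15259563 8 (.node 1387233 1 (.node 12427702 7 .leaf .leaf) .leaf) (.node 6470806 3 .leaf (.node 7297884 8 .leaf .leaf))) (.node 12641454 8 (.node 9258217 5 .leaf (.node 18773756 1 (.node 8245666 4 .leaf .leaf) .leaf)) (.node 13662836 9 .leaf .leaf))) (.node 10391382 3 (.node 12075328 6 (.node 2869318 1 (.node 5903976 3 .leaf .leaf) (.node 7963539 5 (.node 5536631 3 .leaf .leaf) .leaf)) (.node 6997464 7 (.node 7357296 4 .leaf .leaf) .leaf)) (.node 8807723 8 (.node 2572263 1 (.node 5824413 3 .leaf .leaf) (.node 1753423 10 (.node 1930963 1 .leaf .leaf) .leaf)) .leaf))) .leaf) (.node 2623116 6 (.node 15567113 8 .leaf (.node 484155 8 .leaf (.node 16759414 4 .leaf (.node 8951757 7 (.node 16118884 9 .leaf .leaf) (.node 8751535 7 .leaf .leaf))))) (.node 7100996 8 (.node 18856278 10 (.node 17935346 10 (.node 1630486 1 (.node 148226 1 (.node 5325705 3 .leaf .leaf) .leaf) (.node 13169399 8 (.node 6942991 3 .leaf (.node 11636219 8 .leaf .leaf)) .leaf)) (.node 5503212 9 (.node 500292 1 (.node 14213453 8 .leaf .leaf) .leaf) .leaf)) .leaf) (.node 14309274 6 .leaf .leaf))))) (.node 7028990 3 (.node 9592584 5 (.node 5272576 2 (.node 6401153 3 (.node 581923 1 (.node 7104846 4 .leaf (.node 19142597 7 .leaf (.node 8399260 5 (.node 5510264 3 .leaf .leaf) .leaf))) (.node 7887793 9 (.node 5501332 3 (.node 4542022 2 .leaf (.node 17321789 6 .leaf .leaf)) (.node 8533933 7 .leaf .leaf)) (.node 6959305 3 (.node 19031662 10 (.node 16366527 9 .leaf .leaf) (.node 11858529 3 (.node 6598780 3 .leaf .leaf) (.node 4047539 6 .leaf .leaf))) (.node 6111029 9 .leaf .leaf)))) (.node 6944983 6 (.node 4644663 2 (.node 15044943 8 .leaf .leaf) (.node 7694732 7 (.node 10376169 5 (.node 16168692 9 (.node 4711191 2 .leaf .leaf) .leaf) (.node 3484569 1 .leaf .leaf)) (.node 1762245 6 .leaf .leaf))) (.node 9244214 7 (.node 16211999 9 (.node 16731331 9 .leaf .leaf) .leaf) (.node 9561509 3 (.node 12818917 7 .leaf (.node 14289705 3 .leaf .leaf)) (.node 14024748 7 .leaf .leaf))))) (.node 4492808 8 (.node 15089020 8 (.node 15726294 8 (.node 5723675 3 (.node 2291895 1 (.node 7756904 4 (.node 15941212 8 .leaf .leaf) .leaf) (.node 2396307 5 .leaf .leaf)) (.node 11538704 3 (.node 11242364 6 (.node 2793594 1 .leaf .leaf) .leaf) (.node 9997923 5 .leaf .leaf))) .leaf) (.node 2699082 3 (.node 17416785 9 (.node 6198028 3 (.node 6829230 3 .leaf .leaf) .leaf) .leaf) .leaf)) (.node 16288218 4 (.node 6212339 3 (.node 14602754 8 (.node 18336803 10 .leaf .leaf) (.node 8030837 7 .leaf .leaf)) (.node 4178164 9 .leaf (.node 15595713 4 .leaf .leaf))) (.node 7590133 2 (.node 5611695 3 (.node 14620035 8 (.node 12608355 7 (.node 8112963 4 .leaf .leaf) .leaf) .leaf) (.node 12096382 4 (.node 2871232 1 .leaf (.node 4113319 2 .leaf .leaf)) (.node 6261399 5 .leaf .leaf))) .leaf)))) (.node 15248619 4 (.node 15682767 8 (.node 15724083 8 (.node 3201023 1 (.node 13554707 7 .leaf .leaf) .leaf) (.node 16305763 8 (.node 6217003 3 (.node 11878263 6 .leaf (.node 8580848 8 .leaf .leaf)) (.node 3041446 7 .leaf (.node 19320577 9 .leaf .leaf))) (.node 17948173 10 (.node 13156583 7 .leaf .leaf) (.node 14709542 4 .leaf (.node 14373668 4 .leaf .leaf))))) (.node 6375634 6 (.node 11805674 6 .leaf (.node 4326972 7 (.node 2164922 1 (.node 19467515 10 (.node 5134075 2 .leaf .leaf) .leaf) .leaf) (.node 13349667 6 .leaf .leaf))) (.node 3283083 2 .leaf (.node 752775 8 (.node 7168063 4 .leaf .leaf) (.node 3328403 1 .leaf .leaf))))) (.node 11328571 9 (.node 3829959 2 (.node 4223495 2 (.node 19280372 10 .leaf (.node 1918071 7 .leaf .leaf)) (.node 9830767 2 (.node 16251631 9 .leaf .leaf) (.node 9363894 3 .leaf .leaf))) (.node 3718935 3 (.node 338085 1 (.node 30735 1 (.node 1774355 1 .leaf .leaf) .leaf) (.node 1630476 8 (.node 5435925 3 .leaf .leaf) (.node 14570865 6 .leaf .leaf))) (.node 14220525 2 (.node 1292775 1 (.node 117525 1 (.node 7099566 4 .leaf .leaf) (.node 7645562 5 .leaf .leaf)) .leaf) (.node 15115915 8 .leaf .leaf)))) (.node 1477421 5 (.node 134311 1 (.node 17719493 10 (.node 1610863 1 .leaf (.node 6170000 9 .leaf .leaf)) (.node 12593296 3 (.node 9267061 5 .leaf .leaf) .leaf)) (.node 10382560 4 (.node 8592112 4 .leaf (.node 1157586 6 .leaf .leaf)) .leaf)) (.node 7455801 6 (.node 10975647 6 (.node 10299576 5 .leaf .leaf) (.node 15842872 2 .leaf .leaf)) .leaf))))) (.node 14567026 5 (.node 15708936 8 (.node 18236241 10 (.node 13196701 7 (.node 14484251 8 (.node 4390409 2 .leaf (.node 13689523 2 .leaf .leaf)) .leaf) (.node 12302434 10 (.node 7517609 4 .leaf .leaf) (.node 18351323 5 .leaf (.node 9943308 7 .leaf (.node 4855698 6 .leaf .leaf))))) (.node 12788369 5 (.node 1162579 1 .leaf (.node 18381639 6 (.node 6622221 3 .leaf .leaf) (.node 14547622 4 (.node 8815489 4 .leaf (.node 3565926 5 .leaf .leaf)) .leaf))) (.node 5823984 4 (.node 2301014 1 .leaf .leaf) (.node 1800690 6 (.node 13538174 7 (.node 13280059 7 .leaf .leaf) .leaf) (.node 3077702 10 (.node 3941642 2 .leaf .leaf) .leaf))))) (.node 683540 5 (.node 62140 1 .leaf (.node 16677200 10 (.node 3287670 1 .leaf .leaf) (.node 18648950 8 (.node 5146296 2 .leaf .leaf) (.node 11456897 2 (.node 2813097 1 .leaf .leaf) .leaf)))) .leaf)) (.node 71094 4 (.node 3554706 2 (.node 12884257 7 .leaf .leaf) .leaf) .leaf))))) (.node 1126037 8 (.node 102367 1 (.node 17722397 10 (.node 1611127 1 (.node 1918027 1 .leaf (.node 1945032 8 (.node 15578773 8 .leaf (.node 5670996 9 (.node 14060619 7 (.node 17269022 9 (.node 12300828 6 .leaf .leaf) .leaf) .leaf) (.node 4886443 7 (.node 10577084 5 .leaf (.node 15500893 3 .leaf .leaf)) .leaf))) (.node 12616726 2 (.node 17371707 9 (.node 9123126 5 (.node 12833129 7 .leaf .leaf) (.node 5431845 9 .leaf .leaf)) (.node 8698086 7 (.node 2562296 1 (.node 232936 1 .leaf .leaf) (.node 17110336 2 .leaf .leaf)) (.node 12968693 8 .leaf .leaf))) (.node 18374576 8 (.node 1670416 1 (.node 151856 1 .leaf .leaf) .leaf) (.node 17612277 2 .leaf .leaf))))) (.node 14773397 2 (.node 11381470 6 (.node 13945614 7 (.node 4131314 2 (.node 375574 1 .leaf (.node 7740701 5 .leaf (.node 9369570 9 .leaf .leaf))) (.node 13294810 9 (.node 17260519 9 .leaf .leaf) (.node 1883564 1 (.node 15462437 8 .leaf .leaf) .leaf))) (.node 16443285 3 (.node 18169361 10 (.node 18012555 10 .leaf .leaf) (.node 14535643 5 .leaf .leaf)) (.node 7368571 9 .leaf (.node 2060048 2 .leaf .leaf)))) (.node 19283650 10 (.node 3524620 1 (.node 320420 1 .leaf (.node 5078679 2 (.node 4304004 2 .leaf .leaf) .leaf)) (.node 4774815 7 (.node 8471024 4 .leaf .leaf) .leaf)) (.node 7664801 5 .leaf (.node 3210065 2 (.node 17484930 9 .leaf (.node 12596343 1 .leaf .leaf)) .leaf)))) (.node 2069595 6 (.node 188145 1 (.node 17875661 10 (.node 13050973 7 (.node 8126416 4 .leaf .leaf) (.node 16294730 4 .leaf .leaf)) (.node 10812528 8 .leaf (.node 8743186 6 (.node 13440043 7 .leaf .leaf) .leaf))) (.node 12832029 1 .leaf .leaf)) (.node 10465907 6 (.node 2723007 1 (.node 11726826 6 (.node 18598251 10 .leaf .leaf) .leaf) .leaf) (.node 6250024 4 .leaf .leaf))))) (.node 11868616 10 (.node 13930852 7 (.node 17292484 9 (.node 1572044 1 (.node 1914474 1 (.node 1945604 1 .leaf (.node 3887830 2 .leaf .leaf)) (.node 9174287 1 .leaf .leaf)) (.node 3737383 9 (.node 17213362 9 (.node 12386144 6 .leaf (.node 14872826 8 .leaf .leaf)) (.node 19111698 4 .leaf (.node 8567758 1 .leaf (.node 16847073 10 .leaf .leaf)))) (.node 19379746 3 (.node 11518310 6 .leaf .leaf) (.node 15446058 7 (.node 5790874 3 .leaf .leaf) .leaf)))) (.node 16725853 7 (.node 12282733 6 (.node 11187672 6 (.node 2788622 1 .leaf .leaf) (.node 12262933 1 (.node 3838792 2 .leaf .leaf) .leaf)) (.node 5298657 10 (.node 4329359 2 (.node 10601680 5 .leaf .leaf) .leaf) .leaf)) (.node 4808156 1 (.node 10500117 5 (.node 9442731 5 .leaf .leaf) .leaf) .leaf))) (.node 10822142 7 (.node 11202533 6 (.node 18645914 10 (.node 16288922 9 .leaf .leaf) (.node 15753068 10 .leaf .leaf)) (.node 14586144 3 (.node 15701181 8 (.node 10004919 5 .leaf (.node 16222823 10 .leaf .leaf)) (.node 19322205 6 (.node 14748570 8 .leaf .leaf) .leaf)) (.node 15559633 1 .leaf (.node 8148548 4 (.node 5588419 3 (.node 7314638 4 .leaf .leaf) (.node 16959262 6 .leaf .leaf)) .leaf)))) (.node 14577938 10 (.node 10135896 5 (.node 12802802 7 (.node 8182340 4 .leaf (.node 5188261 10 (.node 10865196 6 .leaf .leaf) .leaf)) (.node 12327481 2 (.node 10238789 5 .leaf .leaf) (.node 6607833 1 .leaf (.node 5260542 7 .leaf .leaf)))) (.node 9440068 7 (.node 858188 1 (.node 15966622 9 (.node 4674451 2 .leaf .leaf) .leaf) (.node 7661996 1 .leaf .leaf)) (.node 8080403 7 (.node 11004643 6 .leaf .leaf) .leaf))) (.node 1017303 9 (.node 16097291 9 (.node 16591136 9 (.node 9151891 5 .leaf .leaf) (.node 10907216 4 .leaf .leaf)) (.node 8601517 10 (.node 18882370 10 .leaf .leaf) (.node 8762645 7 .leaf .leaf))) (.node 18395103 2 .leaf .leaf))))) (.node 12019646 3 (.node 18571631 10 (.node 5148210 2 (.node 10943901 6 (.node 17689167 9 (.node 16623806 9 (.node 9165047 5 .leaf .leaf) .leaf) (.node 292799 2 (.node 8941120 5 .leaf (.node 12708917 10 .leaf .leaf)) .leaf)) (.node 8937006 9 (.node 5168021 2 (.node 19179865 10 .leaf .leaf) .leaf) (.node 3187493 4 .leaf .leaf))) (.node 3705978 2 (.node 19312778 10 (.node 13167628 7 .leaf .leaf) .leaf) .leaf)) (.node 18184332 4 (.node 13094456 7 (.node 14483822 8 (.node 18347604 10 (.node 1667964 1 .leaf (.node 13267365 8 .leaf .leaf)) (.node 15887213 2 .leaf .leaf)) .leaf) (.node 2919687 2 (.node 15487440 8 .leaf (.node 4751407 8 .leaf .leaf)) .leaf)) (.node 14674441 9 (.node 5773670 3 .leaf (.node 11532071 7 .leaf (.node 19334855 10 .leaf .leaf))) .leaf))) (.node 13581602 6 (.node 14350964 8 (.node 3076194 1 (.node 279654 1 (.node 10723329 6 (.node 3706484 2 .leaf .leaf) .leaf) (.node 16735137 8 (.node 18141619 10 .leaf .leaf) (.node 18764461 7 .leaf .leaf))) (.node 19280955 8 .leaf .leaf)) .leaf) (.node 15801159 9 (.node 1436469 1 .leaf .leaf) .leaf))))) (.node 12804947 4 (.node 4098281 2 (.node 372571 1 (.node 1805431 1 (.node 19339145 10 (.node 14700390 8 (.node 10049139 5 .leaf (.node 16728240 7 .leaf .leaf)) .leaf) (.node 19365864 5 .leaf (.node 13637800 8 (.node 1239800 1 (.node 7182902 4 .leaf .leaf) .leaf) (.node 3937835 6 .leaf .leaf)))) (.node 17428522 1 (.node 6201350 3 .leaf (.node 4377781 1 .leaf .leaf)) (.node 3306215 8 .leaf (.node 19261661 10 (.node 8260451 4 (.node 11092687 6 .leaf .leaf) .leaf) (.node 14699685 6 .leaf .leaf))))) (.node 6362159 8 (.node 9623560 5 (.node 5278208 2 .leaf (.node 10365059 6 .leaf (.node 16250719 7 (.node 16725622 9 .leaf .leaf) .leaf))) (.node 14917596 3 .leaf (.node 13043394 5 (.node 14367552 8 .leaf (.node 13685662 4 .leaf .leaf)) (.node 15808585 8 .leaf .leaf)))) (.node 19115614 4 (.node 8368273 4 .leaf .leaf) .leaf))) (.node 10113973 4 (.node 5204871 2 (.node 17107476 9 (.node 3326786 1 .leaf (.node 704595 4 (.node 1835615 1 (.node 5799322 3 .leaf .leaf) .leaf) (.node 5442580 9 .leaf (.node 5705019 6 .leaf .leaf)))) (.node 1840697 7 (.node 5800466 3 (.node 14158739 7 (.node 7053080 3 .leaf .leaf) (.node 9496499 4 .leaf (.node 6567419 10 .leaf .leaf))) .leaf) .leaf)) (.node 6616611 9 (.node 14026640 7 (.node 14388221 8 (.node 18356185 10 (.node 8238780 4 .leaf .leaf) .leaf) (.node 739366 7 .leaf .leaf)) (.node 15990525 2 .leaf (.node 5630923 8 .leaf .leaf))) (.node 2105632 8 (.node 19458264 10 .leaf .leaf) .leaf))) (.node 12577544 6 (.node 14461327 8 (.node 3086227 1 (.node 13552374 7 (.node 1232034 1 .leaf .leaf) (.node 18225021 8 .leaf .leaf)) (.node 13681239 4 (.node 1243749 1 (.node 17779697 10 (.node 14670250 8 .leaf .leaf) .leaf) (.node 2814164 7 .leaf .leaf)) (.node 5009467 8 (.node 4292751 2 .leaf .leaf) .leaf))) (.node 748980 7 (.node 17824676 10 .leaf .leaf) .leaf)) (.node 17827580 1 (.node 6617645 3 (.node 7394630 4 (.node 15904131 8 .leaf .leaf) .leaf) (.node 8219806 10 (.node 7980017 4 .leaf .leaf) .leaf)) (.node 8141189 1 (.node 4847514 2 (.node 2212244 1 .leaf .leaf) .leaf) .leaf))))) (.node 3756864 6 (.node 17211151 9 (.node 18099676 10 (.node 3416986 1 (.node 4003330 2 .leaf (.node 17911565 6 (.node 16407678 9 .leaf .leaf) (.node 1611611 7 .leaf .leaf))) (.node 17531647 2 (.node 15235936 8 .leaf .leaf) (.node 2406086 6 .leaf .leaf))) (.node 15072465 6 (.node 10040152 5 (.node 16229665 9 .leaf .leaf) (.node 6229730 5 .leaf .leaf)) (.node 5697572 2 (.node 6853793 3 (.node 19041254 10 (.node 13064052 7 .leaf .leaf) (.node 17105353 5 .leaf .leaf)) (.node 4241282 10 .leaf (.node 18986958 7 .leaf .leaf))) (.node 18145106 8 .leaf (.node 1235983 1 .leaf .leaf))))) (.node 9550949 8 (.node 16156350 9 (.node 4709068 2 .leaf .leaf) (.node 12430496 2 (.node 6933246 3 .leaf .leaf) (.node 2054614 5 (.node 7802510 4 .leaf .leaf) .leaf))) (.node 5482456 1 (.node 4539921 2 (.node 19250264 10 .leaf (.node 4960473 9 .leaf (.node 12415458 10 .leaf .leaf))) (.node 15273534 6 (.node 4372864 2 .leaf (.node 9897768 6 .leaf .leaf)) (.node 13994245 4 .leaf .leaf))) (.node 4530285 9 (.node 6387701 3 (.node 19083626 10 .leaf .leaf) (.node 8036007 10 .leaf .leaf)) .leaf)))) (.node 17607261 1 (.node 4810367 2 (.node 2208867 1 (.node 1972367 1 (.node 3900271 2 (.node 15058836 8 (.node 11402370 6 .leaf .leaf) .leaf) .leaf) .leaf) .leaf) (.node 11337492 8 (.node 7488812 4 (.node 16531152 9 (.node 1502832 1 .leaf (.node 10540586 2 .leaf .leaf)) (.node 7519315 3 (.node 2455135 1 .leaf .leaf) .leaf)) (.node 2934174 6 (.node 5952398 3 .leaf (.node 11211750 9 .leaf .leaf)) (.node 856263 6 (.node 3698795 2 (.node 4199526 2 .leaf .leaf) .leaf) .leaf))) (.node 6757411 5 (.node 6804645 3 .leaf .leaf) .leaf))) (.node 8617621 2 .leaf .leaf))))) (.node 4892646 3 (.node 444786 1 (.node 17852330 10 (.node 17880336 10 (.node 6647763 3 (.node 11824638 6 (.node 7503574 4 .leaf (.node 9251606 5 .leaf (.node 19453633 2 .leaf (.node 14132768 6 .leaf .leaf)))) (.node 3767292 4 (.node 15108534 8 (.node 18290823 10 .leaf (.node 6159616 3 .leaf .leaf)) (.node 18290152 8 .leaf .leaf)) (.node 7757498 8 (.node 4952234 2 (.node 4267704 2 .leaf .leaf) (.node 17004252 2 .leaf .leaf)) .leaf))) (.node 15258453 6 (.node 18277194 10 (.node 11548659 6 (.node 17580663 9 (.node 13757437 7 .leaf .leaf) (.node 18945235 4 .leaf .leaf)) (.node 11738926 4 .leaf .leaf)) (.node 18768124 2 .leaf (.node 1108053 9 .leaf .leaf))) (.node 17554142 7 (.node 4786068 2 (.node 8470881 4 .leaf .leaf) (.node 162251 2 .leaf .leaf)) (.node 17862043 4 .leaf .leaf)))) (.node 19088015 7 (.node 11504384 6 .leaf (.node 8258075 2 (.node 4883528 2 .leaf .leaf) .leaf)) (.node 4076942 9 (.node 13044043 7 (.node 12188583 6 .leaf (.node 11111475 10 .leaf (.node 11098715 5 .leaf .leaf))) (.node 6051156 7 (.node 4628680 2 (.node 4208876 2 .leaf .leaf) (.node 10642545 10 .leaf .leaf)) (.node 18683028 9 .leaf .leaf))) (.node 4479487 1 (.node 4341591 2 .leaf (.node 842722 8 .leaf .leaf)) (.node 14283897 4 .leaf .leaf))))) (.node 11659143 9 (.node 3730222 2 (.node 8439773 4 (.node 11012992 6 (.node 17661964 9 .leaf (.node 17484699 5 .leaf .leaf)) (.node 15075710 3 (.node 15729924 8 (.node 5723455 3 .leaf .leaf) (.node 7856971 1 .leaf .leaf)) .leaf)) (.node 14607649 10 .leaf .leaf)) (.node 6853529 1 (.node 14141469 7 (.node 14390179 8 (.node 3079759 1 (.node 3941895 2 (.node 15060915 8 .leaf .leaf) .leaf) (.node 4591093 9 (.node 19246954 10 .leaf .leaf) .leaf)) (.node 18118387 9 .leaf .leaf)) .leaf) (.node 10347085 7 (.node 2712205 1 .leaf (.node 8693576 2 .leaf .leaf)) .leaf))) (.node 12682330 8 (.node 14463362 8 (.node 18349475 10 (.node 5093177 2 (.node 6364194 3 (.node 14562670 8 (.node 15708672 8 .leaf .leaf) .leaf) (.node 13288628 6 .leaf .leaf)) (.node 5544188 1 .leaf .leaf)) (.node 12671913 8 (.node 4060772 2 (.node 2140722 1 .leaf .leaf) .leaf) .leaf)) (.node 4871593 5 (.node 2214433 1 (.node 1972873 1 (.node 13634919 7 .leaf .leaf) (.node 3130381 3 .leaf .leaf)) (.node 17926899 3 .leaf (.node 11669879 3 .leaf .leaf))) (.node 11689976 4 (.node 6554021 3 .leaf .leaf) .leaf))) (.node 3350502 4 (.node 2076152 1 (.node 7794249 4 (.node 7971558 4 (.node 15895738 8 .leaf .leaf) .leaf) (.node 15758282 2 (.node 12691031 7 .leaf .leaf) .leaf)) (.node 14132746 10 (.node 4165448 2 .leaf .leaf) .leaf)) (.node 4971913 2 (.node 10862743 6 (.node 13961454 7 .leaf .leaf) .leaf) .leaf))))) (.node 5172905 7 (.node 8482684 4 (.node 10413558 5 (.node 16175204 9 (.node 6165545 3 .leaf (.node 16739240 6 (.node 9159195 5 .leaf (.node 4765366 2 (.node 10927225 6 .leaf .leaf) .leaf)) (.node 12382734 6 .leaf .leaf))) (.node 10607686 9 (.node 9430521 5 (.node 12025058 6 (.node 14950079 8 .leaf .leaf) (.node 6990017 10 .leaf .leaf)) (.node 12627858 9 .leaf (.node 12788744 8 .leaf (.node 3696375 10 (.node 4200538 2 .leaf .leaf) .leaf)))) (.node 16570841 2 (.node 3278001 1 .leaf (.node 4975268 1 .leaf .leaf)) (.node 18094594 1 (.node 3416524 1 (.node 13592140 7 .leaf .leaf) .leaf) (.node 3173358 8 .leaf .leaf))))) (.node 10248360 2 (.node 11980981 6 (.node 6473787 3 (.node 6918957 3 (.node 16811796 9 .leaf .leaf) .leaf) (.node 7443239 2 .leaf .leaf)) (.node 7020971 4 (.node 4643838 2 .leaf .leaf) .leaf)) (.node 4493677 7 (.node 10514351 5 (.node 16142237 9 .leaf .leaf) (.node 18767046 10 .leaf .leaf)) (.node 3882022 10 .leaf (.node 17362104 7 (.node 16684603 9 .leaf .leaf) .leaf))))) (.node 11182502 6 (.node 6575460 3 .leaf .leaf) (.node 8653118 6 (.node 5551668 3 (.node 4552505 2 (.node 6392441 3 .leaf .leaf) (.node 5767873 5 .leaf .leaf)) (.node 5737018 3 (.node 6862010 3 .leaf .leaf) (.node 672123 7 .leaf (.node 3735326 5 (.node 17213615 9 .leaf .leaf) .leaf)))) (.node 5730781 6 (.node 9660245 5 .leaf (.node 844636 6 .leaf (.node 10909537 9 .leaf .leaf))) (.node 15964488 5 (.node 18051958 10 .leaf .leaf) .leaf))))) (.node 6105133 5 (.node 14649416 8 (.node 4419108 2 .leaf (.node 6572468 5 (.node 19066829 10 (.node 3504909 1 .leaf .leaf) .leaf) (.node 9851370 6 (.node 8570772 4 .leaf .leaf) (.node 18063420 5 .leaf (.node 6009807 9 .leaf .leaf))))) (.node 18269076 10 (.node 3432386 1 (.node 9757397 5 (.node 15408933 8 (.node 4397361 2 .leaf .leaf) (.node 14078769 5 .leaf .leaf)) (.node 16467364 3 (.node 18167293 10 .leaf .leaf) .leaf)) (.node 19285938 4 (.node 17911059 10 .leaf .leaf) (.node 3741695 10 (.node 2111715 1 .leaf .leaf) (.node 11580921 7 .leaf .leaf)))) (.node 19366326 4 (.node 8328035 4 (.node 13447259 7 (.node 7033522 3 .leaf .leaf) .leaf) (.node 14441923 10 .leaf (.node 18056391 4 .leaf .leaf))) (.node 14122582 6 (.node 4162269 2 .leaf .leaf) .leaf)))) (.node 1986315 8 (.node 9741876 5 (.node 6022963 3 .leaf (.node 17546794 1 (.node 9041902 5 (.node 16250114 9 .leaf .leaf) .leaf) .leaf)) (.node 10490635 7 .leaf (.node 3462350 10 (.node 17424298 9 (.node 16657323 9 .leaf .leaf) (.node 112993 8 .leaf .leaf)) .leaf))) (.node 17587780 4 .leaf .leaf))))) (.node 7682511 5 (.node 10368799 5 (.node 5267296 2 (.node 6411681 3 (.node 2354441 1 (.node 11702692 6 (.node 17712256 9 .leaf .leaf) .leaf) .leaf) (.node 19011158 4 (.node 6632868 3 .leaf (.node 6486624 7 .leaf (.node 16833312 10 (.node 7714400 4 (.node 5614852 3 .leaf .leaf) .leaf) .leaf))) .leaf)) (.node 5827976 8 (.node 529816 1 (.node 14205038 8 .leaf (.node 7803478 3 .leaf .leaf)) (.node 4147716 7 (.node 15019302 8 (.node 16934875 9 (.node 15208238 8 .leaf .leaf) (.node 9563159 7 .leaf .leaf)) (.node 6471048 9 (.node 14094455 7 .leaf .leaf) .leaf)) .leaf)) (.node 15171883 10 .leaf (.node 4202441 3 .leaf (.node 17176886 1 (.node 13769592 7 (.node 8212040 4 .leaf .leaf) .leaf) .leaf))))) (.node 1344388 6 (.node 14307646 8 (.node 4358189 2 (.node 396199 1 .leaf (.node 8825774 4 (.node 8008584 4 .leaf .leaf) (.node 7502914 9 .leaf .leaf))) (.node 8156567 6 (.node 15843950 8 (.node 12629387 7 .leaf (.node 14942148 8 .leaf .leaf)) (.node 9639576 6 (.node 18788001 10 .leaf (.node 6001766 6 .leaf .leaf)) (.node 5658511 7 .leaf .leaf))) (.node 18635904 4 .leaf .leaf))) (.node 14405865 3 (.node 12673046 7 (.node 18512231 10 (.node 14807332 8 (.node 15655498 8 .leaf .leaf) .leaf) .leaf) .leaf) .leaf)) (.node 14121537 8 (.node 18380550 10 (.node 6621924 3 (.node 14637338 8 (.node 12616704 7 (.node 8113700 4 .leaf .leaf) .leaf) (.node 5167317 9 (.node 2241317 1 .leaf .leaf) .leaf)) (.node 3367585 5 (.node 7783733 4 (.node 5503565 3 .leaf .leaf) .leaf) .leaf)) (.node 8262893 6 (.node 5634245 3 (.node 2283765 1 (.node 207615 1 .leaf .leaf) .leaf) .leaf) (.node 12352176 2 .leaf (.node 5821751 9 .leaf (.node 12280819 6 .leaf .leaf))))) (.node 7075476 7 (.node 19021090 10 (.node 1729190 1 (.node 8955629 5 (.node 16119390 9 .leaf .leaf) .leaf) (.node 2412917 1 .leaf (.node 15218094 5 (.node 5744795 3 .leaf .leaf) .leaf))) (.node 16351985 2 (.node 6213758 3 (.node 6832189 3 .leaf .leaf) .leaf) (.node 10755240 6 .leaf (.node 9715201 3 .leaf .leaf)))) (.node 6378923 6 (.node 6877234 3 (.node 14583922 8 (.node 8817073 4 .leaf .leaf) .leaf) .leaf) .leaf))))) (.node 14316842 2 (.node 16916174 9 (.node 1537834 1 .leaf .leaf) .leaf) .leaf))))) (.node 89299 10 (.node 1779679 1 (.node 161789 1 (.node 1786269 1 (.node 3867887 2 (.node 10805179 6 (.node 982289 1 .leaf .leaf) (.node 7054048 10 .leaf (.node 71083 6 (.node 15948560 9 .leaf .leaf) (.node 6836545 3 (.node 6839658 3 (.node 2393348 1 .leaf .leaf) .leaf) .leaf)))) .leaf) (.node 7754638 4 (.node 18959359 10 .leaf (.node 12687103 1 (.node 1153373 1 (.node 3590323 2 (.node 326393 1 .leaf (.node 9290996 5 .leaf .leaf)) (.node 1001573 6 (.node 16100151 9 .leaf .leaf) (.node 8460981 7 .leaf .leaf))) (.node 16096763 2 (.node 3234903 1 (.node 13645963 7 .leaf (.node 4825228 7 .leaf .leaf)) (.node 18110412 5 .leaf (.node 13183974 10 .leaf .leaf))) (.node 9812826 8 (.node 12758021 7 (.node 12095117 6 .leaf .leaf) (.node 160568 5 .leaf .leaf)) .leaf))) (.node 2095930 9 (.node 13573110 7 (.node 17356329 9 (.node 13705550 7 .leaf .leaf) .leaf) (.node 9690649 8 .leaf .leaf)) (.node 13885366 4 (.node 1262306 1 (.node 7179107 4 .leaf .leaf) .leaf) .leaf)))) (.node 663444 1 (.node 16000567 9 (.node 1454597 1 (.node 16003263 9 (.node 6121314 3 .leaf (.node 2316865 1 (.node 15504105 8 .leaf .leaf) .leaf)) (.node 14686992 9 .leaf (.node 3285954 4 .leaf .leaf))) (.node 2311893 7 (.node 3962003 2 .leaf (.node 7491078 5 .leaf .leaf)) (.node 13262888 7 (.node 14439459 8 (.node 5694822 3 .leaf .leaf) .leaf) .leaf))) (.node 5087666 8 (.node 10494067 5 (.node 9436351 5 (.node 6100568 3 (.node 19109729 10 .leaf .leaf) .leaf) (.node 7808604 1 (.node 18954453 10 .leaf (.node 3178693 10 .leaf .leaf)) .leaf)) .leaf) (.node 5814755 2 .leaf (.node 19241190 4 .leaf .leaf)))) (.node 9038558 3 (.node 9421380 5 (.node 15339402 8 (.node 18269835 10 .leaf (.node 5348377 6 (.node 16759282 9 .leaf .leaf) .leaf)) (.node 16916461 10 .leaf (.node 11643831 7 .leaf .leaf))) (.node 17218895 6 (.node 18097641 10 (.node 8337869 4 .leaf .leaf) .leaf) (.node 5319655 7 (.node 483605 1 .leaf .leaf) .leaf))) (.node 19236977 8 .leaf .leaf))))) (.node 18464590 4 (.node 17985727 10 (.node 6660534 3 .leaf (.node 12041217 5 (.node 11176694 6 (.node 6575328 3 (.node 4562933 2 .leaf (.node 12197846 3 .leaf .leaf)) (.node 15390827 7 .leaf (.node 10866703 8 (.node 17688562 9 (.node 16624037 9 .leaf .leaf) (.node 16592148 1 .leaf .leaf)) (.node 10820965 1 .leaf .leaf)))) (.node 19070899 10 (.node 13068881 7 (.node 8131355 4 .leaf .leaf) .leaf) .leaf)) (.node 13549856 9 (.node 8146898 4 (.node 13511796 7 .leaf .leaf) (.node 2334223 7 (.node 1983763 1 .leaf .leaf) (.node 3882253 10 .leaf .leaf))) (.node 3434916 5 (.node 13601303 7 (.node 17353865 9 .leaf .leaf) .leaf) .leaf)))) (.node 11986789 9 (.node 6473919 3 (.node 16876861 9 (.node 12363528 6 .leaf (.node 16954257 8 (.node 9150087 5 .leaf .leaf) .leaf)) (.node 10587446 2 .leaf (.node 1005698 5 .leaf (.node 11914904 2 (.node 7506753 4 .leaf .leaf) .leaf)))) (.node 3845128 8 (.node 19314769 10 (.node 11587896 6 (.node 13885312 7 .leaf .leaf) .leaf) (.node 4571931 6 (.node 4213199 2 .leaf .leaf) (.node 18012754 2 (.node 13159510 7 (.node 8135029 4 .leaf .leaf) .leaf) .leaf))) (.node 4690060 1 (.node 10504759 5 (.node 11993301 6 .leaf .leaf) .leaf) (.node 6187467 8 .leaf .leaf)))) (.node 18196850 2 (.node 11457161 6 (.node 7546606 4 (.node 15865466 8 .leaf (.node 9174067 10 .leaf (.node 10314129 10 .leaf .leaf))) (.node 13962532 1 (.node 9197563 5 .leaf .leaf) (.node 6889532 10 (.node 7304859 4 .leaf .leaf) (.node 2008766 7 .leaf .leaf)))) (.node 10335084 2 (.node 18724773 10 (.node 11480492 6 (.node 2815242 1 (.node 17541954 9 .leaf .leaf) .leaf) (.node 4013593 9 .leaf .leaf)) (.node 12263197 6 .leaf .leaf)) (.node 12787182 9 .leaf (.node 3136354 3 .leaf (.node 16552405 3 .leaf .leaf))))) (.node 18552590 1 (.node 11553917 6 (.node 18613970 10 .leaf .leaf) .leaf) .leaf)))) (.node 6001656 5 (.node 16802886 9 (.node 9068456 5 (.node 18839921 10 (.node 9950095 5 (.node 11967484 6 .leaf (.node 2831060 2 .leaf .leaf)) (.node 11490282 5 (.node 10196318 5 .leaf (.node 2280312 4 .leaf .leaf)) .leaf)) (.node 9394693 7 (.node 854063 1 .leaf .leaf) (.node 1787864 7 (.node 13538482 7 .leaf .leaf) .leaf))) (.node 1021406 7 (.node 5429403 3 (.node 2265143 1 (.node 11699359 6 (.node 18599417 10 .leaf .leaf) .leaf) .leaf) (.node 9647815 6 .leaf .leaf)) (.node 3826878 8 .leaf (.node 5847876 5 .leaf .leaf)))) (.node 5420933 5 (.node 2264373 1 (.node 9721977 5 (.node 18779179 10 (.node 9952130 5 .leaf .leaf) .leaf) .leaf) (.node 12153856 5 .leaf (.node 19475281 10 (.node 13109383 7 .leaf (.node 6747907 7 .leaf .leaf)) (.node 10102247 8 .leaf (.node 2140128 4 .leaf .leaf))))) (.node 946265 6 .leaf (.node 5516380 1 (.node 19162837 10 .leaf .leaf) (.node 9298895 10 (.node 6049770 3 .leaf .leaf) .leaf))))) (.node 3066482 10 (.node 9766648 5 (.node 2659438 1 (.node 9711219 5 (.node 12045077 6 (.node 1095007 1 .leaf (.node 511391 10 .leaf .leaf)) .leaf) (.node 4354494 8 (.node 4334716 2 .leaf .leaf) (.node 5998345 10 .leaf (.node 11831073 10 .leaf (.node 10360450 6 .leaf .leaf))))) (.node 4817264 8 (.node 2209494 1 .leaf (.node 3220789 4 .leaf .leaf)) .leaf)) (.node 3324872 3 (.node 7782842 4 .leaf (.node 13644390 2 (.node 4075325 2 .leaf .leaf) (.node 11704199 4 .leaf (.node 3927232 8 .leaf .leaf)))) .leaf)) (.node 8265027 6 .leaf .leaf))))) (.node 19438090 4 (.node 6734773 3 (.node 7407940 4 (.node 15904494 8 (.node 3217424 1 .leaf .leaf) (.node 9801925 1 .leaf (.node 16617183 8 (.node 1510653 1 .leaf (.node 3651319 4 .leaf .leaf)) (.node 12243705 9 .leaf .leaf)))) (.node 14926341 2 (.node 11315822 6 (.node 11144387 6 (.node 6582247 3 (.node 14096490 7 .leaf .leaf) (.node 2654015 9 (.node 7874317 4 .leaf .leaf) (.node 7549818 3 .leaf .leaf))) (.node 13086513 9 (.node 1189683 1 .leaf (.node 16441184 9 .leaf .leaf)) .leaf)) (.node 715000 1 (.node 65000 1 (.node 10632381 6 .leaf .leaf) (.node 11871355 5 .leaf (.node 5670391 3 (.node 14060597 7 .leaf .leaf) (.node 4886047 6 .leaf .leaf)))) (.node 6107388 7 .leaf (.node 10966726 7 (.node 2768536 1 .leaf .leaf) (.node 10500612 3 .leaf .leaf))))) (.node 68146 5 (.node 10633129 6 (.node 2738209 1 (.node 9780299 5 .leaf (.node 3191420 2 (.node 5830771 3 .leaf .leaf) .leaf)) (.node 6644738 3 (.node 11817906 6 (.node 14845645 8 .leaf .leaf) .leaf) .leaf)) (.node 11345643 4 (.node 14976864 8 (.node 12655743 7 .leaf .leaf) (.node 16149882 7 (.node 3239732 1 .leaf .leaf) (.node 8806678 10 .leaf .leaf))) .leaf)) (.node 15448643 6 (.node 12641366 7 (.node 2920776 1 (.node 15487143 8 (.node 18256404 10 .leaf .leaf) .leaf) .leaf) .leaf) .leaf)))) (.node 11789053 7 (.node 11245818 6 .leaf (.node 9556075 9 (.node 9478382 5 (.node 12880847 7 (.node 8180228 4 .leaf .leaf) (.node 18817206 6 (.node 3482216 1 .leaf .leaf) .leaf)) (.node 2024287 2 (.node 15584020 8 (.node 4429316 2 .leaf .leaf) .leaf) (.node 7099686 10 (.node 645426 1 .leaf .leaf) .leaf))) (.node 14782879 8 (.node 4443253 2 (.node 2175493 1 (.node 7859897 4 (.node 10448582 5 .leaf .leaf) (.node 11508223 7 .leaf .leaf)) (.node 8670146 9 (.node 2559756 1 .leaf .leaf) (.node 2207338 3 .leaf .leaf))) (.node 3034439 2 (.node 9694894 5 (.node 881354 1 .leaf .leaf) .leaf) .leaf)) (.node 9866835 2 (.node 896985 1 (.node 1853105 1 (.node 19334811 10 .leaf .leaf) (.node 7210589 6 .leaf .leaf)) (.node 14336796 7 .leaf (.node 4921269 7 .leaf .leaf))) (.node 19150748 7 (.node 14791459 8 .leaf .leaf) .leaf))))) (.node 10288477 5 (.node 12749012 7 (.node 13259566 7 (.node 12206426 6 (.node 3813756 2 (.node 15097072 8 .leaf .leaf) .leaf) .leaf) (.node 6602399 6 (.node 7345405 4 .leaf (.node 3051302 4 .leaf .leaf)) (.node 6754749 7 (.node 6805250 3 .leaf (.node 3352669 9 .leaf (.node 2827804 8 .leaf .leaf))) (.node 17917812 5 .leaf .leaf)))) (.node 8790508 8 (.node 10406947 5 (.node 9367106 5 .leaf (.node 18361146 8 (.node 3440756 1 .leaf .leaf) (.node 14244583 2 .leaf .leaf))) (.node 19428728 7 (.node 1766248 1 .leaf .leaf) (.node 6541569 3 (.node 4555343 2 .leaf .leaf) .leaf))) (.node 312796 9 (.node 28436 1 .leaf (.node 6696020 6 .leaf .leaf)) (.node 10092500 3 (.node 917500 1 (.node 14276450 8 .leaf .leaf) (.node 18576581 7 .leaf .leaf)) .leaf)))) (.node 9272088 6 (.node 9498611 5 (.node 18800816 10 (.node 14727175 8 .leaf .leaf) .leaf) .leaf) (.node 6121347 7 .leaf .leaf))))) (.node 12064141 6 (.node 14956844 8 (.node 8774206 4 (.node 2569216 1 .leaf (.node 5203132 10 (.node 473012 1 .leaf .leaf) (.node 7933454 3 (.node 13401499 7 .leaf (.node 3510365 1 (.node 7847511 4 .leaf .leaf) (.node 4062917 5 .leaf .leaf))) .leaf))) (.node 1607387 1 (.node 10783015 6 (.node 10154662 5 (.node 9444458 5 .leaf .leaf) (.node 5884572 9 (.node 9565348 5 (.node 16153732 9 .leaf .leaf) (.node 12010229 9 .leaf .leaf)) .leaf)) (.node 10055035 6 (.node 16226959 9 (.node 3246739 1 .leaf .leaf) .leaf) (.node 10980586 3 (.node 14900975 8 .leaf .leaf) (.node 16456683 6 .leaf (.node 11562640 8 (.node 11235466 6 .leaf .leaf) .leaf))))) (.node 17682952 6 (.node 3379102 1 .leaf (.node 2817299 3 .leaf .leaf)) (.node 16426928 6 (.node 13739078 7 (.node 3020568 1 (.node 5948009 3 .leaf .leaf) .leaf) .leaf) .leaf)))) (.node 10784709 9 (.node 10155190 5 (.node 11976746 6 (.node 6472753 3 (.node 9545207 5 .leaf .leaf) (.node 14239556 4 .leaf (.node 926938 1 .leaf .leaf))) .leaf) (.node 17364392 7 (.node 6155909 3 .leaf .leaf) .leaf)) (.node 6318291 5 (.node 7287468 4 (.node 11041140 6 .leaf (.node 2198307 4 .leaf .leaf)) (.node 9983315 1 (.node 12861190 7 (.node 9328815 5 (.node 15378078 8 .leaf .leaf) .leaf) (.node 9537595 7 .leaf .leaf)) (.node 2809346 6 (.node 13669063 7 .leaf .leaf) (.node 10099090 5 (.node 5202165 2 .leaf .leaf) .leaf)))) (.node 13991935 5 (.node 9196166 5 .leaf (.node 11639706 3 .leaf (.node 18782171 2 .leaf .leaf))) (.node 18759115 4 (.node 8254983 4 .leaf .leaf) .leaf))))) (.node 9347999 3 (.node 12021307 6 (.node 14949892 8 (.node 10118868 5 .leaf (.node 10070402 7 (.node 16224044 9 .leaf (.node 18828184 2 .leaf (.node 13710104 10 (.node 14477211 8 .leaf .leaf) .leaf))) .leaf)) (.node 17685845 4 .leaf (.node 9281878 8 (.node 12779515 7 (.node 9331862 5 .leaf (.node 11415636 8 .leaf .leaf)) (.node 2638615 4 (.node 13565982 7 .leaf .leaf) .leaf)) (.node 13082103 2 (.node 4149993 2 (.node 17152983 9 .leaf .leaf) (.node 14233968 3 (.node 3065558 1 .leaf .leaf) .leaf)) .leaf)))) (.node 15025307 8 (.node 1365937 1 (.node 12419474 7 (.node 8058920 4 .leaf .leaf) (.node 8133026 2 .leaf (.node 2373581 4 (.node 5932730 3 .leaf (.node 17384401 3 .leaf .leaf)) (.node 12908721 3 .leaf .leaf)))) (.node 1223971 8 (.node 16075808 9 .leaf .leaf) .leaf)) (.node 16062740 5 (.node 18043026 10 (.node 18009410 10 (.node 3408780 1 .leaf .leaf) .leaf) (.node 3971045 9 (.node 4250478 2 (.node 19277919 10 .leaf .leaf) .leaf) (.node 2154186 2 .leaf (.node 749606 10 .leaf .leaf)))) (.node 4740649 7 (.node 19233358 10 (.node 6678937 3 .leaf .leaf) (.node 16658324 10 .leaf .leaf)) (.node 2161985 10 (.node 15547555 8 .leaf .leaf) .leaf))))) (.node 568184 7 (.node 12550209 7 (.node 13211947 7 (.node 14437259 8 .leaf .leaf) .leaf) .leaf) .leaf))))) (.node 5916450 10 (.node 7275775 4 (.node 5524630 3 (.node 2273800 1 .leaf .leaf) .leaf) .leaf) .leaf)))))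

/-- the tree of the images of the fixed line of an element of order 11 -/
def lineTree11 : VT :=
  (.node 11763852 1 (.node 18580244 10 (.node 13082499 7 (.node 9325955 5 (.node 12778095 7 (.node 1161645 1 .leaf (.node 2797191 4 .leaf (.node 10077431 5 (.node 5199679 2 (.node 4327335 2 (.node 2164955 1 .leaf .leaf) (.node 3186162 5 (.node 19374675 10 .leaf .leaf) .leaf)) (.node 17931992 10 (.node 8274729 4 (.node 11086681 6 .leaf .leaf) (.node 17892051 4 .leaf (.node 1264902 9 .leaf .leaf))) (.node 11690207 3 (.node 7441380 4 .leaf (.node 2489092 10 .leaf (.node 17127287 8 .leaf .leaf))) .leaf))) (.node 7802466 8 (.node 10984084 6 (.node 3768656 2 (.node 19321721 10 .leaf .leaf) (.node 9204636 1 (.node 6052014 3 .leaf .leaf) (.node 1171732 9 .leaf .leaf))) .leaf) .leaf)))) (.node 8250892 6 (.node 11084932 6 (.node 7529962 4 .leaf (.node 10459802 1 (.node 15392939 8 .leaf (.node 1244937 5 (.node 12475574 7 .leaf (.node 1925859 6 .leaf (.node 4405633 7 .leaf .leaf))) (.node 11443026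 1 (.node 17570466 9 .leaf (.node 9991026 1 .leaf (.node 7409678 10 .leaf .leaf))) (.node 17672689 7 (.node 7685305 4 .leaf .leaf) .leaf)))) (.node 12487553 6 (.node 18367922 10 .leaf (.node 17979764 3 (.node 1634524 1 .leaf .leaf) (.node 2896388 6 .leaf .leaf))) (.node 181072 3 .leaf .leaf)))) (.node 14915352 1 .leaf (.node 10339869 9 (.node 16173840 9 (.node 3241910 1 (.node 15560612 8 .leaf .leaf) .leaf) .leaf) .leaf))) .leaf)) (.node 12224873 1 (.node 13978657 7 .leaf (.node 11083766 6 (.node 6536553 3 (.node 2365793 1 (.node 17478582 9 (.node 1588962 1 .leaf (.node 6622342 1 (.node 2373592 1 .leaf .leaf) (.node 8051077 3 .leaf (.node 18359991 9 .leaf .leaf)))) (.node 3191431 10 (.node 17489649 9 (.node 4774463 2 .leaf .leaf) (.node 8988222 6 .leaf .leaf)) .leaf)) (.node 16361808 4 (.node 4731662 2 (.node 15006696 8 .leaf .leaf) (.node 8225240 7 .leaf .leaf)) .leaf)) (.node 4259399 3 (.node 15137915 8 (.node 12597179 7 (.node 18519128 10 .leaf .leaf) .leaf) .leaf) .leaf)) (.node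 15287592 5 .leaf (.node 12717794 10 (.node 13314599 7 (.node 17258120 9 .leaf (.node 16727877 7 .leaf (.node 3687849 4 (.node 335259 1 .leaf .leaf) .leaf))) (.node 19280163 8 (.node 11594309 6 .leaf (.node 5168461 8 (.node 4321780 2 .leaf .leaf) .leaf)) (.node 4814250 3 (.node 10936707 6 .leaf .leaf) (.node 7135954 8 .leaf (.node 17870227 5 .leaf .leaf))))) (.node 11744954 5 (.node 13987920 7 .leaf .leaf) .leaf))))) (.node 6054731 6 (.node 2321991 1 (.node 3963850 2 (.node 360350 1 (.node 1804320 1 (.node 13532740 7 (.node 9209718 5 .leaf .leaf) (.node 805883 4 .leaf (.node 13761320 6 .leaf .leaf))) (.node 10746583 8 (.node 13851718 7 (.node 3030808 1 (.node 275528 1 .leaf .leaf) .leaf) (.node 11279445 10 .leaf .leaf)) (.node 5271212 3 (.node 12944086 7 .leaf (.node 9054376 6 .leaf (.node 11928368 5 .leaf .leaf))) (.node 3743169 4 .leaf (.node 18992601 6 .leaf .leaf))))) (.node 12736340 10 (.node 18491704 10 .leaf (.node 18737841 3 (.node 11489072 6 .leaf .leaf) (.node 14680513 6 .leaf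 (.node 11719335 5 .leaf .leaf)))) (.node 11645041 7 (.node 2830201 1 (.node 257291 1 .leaf .leaf) .leaf) (.node 13101903 4 .leaf (.node 15858591 2 .leaf .leaf))))) (.node 2445168 1 (.node 222288 1 (.node 20208 1 (.node 10637605 6 (.node 967055 1 (.node 10673323 6 .leaf .leaf) .leaf) (.node 1608663 5 .leaf .leaf)) (.node 12527835 10 (.node 9189511 5 .leaf .leaf) .leaf)) (.node 10313722 5 (.node 6032269 3 (.node 16794658 9 (.node 9068709 5 (.node 16243898 9 .leaf .leaf) .leaf) .leaf) (.node 18841526 7 .leaf .leaf)) .leaf)) (.node 6516511 7 (.node 16867786 9 (.node 12363055 6 (.node 3843576 2 .leaf (.node 8913851 10 .leaf .leaf)) .leaf) (.node 5241864 10 (.node 10867693 6 .leaf .leaf) .leaf)) (.node 12323807 10 (.node 14871022 8 .leaf .leaf) (.node 18861162 3 (.node 6754331 3 (.node 19050296 10 .leaf .leaf) .leaf) .leaf))))) (.node 1681064 9 (.node 152824 1 (.node 8866891 5 (.node 806081 1 (.node 8901817 5 .leaf (.node 2676168 6 .leaf (.node 10685489 9 .leaf (.node 3741815 1 .leaf .leaf))))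 (.node 1690811 3 (.node 14226598 8 .leaf (.node 18965541 5 .leaf .leaf)) .leaf)) (.node 14222242 9 (.node 11283152 6 (.node 11142902 6 .leaf .leaf) .leaf) .leaf)) (.node 11763159 5 (.node 11244641 6 (.node 18640755 10 (.node 9878562 5 (.node 18766264 10 .leaf .leaf) .leaf) .leaf) (.node 18774613 6 (.node 1706783 1 .leaf .leaf) .leaf)) (.node 256598 8 (.node 14295887 8 (.node 9995591 5 .leaf (.node 9950678 8 .leaf .leaf)) .leaf) (.node 1706024 1 (.node 5441635 3 .leaf (.node 14299517 1 .leaf .leaf)) (.node 9508522 7 .leaf .leaf))))) (.node 12050743 3 (.node 18567473 10 (.node 11561188 6 (.node 2822578 1 .leaf (.node 5438005 8 .leaf .leaf)) (.node 11284076 7 (.node 10278236 5 (.node 2705946 1 .leaf .leaf) .leaf) .leaf)) (.node 9473828 10 (.node 2632818 1 .leaf .leaf) (.node 1715670 7 .leaf .leaf))) (.node 2784552 10 (.node 9786723 5 .leaf (.node 6627952 9 (.node 16850186 9 .leaf .leaf) .leaf)) (.node 17001315 2 (.node 13833557 7 (.node 18406730 10 .leaf .leaf) .leaf) .leaf))))) (.node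 155970 2 (.node 10637121 6 (.node 967011 1 (.node 8974967 5 (.node 8549014 4 (.node 18872370 10 .leaf .leaf) .leaf) (.node 17748314 7 .leaf (.node 2565366 4 (.node 5823863 3 .leaf (.node 10610304 4 .leaf .leaf)) (.node 17593610 2 (.node 13752608 7 .leaf .leaf) (.node 16222625 3 .leaf .leaf))))) (.node 7734827 3 (.node 10981675 6 (.node 14896564 8 .leaf .leaf) .leaf) (.node 683200 1 (.node 7170835 4 (.node 2423455 1 .leaf .leaf) .leaf) .leaf))) .leaf) (.node 15395788 6 (.node 18264588 10 (.node 16343481 9 (.node 1485771 1 .leaf .leaf) .leaf) .leaf) .leaf))))) (.node 12845008 9 (.node 1167728 1 (.node 14194896 8 (.node 11282635 6 (.node 18623991 10 (.node 8353456 4 (.node 10338846 5 .leaf (.node 1322157 6 .leaf (.node 12518452 7 (.node 8065872 4 (.node 2504822 1 .leaf (.node 7130564 2 .leaf .leaf)) .leaf) .leaf))) (.node 17762647 8 (.node 13058915 7 .leaf .leaf) .leaf)) (.node 13530694 7 (.node 18419622 10 .leaf (.node 16932026 6 .leaf .leaf)) (.node 2195579 6 (.node 7851108 4 (.node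 10986295 6 .leaf .leaf) (.node 7027406 8 .leaf (.node 14979988 6 .leaf .leaf))) (.node 12624063 7 .leaf .leaf)))) (.node 18901686 4 (.node 8308147 4 .leaf (.node 2545203 8 (.node 13618463 7 (.node 8143653 4 (.node 18923994 10 .leaf .leaf) .leaf) (.node 5364514 4 .leaf (.node 8864713 6 .leaf .leaf))) (.node 9994821 3 (.node 9370593 5 (.node 18811123 10 .leaf .leaf) .leaf) (.node 15423387 2 (.node 10024861 5 .leaf .leaf) .leaf)))) (.node 13146684 7 (.node 8129276 4 (.node 2510586 1 (.node 15613533 8 .leaf .leaf) .leaf) .leaf) .leaf))) (.node 7826325 3 (.node 5500540 3 (.node 14622498 8 (.node 1329318 1 .leaf (.node 1856878 6 (.node 1940368 1 .leaf (.node 17967599 4 (.node 5023745 2 .leaf .leaf) .leaf)) (.node 3908730 3 (.node 4252337 2 .leaf .leaf) (.node 6569937 5 .leaf .leaf)))) (.node 3390311 5 (.node 2079771 1 .leaf (.node 1766843 9 (.node 15976972 9 .leaf .leaf) (.node 3677927 5 .leaf .leaf))) (.node 15985684 7 (.node 1453244 1 (.node 7131169 4 .leaf (.node 4780887 8 .leaf .leaf))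 (.node 16710607 9 (.node 12275385 6 .leaf .leaf) .leaf)) (.node 10829556 1 (.node 17696647 9 (.node 7676714 4 (.node 18966443 10 .leaf .leaf) .leaf) .leaf) .leaf)))) (.node 3529109 4 (.node 11675621 6 (.node 13985060 7 .leaf (.node 1762652 6 .leaf (.node 18715808 6 .leaf .leaf))) (.node 5437114 6 (.node 9511877 5 .leaf (.node 7632571 1 .leaf .leaf)) (.node 2953182 6 (.node 17518326 9 .leaf .leaf) (.node 3712490 2 (.node 12987690 7 .leaf (.node 13394195 3 .leaf .leaf)) .leaf)))) (.node 9991400 7 (.node 5198557 2 (.node 8478581 4 (.node 18893425 10 .leaf .leaf) .leaf) (.node 5955071 4 .leaf (.node 4053511 1 .leaf (.node 8075211 5 (.node 7926348 4 .leaf .leaf) .leaf)))) (.node 16996244 5 (.node 9140132 5 (.node 8607743 4 .leaf .leaf) .leaf) (.node 16182134 7 .leaf .leaf))))) (.node 11515901 5 (.node 13883420 7 .leaf (.node 17511913 9 (.node 4779721 2 (.node 10500623 5 .leaf .leaf) (.node 11119109 5 (.node 17628150 9 .leaf .leaf) (.node 18330236 9 .leaf .leaf))) (.node 16179296 9 (.node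 12338415 6 .leaf (.node 17182067 2 (.node 4718539 2 .leaf .leaf) .leaf)) (.node 4243130 9 .leaf (.node 18916294 7 .leaf .leaf))))) (.node 4297899 6 (.node 10603715 5 (.node 12792615 7 .leaf .leaf) .leaf) .leaf)))) (.node 6945643 5 (.node 6885395 3 (.node 625945 1 (.node 1828465 1 (.node 7732253 4 (.node 18946753 10 .leaf .leaf) .leaf) (.node 10658715 8 (.node 3709498 2 .leaf (.node 12500038 7 .leaf (.node 6008377 6 (.node 11795575 6 .leaf .leaf) (.node 9190391 6 .leaf .leaf)))) (.node 2422839 8 .leaf (.node 17806251 4 .leaf (.node 334357 4 .leaf .leaf))))) (.node 5162950 6 (.node 15021787 8 .leaf .leaf) .leaf)) (.node 6237187 4 (.node 567017 1 (.node 51547 1 (.node 12414490 7 .leaf (.node 14979614 6 .leaf .leaf)) (.node 16764221 7 .leaf (.node 1000891 10 (.node 8988794 5 .leaf (.node 11070180 2 .leaf .leaf)) .leaf))) (.node 8515827 5 (.node 13393128 7 .leaf .leaf) .leaf)) (.node 13225543 9 (.node 4176084 2 .leaf (.node 15618142 10 .leaf (.node 16150080 3 .leaf (.node 7651348 1 .leaf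 .leaf)))) (.node 4586044 4 (.node 10845143 6 (.node 7469496 4 .leaf (.node 18456780 1 .leaf .leaf)) (.node 5818341 10 (.node 16834885 9 .leaf .leaf) .leaf)) .leaf)))) (.node 1365617 10 .leaf .leaf))) (.node 5765782 7 (.node 524162 1 (.node 17845114 10 (.node 8227286 4 (.node 2519496 1 (.node 7811717 4 (.node 15939210 8 .leaf .leaf) (.node 2765918 8 .leaf (.node 8731856 3 .leaf (.node 12954129 8 (.node 18486678 10 .leaf .leaf) (.node 17987145 2 .leaf .leaf))))) (.node 9949831 5 (.node 16260717 9 (.node 1478247 1 .leaf .leaf) .leaf) (.node 16020896 8 .leaf (.node 6282871 6 .leaf .leaf)))) (.node 17707756 10 (.node 1609796 1 .leaf (.node 4982307 9 (.node 452937 1 .leaf (.node 3117632 7 (.node 3947571 2 .leaf .leaf) .leaf)) (.node 5072750 8 (.node 4304378 2 .leaf .leaf) (.node 17179493 9 .leaf .leaf)))) (.node 1568920 2 (.node 7144072 4 (.node 18853814 10 .leaf (.node 15864168 5 .leaf .leaf)) .leaf) (.node 3835393 9 .leaf .leaf)))) (.node 470581 4 (.node 1814341 1 (.node 3871660 2 .leaf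 (.node 13511466 6 .leaf .leaf)) (.node 5586944 8 (.node 507904 1 (.node 3634005 2 (.node 2101925 1 .leaf .leaf) .leaf) (.node 7980765 1 .leaf (.node 5002163 10 (.node 10937928 6 .leaf .leaf) .leaf))) .leaf)) (.node 1309045 3 (.node 3620068 2 (.node 19174178 10 (.node 8257800 4 .leaf .leaf) .leaf) .leaf) (.node 16126528 6 .leaf (.node 13174822 5 (.node 9321214 5 .leaf .leaf) .leaf))))) (.node 1803451 4 (.node 3870890 2 (.node 10615925 5 (.node 18697911 10 (.node 11487257 6 .leaf (.node 7100270 7 .leaf .leaf)) (.node 18361091 9 (.node 5109809 2 (.node 10492274 5 (.node 15354537 8 .leaf .leaf) .leaf) .leaf) (.node 10307078 5 (.node 16195895 9 .leaf .leaf) .leaf))) (.node 3982452 7 (.node 10624043 5 (.node 15347882 8 (.node 1395262 1 .leaf .leaf) .leaf) (.node 54297 1 .leaf .leaf)) (.node 12402996 9 (.node 2899106 1 (.node 3909170 2 .leaf .leaf) (.node 13526734 5 .leaf (.node 14674991 4 .leaf .leaf))) (.node 11003609 3 .leaf .leaf)))) (.node 9170591 1 (.node 6013579 3 (.node 546689 1 (.node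 49699 1 (.node 12415074 7 .leaf .leaf) .leaf) .leaf) (.node 3019886 6 (.node 13603272 7 .leaf (.node 243288 10 .leaf .leaf)) .leaf)) (.node 13132703 6 (.node 13297186 7 (.node 2980396 1 .leaf .leaf) (.node 12402974 3 .leaf .leaf)) (.node 18843155 10 (.node 5036527 2 .leaf .leaf) (.node 12585970 3 .leaf .leaf))))) (.node 14944589 6 (.node 1358599 1 (.node 123509 1 .leaf (.node 18818515 10 (.node 17953552 10 (.node 16400165 9 .leaf (.node 19435273 1 .leaf .leaf)) .leaf) .leaf)) (.node 19411723 10 (.node 16297304 9 (.node 16701180 9 .leaf (.node 13402082 1 .leaf .leaf)) (.node 11009801 1 .leaf .leaf)) (.node 845406 2 (.node 8915941 5 (.node 16112086 9 .leaf .leaf) (.node 1495165 10 .leaf .leaf)) (.node 12519981 2 .leaf (.node 6563282 10 .leaf .leaf))))) (.node 17437003 9 (.node 16656465 9 (.node 13785806 7 (.node 8201964 4 (.node 10433699 5 .leaf .leaf) .leaf) (.node 10468205 5 (.node 951655 1 .leaf .leaf) (.node 13219504 9 .leaf (.node 12979341 8 .leaf .leaf)))) (.node 1099638 9 (.node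 17792798 10 .leaf .leaf) .leaf)) (.node 17801026 4 (.node 17885000 10 (.node 18023776 10 .leaf .leaf) (.node 14543727 2 .leaf (.node 7892842 5 .leaf .leaf))) .leaf))))) (.node 5003087 3 (.node 10483210 5 (.node 2724580 1 (.node 11720182 6 (.node 3726690 2 (.node 338790 1 .leaf .leaf) (.node 11008064 10 (.node 13908610 7 .leaf .leaf) (.node 18365095 4 .leaf .leaf))) .leaf) (.node 10972116 2 (.node 14901833 8 (.node 15778797 8 .leaf .leaf) (.node 6133788 9 .leaf (.node 8977178 1 .leaf .leaf))) (.node 16926119 1 (.node 7604037 4 .leaf .leaf) (.node 1444807 6 .leaf .leaf)))) (.node 15377242 6 (.node 15646236 8 (.node 12689062 7 .leaf .leaf) .leaf) .leaf)) (.node 14515733 2 (.node 12616033 7 (.node 13322684 7 (.node 9227252 5 .leaf .leaf) .leaf) .leaf) .leaf))))) (.node 678525 3 (.node 14325895 8 (.node 9993622 5 (.node 18741174 10 (.node 13184909 7 .leaf (.node 11081335 5 (.node 7539170 4 .leaf (.node 8413285 9 (.node 8049284 4 .leaf .leaf) (.node 16967688 4 (.node 9142035 5 (.node 5190548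 2 (.node 471868 1 .leaf .leaf) .leaf) (.node 247919 6 .leaf .leaf)) (.node 17869985 8 (.node 9832527 5 .leaf .leaf) .leaf)))) (.node 8203559 10 (.node 16576890 9 (.node 1506990 1 .leaf (.node 3112253 10 (.node 2054493 1 .leaf .leaf) .leaf)) (.node 3510486 1 (.node 7847555 4 (.node 10442488 5 .leaf .leaf) (.node 9350463 6 .leaf .leaf)) .leaf)) (.node 8317640 8 .leaf .leaf)))) (.node 8655153 3 (.node 11103973 6 (.node 6540733 3 .leaf .leaf) .leaf) .leaf)) (.node 12235202 7 (.node 6527148 3 (.node 6916207 3 (.node 14134649 7 (.node 8168975 4 .leaf (.node 15608429 6 .leaf (.node 8834805 5 .leaf .leaf))) (.node 7399063 3 (.node 7959986 4 (.node 16446815 9 .leaf .leaf) (.node 11625075 6 (.node 1056825 1 .leaf .leaf) .leaf)) (.node 905091 9 (.node 82281 1 (.node 8862777 5 .leaf .leaf) .leaf) (.node 1028116 4 .leaf .leaf)))) (.node 8117165 4 (.node 4857798 2 .leaf (.node 482538 6 (.node 17848898 10 .leaf .leaf) (.node 17475844 4 .leaf (.node 4295468 8 .leaf .leaf)))) (.node 17861966 1 .leaf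 .leaf))) (.node 4045283 9 (.node 367753 1 (.node 7205199 4 .leaf (.node 1006380 6 (.node 10675171 6 .leaf (.node 18561533 10 .leaf .leaf)) (.node 2018226 6 .leaf .leaf))) (.node 10687513 10 (.node 3713282 2 (.node 8433492 4 (.node 8044653 4 .leaf .leaf) .leaf) (.node 17139222 4 .leaf (.node 17946731 2 (.node 1631521 1 .leaf .leaf) (.node 14420506 10 .leaf .leaf)))) (.node 17199326 5 (.node 12377520 6 (.node 3846316 2 .leaf .leaf) (.node 13245871 1 .leaf .leaf)) .leaf))) (.node 5160563 2 (.node 8478317 4 .leaf (.node 948905 8 (.node 10760344 6 (.node 17562821 9 .leaf (.node 18414089 6 (.node 5118114 2 .leaf .leaf) .leaf)) (.node 3990031 2 .leaf .leaf)) .leaf)) (.node 10748728 6 (.node 17563723 9 .leaf (.node 3653431 9 .leaf .leaf)) .leaf)))) (.node 1507694 6 (.node 7132456 4 (.node 18854870 10 (.node 6749832 3 (.node 14031436 7 (.node 8160967 4 .leaf (.node 1926101 3 .leaf (.node 12450560 9 (.node 12088462 6 .leaf .leaf) .leaf))) .leaf) (.node 5301308 7 (.node 17103373 9 (.node 12373098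 6 .leaf .leaf) (.node 12840081 4 .leaf .leaf)) (.node 5565363 2 (.node 14126861 7 .leaf .leaf) (.node 7992282 4 .leaf .leaf)))) (.node 16629537 9 (.node 12271700 6 (.node 18548706 10 .leaf .leaf) (.node 1634876 8 .leaf (.node 16391695 3 .leaf .leaf))) (.node 5442680 10 (.node 9512229 5 .leaf (.node 8070965 8 .leaf (.node 15618571 6 .leaf (.node 3777841 1 .leaf .leaf)))) (.node 12130724 2 .leaf .leaf)))) (.node 10833131 10 (.node 2756391 1 (.node 250581 1 .leaf (.node 2908115 2 .leaf .leaf)) (.node 17935962 2 .leaf (.node 2907026 7 .leaf .leaf))) (.node 185076 9 (.node 3575430 2 .leaf (.node 13575376 6 .leaf (.node 10814376 6 .leaf .leaf))) (.node 11089794 5 (.node 11140768 6 .leaf .leaf) (.node 11646856 2 .leaf .leaf))))) (.node 2603568 4 (.node 236688 1 (.node 1793078 1 (.node 9670134 5 .leaf (.node 7443998 1 .leaf (.node 5265932 1 .leaf (.node 1072325 2 .leaf (.node 1476718 5 .leaf .leaf))))) (.node 14414951 4 (.node 10063384 5 .leaf .leaf) (.node 11461396 1 .leaf (.node 1997842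 7 (.node 181622 1 .leaf .leaf) .leaf)))) (.node 9586281 2 (.node 16151136 9 .leaf (.node 1452452 8 .leaf (.node 3491224 7 .leaf .leaf))) (.node 12519057 2 (.node 8065971 4 .leaf .leaf) .leaf))) .leaf)))) (.node 6036251 5 (.node 6785230 3 (.node 7297181 4 (.node 7952099 4 (.node 10363805 5 (.node 8581420 4 (.node 10327879 5 .leaf (.node 18829757 6 .leaf .leaf)) (.node 9787570 4 (.node 5307918 2 .leaf .leaf) (.node 6441106 7 (.node 7286753 4 .leaf .leaf) .leaf))) (.node 3858701 1 (.node 350791 1 .leaf (.node 546084 5 .leaf .leaf)) (.node 54242 6 (.node 7088412 4 (.node 18844233 10 .leaf .leaf) (.node 17510659 5 .leaf .leaf)) (.node 10946145 1 (.node 14937934 8 .leaf .leaf) .leaf)))) (.node 1466048 6 (.node 1904838 1 .leaf (.node 4502422 7 (.node 2180872 1 .leaf .leaf) (.node 1357994 5 (.node 123454 1 .leaf .leaf) .leaf))) (.node 3296371 4 (.node 13649021 7 (.node 9219739 5 .leaf .leaf) (.node 12118734 5 .leaf (.node 12795102 5 .leaf .leaf))) (.node 9358086 1 (.node 5244460 2 (.node 15027651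 8 .leaf .leaf) .leaf) (.node 1991792 7 .leaf .leaf))))) (.node 1917906 9 (.node 17399097 9 (.node 12386540 6 (.node 2897610 1 .leaf (.node 18363973 8 .leaf .leaf)) .leaf) (.node 8720801 4 (.node 13435720 7 .leaf (.node 12414854 1 (.node 2900184 1 .leaf .leaf) .leaf)) (.node 2415942 4 (.node 17437531 9 (.node 9038822 5 (.node 6006924 3 .leaf .leaf) .leaf) .leaf) (.node 8301118 10 .leaf (.node 12391611 2 .leaf .leaf))))) (.node 13270797 1 (.node 4184312 2 (.node 380392 1 .leaf .leaf) .leaf) (.node 14646600 3 .leaf .leaf)))) (.node 16276580 6 (.node 12255717 6 (.node 18548839 10 (.node 11560341 6 (.node 17578407 9 .leaf .leaf) .leaf) (.node 13609520 7 (.node 7077775 3 .leaf (.node 2973334 4 .leaf .leaf)) (.node 17941891 1 (.node 1631081 1 .leaf (.node 16242590 7 .leaf .leaf)) (.node 8444602 5 (.node 2539252 1 .leaf .leaf) .leaf)))) (.node 5631946 10 (.node 6819934 3 (.node 619994 1 (.node 17836402 10 (.node 8227990 4 .leaf .leaf) .leaf) (.node 6759369 5 .leaf (.node 7100292 2 (.node 2417042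 1 .leaf .leaf) .leaf))) (.node 4425301 1 (.node 12916399 7 .leaf .leaf) (.node 16825997 10 .leaf (.node 8071911 3 (.node 4849570 2 .leaf .leaf) .leaf)))) (.node 13731576 1 .leaf (.node 9507598 6 .leaf (.node 17640063 5 .leaf .leaf))))) (.node 5684833 7 (.node 516803 1 (.node 1818543 1 (.node 7732759 4 .leaf .leaf) .leaf) .leaf) .leaf))) (.node 10805411 2 (.node 18680685 10 (.node 9876747 5 (.node 5176391 2 .leaf (.node 3628780 5 (.node 19173386 10 .leaf .leaf) (.node 16044953 2 (.node 18044643 10 .leaf .leaf) .leaf))) (.node 18045545 10 (.node 13089385 7 .leaf (.node 18845630 10 .leaf (.node 13505416 6 .leaf .leaf))) (.node 9692463 2 .leaf .leaf))) (.node 13573385 2 (.node 13292786 7 (.node 13238611 7 (.node 6992480 3 (.node 635680 1 .leaf .leaf) (.node 8331907 4 .leaf .leaf)) .leaf) (.node 13409342 2 (.node 14399495 8 .leaf .leaf) .leaf)) (.node 15850164 9 (.node 1440924 1 (.node 16035031 9 .leaf .leaf) (.node 96075 4 (.node 10633733 6 .leaf .leaf) .leaf)) (.node 10640993 9 (.node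 967363 1 (.node 12532708 7 .leaf .leaf) (.node 7217541 10 (.node 2427701 1 .leaf .leaf) .leaf)) (.node 2903110 1 (.node 15475868 8 .leaf .leaf) .leaf))))) (.node 13441858 3 (.node 13341461 7 (.node 14444628 8 (.node 1313148 1 .leaf (.node 3169838 9 (.node 3943643 2 .leaf (.node 2433993 10 .leaf .leaf)) (.node 14806782 5 .leaf .leaf))) .leaf) (.node 1589589 1 (.node 1916069 1 .leaf (.node 7164059 6 .leaf .leaf)) (.node 2907928 5 .leaf (.node 10882301 9 (.node 6496370 3 (.node 9536868 5 .leaf .leaf) .leaf) (.node 966703 5 .leaf .leaf))))) (.node 1906631 4 (.node 7735509 4 (.node 10439595 5 .leaf .leaf) .leaf) .leaf))))) (.node 5661019 1 (.node 7370562 4 (.node 13471877 7 (.node 9300391 5 (.node 12768669 7 (.node 12103587 6 .leaf (.node 17618943 1 (.node 3373283 1 .leaf .leaf) .leaf)) (.node 2250282 5 (.node 5897651 3 (.node 19128176 10 .leaf .leaf) (.node 6082429 6 (.node 9644195 5 (.node 876745 1 .leaf (.node 1692714 3 .leaf .leaf)) .leaf) .leaf)) (.node 10122508 9 (.node 920228 1 (.node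 10759706 6 .leaf .leaf) (.node 16692270 2 .leaf .leaf)) .leaf))) (.node 6695162 5 (.node 19055675 10 .leaf (.node 8577207 1 (.node 11100430 6 (.node 1009130 1 .leaf .leaf) .leaf) (.node 18462511 4 (.node 13139710 7 (.node 14486121 8 .leaf .leaf) .leaf) .leaf))) (.node 12238677 6 (.node 1112607 1 (.node 1872707 1 (.node 19333029 10 .leaf (.node 3748493 8 (.node 8434559 4 .leaf .leaf) .leaf)) (.node 7641283 10 .leaf .leaf)) (.node 2952280 1 (.node 2039950 1 (.node 185450 1 (.node 14300408 8 .leaf .leaf) (.node 9050680 7 .leaf .leaf)) (.node 18670069 7 .leaf (.node 5293761 7 .leaf .leaf))) .leaf)) (.node 3495701 10 (.node 317791 1 (.node 5370487 3 (.node 11766580 6 .leaf .leaf) .leaf) (.node 18369011 4 .leaf (.node 1699941 6 .leaf .leaf))) (.node 19429344 4 .leaf .leaf))))) (.node 18251146 3 (.node 18005131 10 (.node 13149093 7 (.node 12120879 6 (.node 3812843 2 (.node 2118183 1 .leaf .leaf) (.node 4495063 3 .leaf .leaf)) (.node 7706579 9 (.node 13525018 7 .leaf (.node 8092239 4 (.node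 10437955 5 .leaf .leaf) .leaf)) (.node 9299466 3 .leaf .leaf))) (.node 13357191 7 .leaf (.node 10437186 10 .leaf .leaf))) (.node 16454559 10 (.node 1495869 1 (.node 3653915 2 .leaf .leaf) (.node 7847907 4 (.node 13456444 7 .leaf .leaf) .leaf)) (.node 13307372 5 (.node 8187829 4 .leaf (.node 805707 5 .leaf (.node 10560232 9 .leaf .leaf))) (.node 12430320 3 (.node 18371794 10 (.node 9956001 5 .leaf .leaf) (.node 10151714 5 .leaf .leaf)) (.node 17643473 1 (.node 9117428 5 .leaf .leaf) .leaf))))) (.node 379644 10 (.node 3610806 2 (.node 6283223 3 (.node 16896892 9 .leaf (.node 8652788 7 .leaf .leaf)) (.node 14435697 2 .leaf .leaf)) (.node 7318433 9 (.node 18999014 10 (.node 14674452 8 .leaf .leaf) .leaf) (.node 3310836 1 (.node 7777617 4 (.node 10445667 5 .leaf .leaf) .leaf) .leaf))) (.node 18512715 7 (.node 14807321 8 (.node 4449028 2 (.node 10523096 5 .leaf .leaf) (.node 13025200 3 .leaf .leaf)) (.node 7917394 9 .leaf .leaf)) (.node 17250376 1 .leaf .leaf))))) (.node 19448056 10 (.node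 13106336 7 (.node 9324327 5 (.node 5222471 2 (.node 19189556 10 (.node 6681511 3 (.node 2378971 1 .leaf .leaf) (.node 11927268 5 .leaf .leaf)) (.node 16193409 8 (.node 9102754 5 .leaf (.node 14891174 10 .leaf .leaf)) (.node 4627987 10 (.node 10595366 5 .leaf .leaf) (.node 17695293 5 .leaf .leaf)))) (.node 10545558 7 .leaf (.node 11947310 2 (.node 2857680 1 .leaf .leaf) (.node 9488997 5 .leaf (.node 15744289 5 .leaf .leaf))))) (.node 6568728 2 (.node 11894916 6 (.node 1081356 1 (.node 8977816 5 (.node 9351541 5 .leaf .leaf) (.node 16140763 2 (.node 13796553 7 .leaf .leaf) .leaf)) (.node 12997832 7 .leaf (.node 13792098 8 (.node 8207035 4 .leaf .leaf) .leaf))) (.node 2465431 4 (.node 17444505 9 (.node 16653649 9 .leaf .leaf) (.node 9833121 5 .leaf .leaf)) (.node 17701157 2 .leaf .leaf))) (.node 16319084 4 (.node 16698672 9 (.node 4792910 2 (.node 10507465 5 (.node 5291177 2 .leaf .leaf) .leaf) .leaf) (.node 12445907 7 .leaf (.node 7918384 7 .leaf .leaf))) (.node 13368576 10 (.node 2986886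 1 .leaf .leaf) .leaf)))) (.node 11414909 6 (.node 1037719 1 (.node 10677261 6 (.node 10152814 5 (.node 5227905 2 .leaf (.node 3983618 5 .leaf .leaf)) .leaf) (.node 10822725 5 (.node 7478537 4 .leaf .leaf) .leaf)) (.node 8598634 1 .leaf (.node 9920032 8 (.node 12867867 7 (.node 9327780 5 .leaf .leaf) (.node 18900047 2 .leaf .leaf)) .leaf))) (.node 1269445 10 (.node 7178920 4 .leaf (.node 13963895 7 .leaf .leaf)) (.node 781694 5 .leaf (.node 3397538 5 (.node 9757650 5 .leaf .leaf) .leaf))))) (.node 866988 2 (.node 10749300 6 (.node 11118031 6 (.node 3793010 2 .leaf (.node 7115538 1 .leaf .leaf)) (.node 2910898 9 .leaf (.node 16584634 9 .leaf (.node 1697279 7 .leaf .leaf)))) (.node 11566511 6 (.node 1051501 1 (.node 95591 1 (.node 8868827 5 .leaf .leaf) (.node 5161465 5 (.node 12942975 7 .leaf .leaf) .leaf)) (.node 13749077 9 (.node 13228898 7 .leaf .leaf) .leaf)) (.node 13388618 3 (.node 13347511 7 (.node 12210363 6 (.node 1110033 1 .leaf .leaf) (.node 7912829 5 .leaf .leaf)) (.node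 8193879 1 .leaf (.node 16112878 5 .leaf .leaf))) (.node 12124332 2 (.node 1102212 1 .leaf (.node 10932417 7 .leaf .leaf)) (.node 5189240 8 (.node 8488503 4 .leaf .leaf) .leaf))))) (.node 881133 8 (.node 80103 1 .leaf (.node 14671460 7 .leaf (.node 12865161 8 .leaf .leaf))) (.node 14163260 6 .leaf .leaf))))) (.node 13600379 6 (.node 9221950 5 (.node 16217499 9 (.node 18190008 10 (.node 14734160 8 (.node 18324857 10 (.node 3437457 1 .leaf .leaf) (.node 17211514 9 .leaf .leaf)) (.node 19236438 2 (.node 9850941 5 .leaf .leaf) (.node 11351803 3 .leaf .leaf))) (.node 9681662 8 (.node 12762036 7 .leaf .leaf) (.node 13694307 5 .leaf (.node 16119918 2 (.node 16732101 9 (.node 9152078 5 .leaf .leaf) .leaf) .leaf)))) (.node 13886005 1 (.node 7006528 3 (.node 11841006 6 (.node 3762078 2 (.node 4225794 2 .leaf .leaf) (.node 2727109 8 .leaf .leaf)) (.node 1686246 6 (.node 17739470 10 .leaf .leaf) (.node 18413176 3 .leaf .leaf))) (.node 17737050 3 (.node 11443642 6 (.node 3850760 2 (.node 17205937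 9 .leaf .leaf) (.node 18892644 6 .leaf .leaf)) (.node 3916232 9 (.node 4255153 2 (.node 4315323 2 .leaf .leaf) .leaf) .leaf)) (.node 4735886 2 .leaf (.node 2043096 8 .leaf .leaf)))) (.node 11602757 1 (.node 3720091 2 (.node 4219370 2 (.node 10614605 5 (.node 18699351 10 .leaf (.node 15373238 3 .leaf .leaf)) (.node 4554705 6 (.node 10844384 6 .leaf .leaf) .leaf)) (.node 12289729 7 .leaf (.node 10917468 2 .leaf .leaf))) (.node 16143347 6 (.node 1467577 1 .leaf (.node 6048010 3 .leaf .leaf)) (.node 4478915 5 (.node 10522282 5 .leaf .leaf) .leaf))) (.node 349416 10 (.node 12455158 7 .leaf .leaf) (.node 911351 9 (.node 8905623 5 .leaf .leaf) .leaf))))) (.node 5556827 6 (.node 11856241 6 (.node 17685790 9 (.node 4810004 2 (.node 2208834 1 .leaf .leaf) (.node 17383839 3 (.node 1580349 1 .leaf (.node 1395867 7 (.node 126897 1 .leaf .leaf) .leaf)) .leaf)) (.node 441618 5 (.node 12447040 7 .leaf (.node 9714244 9 .leaf .leaf)) .leaf)) (.node 12458656 4 (.node 2904166 1 .leaf .leaf) .leaf)) (.node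 2426579 9 (.node 5812753 3 (.node 7267349 4 (.node 13479764 7 .leaf (.node 7672215 6 (.node 13520332 7 .leaf .leaf) .leaf)) (.node 13360612 3 .leaf .leaf)) (.node 8029682 7 (.node 10353618 5 (.node 941238 1 (.node 8903599 5 .leaf .leaf) .leaf) .leaf) (.node 2418428 2 .leaf .leaf))) (.node 9237393 5 (.node 839763 1 .leaf (.node 4524400 10 .leaf .leaf)) (.node 13826462 7 .leaf .leaf))))) (.node 11365828 7 (.node 17612453 9 (.node 16624444 9 (.node 3282874 1 .leaf .leaf) (.node 5337652 10 (.node 9509743 5 .leaf .leaf) (.node 12126225 2 (.node 13981287 7 .leaf .leaf) (.node 18849744 6 .leaf (.node 16224231 5 .leaf .leaf))))) .leaf) .leaf))))) (.node 14328073 2 (.node 9994128 5 (.node 2680118 1 (.node 13564321 7 (.node 9222863 5 (.node 8664337 4 (.node 787667 1 .leaf .leaf) (.node 18785163 7 .leaf (.node 8750754 2 (.node 7996066 4 .leaf (.node 17391583 10 (.node 1581053 1 .leaf .leaf) (.node 3051786 10 .leaf .leaf))) (.node 440870 4 (.node 3608628 2 .leaf .leaf) .leaf)))) (.node 7766408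 9 (.node 10983050 6 (.node 13899160 7 .leaf (.node 9812287 7 (.node 8677802 4 .leaf (.node 6618855 7 .leaf .leaf)) (.node 8852515 9 (.node 8004030 4 .leaf .leaf) (.node 6268681 10 (.node 7388976 4 .leaf .leaf) .leaf)))) (.node 7545847 2 (.node 5570456 3 .leaf (.node 7892941 4 (.node 18932024 10 .leaf (.node 3025793 5 .leaf .leaf)) (.node 5045525 10 (.node 4297976 2 .leaf .leaf) (.node 14943380 3 (.node 11309276 6 .leaf .leaf) .leaf)))) (.node 18447782 1 (.node 3448632 1 (.node 313512 1 .leaf (.node 16088171 8 (.node 1462561 1 .leaf .leaf) .leaf)) (.node 325040 3 (.node 7204429 4 .leaf .leaf) .leaf)) (.node 7203824 10 (.node 13368675 7 (.node 18434230 10 .leaf .leaf) .leaf) .leaf)))) (.node 7022335 8 (.node 9601538 5 (.node 5272752 2 (.node 17109775 9 .leaf (.node 12502095 10 .leaf (.node 14228369 9 .leaf (.node 10597335 7 .leaf .leaf)))) (.node 2422542 9 .leaf .leaf)) (.node 3441372 4 (.node 312852 1 (.node 3585352 2 (.node 12889052 7 .leaf .leaf) (.node 689184 1 .leaf .leaf)) (.node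 12490116 8 .leaf .leaf)) (.node 2423631 3 .leaf .leaf))) (.node 1766304 2 (.node 3687234 2 (.node 8379019 4 (.node 761729 1 .leaf .leaf) .leaf) .leaf) (.node 8125250 2 .leaf .leaf))))) (.node 12121781 5 (.node 7463775 4 .leaf (.node 8823893 7 (.node 13427756 7 .leaf (.node 2035836 8 .leaf (.node 11934891 3 (.node 17655518 9 .leaf (.node 4533134 5 (.node 19252223 10 .leaf .leaf) .leaf)) (.node 18113008 1 .leaf .leaf)))) (.node 1630542 10 (.node 3678522 2 (.node 12895102 7 (.node 1172282 1 (.node 7175532 4 .leaf .leaf) (.node 15986279 1 .leaf .leaf)) .leaf) (.node 688524 5 (.node 7160792 4 .leaf .leaf) .leaf)) (.node 7172771 4 .leaf .leaf)))) (.node 13278805 2 (.node 12199254 6 (.node 7466647 4 .leaf (.node 18850833 8 .leaf (.node 3485174 7 .leaf .leaf))) (.node 19385300 10 (.node 1762300 1 (.node 15976357 9 (.node 7581024 4 .leaf (.node 3822358 3 .leaf .leaf)) (.node 13805144 4 (.node 3026574 1 .leaf .leaf) .leaf)) (.node 2538339 8 (.node 2002319 1 .leaf (.node 241319 8 .leaf .leaf))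 (.node 5368870 9 .leaf .leaf))) (.node 3445486 3 (.node 313226 1 (.node 14294842 8 .leaf .leaf) (.node 7543020 2 .leaf .leaf)) (.node 12096018 10 .leaf (.node 14747613 9 .leaf .leaf))))) (.node 316834 6 (.node 16079449 9 (.node 13700357 7 (.node 1245487 1 (.node 7187511 4 .leaf .leaf) (.node 18143610 7 .leaf (.node 1635195 2 .leaf .leaf))) (.node 11614219 2 .leaf .leaf)) (.node 8574743 10 (.node 15877643 8 .leaf .leaf) .leaf)) (.node 14430604 6 .leaf .leaf))))) (.node 8584114 3 (.node 780374 1 (.node 5337168 3 .leaf (.node 7087828 7 (.node 644348 1 .leaf (.node 16311340 8 (.node 16697418 9 (.node 12282106 6 .leaf .leaf) (.node 5109886 10 .leaf .leaf)) (.node 16653572 4 (.node 9162968 5 .leaf .leaf) .leaf))) (.node 17181902 5 (.node 12383988 6 (.node 7515200 4 .leaf (.node 17885748 9 .leaf .leaf)) (.node 1947958 8 (.node 9742954 5 .leaf (.node 11077804 8 .leaf .leaf)) (.node 2610807 4 (.node 19426980 10 .leaf .leaf) .leaf))) (.node 9905336 2 .leaf .leaf)))) (.node 1128590 1 .leaf (.node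 16009588 2 (.node 15153007 8 (.node 17057096 9 .leaf (.node 17663328 4 (.node 18058569 10 .leaf .leaf) .leaf)) .leaf) (.node 5881822 5 (.node 2306272 1 (.node 1981222 1 (.node 13645314 7 (.node 12223234 6 .leaf .leaf) .leaf) .leaf) .leaf) .leaf)))) (.node 10761191 5 (.node 17559884 9 .leaf (.node 4990535 1 (.node 453685 1 (.node 16054809 9 (.node 6134162 3 (.node 4656961 2 .leaf .leaf) (.node 17590870 10 (.node 1599170 1 (.node 7140552 4 .leaf .leaf) .leaf) .leaf)) (.node 481251 3 (.node 7213075 4 (.node 10957959 6 .leaf .leaf) .leaf) .leaf)) (.node 7209687 2 (.node 10957079 6 (.node 6530074 3 .leaf (.node 12524447 8 .leaf .leaf)) (.node 10312908 1 (.node 15388957 8 (.node 17040816 9 .leaf .leaf) (.node 340165 4 .leaf .leaf)) .leaf)) (.node 14904715 7 .leaf (.node 9670750 3 .leaf (.node 12667722 5 .leaf .leaf))))) (.node 12089276 10 .leaf (.node 15349335 2 .leaf (.node 7185454 2 (.node 18850052 10 (.node 5037781 2 .leaf .leaf) .leaf) .leaf))))) (.node 1568216 2 (.node 16011766 9 (.node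 15152655 8 (.node 4364196 2 (.node 12922768 7 .leaf .leaf) .leaf) .leaf) (.node 5793690 1 (.node 14061378 7 .leaf (.node 16088161 7 (.node 7573764 4 .leaf .leaf) .leaf)) (.node 8386279 2 (.node 762389 1 .leaf .leaf) (.node 18127583 10 .leaf (.node 14082476 1 .leaf .leaf))))) .leaf)))) (.node 1270787 8 (.node 5468013 3 (.node 11764358 6 (.node 2841048 1 (.node 13666731 7 .leaf (.node 3125794 8 (.node 17485479 9 .leaf (.node 16383467 10 (.node 4735721 2 .leaf .leaf) .leaf)) (.node 4253899 7 .leaf (.node 1162965 2 .leaf .leaf)))) (.node 16365866 2 (.node 1487806 1 (.node 17757510 10 (.node 8224712 4 .leaf (.node 9068071 8 .leaf .leaf)) (.node 13954370 7 (.node 7012105 3 .leaf (.node 17983636 1 .leaf .leaf)) (.node 182029 8 (.node 5362743 3 (.node 11766954 6 .leaf .leaf) .leaf) (.node 18619854 3 .leaf .leaf)))) (.node 5551272 10 .leaf (.node 8270450 6 (.node 10342014 5 .leaf .leaf) (.node 9712429 3 (.node 2654509 1 .leaf .leaf) .leaf)))) (.node 8758938 4 (.node 18868059 10 (.node 6754760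 3 (.node 16840440 9 (.node 12361207 6 .leaf .leaf) .leaf) (.node 15192816 6 (.node 17064499 9 .leaf .leaf) .leaf)) (.node 16904174 3 .leaf (.node 2571779 1 .leaf .leaf))) (.node 19267040 8 .leaf .leaf)))) (.node 358513 9 (.node 17860173 10 (.node 13056847 7 (.node 9312601 5 .leaf (.node 5088227 3 (.node 17143446 9 .leaf .leaf) (.node 19115097 3 .leaf (.node 18380066 3 .leaf .leaf)))) (.node 16649403 8 (.node 6136362 3 (.node 14050994 7 (.node 18386963 10 .leaf (.node 9231707 10 .leaf .leaf)) (.node 2778634 10 .leaf .leaf)) .leaf) (.node 17539138 2 (.node 4783461 2 (.node 12964634 7 .leaf .leaf) (.node 9303922 8 .leaf .leaf)) (.node 18663998 5 .leaf .leaf)))) (.node 6309997 8 (.node 14153019 7 (.node 3058199 1 (.node 5955610 3 (.node 19122907 10 .leaf (.node 8469968 5 .leaf .leaf)) (.node 13224674 2 .leaf .leaf)) (.node 10359306 3 (.node 2713316 1 .leaf .leaf) .leaf)) (.node 2880901 8 (.node 2033461 1 .leaf .leaf) (.node 4010843 9 .leaf .leaf))) (.node 3472998 10 .leaf (.node 19333975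 3 .leaf .leaf)))) (.node 12699930 1 (.node 2926100 1 (.node 15487022 8 (.node 18256415 10 (.node 16346309 9 .leaf .leaf) .leaf) (.node 12532323 1 .leaf (.node 806257 10 (.node 7218124 4 .leaf .leaf) .leaf))) .leaf) (.node 5945424 9 .leaf .leaf)))) (.node 17850735 10 (.node 13056165 7 (.node 12108669 6 (.node 14911304 8 (.node 18308632 10 (.node 5085641 2 (.node 462331 1 .leaf .leaf) .leaf) .leaf) (.node 3643927 10 (.node 2102827 1 .leaf .leaf) (.node 16029608 6 (.node 3228798 1 .leaf .leaf) .leaf))) (.node 3228006 8 (.node 13645688 7 (.node 8153795 4 .leaf .leaf) (.node 368501 3 (.node 16054325 9 .leaf .leaf) (.node 7629084 7 .leaf .leaf))) .leaf)) (.node 13163382 5 (.node 8139099 4 (.node 7933608 4 (.node 15892877 8 .leaf (.node 7775494 6 .leaf .leaf)) .leaf) (.node 8084979 3 .leaf .leaf)) (.node 7034951 8 (.node 639541 1 .leaf .leaf) (.node 13724030 8 .leaf (.node 12289036 8 (.node 7512363 4 .leaf .leaf) .leaf))))) (.node 7966069 3 (.node 8035732 4 (.node 5541569 3 (.node 503779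 1 .leaf (.node 1598037 4 (.node 17747489 10 .leaf .leaf) .leaf)) (.node 17758379 4 (.node 16275810 9 (.node 9165619 5 .leaf .leaf) .leaf) .leaf)) (.node 17400021 2 (.node 9034598 5 (.node 2592888 1 .leaf (.node 10174473 4 .leaf .leaf)) (.node 3789644 3 (.node 6330908 3 .leaf .leaf) (.node 11762389 9 .leaf .leaf))) (.node 6173971 10 (.node 4664199 2 .leaf .leaf) .leaf))) .leaf))) (.node 13533268 10 (.node 12211486 6 (.node 6522011 3 (.node 19071295 10 (.node 5076566 2 (.node 461506 1 (.node 1813516 1 .leaf (.node 13283007 1 .leaf (.node 18598921 8 .leaf .leaf))) (.node 18937755 1 .leaf .leaf)) (.node 5950484 8 (.node 4610255 2 (.node 8407070 4 .leaf (.node 12259842 7 .leaf .leaf)) .leaf) (.node 597267 8 .leaf .leaf))) (.node 4439282 1 (.node 8510063 4 .leaf (.node 10176695 7 .leaf .leaf)) .leaf)) (.node 7713520 4 (.node 2472790 1 (.node 7805381 4 (.node 7977179 4 (.node 2496759 1 .leaf .leaf) .leaf) (.node 11530487 1 .leaf (.node 8649817 4 (.node 786347 1 .leaf .leaf) .leaf))) (.node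 8680541 6 (.node 10323368 5 (.node 938488 1 .leaf (.node 4738636 5 .leaf .leaf)) (.node 7665923 2 .leaf .leaf)) (.node 13355519 7 (.node 12202741 6 .leaf .leaf) (.node 8455151 8 .leaf .leaf)))) (.node 9209079 3 (.node 837189 1 (.node 17816657 10 (.node 3391257 1 (.node 19341389 10 .leaf .leaf) .leaf) .leaf) (.node 12485617 2 .leaf (.node 13913922 5 .leaf .leaf))) (.node 18850646 2 .leaf .leaf)))) (.node 2945779 10 (.node 7820682 4 (.node 13467917 7 (.node 2995917 1 (.node 15481412 8 .leaf .leaf) (.node 13911569 1 .leaf .leaf)) (.node 15872572 3 (.node 8802399 4 .leaf (.node 11603351 9 .leaf .leaf)) (.node 16252787 6 (.node 4711840 2 (.node 10511029 5 .leaf .leaf) .leaf) (.node 14802327 8 .leaf (.node 16310174 10 .leaf .leaf))))) (.node 7362620 4 (.node 2440890 1 .leaf (.node 12987910 8 .leaf (.node 1795498 7 .leaf .leaf))) (.node 2466223 3 (.node 19440113 10 (.node 1767283 1 (.node 14220625 8 .leaf .leaf) .leaf) (.node 25048 4 .leaf (.node 19389172 8 .leaf .leaf))) .leaf))) (.node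 2919203 6 (.node 15487451 8 (.node 17010929 9 .leaf .leaf) (.node 15381048 5 .leaf (.node 2301003 6 (.node 3961354 2 (.node 17188491 9 (.node 15155163 8 .leaf .leaf) .leaf) .leaf) (.node 16636390 8 (.node 9156489 5 .leaf .leaf) (.node 263308 3 .leaf .leaf))))) .leaf))) (.node 8315209 2 (.node 13453012 7 (.node 18441325 10 (.node 14811908 8 (.node 16987224 9 (.node 7611737 4 (.node 18972350 10 .leaf .leaf) .leaf) .leaf) (.node 1425150 9 (.node 1901120 1 .leaf (.node 8343215 8 .leaf .leaf)) (.node 12220055 7 (.node 11273395 6 .leaf .leaf) (.node 16383302 9 .leaf .leaf)))) (.node 1892408 5 (.node 13529990 7 (.node 3001560 1 .leaf (.node 12764533 3 .leaf .leaf)) (.node 10979551 4 (.node 998141 1 (.node 1862301 1 .leaf .leaf) .leaf) .leaf)) (.node 847980 5 (.node 1848650 1 (.node 1939620 1 .leaf .leaf) .leaf) (.node 4595064 10 (.node 13019590 7 (.node 18480727 10 .leaf .leaf) (.node 596662 2 .leaf .leaf)) (.node 49644 8 .leaf .leaf))))) (.node 13059421 2 (.node 2958781 1 .leaf (.node 185736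 4 (.node 3575440 2 .leaf .leaf) (.node 3326995 6 .leaf .leaf))) (.node 3585362 3 (.node 325942 1 (.node 12445302 7 (.node 13219603 7 .leaf .leaf) .leaf) (.node 19392681 9 (.node 1762971 1 .leaf (.node 3458973 6 .leaf .leaf)) (.node 5126584 10 (.node 17136472 9 (.node 13771341 7 .leaf .leaf) .leaf) (.node 18487470 1 .leaf .leaf)))) (.node 317384 2 (.node 16079459 9 (.node 1461769 1 .leaf .leaf) .leaf) (.node 19473356 5 .leaf .leaf))))) (.node 2474539 8 (.node 13624194 7 .leaf .leaf) .leaf))))) (.node 5470191 1 .leaf (.node 9509039 6 (.node 2636019 1 (.node 7868972 4 (.node 10440728 5 .leaf (.node 16114418 7 (.node 15256043 8 .leaf .leaf) (.node 1431299 2 .leaf .leaf))) (.node 6325033 5 (.node 575003 1 (.node 52273 1 .leaf (.node 10925817 1 .leaf .leaf)) (.node 12830488 4 (.node 1166408 1 (.node 12478841 7 (.node 18368835 10 .leaf .leaf) .leaf) .leaf) (.node 10337438 6 (.node 6040189 3 .leaf (.node 5824402 9 (.node 4600641 2 .leaf .leaf) (.node 1712866 5 .leaf .leaf))) .leaf))) (.node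 679867 7 (.node 12493504 7 (.node 2907334 1 (.node 3909335 2 .leaf .leaf) (.node 18368219 1 .leaf .leaf)) (.node 17437608 2 .leaf .leaf)) (.node 17138056 6 (.node 9061086 5 .leaf .leaf) .leaf)))) (.node 1386913 2 (.node 126083 1 (.node 12403358 7 (.node 1127578 1 (.node 8887143 5 .leaf (.node 17772569 7 .leaf .leaf)) .leaf) .leaf) (.node 8293539 4 (.node 15807804 8 (.node 15676650 8 .leaf (.node 12065824 2 .leaf .leaf)) (.node 5230633 1 (.node 6404223 3 .leaf (.node 6621913 6 .leaf .leaf)) (.node 4434189 8 (.node 10919492 6 .leaf .leaf) (.node 11279797 9 (.node 17598934 9 .leaf .leaf) .leaf)))) (.node 6247044 9 (.node 16772911 9 .leaf (.node 3805165 9 (.node 15100988 8 .leaf (.node 126842 1 .leaf .leaf)) (.node 7088192 1 .leaf .leaf))) (.node 15265911 1 (.node 4370147 2 .leaf .leaf) (.node 13125036 5 .leaf .leaf))))) (.node 14353989 1 .leaf (.node 684542 9 .leaf (.node 12842556 2 (.node 9336317 5 .leaf .leaf) .leaf))))) (.node 124147 9 (.node 7100654 4 (.node 645514 1 (.node 8989641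 5 .leaf .leaf) (.node 1263560 1 (.node 14195380 8 (.node 11281931 6 .leaf .leaf) (.node 4706769 10 .leaf .leaf)) (.node 18099643 3 (.node 9983744 5 .leaf .leaf) (.node 15544981 7 .leaf .leaf)))) .leaf) .leaf)))))

end Cfsg.Agent.Lib.Helper57.J1
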