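import Cfsg.Agent.Lib.Helper57.J1Cent
import Cfsg.Agent.Lib.Helper57.J1LineData
import Cfsg.Agent.Lib.Helper57.CentAbs

/-!
# Stabilisers of lines in the 7-dimensional module of `J₁`
-/

set_option autoImplicit false
set_option maxRecDepth 1000000

namespace Cfsg.Agent.Lib.Helper57.J1

open Matrix Cfsg.Spor

/-! ### computational vectors -/

/-- the vector over `ZMod 11` -/
def toV (v : R7) : Fin 7 → ZMod 11 := fun i => (v.get i : ZMod 11)

/-- matrix times column vector, reduced mod 11 -/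
def mulVecC (A : M7) (v : R7) : R7 :=
  ⟨dot A.r0 v.a0 v.a1 v.a2 v.a3 v.a4 v.a5 v.a6, dot A.r1 v.a0 v.a1 v.a2 v.a3 v.a4 v.a5 v.a6,
   dot A.r2 v.a0 v.a1 v.a2 v.a3 v.a4 v.a5 v.a6, dot A.r3 v.a0 v.a1 v.a2 v.a3 v.a4 v.a5 v.a6,
   dot A.r4 v.a0 v.a1 v.a2 v.a3 v.a4 v.a5 v.a6, dot A.r5 v.a0 v.a1 v.a2 v.a3 v.a4 v.a5 v.a6,
   dot A.r6 v.a0 v.a1 v.a2 v.a3 v.a4 v.a5 v.a6⟩

theorem get_mulVecC (A : M7) (v : R7) (i : Fin 7) :
    (mulVecC A v).get i = (∑ k, A.get i k * v.get k) % 11 := by
  rw [Fin.sum_univ_seven]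
  fin_cases i <;> rfl

theorem toV_mulVecC (A : M7) (v : R7) : toV (mulVecC A v) = (toM A).mulVec (toV v) := by
  ext i
  simp only [toV, get_mulVecC, Matrix.mulVec, dotProduct, toM, Matrix.of_apply]
  rw [ZMod.natCast_mod]
  push_cast
  rfl

/-- scalar times vector, reduced mod 11 -/
def scaleC (s : Nat) (v : R7) : R7 :=
  ⟨Nat.mod (Nat.mul s v.a0) 11, Nat.mod (Nat.mul s v.a1) 11, Nat.mod (Nat.mul s v.a2) 11,
   Nat.mod (Nat.mul s v.a3) 11, Nat.mod (Nat.mul s v.a4) 11, Nat.mod (Nat.mul s v.a5) 11,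
   Nat.mod (Nat.mul s v.a6) 11⟩

theorem get_scaleC (s : Nat) (v : R7) (i : Fin 7) : (scaleC s v).get i = (s * v.get i) % 11 := by
  fin_cases i <;> rfl

theorem toV_scaleC (s : Nat) (v : R7) : toV (scaleC s v) = (s : ZMod 11) • toV v := by
  ext i
  simp only [toV, get_scaleC, Pi.smul_apply, smul_eq_mul]
  rw [ZMod.natCast_mod]
  push_cast
  rfl

/-- the entries as a list -/
def R7.toList (v : R7) : List Nat := [v.a0, v.a1, v.a2, v.a3, v.a4, v.a5, v.a6]

theorem R7.toList_inj {u v : R7} (h : u.toList = v.toList) : u = v := by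
  obtain ⟨a0, a1, a2, a3, a4, a5, a6⟩ := u
  obtain ⟨b0, b1, b2, b3, b4, b5, b6⟩ := v
  simp only [R7.toList, List.cons.injEq, and_true] at h
  obtain ⟨h0, h1, h2, h3, h4, h5, h6⟩ := h
  subst_vars
  rfl

/-! ### canonical representatives of lines -/

/-- the first non-zero entry is `1` -/
def canonL : List Nat → Bool
  | [] => false
  | a :: l => Nat.beq a 1 || (Nat.beq a 0 && canonL l)

theorem eq_of_forall₂_cast : ∀ l l' : List Nat, (∀ a ∈ l, a < 11) → (∀ b ∈ l', b < 11) →
    List.Forall₂ (fun b a : ℕ => (b : ZMod 11) = (a : ZMod 11)) l' l → l = l' := by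
  intro l l' hl hl' h
  induction h with
  | nil => rfl
  | @cons b a t' t hba _ ih =>
    have ha : a < 11 := hl a (by simp)
    have hb : b < 11 := hl' b (by simp)
    have h1 : b = a := by
      have := (ZMod.natCast_eq_natCast_iff' _ _ _).1 hba
      rwa [Nat.mod_eq_of_lt ha, Nat.mod_eq_of_lt hb] at this
    rw [h1, ih (fun x hx => hl x (List.mem_cons_of_mem _ hx))
      (fun x hx => hl' x (List.mem_cons_of_mem _ hx))]

theorem canon_eq (μ : ZMod 11) (hμ : μ ≠ 0) : ∀ l l' : List Nat, (∀ a ∈ l, a < 11) →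
    (∀ b ∈ l', b < 11) → canonL l = true → canonL l' = true →
    List.Forall₂ (fun b a : ℕ => (b : ZMod 11) = μ * (a : ZMod 11)) l' l → l = l' := by
  intro l l' hl hl' hc hc' h
  induction h with
  | nil => rfl
  | @cons b a t' t hba hrest ih =>
    simp only [canonL, Bool.or_eq_true, Bool.and_eq_true] at hc hc'
    rcases hc with ha | ⟨ha, hct⟩
    · rcases hc' with hb | ⟨hb, _⟩
      · -- both lead with 1, so μ = 1
        have ha := Nat.eq_of_beq_eq_true ha
        have hb := Nat.eq_of_beq_eq_true hb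
        subst ha; subst hb
        have hμ1 : μ = 1 := by simpa using hba.symm
        subst hμ1
        have h2 : List.Forall₂ (fun b a : ℕ => (b : ZMod 11) = (a : ZMod 11)) t' t := by
          refine List.Forall₂.imp ?_ hrest
          intro x y hxy
          simpa using hxy
        rw [eq_of_forall₂_cast t t' (fun x hx => hl x (List.mem_cons_of_mem _ hx))
          (fun x hx => hl' x (List.mem_cons_of_mem _ hx)) h2]
      · have ha := Nat.eq_of_beq_eq_true ha
        have hb := Nat.eq_of_beq_eq_true hb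
        subst ha; subst hb
        exfalso
        apply hμ
        simpa using hba.symm
    · rcases hc' with hb | ⟨hb, hct'⟩
      · have ha := Nat.eq_of_beq_eq_true ha
        have hb := Nat.eq_of_beq_eq_true hb
        subst ha; subst hb
        exfalso
        simp at hba
      · have ha := Nat.eq_of_beq_eq_true ha
        have hb := Nat.eq_of_beq_eq_true hb
        subst ha; subst hb
        rw [ih (fun x hx => hl x (List.mem_cons_of_mem _ hx))
          (fun x hx => hl' x (List.mem_cons_of_mem _ hx)) hct hct']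

theorem decRow_lt (c : Nat) : ∀ a ∈ (decRow c).toList, a < 11 := by
  intro a ha
  simp only [R7.toList, decRow, List.mem_cons, List.not_mem_nil, or_false] at ha
  rcases ha with rfl | rfl | rfl | rfl | rfl | rfl | rfl <;> exact Nat.mod_lt _ (by norm_num)

/-- two canonical decoded rows spanning the same line are equal -/
theorem decRow_eq_of_prop (c c' : Nat) (hc : canonL (decRow c).toList = true)
    (hc' : canonL (decRow c').toList = true) (μ : ZMod 11) (hμ : μ ≠ 0)
    (h : toV (decRow c') = μ • toV (decRow c)) : decRow c = decRow c' := by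
  apply R7.toList_inj
  apply canon_eq μ hμ _ _ (decRow_lt c) (decRow_lt c') hc hc'
  have e : ∀ i : Fin 7, (((decRow c').get i : ℕ) : ZMod 11) = μ * (((decRow c).get i : ℕ) : ZMod 11) :=
    fun i => congrFun h i
  exact List.Forall₂.cons (e 0) (List.Forall₂.cons (e 1) (List.Forall₂.cons (e 2)
    (List.Forall₂.cons (e 3) (List.Forall₂.cons (e 4) (List.Forall₂.cons (e 5)
    (List.Forall₂.cons (e 6) List.Forall₂.nil))))))

/-! ### trees of images of a line -/

/-- check that a tree of codes is a tree of images of the line through `P` -/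
def chkVT (P : R7) : VT → Bool
  | .leaf => true
  | .node c s l r => (decRow c == scaleC s P) && !(Nat.beq (Nat.mod s 11) 0) &&
      chkVT (mulVecC Xc (decRow c)) l && chkVT (mulVecC Yc (decRow c)) r

/-- the codes in a tree -/
def codesVT : VT → List Nat
  | .leaf => []
  | .node c _ l r => c :: (codesVT l ++ codesVT r)

/-- `u` spans an image of the line through `v0` -/
def GoodV (v0 : Fin 7 → ZMod 11) (u : R7) : Prop :=
  ∃ γ : ↥J1, ∃ a : ZMod 11, a ≠ 0 ∧
    toV u = a • ((γ : GL (Fin 7) (ZMod 11)) : Mat).mulVec v0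

theorem goodV_root (P : R7) : GoodV (toV P) P := ⟨1, 1, one_ne_zero, by simp⟩

theorem goodV_X (v0 : Fin 7 → ZMod 11) (u : R7) (h : GoodV v0 u) : GoodV v0 (mulVecC Xc u) := by
  obtain ⟨γ, a, ha, hγ⟩ := h
  refine ⟨eG [0] * γ, a, ha, ?_⟩
  have e1 : (((eG [0] : ↥J1) : GL (Fin 7) (ZMod 11)) : Mat) = toM Xc := by
    exact val_evalG [0]
  rw [toV_mulVecC, hγ, Matrix.mulVec_smul, Subgroup.coe_mul, Units.val_mul, ← Matrix.mulVec_mulVec,
    e1]

theorem goodV_Y (v0 : Fin 7 → ZMod 11) (u : R7) (h : GoodV v0 u) : GoodV v0 (mulVecC Yc u) := by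
  obtain ⟨γ, a, ha, hγ⟩ := h
  refine ⟨eG [1] * γ, a, ha, ?_⟩
  have e1 : (((eG [1] : ↥J1) : GL (Fin 7) (ZMod 11)) : Mat) = toM Yc := by
    exact val_evalG [1]
  rw [toV_mulVecC, hγ, Matrix.mulVec_smul, Subgroup.coe_mul, Units.val_mul, ← Matrix.mulVec_mulVec,
    e1]

theorem goodV_scale (v0 : Fin 7 → ZMod 11) (u : R7) (s : Nat) (hs : Nat.mod s 11 ≠ 0)
    (h : GoodV v0 u) : GoodV v0 (scaleC s u) := by
  obtain ⟨γ, a, ha, hγ⟩ := h
  have hs' : (s : ZMod 11) ≠ 0 := by
    rw [Ne, ZMod.natCast_eq_zero_iff]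
    intro hd
    exact hs (Nat.mod_eq_zero_of_dvd hd)
  refine ⟨γ, (s : ZMod 11) * a, mul_ne_zero hs' ha, ?_⟩
  rw [toV_scaleC, hγ, smul_smul]

theorem chkVT_good (v0 : Fin 7 → ZMod 11) (T : VT) :
    ∀ P, chkVT P T = true → GoodV v0 P → ∀ c ∈ codesVT T, GoodV v0 (decRow c) := by
  induction T with
  | leaf => intro P _ _ c hc; simp [codesVT] at hc
  | node c s l r ihl ihr =>
    intro P h hP c' hc'
    simp only [chkVT, Bool.and_eq_true, beq_iff_eq, Bool.not_eq_true'] at h
    obtain ⟨⟨⟨h1, h0⟩, h2⟩, h3⟩ := h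
    have hs : Nat.mod s 11 ≠ 0 := by
      intro e
      rw [e] at h0
      simp at h0
    have hc : GoodV v0 (decRow c) := h1 ▸ goodV_scale v0 P s hs hP
    simp only [codesVT, List.mem_cons, List.mem_append] at hc'
    rcases hc' with rfl | hc' | hc'
    · exact hc
    · exact ihl _ h2 (goodV_X v0 _ hc) _ hc'
    · exact ihr _ h3 (goodV_Y v0 _ hc) _ hc'

/-! ### distinctness through buckets -/

theorem nodup_of_buckets (l : List Nat)
    (h : (List.range 64).all (fun r => distinctL (l.filter (fun c => Nat.beq (Nat.mod c 64) r)))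
      = true) : l.Nodup := by
  rw [List.nodup_iff_count_le_one]
  intro a
  have hr : a % 64 < 64 := Nat.mod_lt _ (by norm_num)
  have h' := List.all_eq_true.1 h (a % 64) (List.mem_range.2 hr)
  have hn := distinctL_spec _ h'
  have hp : (fun c => Nat.beq (Nat.mod c 64) (a % 64)) a = true := Nat.beq_refl _
  rw [← List.count_filter (p := fun c => Nat.beq (Nat.mod c 64) (a % 64)) (a := a) (l := l) hp]
  exact List.nodup_iff_count_le_one.1 hn a

/-! ### the bound for the stabiliser -/

open CentAbs in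
/-- a certified tree with `N` nodes bounds the stabiliser of the line -/
theorem card_lineStab_le_of_tree (T : VT) (P : R7) (N : ℕ) (hchk : chkVT P T = true)
    (hlen : (codesVT T).length = N)
    (hcanon : (codesVT T).all (fun c => canonL (decRow c).toList) = true)
    (henc : (codesVT T).all (fun c => Nat.beq (encRow (decRow c)) c) = true)
    (hdist : (List.range 64).all (fun r => distinctL ((codesVT T).filter
      (fun c => Nat.beq (Nat.mod c 64) r))) = true) :
    N * Nat.card (lineStab J1 (toV P)) ≤ 175560 := by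
  have hnodup := nodup_of_buckets _ hdist
  have hG : ∀ k : Fin N, GoodV (toV P) (decRow ((codesVT T)[k.1]'(by rw [hlen]; exact k.2))) :=
    fun k => chkVT_good (toV P) T P hchk (goodV_root P) _ (List.getElem_mem _)
  choose γ a ha hγ using hG
  have := card_lineStab_le J1 (toV P) N γ ?_
  · rwa [card_J1] at this
  intro k k' ⟨c, hc, hcc⟩
  have hk : (codesVT T)[k.1]'(by rw [hlen]; exact k.2) ∈ codesVT T := List.getElem_mem _
  have hk' : (codesVT T)[k'.1]'(by rw [hlen]; exact k'.2) ∈ codesVT T := List.getElem_mem _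
  have h1 : toV (decRow ((codesVT T)[k'.1]'(by rw [hlen]; exact k'.2)))
      = (a k' * c * (a k)⁻¹) • toV (decRow ((codesVT T)[k.1]'(by rw [hlen]; exact k.2))) := by
    rw [hγ k', hγ k, hcc, smul_smul, smul_smul, mul_assoc, mul_assoc, inv_mul_cancel₀ (ha k),
      mul_one]
  have h2 := decRow_eq_of_prop _ _ (List.all_eq_true.1 hcanon _ hk)
    (List.all_eq_true.1 hcanon _ hk') _
    (mul_ne_zero (mul_ne_zero (ha k') hc) (inv_ne_zero (ha k))) h1
  have e1 := List.all_eq_true.1 henc _ hk
  have e2 := List.all_eq_true.1 henc _ hk'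
  have e1' := Nat.eq_of_beq_eq_true e1
  have e2' := Nat.eq_of_beq_eq_true e2
  have h3 : (codesVT T)[k.1]'(by rw [hlen]; exact k.2)
      = (codesVT T)[k'.1]'(by rw [hlen]; exact k'.2) := by
    rw [← e1', ← e2', h2]
  exact Fin.ext ((List.Nodup.getElem_inj_iff hnodup).1 h3)

end Cfsg.Agent.Lib.Helper57.J1
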