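import Cfsg.Agent.Lib.Helper57.J1Out1

/-!
# The normaliser of the Sylow 19-subgroup of `J₁`
-/

set_option autoImplicit false

namespace Cfsg.Agent.Lib.Helper57.J1

open Cfsg Cfsg.Spor Matrix

/-- the elements of `J₁` are orthogonal matrices -/
theorem orth_J1 : ∀ g ∈ J1, ((g⁻¹ : GL (Fin 7) (ZMod 11)) : Mat) = (g : Mat)ᵀ := by
  intro g hg
  induction hg using Subgroup.closure_induction with
  | mem x hx =>
    rcases hx with rfl | hx
    · rfl
    · rw [Set.mem_singleton_iff] at hx; subst hx; rfl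
  | one => simp
  | mul x y _ _ hx hy =>
    rw [_root_.mul_inv_rev, Units.val_mul, hx, hy, Units.val_mul, Matrix.transpose_mul]
  | inv x _ hx =>
    rw [inv_inv, hx, Matrix.transpose_transpose]

theorem val_inv_J1 (g : ↥J1) : (((g⁻¹ : ↥J1) : GL (Fin 7) (ZMod 11)) : Mat)
    = ((g : GL (Fin 7) (ZMod 11)) : Mat)ᵀ := by
  rw [Subgroup.coe_inv]; exact orth_J1 _ g.2

theorem val_eG (w : List Nat) : (((eG w : ↥J1) : GL (Fin 7) (ZMod 11)) : Mat) = toM (evalC w) :=
  val_evalG w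

theorem normR_rowMul (r : R7) (B : M7) : normR (rowMul r B) = rowMul r B := by
  simp only [normR, rowMul, dot]
  congr 1 <;> exact Nat.mod_mod _ _

theorem chkNc_spec (k : Nat) (hk : 0 < k) (hk2 : k < 1540) :
    chkNc (Ucodes[k]?.getD 0) = true := by
  have h := List.all_eq_true.1 chkN_all
  apply h
  have hlen : k < Ucodes.length := by rw [Ucodes_length]; exact hk2
  rw [List.getElem?_eq_getElem hlen, Option.getD_some]
  obtain ⟨k', rfl⟩ : ∃ k', k = k' + 1 := ⟨k - 1, by omega⟩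
  have h2 : k' < Ucodes.tail.length := by rw [List.length_tail]; omega
  have : Ucodes[k' + 1] = Ucodes.tail[k'] := by rw [List.getElem_tail]
  rw [this]
  exact List.getElem_mem h2

theorem rel_ba : eG wB * eG wA * (eG wB)⁻¹ = eG wA ^ 8 := by
  rw [← eG_invW, ← eG_append, ← eG_append, ← eG_powW]
  exact (eG_eq_iff _ _).2 (by decide +kernel)

theorem wB_mem_normalizer :
    eG wB ∈ Subgroup.normalizer (Subgroup.zpowers (eG wA) : Set ↥J1) := by
  apply Subgroup.mem_normalizer_fintype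
  intro n hn
  rw [SetLike.mem_coe, Subgroup.mem_zpowers_iff] at hn
  obtain ⟨k, rfl⟩ := hn
  have : eG wB * eG wA ^ k * (eG wB)⁻¹ = (eG wB * eG wA * (eG wB)⁻¹) ^ k := by
    have := map_zpow (MulAut.conj (eG wB)) (eG wA) k
    simpa [MulAut.conj_apply] using this
  rw [this, rel_ba, SetLike.mem_coe]
  exact Subgroup.zpow_mem _ (Subgroup.pow_mem _ (Subgroup.mem_zpowers _) 8) k

/-- the normaliser of `⟨a⟩` is `⟨a, b⟩` -/
theorem norm_a (γ : ↥J1)
    (hγ : γ ∈ Subgroup.normalizer (Subgroup.zpowers (eG wA) : Set ↥J1)) :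
    ∃ i j : ℕ, j < 6 ∧ γ = eG wA ^ i * eG wB ^ j := by
  obtain ⟨k, hk, i, hi, j, hj, hγe⟩ := J1_subset_SS γ.2
  refine ⟨i, j, hj, ?_⟩
  set h : ↥J1 := eG wA ^ i * eG wB ^ j with hh
  have hval : (((h : ↥J1) : GL (Fin 7) (ZMod 11)) : Mat) = toM Ac ^ i * toM Bc ^ j := by
    rw [hh, Subgroup.coe_mul, Units.val_mul, SubgroupClass.coe_pow, SubgroupClass.coe_pow,
      Units.val_pow_eq_pow_val, Units.val_pow_eq_pow_val, val_eG, val_eG]
    rfl
  set u : ↥J1 := γ * h⁻¹ with hu
  have huval : (((u : ↥J1) : GL (Fin 7) (ZMod 11)) : Mat) = toM (Uc k) := by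
    rw [hu, Subgroup.coe_mul, Units.val_mul, hγe, ← hval, mul_assoc, ← Units.val_mul,
      ← Subgroup.coe_mul, mul_inv_cancel]
    simp
  by_cases hk0 : k = 0
  · subst hk0
    rw [Uc_zero] at huval
    have : u = 1 := Subtype.ext (Units.ext huval)
    rw [hu, mul_inv_eq_one] at this
    exact this
  · exfalso
    have hhN : h ∈ Subgroup.normalizer (Subgroup.zpowers (eG wA) : Set ↥J1) :=
      Subgroup.mul_mem _
        (Subgroup.le_normalizer (Subgroup.pow_mem _ (Subgroup.mem_zpowers _) i))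
        (Subgroup.pow_mem _ wB_mem_normalizer j)
    have huN : u ∈ Subgroup.normalizer (Subgroup.zpowers (eG wA) : Set ↥J1) :=
      Subgroup.mul_mem _ hγ (Subgroup.inv_mem _ hhN)
    have h1 : u * eG wA * u⁻¹ ∈ Subgroup.zpowers (eG wA) :=
      (Subgroup.mem_normalizer_iff.1 huN (eG wA)).1 (Subgroup.mem_zpowers _)
    obtain ⟨z, hz⟩ := Subgroup.mem_zpowers_iff.1 h1
    have hcomm : (u * eG wA * u⁻¹) * eG wA = eG wA * (u * eG wA * u⁻¹) := by
      rw [← hz]; exact (Commute.zpow_self (eG wA) z).eq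
    have hm := congrArg (fun g : ↥J1 => ((g : GL (Fin 7) (ZMod 11)) : Mat)) hcomm
    simp only [Subgroup.coe_mul, Units.val_mul] at hm
    rw [val_inv_J1, huval, val_eG, show evalC wA = Ac from rfl, ← AcL_eq, ← toM_transpC,
      ← toM_mulC, ← toM_mulC, ← toM_mulC, ← toM_mulC, toM_eq_iff] at hm
    have hr := congrArg M7.r0 hm
    have hc := chkNc_spec k (Nat.pos_of_ne_zero hk0) hk
    unfold chkNc at hc
    rw [bne_iff_ne] at hc
    apply hc
    have e1 : ∀ A B : M7, (normC (mulC A B)).r0 = rowMul A.r0 B := by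
      intro A B
      show normR (rowMul A.r0 B) = _
      exact normR_rowMul _ _
    rw [e1, e1] at hr
    exact hr

end Cfsg.Agent.Lib.Helper57.J1
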