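import Cfsg.Agent.Lib.Helper57.J1Line
import Cfsg.Agent.Lib.Helper57.J1Out2
import Cfsg.Agent.Lib.Helper57.J1Mult
import Cfsg.Agent.Lib.Helper57.A5Spec

/-!
# Certified line orbits in the module of `J₁`
-/

set_option autoImplicit false
set_option maxRecDepth 1000000

namespace Cfsg.Agent.Lib.Helper57.J1

open Matrix Cfsg.Spor CentAbs

/-! ### the two certified trees -/

/-- the fixed vector of the element of order 7 -/
def P7 : R7 := ⟨1,1,1,1,1,1,1⟩
/-- the fixed vector of the element of order 11 -/
def P11 : R7 := ⟨1,10,3,5,0,7,6⟩

theorem chk_tree7 : chkVT P7 lineTree7 = true := by decide +kernel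
theorem len_tree7 : (codesVT lineTree7).length = 4180 := by decide +kernel
theorem canon_tree7 :
    (codesVT lineTree7).all (fun c => canonL (decRow c).toList) = true := by decide +kernel
theorem enc_tree7 :
    (codesVT lineTree7).all (fun c => Nat.beq (encRow (decRow c)) c) = true := by decide +kernel
theorem dist_tree7 : (List.range 64).all (fun r => distinctL ((codesVT lineTree7).filter
    (fun c => Nat.beq (Nat.mod c 64) r))) = true := by decide +kernel

theorem chk_tree11 : chkVT P11 lineTree11 = true := by decide +kernel
theorem len_tree11 : (codesVT lineTree11).length = 1596 := by decide +kernel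
theorem canon_tree11 :
    (codesVT lineTree11).all (fun c => canonL (decRow c).toList) = true := by decide +kernel
theorem enc_tree11 :
    (codesVT lineTree11).all (fun c => Nat.beq (encRow (decRow c)) c) = true := by decide +kernel
theorem dist_tree11 : (List.range 64).all (fun r => distinctL ((codesVT lineTree11).filter
    (fun c => Nat.beq (Nat.mod c 64) r))) = true := by decide +kernel

theorem card_stab7 : Nat.card (lineStab J1 (toV P7)) ≤ 7 * 6 := by
  have := card_lineStab_le_of_tree lineTree7 P7 4180 chk_tree7 len_tree7 canon_tree7 enc_tree7
    dist_tree7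
  omega

theorem card_stab11 : Nat.card (lineStab J1 (toV P11)) ≤ 11 * 10 := by
  have := card_lineStab_le_of_tree lineTree11 P11 1596 chk_tree11 len_tree11 canon_tree11
    enc_tree11 dist_tree11
  omega

end Cfsg.Agent.Lib.Helper57.J1
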