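import Cfsg.Agent.Lib.Helper57.J1Simple

/-!
# The normaliser of the Sylow 19-subgroup of `J₁`: the computational check
-/

set_option autoImplicit false
set_option maxRecDepth 1000000

namespace Cfsg.Agent.Lib.Helper57.J1

/-- the element of order 19, as a literal -/
def AcL : M7 := ⟨⟨10,8,10,8,8,2,10⟩,⟨8,10,8,8,2,10,10⟩,⟨1,3,3,9,1,1,3⟩,⟨3,3,9,1,1,3,1⟩,⟨8,2,10,10,8,10,8⟩,⟨9,1,1,3,1,3,3⟩,⟨10,10,8,10,8,8,2⟩⟩

theorem AcL_eq : AcL = Ac := by decide +kernel

/-- for the coset representative with code `c`: `u a u⁻¹` does not commute with `a` -/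
def chkNc (c : Nat) : Bool :=
  rowMul (mulC (mulC (dec c) AcL) (transpC (dec c))).r0 AcL
    != rowMul AcL.r0 (mulC (mulC (dec c) AcL) (transpC (dec c)))

theorem chkN_all : Ucodes.tail.all chkNc = true := by decide +kernel

end Cfsg.Agent.Lib.Helper57.J1
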