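import Cfsg.Agent.Lib.Helper57.J1Out2
import Cfsg.Agent.Lib.Helper57.J1Cent
import Cfsg.Agent.Lib.Helper89.A5Pres

/-!
# Outer automorphisms of `J₁`: the data and the final computational check
-/

set_option autoImplicit false
set_option maxRecDepth 1000000

namespace Cfsg.Agent.Lib.Helper57.J1

open Cfsg.Agent.Lib.Helper89

/-- the conjugating element -/
def wg0 : List Nat := [1, 2, 2, 1, 0, 0, 0, 1, 0, 0, 1]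

/-- the new element of order 19 -/
def wA' : List Nat := wg0 ++ wA ++ invW wg0

/-- the new element of order 6, whose cube is `tG` -/
def wB' : List Nat := wT ++ wX3

/-- the third generator, an involution inverting `b'` -/
def wS : List Nat := [3, 0, 0, 0, 1, 0, 0, 0]

def tGL : M7 := ⟨⟨5,3,3,4,3,4,4⟩,⟨3,4,8,8,8,0,9⟩,⟨3,8,4,0,8,9,8⟩,⟨4,8,0,5,9,1,1⟩,⟨3,8,8,9,4,8,0⟩,⟨4,0,9,1,8,5,1⟩,⟨4,9,8,1,0,1,5⟩⟩
def cXL : M7 := ⟨⟨5,5,5,0,9,8,1⟩,⟨0,7,3,2,8,2,5⟩,⟨7,7,3,2,6,4,5⟩,⟨8,8,4,9,5,10,6⟩,⟨9,9,9,10,3,10,0⟩,⟨8,6,6,8,10,4,9⟩,⟨9,7,10,10,7,3,3⟩⟩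
def cYL : M7 := ⟨⟨1,3,7,3,7,0,4⟩,⟨7,2,5,10,9,6,6⟩,⟨3,4,9,5,2,4,9⟩,⟨0,4,5,0,6,5,8⟩,⟨7,9,8,4,5,5,7⟩,⟨4,9,7,4,6,8,5⟩,⟨3,5,4,0,10,0,4⟩⟩
def ApL : M7 := ⟨⟨5,9,1,8,7,8,5⟩,⟨0,1,3,0,9,7,9⟩,⟨9,1,4,9,0,7,9⟩,⟨7,3,3,7,7,0,10⟩,⟨8,8,5,2,2,1,2⟩,⟨10,10,5,0,2,4,8⟩,⟨1,3,2,1,1,3,3⟩⟩
def BpL : M7 := ⟨⟨8,2,7,7,8,2,8⟩,⟨2,1,3,2,3,9,6⟩,⟨6,6,4,3,10,9,3⟩,⟨4,1,7,4,4,8,9⟩,⟨1,8,7,8,1,3,0⟩,⟨3,2,9,3,0,5,4⟩,⟨5,1,10,2,8,1,9⟩⟩
def SL : M7 := ⟨⟨4,0,8,9,8,3,8⟩,⟨0,5,9,1,1,4,8⟩,⟨8,9,4,8,0,3,8⟩,⟨9,1,8,5,1,4,0⟩,⟨8,1,0,1,5,4,9⟩,⟨3,4,3,4,4,5,3⟩,⟨8,8,8,0,9,3,4⟩⟩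

theorem lits_eq : tGL = evalC wT ∧ cXL = evalC wX3 ∧ cYL = evalC wY5 ∧ ApL = evalC wA' ∧
    BpL = evalC wB' ∧ SL = evalC wS := by decide +kernel

/-- matrix version of the evaluation of a word in two generators -/
def evM (Xm Ym : M7) : List (Fin 2) → M7
  | [] => I7
  | k :: w => mulC (if k = 0 then Xm else Ym) (evM Xm Ym w)

/-- the list of the 60 normal form words of `A₅` -/
def nfwL : List (List (Fin 2)) := List.ofFn A5Pres.nfw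

/-- the candidate `tG ^ ε * w(cX, cY)` -/
def candM (ε : Nat) (w : List (Fin 2)) : M7 := mulC (powC tGL ε) (evM cXL cYL w)

/-- the third relation, for `a ↦ a ^ m`, `s ↦ S'` -/
def rel3 (m : Nat) (S' : M7) : Bool :=
  normC (powC (mulC (mulC (powC ApL (2 * m)) (powC BpL 2)) S') 5) == I7

/-- the pair `(m, S')` comes from conjugation by a power of `b'` -/
def goodOK (m : Nat) (S' : M7) : Bool :=
  (List.range 6).any fun j => (m == 8 ^ j % 19) &&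
    (normC S' == normC (mulC (mulC (powC BpL j) SL) (transpC (powC BpL j))))

/-- the check for one candidate -/
def chkCand (S' : M7) : Bool :=
  !((normC (mulC S' S') == I7) && (normC (mulC (mulC S' BpL) S') == normC (transpC BpL))) ||
  (List.range' 1 18).all fun m => !(rel3 m S') || goodOK m S'

theorem fin_check : ∀ ε ∈ [0, 1], ∀ w ∈ nfwL, chkCand (candM ε w) = true := by decide +kernel

end Cfsg.Agent.Lib.Helper57.J1
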