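import Cfsg.Agent.Lib.Helper57.J1LineCheck
import Cfsg.Agent.Lib.Helper57.J1Out2
import Cfsg.Agent.Lib.Helper57.J1Mult
import Cfsg.Agent.Lib.Helper57.A5Spec

/-!
# The set of element orders of `J₁`
-/

set_option autoImplicit false
set_option maxRecDepth 1000000

namespace Cfsg.Agent.Lib.Helper57.J1

open Matrix Cfsg.Spor CentAbs

/-! ### fixed spaces -/

/-- a certificate that the fixed space of a matrix is spanned by `P` -/
theorem fix_of_cert (Mc Nc : M7) (P : R7) (k : Fin 7)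
    (hcert : toM Nc * toM Mc + (Matrix.of fun i j => if j = k then toV P i else 0)
      = 1 + toM Nc)
    (v : Fin 7 → ZMod 11) (hv : (toM Mc).mulVec v = v) : ∃ c : ZMod 11, v = c • toV P := by
  refine ⟨v k, ?_⟩
  have h1 := congrArg (fun A : Mat => A.mulVec v) hcert
  simp only [Matrix.add_mulVec, Matrix.one_mulVec] at h1
  rw [← Matrix.mulVec_mulVec, hv] at h1
  have h2 : (Matrix.of fun i j => if j = k then toV P i else 0 : Mat).mulVec v = v k • toV P := by
    ext i
    simp [Matrix.mulVec, dotProduct, mul_comm]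
  rw [h2, add_comm] at h1
  exact (add_right_cancel h1).symm

def N7c : M7 := ⟨⟨0,0,0,0,0,0,0⟩,⟨1,0,0,0,0,0,0⟩,⟨1,1,0,0,0,0,0⟩,⟨1,1,1,0,0,0,0⟩,⟨1,1,1,1,0,0,0⟩,
  ⟨1,1,1,1,1,0,0⟩,⟨1,1,1,1,1,1,0⟩⟩

def N11c : M7 := ⟨⟨0,0,0,0,0,0,0⟩,⟨1,9,7,6,0,1,0⟩,⟨10,0,3,8,5,4,0⟩,⟨3,1,3,2,2,8,0⟩,
  ⟨3,8,4,2,5,6,0⟩,⟨1,1,4,5,4,4,0⟩,⟨4,8,10,8,7,3,0⟩⟩

theorem cert7 : toM N7c * toM (evalC [0]) + (Matrix.of fun i j => if j = 0 then toV P7 i else 0)
    = 1 + toM N7c := by decide +kernel

theorem cert11 : toM N11c * toM (evalC w11) + (Matrix.of fun i j => if j = 0 then toV P11 i else 0)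
    = 1 + toM N11c := by decide +kernel

/-! ### the centralisers of the elements of orders 7, 11 and 19 -/

theorem val_eG' (w : List Nat) : (((eG w : ↥J1) : GL (Fin 7) (ZMod 11)) : Mat) = toM (evalC w) :=
  val_evalG w

theorem toV_ne_zero (P : R7) (h : P.a0 = 1) : toV P ≠ 0 := by
  intro e
  have := congrFun e 0
  simp only [toV, Pi.zero_apply] at this
  have h0 : P.get 0 = 1 := h
  rw [h0] at this
  revert this
  decide

/-- the element normalising `⟨x⟩` -/
def wN7 : List Nat := [3, 2, 2, 3, 2, 3, 2, 3, 0, 1, 1, 0, 1, 0, 0, 0, 0, 1]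
/-- the element normalising `⟨w11⟩` -/
def wN11 : List Nat := [3, 3, 3, 3, 0, 1, 1, 0, 1, 0, 0]

theorem rel7 : eG wN7 * eG [0] * (eG wN7)⁻¹ = eG [0] ^ 5 := by
  rw [← eG_invW, ← eG_append, ← eG_append, ← eG_powW]
  exact (eG_eq_iff _ _).2 (by decide +kernel)

theorem rel11 : eG wN11 * eG w11 * (eG wN11)⁻¹ = eG w11 ^ 8 := by
  rw [← eG_invW, ← eG_append, ← eG_append, ← eG_powW]
  exact (eG_eq_iff _ _).2 (by decide +kernel)

theorem mem_stab_of (w : List Nat) (P : R7) (c : Nat) (hc : Nat.mod c 11 ≠ 0)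
    (h : mulVecC (evalC w) P = scaleC c P) : eG w ∈ lineStab J1 (toV P) := by
  refine ⟨(c : ZMod 11), ?_, ?_⟩
  · rw [Ne, ZMod.natCast_eq_zero_iff]
    intro hd
    exact hc (Nat.mod_eq_zero_of_dvd hd)
  · rw [val_eG', ← toV_mulVecC, h, toV_scaleC]

theorem fixed_of (w : List Nat) (P : R7) (h : mulVecC (evalC w) P = P) :
    (((eG w : ↥J1) : GL (Fin 7) (ZMod 11)) : Mat).mulVec (toV P) = toV P := by
  rw [val_eG', ← toV_mulVecC, h]

theorem hr7 : ∀ j, 0 < j → j < 6 → ¬ 7 ∣ 5 ^ j - 1 := by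
  intro j h0 h6
  interval_cases j <;> norm_num

theorem hr11 : ∀ j, 0 < j → j < 10 → ¬ 11 ∣ 8 ^ j - 1 := by
  intro j h0 h6
  interval_cases j <;> norm_num

theorem hr19 : ∀ j, 0 < j → j < 6 → ¬ 19 ∣ 8 ^ j - 1 := by
  intro j h0 h6
  interval_cases j <;> norm_num

/-- the centraliser of the element of order 7 -/
theorem cent_x (g : ↥J1) (hg : g * eG [0] = eG [0] * g) : g ∈ Subgroup.zpowers (eG [0]) := by
  have hx0 := fixed_of [0] P7 (by decide +kernel)
  have hS : g ∈ lineStab J1 (toV P7) :=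
    cent_le_lineStab J1 (toV P7) (toV_ne_zero P7 rfl) (eG [0]) hx0
      (fun v hv => fix_of_cert (evalC [0]) N7c P7 0 cert7 v (by rw [← val_eG']; exact hv)) g hg
  have hxS : eG [0] ∈ lineStab J1 (toV P7) := mem_stab_of [0] P7 1 (by decide) (by decide +kernel)
  have hnS : eG wN7 ∈ lineStab J1 (toV P7) :=
    mem_stab_of wN7 P7 10 (by decide) (by decide +kernel)
  have hform := normal_form_of_card_le (lineStab J1 (toV P7)) hxS hnS order_x rel7
    (by norm_num) hr7 card_stab7 g hS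
  exact mem_zpowers_of_normal_form order_x rel7 (by norm_num) hr7 g hg hform

/-- the centraliser of the element of order 11 -/
theorem cent_w11 (g : ↥J1) (hg : g * eG w11 = eG w11 * g) : g ∈ Subgroup.zpowers (eG w11) := by
  have hx0 := fixed_of w11 P11 (by decide +kernel)
  have hS : g ∈ lineStab J1 (toV P11) :=
    cent_le_lineStab J1 (toV P11) (toV_ne_zero P11 rfl) (eG w11) hx0
      (fun v hv => fix_of_cert (evalC w11) N11c P11 0 cert11 v (by rw [← val_eG']; exact hv)) g hg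
  have hxS : eG w11 ∈ lineStab J1 (toV P11) :=
    mem_stab_of w11 P11 1 (by decide) (by decide +kernel)
  have hnS : eG wN11 ∈ lineStab J1 (toV P11) :=
    mem_stab_of wN11 P11 6 (by decide) (by decide +kernel)
  have hform := normal_form_of_card_le (lineStab J1 (toV P11)) hxS hnS order_w11 rel11
    (by norm_num) hr11 card_stab11 g hS
  exact mem_zpowers_of_normal_form order_w11 rel11 (by norm_num) hr11 g hg hform

theorem mem_normalizer_zpowers_of_comm {X : Type*} [Group X] {g c : X} (h : g * c = c * g) :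
    g ∈ Subgroup.normalizer (Subgroup.zpowers c : Set X) := by
  have hx : ∀ y ∈ Subgroup.zpowers c, g * y * g⁻¹ = y := by
    intro y hy
    obtain ⟨k, rfl⟩ := Subgroup.mem_zpowers_iff.1 hy
    have : Commute g (c ^ k) := (show Commute g c from h).zpow_right k
    rw [this.eq, mul_assoc, mul_inv_cancel, mul_one]
  rw [Subgroup.mem_normalizer_iff]
  intro x
  constructor
  · intro hx'; rw [hx x hx']; exact hx'
  · intro hx'
    have h2 := hx _ hx'
    have h3 : g * x * g⁻¹ = x := by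
      have := congrArg (fun t => g⁻¹ * t * g) h2
      simpa [mul_assoc] using this
    rw [← h3]; exact hx'

/-- the centraliser of the element of order 19 -/
theorem cent_w19 (g : ↥J1) (hg : g * eG w19 = eG w19 * g) : g ∈ Subgroup.zpowers (eG w19) := by
  have hN : g ∈ Subgroup.normalizer (Subgroup.zpowers (eG wA) : Set ↥J1) :=
    mem_normalizer_zpowers_of_comm hg
  obtain ⟨i, j, hj, hform⟩ := norm_a g hN
  exact mem_zpowers_of_normal_form (x := eG w19) (n := eG wB) order_w19 rel_ba (by norm_num) hr19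
    g hg ⟨i, j, hj, hform⟩

/-! ### elements of order 4 and 30 -/

theorem index_zpowers_eG (w : List Nat) (q m : ℕ) (ho : orderOf (eG w) = q) (hq : 0 < q)
    (hm : m * q = 175560) : (Subgroup.zpowers (eG w)).index = m := by
  have h := (Subgroup.zpowers (eG w)).index_mul_card
  rw [Nat.card_zpowers, ho, card_J1, ← hm] at h
  exact Nat.eq_of_mul_eq_mul_right hq h

theorem no_order_four (g : ↥J1) : orderOf g ≠ 4 := by
  intro hg
  have : Fact (Nat.Prime 2) := ⟨Nat.prime_two⟩
  have hE : IsPGroup 2 E := IsPGroup.of_card (n := 3) (by rw [card_E]; norm_num)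
  have hidx : ¬ 2 ∣ E.index := by
    have h := Subgroup.card_mul_index E
    rw [card_E, card_J1] at h
    have : E.index = 21945 := by omega
    rw [this]; norm_num
  have hZ : IsPGroup 2 (Subgroup.zpowers g) :=
    IsPGroup.of_card (n := 2) (by rw [Nat.card_zpowers, hg]; norm_num)
  obtain ⟨Q, hQ⟩ := hZ.exists_le_sylow
  obtain ⟨c, hc⟩ := MulAction.exists_smul_eq ↥J1 Q (hE.toSylow hidx)
  have hgQ : g ∈ (Q : Subgroup ↥J1) := hQ (Subgroup.mem_zpowers g)
  have h1 : c * g * c⁻¹ ∈ ((c • Q : Sylow 2 ↥J1) : Subgroup ↥J1) := by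
    rw [Sylow.coe_subgroup_smul]
    have := Subgroup.smul_mem_pointwise_smul g (MulAut.conj c) (Q : Subgroup ↥J1) hgQ
    simpa [MulAut.smul_def] using this
  rw [hc, IsPGroup.toSylow_coe, mem_E] at h1
  obtain ⟨w, hw, e⟩ := h1
  have h2 : (c * g * c⁻¹) ^ 2 = 1 := by
    rw [e, pow_two, ← eG_append]
    exact (eG_eq_one_iff _).2 (Elist_sq w hw)
  rw [_root_.conj_pow] at h2
  have h3 : g ^ 2 = 1 := by
    have := congrArg (fun z => c⁻¹ * z * c) h2
    simpa [mul_assoc] using this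
  have := orderOf_dvd_of_pow_eq_one h3
  rw [hg] at this
  norm_num at this

/-- all involutions are conjugate -/
theorem conj_tG (g : ↥J1) (hg : orderOf g = 2) : ∃ c : ↥J1, c * g * c⁻¹ = tG := by
  obtain ⟨c, w, hw, hne, e⟩ := exists_conj_mem_E g hg
  have hE : eG w ∈ E := ⟨w, hw, rfl⟩
  rcases E_orbit _ hE with h1 | ⟨k, hk⟩
  · exfalso
    rw [h1] at e
    have : g = 1 := by
      have := congrArg (fun z => c⁻¹ * z * c) e
      simpa [mul_assoc] using this
    rw [this, orderOf_one] at hg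
    norm_num at hg
  · refine ⟨(eG [0] ^ k)⁻¹ * c, ?_⟩
    have h2 : c * g * c⁻¹ = eG [0] ^ k * tG * (eG [0] ^ k)⁻¹ := by
      rw [e, hk]; rfl
    calc (eG [0] ^ k)⁻¹ * c * g * ((eG [0] ^ k)⁻¹ * c)⁻¹
        = (eG [0] ^ k)⁻¹ * (c * g * c⁻¹) * (eG [0] ^ k) := by group
      _ = tG := by rw [h2]; group

theorem no_order_thirty (g : ↥J1) : orderOf g ≠ 30 := by
  intro hg
  have h15 : orderOf (g ^ 15) = 2 := by
    have := orderOf_pow_orderOf_div (x := g) (n := 2) (by rw [hg]; norm_num) (by rw [hg]; norm_num)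
    rwa [hg] at this
  obtain ⟨c, hc⟩ := conj_tG _ h15
  set g' : ↥J1 := c * g * c⁻¹ with hg'
  have hg'o : orderOf g' = 30 := by
    have : g' = MulAut.conj c g := by simp [hg', MulAut.conj_apply]
    rw [this, MulEquiv.orderOf_eq, hg]
  have hpow : g' ^ 15 = tG := by rw [hg', _root_.conj_pow, hc]
  have hmem : g' ∈ Subgroup.centralizer ({tG} : Set ↥J1) := by
    rw [Subgroup.mem_centralizer_iff]
    intro h hh
    rw [Set.mem_singleton_iff] at hh
    subst hh
    rw [← hpow, ← pow_succ, ← pow_succ']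
  obtain ⟨e⟩ := cent_iso
  set y := e ⟨g', hmem⟩ with hy
  have hyo : orderOf y = 30 := by
    rw [hy, MulEquiv.orderOf_eq, Subgroup.orderOf_mk, hg'o]
  rw [Prod.orderOf] at hyo
  have h1 : orderOf y.1 ∣ 2 := by
    have := orderOf_dvd_natCard y.1
    rwa [Nat.card_eq_fintype_card, Fintype.card_multiplicative, ZMod.card] at this
  have h1' : orderOf y.1 = 1 ∨ orderOf y.1 = 2 := (Nat.dvd_prime Nat.prime_two).1 h1
  rcases h1' with h1' | h1' <;> rcases Cfsg.Agent.Lib.Helper57.orderOf_A5 y.2 with h2 | h2 | h2 | h2 <;>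
    rw [h1', h2] at hyo <;> revert hyo <;> decide

/-! ### the spectrum -/

theorem small_orders : ∀ n : Fin 121, (n : ℕ) ∣ 120 → ¬ 4 ∣ (n : ℕ) → (n : ℕ) ≠ 30 →
    ((n : ℕ) = 1 ∨ (n : ℕ) = 2 ∨ (n : ℕ) = 3 ∨ (n : ℕ) = 5 ∨ (n : ℕ) = 6 ∨ (n : ℕ) = 10 ∨
      (n : ℕ) = 15) := by decide

/-- the order of every element of `J₁` is one of `1, 2, 3, 5, 6, 7, 10, 11, 15, 19` -/
theorem orderOf_mem_spec (g : ↥J1) :
    orderOf g ∈ ({1, 2, 3, 5, 6, 7, 10, 11, 15, 19} : Set ℕ) := by
  have hn : orderOf g ∣ 175560 := by rw [← card_J1]; exact orderOf_dvd_natCard g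
  by_cases h19 : 19 ∣ orderOf g
  · have := orderOf_eq_of_dvd (eG w19) 19 order_w19
      (by rw [index_zpowers_eG w19 19 9240 order_w19 (by norm_num) (by norm_num)]; norm_num)
      cent_w19 g h19
    rw [this]; simp
  by_cases h11 : 11 ∣ orderOf g
  · have := orderOf_eq_of_dvd (eG w11) 11 order_w11
      (by rw [index_zpowers_eG w11 11 15960 order_w11 (by norm_num) (by norm_num)]; norm_num)
      cent_w11 g h11
    rw [this]; simp
  by_cases h7 : 7 ∣ orderOf g
  · have := orderOf_eq_of_dvd (eG [0]) 7 order_x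
      (by rw [index_zpowers_eG [0] 7 25080 order_x (by norm_num) (by norm_num)]; norm_num)
      cent_x g h7
    rw [this]; simp
  have hcop : Nat.Coprime (orderOf g) 1463 := by
    rw [show 1463 = 7 * (11 * 19) from rfl]
    apply Nat.Coprime.mul_right
    · exact ((Nat.Prime.coprime_iff_not_dvd (by norm_num)).2 h7).symm
    apply Nat.Coprime.mul_right
    · exact ((Nat.Prime.coprime_iff_not_dvd (by norm_num)).2 h11).symm
    · exact ((Nat.Prime.coprime_iff_not_dvd (by norm_num)).2 h19).symm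
  have h120 : orderOf g ∣ 120 := by
    rw [show 175560 = 120 * 1463 from rfl] at hn
    exact hcop.dvd_of_dvd_mul_right hn
  have h4 : ¬ 4 ∣ orderOf g := by
    intro h4
    exact no_order_four _ (orderOf_pow_orderOf_div (orderOf_pos g).ne' h4)
  have hlt : orderOf g < 121 := by
    have := Nat.le_of_dvd (by norm_num) h120
    omega
  have hso : orderOf g = 1 ∨ orderOf g = 2 ∨ orderOf g = 3 ∨ orderOf g = 5 ∨ orderOf g = 6 ∨
      orderOf g = 10 ∨ orderOf g = 15 := small_orders ⟨orderOf g, hlt⟩ h120 h4 (no_order_thirty g)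
  rcases hso with h | h | h | h | h | h | h <;> rw [h] <;> simp

theorem orderOf_eG_of (w : List Nat) (n : ℕ) (hn : 0 < n)
    (h1 : normC (evalC (powW w n)) = I7)
    (h2 : ∀ p : ℕ, p.Prime → p ∣ n → normC (evalC (powW w (n / p))) ≠ I7) :
    orderOf (eG w) = n := by
  apply orderOf_eq_of_pow_and_pow_div_prime hn
  · rw [← eG_powW]; exact (eG_eq_one_iff _).2 h1
  · intro p hp hd
    rw [← eG_powW]
    intro h
    exact h2 p hp hd ((eG_eq_one_iff _).1 h)

theorem order_six : orderOf (eG [0, 1, 1, 1]) = 6 := by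
  apply orderOf_eG_of _ 6 (by norm_num) (by decide +kernel)
  intro p hp hd
  have hle : p ≤ 6 := Nat.le_of_dvd (by norm_num) hd
  interval_cases p
  · norm_num at hp
  · norm_num at hp
  · decide +kernel
  · decide +kernel
  · norm_num at hp
  · norm_num at hd
  · norm_num at hp

theorem order_ten : orderOf (eG [0, 1]) = 10 := by
  apply orderOf_eG_of _ 10 (by norm_num) (by decide +kernel)
  intro p hp hd
  have hle : p ≤ 10 := Nat.le_of_dvd (by norm_num) hd
  interval_cases p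
  · norm_num at hp
  · norm_num at hp
  · decide +kernel
  · norm_num at hd
  · norm_num at hp
  · decide +kernel
  · norm_num at hp
  · norm_num at hd
  · norm_num at hp
  · norm_num at hp
  · norm_num at hp

theorem order_fifteen : orderOf (eG [0, 0, 1, 1, 0, 1, 0, 1, 1]) = 15 := by
  apply orderOf_eG_of _ 15 (by norm_num) (by decide +kernel)
  intro p hp hd
  have hle : p ≤ 15 := Nat.le_of_dvd (by norm_num) hd
  interval_cases p
  · norm_num at hp
  · norm_num at hp
  · norm_num at hd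
  · decide +kernel
  · norm_num at hp
  · decide +kernel
  · norm_num at hp
  · norm_num at hd
  · norm_num at hp
  · norm_num at hp
  · norm_num at hp
  · norm_num at hd
  · norm_num at hp
  · norm_num at hd
  · norm_num at hp
  · norm_num at hp

/-- the set of element orders of `J₁` -/
theorem spectrum_J1 :
    Set.range (orderOf : ↥J1 → ℕ) = {1, 2, 3, 5, 6, 7, 10, 11, 15, 19} := by
  apply Set.eq_of_subset_of_subset
  · rintro _ ⟨g, rfl⟩
    exact orderOf_mem_spec g
  · intro n hn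
    simp only [Set.mem_insert_iff, Set.mem_singleton_iff] at hn
    rcases hn with rfl | rfl | rfl | rfl | rfl | rfl | rfl | rfl | rfl | rfl
    · exact ⟨1, orderOf_one⟩
    · exact ⟨tG, order_tG⟩
    · exact ⟨_, order_w3⟩
    · exact ⟨_, order_y⟩
    · exact ⟨_, order_six⟩
    · exact ⟨_, order_x⟩
    · exact ⟨_, order_ten⟩
    · exact ⟨_, order_w11⟩
    · exact ⟨_, order_fifteen⟩
    · exact ⟨_, order_w19⟩

end Cfsg.Agent.Lib.Helper57.J1
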