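import Cfsg.Agent.Lib.Helper57.J3Code

/-!
# Fast kernel-level versions of the code operations for `3·J₃`
-/

set_option autoImplicit false

namespace Cfsg.Agent.Lib.Helper57.J3

open Matrix Cfsg.Spor Cfsg.Agent.Lib.Helper57.Hexa

/-! ### loops by halving, written with the recursor -/

/-- `p` holds on `[s, s + 2^k)` -/
def allR (p : ℕ → Bool) (k : ℕ) : ℕ → Bool :=
  Nat.rec (motive := fun _ => ℕ → Bool) (fun s => p s)
    (fun k ih s => and (ih s) (ih (Nat.add s (Nat.pow 2 k)))) k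

theorem allR_zero (p : ℕ → Bool) (s : ℕ) : allR p 0 s = p s := rfl

theorem allR_succ (p : ℕ → Bool) (k s : ℕ) :
    allR p (k + 1) s = (allR p k s && allR p k (s + 2 ^ k)) := rfl

theorem allR_spec (p : ℕ → Bool) : ∀ k s, allR p k s = true →
    ∀ i, s ≤ i → i < s + 2 ^ k → p i = true := by
  intro k
  induction k with
  | zero =>
    intro s h i h1 h2
    have : i = s := by simp at h2; omega
    subst this
    exact h
  | succ k ih =>
    intro s h i h1 h2
    rw [allR_succ, Bool.and_eq_true] at h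
    by_cases hi : i < s + 2 ^ k
    · exact ih s h.1 i h1 hi
    · refine ih (s + 2 ^ k) h.2 i (by omega) ?_
      rw [pow_succ] at h2
      omega

theorem allR_range (p : ℕ → Bool) (k : ℕ) (h : allR p k 0 = true) : ∀ i < 2 ^ k, p i = true :=
  fun i hi => allR_spec p k 0 h i (Nat.zero_le _) (by rwa [Nat.zero_add])

/-- the number of `i` in `[s, s + 2^k)` where `p` holds -/
def cntR (p : ℕ → Bool) (k : ℕ) : ℕ → ℕ :=
  Nat.rec (motive := fun _ => ℕ → ℕ) (fun s => cond (p s) 1 0)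
    (fun k ih s => Nat.add (ih s) (ih (Nat.add s (Nat.pow 2 k)))) k

theorem cntR_zero (p : ℕ → Bool) (s : ℕ) : cntR p 0 s = cond (p s) 1 0 := rfl

theorem cntR_succ (p : ℕ → Bool) (k s : ℕ) :
    cntR p (k + 1) s = cntR p k s + cntR p k (s + 2 ^ k) := rfl

theorem cntR_spec (p : ℕ → Bool) : ∀ k s,
    cntR p k s = ((Finset.Ico s (s + 2 ^ k)).filter fun i => p i = true).card := by
  intro k
  induction k with
  | zero =>
    intro s
    simp only [cntR_zero, pow_zero, Nat.Ico_succ_singleton]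
    by_cases h : p s = true
    · simp [h, Finset.filter_singleton]
    · simp [h, Finset.filter_singleton]
  | succ k ih =>
    intro s
    have hsplit : Finset.Ico s (s + 2 ^ (k + 1)) =
        Finset.Ico s (s + 2 ^ k) ∪ Finset.Ico (s + 2 ^ k) (s + 2 ^ k + 2 ^ k) := by
      rw [Finset.Ico_union_Ico_eq_Ico (Nat.le_add_right _ _) (Nat.le_add_right _ _)]
      congr 1
      rw [pow_succ]; omega
    rw [cntR_succ, ih, ih, hsplit, Finset.filter_union, Finset.card_union_of_disjoint]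
    apply Finset.disjoint_filter_filter
    exact Finset.Ico_disjoint_Ico_consecutive _ _ _

theorem cntR_range (p : ℕ → Bool) (k : ℕ) :
    cntR p k 0 = ((Finset.range (2 ^ k)).filter fun i => p i = true).card := by
  rw [cntR_spec, Nat.zero_add, Finset.range_eq_Ico]

/-! ### three coordinates at a time -/

/-- the entry of a table by blocks of three coordinates -/
def entry3 (T b v : ℕ) : ℕ := (T >>> (v * 18 + 1152 * b)) &&& 262143

/-- the `b`-th block of three coordinates of a code -/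
def blk (c b : ℕ) : ℕ := (c >>> (6 * b)) &&& 63

theorem blk_lt (c b : ℕ) : blk c b < 64 := Nat.and_lt_two_pow _ (n := 6) (by norm_num)

/-- the action of a table by blocks on a code -/
def app3 (T c : ℕ) : ℕ :=
  Nat.xor (Nat.land (Nat.shiftRight T (Nat.mul (Nat.land c 63) 18)) 262143)
   (Nat.xor (Nat.land (Nat.shiftRight T
      (Nat.add (Nat.mul (Nat.land (Nat.shiftRight c 6) 63) 18) 1152)) 262143)
    (Nat.land (Nat.shiftRight T
      (Nat.add (Nat.mul (Nat.land (Nat.shiftRight c 12) 63) 18) 2304)) 262143))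

theorem app3_eq (T c : ℕ) : app3 T c =
    entry3 T 0 (blk c 0) ^^^ (entry3 T 1 (blk c 1) ^^^ entry3 T 2 (blk c 2)) := rfl

theorem app3_lt (T c : ℕ) : app3 T c < 2 ^ 18 := by
  rw [app3_eq]
  have h (b v : ℕ) : entry3 T b v < 2 ^ 18 := Nat.and_lt_two_pow _ (n := 18) (by norm_num)
  exact Nat.xor_lt_two_pow (h _ _) (Nat.xor_lt_two_pow (h _ _) (h _ _))

/-- the table by blocks `T3` agrees with the table `T` -/
def IsTab3 (T T3 : ℕ) : Prop := ∀ b < 3, ∀ v < 64,
  entry3 T3 b v = entry T (3 * b) (v &&& 3) ^^^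
    (entry T (3 * b + 1) ((v >>> 2) &&& 3) ^^^ entry T (3 * b + 2) ((v >>> 4) &&& 3))

instance (T T3 : ℕ) : Decidable (IsTab3 T T3) := by
  unfold IsTab3; infer_instance

theorem coord_blk (c b t : ℕ) (ht : t ≤ 2) :
    ((blk c b) >>> (2 * t)) &&& 3 = coord c (3 * b + t) := by
  apply Nat.eq_of_testBit_eq
  intro i
  have h3 : (3 : ℕ).testBit i = decide (i < 2) := Nat.testBit_two_pow_sub_one 2 i
  have h63 : (63 : ℕ).testBit (2 * t + i) = decide (2 * t + i < 6) :=
    Nat.testBit_two_pow_sub_one 6 _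
  simp only [blk, coord, Nat.testBit_and, Nat.testBit_shiftRight, h3, h63]
  by_cases hi : i < 2
  · have h1 : 2 * t + i < 6 := by omega
    have h2 : 6 * b + (2 * t + i) = 2 * (3 * b + t) + i := by ring
    simp only [hi, h1, h2, decide_true, Bool.and_true]
  · simp only [hi, decide_false, Bool.and_false]

theorem app3_eq_app {T T3 : ℕ} (h : IsTab3 T T3) (c : ℕ) : app3 T3 c = app T c := by
  have e0 := coord_blk c 0 0 (by norm_num)
  have e1 := coord_blk c 0 1 (by norm_num)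
  have e2 := coord_blk c 0 2 (by norm_num)
  have e3 := coord_blk c 1 0 (by norm_num)
  have e4 := coord_blk c 1 1 (by norm_num)
  have e5 := coord_blk c 1 2 (by norm_num)
  have e6 := coord_blk c 2 0 (by norm_num)
  have e7 := coord_blk c 2 1 (by norm_num)
  have e8 := coord_blk c 2 2 (by norm_num)
  simp only [Nat.mul_zero, Nat.shiftRight_zero, Nat.mul_one, Nat.zero_add, Nat.reduceMul,
    Nat.reduceAdd] at e0 e1 e2 e3 e4 e5 e6 e7 e8
  rw [app3_eq, h 0 (by norm_num) _ (blk_lt _ _), h 1 (by norm_num) _ (blk_lt _ _),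
    h 2 (by norm_num) _ (blk_lt _ _)]
  simp only [Nat.mul_zero, Nat.zero_add, Nat.mul_one, Nat.reduceMul, Nat.reduceAdd]
  rw [e0, e1, e2, e3, e4, e5, e6, e7, e8]
  simp only [app, Nat.xor_assoc, Nat.xor_zero]

/-! ### isotropic codes -/

/-- XOR of the bits in even positions -/
def isoM (m : ℕ) : ℕ :=
  Nat.xor m (Nat.xor (Nat.shiftRight m 2) (Nat.xor (Nat.shiftRight m 4)
    (Nat.xor (Nat.shiftRight m 6) (Nat.xor (Nat.shiftRight m 8) (Nat.xor (Nat.shiftRight m 10)
    (Nat.xor (Nat.shiftRight m 12) (Nat.xor (Nat.shiftRight m 14) (Nat.shiftRight m 16))))))))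

/-- the number of non-zero coordinates is even -/
def isoB (c : ℕ) : Bool := not (Nat.testBit (isoM (Nat.lor c (Nat.shiftRight c 1))) 0)

theorem isoM_eq (m : ℕ) : isoM m = m ^^^ (m >>> 2 ^^^ (m >>> 4 ^^^ (m >>> 6 ^^^ (m >>> 8 ^^^
    (m >>> 10 ^^^ (m >>> 12 ^^^ (m >>> 14 ^^^ m >>> 16))))))) := rfl

/-- whether the `j`-th coordinate is non-zero -/
def nzc (c j : ℕ) : Bool := c.testBit (2 * j) || c.testBit (2 * j + 1)

theorem isoB_eq (c : ℕ) : isoB c = !(nzc c 0 ^^ (nzc c 1 ^^ (nzc c 2 ^^ (nzc c 3 ^^ (nzc c 4 ^^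
    (nzc c 5 ^^ (nzc c 6 ^^ (nzc c 7 ^^ nzc c 8)))))))) := by
  have h : Nat.lor c (Nat.shiftRight c 1) = c ||| c >>> 1 := rfl
  rw [isoB, isoM_eq, h]
  simp only [Nat.testBit_xor, Nat.testBit_shiftRight, Nat.testBit_or, nzc, Nat.reduceMul,
    Nat.reduceAdd, Nat.add_zero, Nat.zero_add]

theorem cube_kOf (x : ℕ) : kOf x ^ 3 = ⟨bz (x.testBit 0 || x.testBit 1), 0⟩ := by
  have h : ∀ a b : Bool, (⟨bz a, bz b⟩ : K) ^ 3 = ⟨bz (a || b), 0⟩ := by decide
  exact h _ _

theorem mk_add_mk (a b : Bool) : (⟨bz a, 0⟩ : K) + ⟨bz b, 0⟩ = ⟨bz (a ^^ b), 0⟩ := by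
  revert a b; decide

theorem mk_eq_zero (a : Bool) : (⟨bz a, 0⟩ : K) = 0 ↔ a = false := by
  revert a; decide

theorem cube_decK (c : ℕ) (z : F9) : decK c z ^ 3 = ⟨bz (nzc c (idx z)), 0⟩ := by
  rw [decK, cube_kOf, Nat.testBit_shiftRight, Nat.testBit_shiftRight, nzc, Nat.add_zero]

theorem isoB_spec (c : ℕ) : isoB c = true ↔ ∑ z, decK c z ^ 3 = 0 := by
  rw [sum_eq_zs]
  have h1 : (zs.map fun z => decK c z ^ 3) = (zs.map idx).map fun j => (⟨bz (nzc c j), 0⟩ : K) := by
    rw [List.map_map]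
    apply List.map_congr_left
    intro z _
    exact cube_decK c z
  rw [h1, zs_idx]
  simp only [List.map_cons, List.map_nil, List.sum_cons, List.sum_nil, add_zero, mk_add_mk,
    mk_eq_zero, isoB_eq]
  cases (nzc c 0 ^^ (nzc c 1 ^^ (nzc c 2 ^^ (nzc c 3 ^^ (nzc c 4 ^^
    (nzc c 5 ^^ (nzc c 6 ^^ (nzc c 7 ^^ nzc c 8)))))))) <;> simp

end Cfsg.Agent.Lib.Helper57.J3
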