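import Cfsg.Agent.Lib.Helper57.J3Map
import Cfsg.Agent.Lib.Helper57.J3Fast
import Cfsg.Agent.Lib.Helper57.J3Data

/-!
# Kernel checks for `3·J₃`: tables, unitarity, relations
-/

set_option autoImplicit false
set_option maxRecDepth 1000000

namespace Cfsg.Agent.Lib.Helper57.J3

open Matrix Cfsg.Spor Cfsg.Agent.Lib.Helper57.Hexa

/-- conjugate transpose over `K` -/
def conjT (M : Matrix F9 F9 K) : Matrix F9 F9 K := (M.map fun x => x ^ 2)ᵀ

/-- the scalar matrix `w` -/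
def mS : Matrix F9 F9 K := Matrix.diagonal fun _ => w

/-- the generators used for walking -/
def walkM : ℕ → Matrix F9 F9 K
  | 0 => j3A K w (1, 0)
  | 1 => j3A K w (0, 1)
  | 2 => j3E K w 0
  | 3 => j3D K w F9.one
  | 4 => j3B K (1, 1)
  | _ => j3C K F9.one

/-- their tables -/
def walkT : ℕ → ℕ
  | 0 => tA1
  | 1 => tA2
  | 2 => tE0
  | 3 => tD1
  | 4 => tB1
  | _ => tC1

/-- their tables by blocks -/
def walkU : ℕ → ℕ
  | 0 => uA1
  | 1 => uA2
  | 2 => uE0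
  | 3 => uD1
  | 4 => uB1
  | _ => uC1

theorem walk_tab_aux : ∀ j : Fin 6, IsTab (walkM j) (walkT j) ∧ IsTab3 (walkT j) (walkU j) ∧
    walkM j * conjT (walkM j) = 1 := by decide +kernel

theorem walk_tab (j : ℕ) : IsTab (walkM j) (walkT j) ∧ IsTab3 (walkT j) (walkU j) ∧
    walkM j * conjT (walkM j) = 1 := by
  by_cases h : j < 6
  · exact walk_tab_aux ⟨j, h⟩
  · obtain ⟨k, rfl⟩ : ∃ k, j = k + 6 := ⟨j - 6, by omega⟩
    exact walk_tab_aux 5

theorem scalar_tab : IsTab mS tS ∧ IsTab3 tS uS := by decide +kernel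

theorem relA : ∀ Z : F9, j3A K w Z = walkM 0 ^ Z.1.val * walkM 1 ^ Z.2.val := by decide +kernel

theorem relE : ∀ Z : F9, j3E K w Z =
    mS ^ (Z.1 ^ 2 + Z.2 ^ 2).val * j3A K w Z * walkM 2 := by decide +kernel

theorem relB : ∀ Z : F9, Z ≠ 0 → j3B K (F9.mul Z (1, 1)) = j3B K Z * walkM 4 := by decide +kernel

theorem relD : ∀ Z : F9, Z ≠ 0 → j3D K w Z = j3B K Z * walkM 3 * j3B K (F9.inv Z) := by
  decide +kernel

theorem relD0 : j3D K w 0 = 1 := by decide +kernel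

theorem relC : ∀ Z : F9, Z ≠ 0 → j3C K Z = j3B K Z * walkM 5 := by decide +kernel

theorem relB0 : j3B K F9.one = 1 := by decide +kernel

/-- powers of `1 + i` -/
def pw : ℕ → F9
  | 0 => F9.one
  | k + 1 => F9.mul (pw k) (1, 1)

theorem exists_pw : ∀ Z : F9, Z ≠ 0 → ∃ k : Fin 8, Z = pw k := by decide +kernel

theorem pw_ne_zero : ∀ k : Fin 8, pw k ≠ 0 := by decide +kernel

theorem inv_ne_zero : ∀ Z : F9, Z ≠ 0 → F9.inv Z ≠ 0 := by decide +kernel

end Cfsg.Agent.Lib.Helper57.J3
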