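import Cfsg.Agent.Lib.Helper57.J3Fast
import Cfsg.Agent.Lib.Helper57.J3Data

/-!
# Kernel checks for `3·J₃`: the orbit of the first basis vector is closed, and its size
-/

set_option autoImplicit false
set_option maxRecDepth 1000000

namespace Cfsg.Agent.Lib.Helper57.J3

/-- the orbit bitmap is closed under the seven tables at `c` -/
def closedAt (c : ℕ) : Bool :=
  or (not (memB c))
    (and (memB (app3 uA1 c)) (and (memB (app3 uA2 c)) (and (memB (app3 uE0 c))
      (and (memB (app3 uD1 c)) (and (memB (app3 uB1 c)) (and (memB (app3 uC1 c))
        (memB (app3 uS c))))))))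

theorem closed_check : allR closedAt 18 0 = true := by decide +kernel

theorem count_check : cntR memB 18 0 = 69768 := by decide +kernel

theorem memB_one : memB 1 = true := by decide +kernel

theorem memB_zero : memB 0 = false := by decide +kernel

end Cfsg.Agent.Lib.Helper57.J3
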