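import Cfsg.Agent.Lib.Helper57.J3Check1

/-!
# Kernel checks for `3·J₃`: walking down to the base vectors
-/

set_option autoImplicit false
set_option maxRecDepth 1000000

namespace Cfsg.Agent.Lib.Helper57.J3

/-- one step of the walk -/
def stepW (c : ℕ) : ℕ := app3 (walkU (Nat.shiftRight (ndAt c) 4)) c

/-- the depth of a code -/
def depW (c : ℕ) : ℕ := Nat.land (ndAt c) 15

/-- the walk from a code of the orbit of the first basis vector goes down -/
def walk1At (c : ℕ) : Bool :=
  or (not (memB c))
    (or (Nat.beq c 1) (and (memB (stepW c)) (Nat.blt (depW (stepW c)) (depW c))))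

theorem walk1_check : allR walk1At 18 0 = true := by decide +kernel

end Cfsg.Agent.Lib.Helper57.J3
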