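import Cfsg.Agent.Lib.Helper57.J3Check3

/-!
# Kernel checks for `3·J₃`: walking down from isotropic vectors
-/

set_option autoImplicit false
set_option maxRecDepth 1000000

namespace Cfsg.Agent.Lib.Helper57.J3

/-- non-zero isotropic codes -/
def good2 (c : ℕ) : Bool := and (isoB c) (not (Nat.beq c 0))

/-- the walk from a non-zero isotropic code goes down -/
def walk2At (c : ℕ) : Bool :=
  or (not (good2 c))
    (or (Nat.beq c 5) (and (good2 (stepW c)) (Nat.blt (depW (stepW c)) (depW c))))

theorem walk2_check : allR walk2At 18 0 = true := by decide +kernel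

theorem good2_five : good2 5 = true := by decide +kernel

end Cfsg.Agent.Lib.Helper57.J3
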