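import Mathlib
import Cfsg.Prelude.Def_Spor_J3
import Cfsg.Agent.Lib.Helper57.Hexacode

/-!
# The nine-dimensional module of `3·J₃` over the field with four elements, coded by naturals

Vectors of `K^9` (`K` the concrete field with four elements) are coded by naturals below `2^18`,
two bits per coordinate.  Matrices act on codes by XOR of table entries.
-/

set_option autoImplicit false

namespace Cfsg.Agent.Lib.Helper57.J3

open Matrix Cfsg.Spor Cfsg.Agent.Lib.Helper57.Hexa

/-! ### bits and field elements -/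

/-- a bit as an element of `ZMod 2` -/
def bz (b : Bool) : ZMod 2 := if b then 1 else 0

theorem bz_xor (a b : Bool) : bz (a ^^ b) = bz a + bz b := by
  cases a <;> cases b <;> decide

theorem bz_eq_zero (a : Bool) : bz a = 0 ↔ a = false := by
  cases a <;> decide

theorem bz_inj {a b : Bool} (h : bz a = bz b) : a = b := by
  revert h; cases a <;> cases b <;> decide

/-- the element of `K` given by the two lowest bits -/
def kOf (a : ℕ) : K := ⟨bz (a.testBit 0), bz (a.testBit 1)⟩

theorem kOf_xor (a b : ℕ) : kOf (a ^^^ b) = kOf a + kOf b := by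
  ext
  · simp only [kOf, Nat.testBit_xor, bz_xor, QuadraticAlgebra.re_add]
  · simp only [kOf, Nat.testBit_xor, bz_xor, QuadraticAlgebra.im_add]

theorem kOf_zero : kOf 0 = 0 := by decide

theorem kOf_and_three (a : ℕ) : kOf (a &&& 3) = kOf a := by
  have h0 : (3 : ℕ).testBit 0 = true := by decide
  have h1 : (3 : ℕ).testBit 1 = true := by decide
  ext <;> simp only [kOf, Nat.testBit_and, h0, h1, Bool.and_true]

theorem kOf_eq_zero (a : ℕ) : kOf a = 0 ↔ (a.testBit 0 = false ∧ a.testBit 1 = false) := by
  rw [QuadraticAlgebra.ext_iff]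
  simp only [kOf, QuadraticAlgebra.re_zero, QuadraticAlgebra.im_zero, bz_eq_zero]

/-! ### indices -/

/-- the position of a coordinate -/
def idx (z : F9) : ℕ := 3 * z.1.val + z.2.val

/-- all coordinates, in order -/
def zs : List F9 := [(0, 0), (0, 1), (0, 2), (1, 0), (1, 1), (1, 2), (2, 0), (2, 1), (2, 2)]

theorem univ_eq_zs : (Finset.univ : Finset F9) = zs.toFinset := by decide

theorem zs_nodup : zs.Nodup := by decide

theorem zs_idx : zs.map idx = [0, 1, 2, 3, 4, 5, 6, 7, 8] := by decide

theorem sum_eq_zs {M : Type*} [AddCommMonoid M] (f : F9 → M) : ∑ z, f z = (zs.map f).sum := by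
  rw [univ_eq_zs, List.sum_toFinset _ zs_nodup]

theorem idx_lt (z : F9) : idx z < 9 := by revert z; decide

theorem exists_idx : ∀ j < 9, ∃ z : F9, idx z = j := by decide

/-! ### decoding -/

/-- the vector over `K` with code `c` -/
def decK (c : ℕ) : F9 → K := fun z => kOf (c >>> (2 * idx z))

/-- XOR of a list -/
def xorl : List ℕ → ℕ
  | [] => 0
  | a :: l => a ^^^ xorl l

theorem kOf_xorl (s : ℕ) (l : List ℕ) :
    kOf (xorl l >>> s) = (l.map fun x => kOf (x >>> s)).sum := by
  induction l with
  | nil => simp [xorl, kOf_zero]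
  | cons a l ih =>
    simp only [xorl, Nat.shiftRight_xor_distrib, kOf_xor, ih, List.map_cons, List.sum_cons]

theorem xorl_lt (n : ℕ) (l : List ℕ) (h : ∀ x ∈ l, x < 2 ^ n) : xorl l < 2 ^ n := by
  induction l with
  | nil => simp [xorl]
  | cons a l ih =>
    simp only [xorl]
    exact Nat.xor_lt_two_pow (h a (by simp)) (ih fun x hx => h x (by simp [hx]))

/-- the entry of a table: the image of `a` times the `j`-th basis vector -/
def entry (T j a : ℕ) : ℕ := (T >>> (18 * (4 * j + a))) &&& 262143

/-- the `j`-th coordinate of a code -/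
def coord (c j : ℕ) : ℕ := (c >>> (2 * j)) &&& 3

theorem coord_lt (c j : ℕ) : coord c j < 4 := Nat.and_lt_two_pow _ (n := 2) (by norm_num)

theorem entry_lt (T j a : ℕ) : entry T j a < 2 ^ 18 := Nat.and_lt_two_pow _ (n := 18) (by norm_num)

/-- the action of a table on a code -/
def app (T c : ℕ) : ℕ :=
  entry T 0 (coord c 0) ^^^ (entry T 1 (coord c 1) ^^^ (entry T 2 (coord c 2) ^^^
  (entry T 3 (coord c 3) ^^^ (entry T 4 (coord c 4) ^^^ (entry T 5 (coord c 5) ^^^
  (entry T 6 (coord c 6) ^^^ (entry T 7 (coord c 7) ^^^ (entry T 8 (coord c 8) ^^^ 0))))))))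

theorem app_eq (T c : ℕ) :
    app T c = xorl (zs.map fun z => entry T (idx z) (coord c (idx z))) := by
  have : (zs.map fun z => entry T (idx z) (coord c (idx z))) =
      (zs.map idx).map fun j => entry T j (coord c j) := by rw [List.map_map]; rfl
  rw [this, zs_idx]
  rfl

theorem app_lt (T c : ℕ) : app T c < 2 ^ 18 := by
  rw [app_eq]
  apply xorl_lt
  intro x hx
  rw [List.mem_map] at hx
  obtain ⟨z, _, rfl⟩ := hx
  exact entry_lt _ _ _

/-- `T` is the table of the matrix `M` -/
def IsTab (M : Matrix F9 F9 K) (T : ℕ) : Prop :=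
  ∀ z : F9, ∀ a : Fin 4, ∀ i : F9, M i z * kOf a = kOf (entry T (idx z) a >>> (2 * idx i))

instance (M : Matrix F9 F9 K) (T : ℕ) : Decidable (IsTab M T) := by
  unfold IsTab; infer_instance

theorem mulVec_decK {M : Matrix F9 F9 K} {T : ℕ} (h : IsTab M T) (c : ℕ) :
    M *ᵥ decK c = decK (app T c) := by
  funext i
  rw [Matrix.mulVec, dotProduct, sum_eq_zs]
  show _ = kOf (app T c >>> (2 * idx i))
  rw [app_eq, kOf_xorl, List.map_map]
  congr 1
  apply List.map_congr_left
  intro z _
  have := h z ⟨coord c (idx z), coord_lt _ _⟩ i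
  simp only [Function.comp] at this ⊢
  rw [← this, coord, kOf_and_three]
  rfl

/-! ### codes and vectors correspond bijectively -/

theorem decK_zero : decK 0 = 0 := by
  funext z
  simp [decK, kOf_zero]

theorem decK_injOn {a b : ℕ} (ha : a < 2 ^ 18) (hb : b < 2 ^ 18) (h : decK a = decK b) : a = b := by
  apply Nat.eq_of_testBit_eq
  intro i
  by_cases hi : i < 18
  · obtain ⟨z, hz⟩ := exists_idx (i / 2) (by omega)
    have hz' := congrFun h z
    simp only [decK, kOf, QuadraticAlgebra.ext_iff] at hz'
    obtain ⟨h0, h1⟩ := hz'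
    have h0' := bz_inj h0
    have h1' := bz_inj h1
    rw [Nat.testBit_shiftRight, Nat.testBit_shiftRight] at h0' h1'
    rcases Nat.mod_two_eq_zero_or_one i with hr | hr
    · have : 2 * idx z + 0 = i := by omega
      rw [this] at h0'
      exact h0'
    · have : 2 * idx z + 1 = i := by omega
      rw [this] at h1'
      exact h1'
  · have h18 : (2 : ℕ) ^ 18 ≤ 2 ^ i := Nat.pow_le_pow_right (by norm_num) (by omega)
    rw [Nat.testBit_lt_two_pow (lt_of_lt_of_le ha h18),
      Nat.testBit_lt_two_pow (lt_of_lt_of_le hb h18)]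

/-! ### loops by halving -/

/-- `p` holds on `[s, s + 2^k)` -/
def allDC (p : ℕ → Bool) : ℕ → ℕ → Bool
  | 0, s => p s
  | k + 1, s => allDC p k s && allDC p k (s + 2 ^ k)

theorem allDC_spec (p : ℕ → Bool) : ∀ k s, allDC p k s = true →
    ∀ i, s ≤ i → i < s + 2 ^ k → p i = true := by
  intro k
  induction k with
  | zero =>
    intro s h i h1 h2
    have : i = s := by simp at h2; omega
    subst this
    exact h
  | succ k ih =>
    intro s h i h1 h2
    simp only [allDC, Bool.and_eq_true] at h
    by_cases hi : i < s + 2 ^ k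
    · exact ih s h.1 i h1 hi
    · refine ih (s + 2 ^ k) h.2 i (by omega) ?_
      rw [pow_succ] at h2
      omega

/-- the number of `i` in `[s, s + 2^k)` where `p` holds -/
def cntDC (p : ℕ → Bool) : ℕ → ℕ → ℕ
  | 0, s => if p s then 1 else 0
  | k + 1, s => cntDC p k s + cntDC p k (s + 2 ^ k)

theorem cntDC_spec (p : ℕ → Bool) : ∀ k s,
    cntDC p k s = ((Finset.Ico s (s + 2 ^ k)).filter fun i => p i = true).card := by
  intro k
  induction k with
  | zero =>
    intro s
    simp only [cntDC, pow_zero, Nat.Ico_succ_singleton]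
    by_cases h : p s = true
    · simp [h, Finset.filter_singleton]
    · simp [h, Finset.filter_singleton]
  | succ k ih =>
    intro s
    have hsplit : Finset.Ico s (s + 2 ^ (k + 1)) =
        Finset.Ico s (s + 2 ^ k) ∪ Finset.Ico (s + 2 ^ k) (s + 2 ^ k + 2 ^ k) := by
      rw [Finset.Ico_union_Ico_eq_Ico (Nat.le_add_right _ _) (Nat.le_add_right _ _)]
      congr 1
      rw [pow_succ]; omega
    rw [cntDC, ih, ih, hsplit, Finset.filter_union, Finset.card_union_of_disjoint]
    apply Finset.disjoint_filter_filter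
    exact Finset.Ico_disjoint_Ico_consecutive _ _ _

end Cfsg.Agent.Lib.Helper57.J3
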