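import Cfsg.Agent.Lib.Helper57.J3FusChk
import Cfsg.Agent.Lib.Helper57.FusCrit2
import Cfsg.Agent.Lib.Helper95.J3.CertInv

set_option autoImplicit false

/-! The `2`-fusion system of `J₃` is simple: the hypotheses of `FusCrit.isSimple_of_cover` for the
Sylow `2`-subgroup of `3·J₃` of helper95, with `R` the normal subgroup of order 32 of the
centraliser of an involution. -/

namespace Cfsg.Agent.Lib.Helper57.J3Fus

open Cfsg Cfsg.Spor Cfsg.Agent.Lib.Helper95.J3 Cfsg.Agent.Lib.Helper95.J3.Ctx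
  Cfsg.Agent.Lib.Helper95.Fusion Cfsg.Agent.Lib.Helper57.FusCrit
open scoped MatrixGroups

/-- a non-trivial element of `2`-power order has a power that is an involution -/
theorem exists_invol {G : Type*} [Group G] (T : Subgroup G) (x : G) (hxT : x ∈ T) (hx1 : x ≠ 1)
    (n : ℕ) (hxn : x ^ (2 ^ n) = 1) : ∃ u ∈ T, u ^ 2 = 1 ∧ u ≠ 1 := by
  have hdvd : orderOf x ∣ 2 ^ n := orderOf_dvd_of_pow_eq_one hxn
  obtain ⟨j, -, hoj⟩ := (Nat.dvd_prime_pow Nat.prime_two).mp hdvd
  have hj0 : j ≠ 0 := by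
    rintro rfl
    rw [pow_zero, orderOf_eq_one_iff] at hoj
    exact hx1 hoj
  obtain ⟨k, rfl⟩ := Nat.exists_eq_succ_of_ne_zero hj0
  refine ⟨x ^ (2 ^ k), T.pow_mem hxT _, ?_, ?_⟩
  · rw [← pow_mul, ← pow_succ, ← hoj, pow_orderOf_eq_one]
  · intro h
    have h1 := orderOf_dvd_of_pow_eq_one h
    rw [hoj] at h1
    have h2 := Nat.le_of_dvd (by positivity) h1
    rw [pow_succ] at h2
    have h3 : 0 < 2 ^ k := by positivity
    omega

variable {F : Type*} [Field F] [Finite F] {c : Ctx F} (hi : InvFacts) (hf : FusFacts)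

include hf in
theorem tU_mem_Ss : tU (c := c) hi ∈ Ss (c := c) hi :=
  ⟨1, (by show 1 < 128; norm_num), by rw [hf.misc.tS]; exact tU_is hi⟩

/-- the product of two involutions of the Sylow subgroup lies in a subgroup containing all its
involutions -/
theorem prod_mem (T : Subgroup c.U)
    (hinv : ∀ s ∈ Ss (c := c) hi, s ^ 2 = 1 → s ∈ T) {i j a : Nat} (hi' : i < 128) (hj : j < 128)
    (h2i : mul (LS.elt i) (LS.elt i) = PID) (h2j : mul (LS.elt j) (LS.elt j) = PID)
    (ha : a = mul (LS.elt i) (LS.elt j)) (u : c.U) (e : c.Is u a) : u ∈ T := by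
  obtain ⟨α, hα⟩ := ((gokS (c := c) hi).inU_elt i hi').is
  obtain ⟨β, hβ⟩ := ((gokS (c := c) hi).inU_elt j hj).is
  have hu : u = α * β := Is.eq e (by have := hα.mul hβ; rwa [← ha] at this)
  have hα2 : α ^ 2 = 1 := by
    rw [pow_two]
    exact Is.eq (by have := hα.mul hα; rwa [h2i] at this) Is.one
  have hβ2 : β ^ 2 = 1 := by
    rw [pow_two]
    exact Is.eq (by have := hβ.mul hβ; rwa [h2j] at this) Is.one
  rw [hu]
  exact T.mul_mem (hinv α ⟨i, hi', hα⟩ hα2) (hinv β ⟨j, hj, hβ⟩ hβ2)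

include hf in
/-- no proper non-trivial strongly closed subgroup -/
theorem propA_Ss : PropA (Ss (c := c) hi) := by
  intro T hT hne hcl
  have htS := tU_mem_Ss (c := c) hi hf
  obtain ⟨x, hxT, hx1⟩ : ∃ x ∈ T, x ≠ 1 := by
    by_contra h
    push Not at h
    apply hne
    rw [eq_bot_iff]
    intro x hx
    exact Subgroup.mem_bot.mpr (h x hx)
  have hx128 : x ^ (2 ^ 7) = 1 := by
    have := pow_card_eq_one' (G := Ss (c := c) hi) (x := ⟨x, hT hxT⟩)
    rw [card_Ss] at this
    exact congrArg Subtype.val this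
  obtain ⟨u, huT, hu2, hu1⟩ := exists_invol T x hxT hx1 7 hx128
  obtain ⟨g, hg⟩ := invol_conj (c := c) hi u hu2 hu1
  have htT : tU (c := c) hi ∈ T := by
    rw [← hg]
    exact hcl u huT g (by rw [hg]; exact htS)
  have hinv : ∀ s ∈ Ss (c := c) hi, s ^ 2 = 1 → s ∈ T := by
    intro s hs hs2
    by_cases hs1 : s = 1
    · rw [hs1]; exact T.one_mem
    obtain ⟨g, hg⟩ := invol_conj (c := c) hi s hs2 hs1
    have e : s = g⁻¹ * tU (c := c) hi * g⁻¹⁻¹ := by rw [← hg]; group
    rw [e]
    apply hcl _ htT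
    rw [← e]
    exact hs
  apply le_antisymm hT
  apply (gokS (c := c) hi).sub_le
  intro g hg u e
  have hg' : g < 3 := hg
  interval_cases g
  · exact prod_mem hi T hinv (i := 10) (j := 78) (by norm_num) (by norm_num) hf.misc.i10
      hf.misc.i78 hf.misc.s0 u e
  · exact prod_mem hi T hinv (i := 10) (j := 61) (by norm_num) (by norm_num) hf.misc.i10
      hf.misc.i61 hf.misc.s1 u e
  · exact prod_mem hi T hinv (i := 3) (j := 12) (by norm_num) (by norm_num) hf.misc.i3
      hf.misc.i12 hf.misc.s2 u e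

/-- an element of the complement of `2`-power order is in the subgroup generated by the `2`-elements
of the normaliser of the subgroup of order 32 -/
theorem twoElt_mem_K {h : c.U} (hC : h ∈ Cs (c := c) hi) (n : ℕ) (hn : h ^ (2 ^ n) = 1) :
    h ∈ Subgroup.closure {h : c.U | h ∈ Subgroup.normalizer ((Qs (c := c) hi : Subgroup c.U) : Set c.U) ∧
      ∃ k : ℕ, orderOf h = 2 ^ k} := by
  apply Subgroup.subset_closure
  refine ⟨Cs_normalizes hi hC, ?_⟩
  obtain ⟨j, -, hj⟩ := (Nat.dvd_prime_pow Nat.prime_two).mp (orderOf_dvd_of_pow_eq_one hn)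
  exact ⟨j, hj⟩

include hf in
theorem Cs_le_K : Cs (c := c) hi ≤
    Subgroup.closure {h : c.U | h ∈ Subgroup.normalizer ((Qs (c := c) hi : Subgroup c.U) : Set c.U) ∧
      ∃ k : ℕ, orderOf h = 2 ^ k} := by
  apply (gokC (c := c) hi).sub_le
  intro a ha u e
  have ha' : a < 2 := ha
  interval_cases a
  · obtain ⟨α, hα⟩ := ((gokC (c := c) hi).inU_elt 4 (by show 4 < 1920; norm_num)).is
    obtain ⟨β, hβ⟩ := ((gokC (c := c) hi).inU_elt 1856 (by show 1856 < 1920; norm_num)).is
    have e' : c.Is u c1P := e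
    have hu : u = α * β := Is.eq e' (by have := hα.mul hβ; rwa [← hf.misc.c1] at this)
    rw [hu]
    apply Subgroup.mul_mem
    · apply twoElt_mem_K hi ⟨4, (by show 4 < 1920; norm_num), hα⟩ 3
      exact Is.eq (by have := hα.pow 8; rwa [hf.misc.p4] at this) Is.one
    · apply twoElt_mem_K hi ⟨1856, (by show 1856 < 1920; norm_num), hβ⟩ 3
      exact Is.eq (by have := hβ.pow 8; rwa [hf.misc.p1856] at this) Is.one
  · have e' : c.Is u c2P := e
    apply twoElt_mem_K hi ((gokC (c := c) hi).gen_mem (g := 1) (by show 1 < 2; norm_num) u e) 2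
    exact Is.eq (by have := e'.pow 4; rwa [hf.misc.c2] at this) Is.one

include hf in
/-- the hypothesis on the centric subgroup -/
theorem propRt_Ss : PropRt 2 (Subgroup.center c.U) (Ss (c := c) hi) := by
  have htS := tU_mem_Ss (c := c) hi hf
  refine ⟨Qs (c := c) hi, ?_, ?_, ?_, ?_⟩
  · apply (gokQ (c := c) hi).sub_le
    intro g hg u e
    have hg' : g < 4 := hg
    obtain ⟨h1, h2⟩ := chkQS_spec hf.qs hg'
    refine ⟨idxQS g, h1, ?_⟩
    rw [h2]
    exact e
  · exact (Ss_le_Cs hi).trans (Cs_normalizes hi)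
  · rintro g hg ⟨k, hk⟩
    have hgt : g * tU (c := c) hi = tU (c := c) hi * g := hg _ (tU_mem_Qs hi)
    obtain ⟨z, hz, d, hd, rfl⟩ := cent_le hi g hgt
    obtain ⟨m, hm, hdm0⟩ := hd
    have hdm : c.Is d (LC.elt m) := hdm0
    have hzc := Subgroup.mem_center_iff.mp hz
    have hdq : ∀ q, q < 4 → mul (LC.elt m) (genQ q) = mul (genQ q) (LC.elt m) := by
      intro q hq
      obtain ⟨κ, hκ⟩ := ((gokQ (c := c) hi).gen q hq).is
      have hκQ : κ ∈ Qs (c := c) hi := (gokQ (c := c) hi).gen_mem hq κ hκ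
      have h1 : z * d * κ = κ * (z * d) := hg κ hκQ
      have h2 : d * κ = κ * d := by
        have : z * (d * κ) = z * (κ * d) := by
          rw [← mul_assoc, h1, ← mul_assoc, ← mul_assoc, hzc κ]
        exact mul_left_cancel this
      have hκ' : c.Is κ (genQ q) := hκ
      exact Is.inj (hdm.mul hκ') (by rw [h2]; exact hκ'.mul hdm) (mul_lt _ _) (mul_lt _ _)
    have hd' : d = 1 ∨ d = tU (c := c) hi := by
      rcases chkCQ_spec (hf.cq m hm) with h | h | ⟨q, hq, hne⟩
      · left
        rw [h] at hdm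
        exact Is.eq hdm Is.one
      · right
        rw [h] at hdm
        exact Is.eq hdm (tU_is hi)
      · exact absurd (hdq q hq) hne
    have hd2 : d ^ 2 = 1 := by
      rcases hd' with rfl | rfl
      · exact one_pow 2
      · exact tU_sq hi
    have hzd : Commute z d := (hzc d).symm
    have h3 : z ^ (2 * 2 ^ k) = 1 := by
      have h4 : (z * d) ^ (2 * 2 ^ k) = 1 := by rw [mul_comm, pow_mul, hk, one_pow]
      rw [hzd.mul_pow, pow_mul d, hd2, one_pow, mul_one] at h4
      exact h4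
    have hz1 : z = 1 := by
      have h4 : z ^ 3 = 1 := center_cube z hz
      have h5 : orderOf z ∣ Nat.gcd (2 ^ (k + 1)) 3 :=
        Nat.dvd_gcd (orderOf_dvd_of_pow_eq_one (by rw [pow_succ' 2 k]; exact h3))
          (orderOf_dvd_of_pow_eq_one h4)
      have h6 : Nat.gcd (2 ^ (k + 1)) 3 = 1 := Nat.Coprime.pow_left _ (by norm_num)
      rw [h6, Nat.dvd_one] at h5
      exact orderOf_eq_one_iff.mp h5
    rw [hz1, one_mul]
    rcases hd' with rfl | rfl
    · exact (Qs (c := c) hi).one_mem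
    · exact tU_mem_Qs hi
  · intro g hg
    have : Finite (Ss (c := c) hi) := inferInstance
    have hgN : g ∈ Subgroup.normalizer ((Ss (c := c) hi : Subgroup c.U) : Set c.U) :=
      mem_normalizer_of_conj_mem (Ss (c := c) hi) g hg
    have hginv : ∀ x ∈ Ss (c := c) hi, g⁻¹ * x * g ∈ Ss (c := c) hi := by
      intro x hx
      have := (Subgroup.mem_normalizer_iff.mp (Subgroup.inv_mem _ hgN)) x
      rw [inv_inv] at this
      exact this.mp hx
    have ht'S : g * tU (c := c) hi * g⁻¹ ∈ Ss (c := c) hi := hg _ htS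
    obtain ⟨m, hm, ht'm⟩ := ht'S
    have ht'm' : c.Is (g * tU (c := c) hi * g⁻¹) (LS.elt m) := ht'm
    have hcomm : ∀ s, s < 3 → mul (LS.elt m) (genS s) = mul (genS s) (LS.elt m) := by
      intro s hs
      obtain ⟨σ, hσ⟩ := ((gokS (c := c) hi).gen s hs).is
      have hσS : σ ∈ Ss (c := c) hi := (gokS (c := c) hi).gen_mem hs σ hσ
      have hσ' : c.Is σ (genS s) := hσ
      have h1 : (g⁻¹ * σ * g) * tU (c := c) hi = tU (c := c) hi * (g⁻¹ * σ * g) :=
        Cs_comm hi _ (Ss_le_Cs hi (hginv σ hσS))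
      have h2 : (g * tU (c := c) hi * g⁻¹) * σ = σ * (g * tU (c := c) hi * g⁻¹) := by
        calc (g * tU (c := c) hi * g⁻¹) * σ
            = g * (tU (c := c) hi * (g⁻¹ * σ * g)) * g⁻¹ := by group
          _ = g * ((g⁻¹ * σ * g) * tU (c := c) hi) * g⁻¹ := by rw [h1]
          _ = σ * (g * tU (c := c) hi * g⁻¹) := by group
      exact Is.inj (ht'm'.mul hσ') (by rw [h2]; exact hσ'.mul ht'm') (mul_lt _ _) (mul_lt _ _)
    have ht' : g * tU (c := c) hi * g⁻¹ = tU (c := c) hi := by
      rcases chkZS_spec (hf.zs m hm) with h | h | ⟨s, hs, hne⟩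
      · exfalso
        rw [h] at ht'm'
        have h1 : g * tU (c := c) hi * g⁻¹ = 1 := Is.eq ht'm' Is.one
        apply tU_ne (c := c) hi
        calc tU (c := c) hi = g⁻¹ * (g * tU (c := c) hi * g⁻¹) * g := by group
          _ = 1 := by rw [h1]; group
      · rw [h] at ht'm'
        exact Is.eq ht'm' (tU_is hi)
      · exact absurd (hcomm s hs) hne
    have hgt : g * tU (c := c) hi = tU (c := c) hi * g := by
      calc g * tU (c := c) hi = (g * tU (c := c) hi * g⁻¹) * g := by group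
        _ = tU (c := c) hi * g := by rw [ht']
    obtain ⟨z, hz, d, hd, rfl⟩ := cent_le hi g hgt
    refine ⟨z⁻¹, Subgroup.inv_mem _ hz, ?_⟩
    rw [inv_mul_cancel_left]
    exact Cs_le_K hi hf hd

include hi hf in
/-- the `2`-fusion system of a group isomorphic to `3·J₃` modulo its centre is simple -/
theorem fusion_U {G : Type*} [Group G] [Finite G]
    (e : G ≃* (c.U ⧸ Subgroup.center c.U)) (S : Sylow 2 G) :
    (groupFusionSystem (S : Subgroup G)).IsSimple 2 := by
  have : Fact (Nat.Prime 2) := ⟨Nat.prime_two⟩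
  let π : c.U →* G := e.symm.toMonoidHom.comp (QuotientGroup.mk' (Subgroup.center c.U))
  have hπ : Function.Surjective π :=
    e.symm.surjective.comp (QuotientGroup.mk'_surjective _)
  have hker : π.ker = Subgroup.center c.U := by
    ext x
    rw [MonoidHom.mem_ker]
    show e.symm (QuotientGroup.mk' (Subgroup.center c.U) x) = 1 ↔ _
    rw [MulEquiv.map_eq_one_iff, QuotientGroup.mk'_apply, QuotientGroup.eq_one_iff]
  have hcardG : Nat.card G = 2 ^ 7 * 392445 := by
    rw [Nat.card_congr e.toEquiv, c.main_U.2.2.1]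
    norm_num
  have hcop : (Nat.card π.ker).Coprime 2 := by
    rw [hker, c.main_U.1]
    norm_num
  have hR : PropRt 2 π.ker (Ss (c := c) hi) := by
    rw [hker]
    exact propRt_Ss hi hf
  exact isSimple_of_cover π hπ (by rw [hker]) hcop (Ss (c := c) hi) hcardG (by norm_num)
    (by norm_num) (by rw [card_Ss]; norm_num) (propA_Ss hi hf) hR S

/-- the same for a subgroup equal to the group generated by the two elements of order 17 -/
theorem fusion_H (c : Ctx F) (H : Subgroup (GL F9 F)) (hH : H = c.U)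
    {G : Type*} [Group G] [Finite G]
    (e : G ≃* (H ⧸ Subgroup.center H)) (S : Sylow 2 G) :
    (groupFusionSystem (S : Subgroup G)).IsSimple 2 := by
  subst hH
  exact fusion_U invFacts_all fusFacts_all e S

/-- the `2`-fusion system of a group isomorphic to `J₃` is simple -/
theorem j3_fusion_main {F : Type*} [Field F] [Fintype F] (hF : Fintype.card F = 4) (ω : F)
    (hω : ω ^ 2 + ω + 1 = 0) {G : Type*} [Group G] [Finite G] (e : G ≃* J3 F ω) (S : Sylow 2 G) :
    (groupFusionSystem (S : Subgroup G)).IsSimple 2 :=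
  fusion_H (ctxOf hF ω hω) (threeJ3 F ω) (ctxOf hF ω hω).threeJ3_eq e S

end Cfsg.Agent.Lib.Helper57.J3Fus
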