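import Cfsg.Agent.Lib.Helper95.J3.InvDefs

set_option autoImplicit false

/-! A few more boolean checks on the tables of helper95 for the centraliser of an involution of
`3·J₃`: the normal subgroup of order 32 lies in the Sylow subgroup, contains its centraliser in the
complement `C'`, the centre of the Sylow subgroup, and expressions of the generators. -/

namespace Cfsg.Agent.Lib.Helper57.J3Fus

open Cfsg.Agent.Lib.Helper95.J3

/-- the indices of the generators of the normal subgroup in the Sylow subgroup -/
def idxQS (g : Nat) : Nat :=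
  cond (Nat.beq g 0) 4 (cond (Nat.beq g 1) 120 (cond (Nat.beq g 2) 104 59))

noncomputable def chkQS : Bool :=
  allFrom 0 4 (fun g => Nat.blt (idxQS g) 128 && Nat.beq (LS.elt (idxQS g)) (genQ g))

theorem chkQS_spec (h : chkQS = true) {g : Nat} (hg : g < 4) :
    idxQS g < 128 ∧ LS.elt (idxQS g) = genQ g := by
  have := allFrom_zero_spec h g hg
  rw [Bool.and_eq_true] at this
  exact ⟨blt_sound this.1, beq_sound this.2⟩

/-- an element of the complement commuting with the normal subgroup is `1` or the involution -/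
noncomputable def chkCQ (m : Nat) : Bool :=
  Nat.beq (LC.elt m) PID || Nat.beq (LC.elt m) tP ||
    anyFrom 0 4 (fun q => !(Nat.beq (mul (LC.elt m) (genQ q)) (mul (genQ q) (LC.elt m))))

theorem chkCQ_spec {m : Nat} (h : chkCQ m = true) :
    LC.elt m = PID ∨ LC.elt m = tP ∨
      ∃ q, q < 4 ∧ mul (LC.elt m) (genQ q) ≠ mul (genQ q) (LC.elt m) := by
  unfold chkCQ at h
  simp only [Bool.or_eq_true] at h
  rcases h with (h1 | h1) | h1
  · exact Or.inl (beq_sound h1)
  · exact Or.inr (Or.inl (beq_sound h1))
  · obtain ⟨q, hq, e⟩ := anyFrom_zero_spec h1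
    refine Or.inr (Or.inr ⟨q, hq, ?_⟩)
    intro e'
    rw [e', Nat.beq_refl] at e
    exact Bool.noConfusion e

/-- a central element of the Sylow subgroup is `1` or the involution -/
noncomputable def chkZS (m : Nat) : Bool :=
  Nat.beq (LS.elt m) PID || Nat.beq (LS.elt m) tP ||
    anyFrom 0 3 (fun s => !(Nat.beq (mul (LS.elt m) (genS s)) (mul (genS s) (LS.elt m))))

theorem chkZS_spec {m : Nat} (h : chkZS m = true) :
    LS.elt m = PID ∨ LS.elt m = tP ∨
      ∃ s, s < 3 ∧ mul (LS.elt m) (genS s) ≠ mul (genS s) (LS.elt m) := by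
  unfold chkZS at h
  simp only [Bool.or_eq_true] at h
  rcases h with (h1 | h1) | h1
  · exact Or.inl (beq_sound h1)
  · exact Or.inr (Or.inl (beq_sound h1))
  · obtain ⟨s, hs, e⟩ := anyFrom_zero_spec h1
    refine Or.inr (Or.inr ⟨s, hs, ?_⟩)
    intro e'
    rw [e', Nat.beq_refl] at e
    exact Bool.noConfusion e

/-- the small checks -/
structure FusMisc : Prop where
  s0 : s0P = mul (LS.elt 10) (LS.elt 78)
  s1 : s1P = mul (LS.elt 10) (LS.elt 61)
  s2 : s2P = mul (LS.elt 3) (LS.elt 12)
  i3 : mul (LS.elt 3) (LS.elt 3) = PID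
  i10 : mul (LS.elt 10) (LS.elt 10) = PID
  i12 : mul (LS.elt 12) (LS.elt 12) = PID
  i61 : mul (LS.elt 61) (LS.elt 61) = PID
  i78 : mul (LS.elt 78) (LS.elt 78) = PID
  c1 : c1P = mul (LC.elt 4) (LC.elt 1856)
  p4 : ppow 8 (LC.elt 4) = PID
  p1856 : ppow 8 (LC.elt 1856) = PID
  c2 : ppow 4 c2P = PID
  tS : LS.elt 1 = tP

/-- all the additional facts -/
structure FusFacts : Prop where
  qs : chkQS = true
  cq : ∀ m, m < 1920 → chkCQ m = true
  zs : ∀ m, m < 128 → chkZS m = true
  misc : FusMisc

set_option maxRecDepth 100000 in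
theorem chkQS_all : chkQS = true := by decide +kernel

set_option maxRecDepth 100000 in
theorem chkCQ_all : allFrom 0 1920 chkCQ = true := by decide +kernel

set_option maxRecDepth 100000 in
theorem chkZS_all : allFrom 0 128 chkZS = true := by decide +kernel

set_option maxRecDepth 100000 in
theorem fusMisc_all : FusMisc where
  s0 := by decide +kernel
  s1 := by decide +kernel
  s2 := by decide +kernel
  i3 := by decide +kernel
  i10 := by decide +kernel
  i12 := by decide +kernel
  i61 := by decide +kernel
  i78 := by decide +kernel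
  c1 := by decide +kernel
  p4 := by decide +kernel
  p1856 := by decide +kernel
  c2 := by decide +kernel
  tS := by decide +kernel

theorem fusFacts_all : FusFacts where
  qs := chkQS_all
  cq := fun m hm => allFrom_zero_spec chkCQ_all m hm
  zs := fun m hm => allFrom_zero_spec chkZS_all m hm
  misc := fusMisc_all

end Cfsg.Agent.Lib.Helper57.J3Fus
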