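import Cfsg.Agent.Lib.Helper57.J3Orbit

/-!
# Orbits of `3·J₃` on lines: the images of the first basis line, and the isotropic lines
-/

set_option autoImplicit false

namespace Cfsg.Agent.Lib.Helper57.J3

open Matrix Cfsg.Spor Cfsg.Agent.Lib.Helper57.Hexa

section

variable {F : Type*} [Field F] [Fintype F] [CharP F 2] (ω : F) (hω : ω ^ 2 + ω + 1 = 0)

theorem decK_one : decK 1 = Pi.single (0 : F9) (1 : K) := by decide +kernel

theorem dec_one : dec ω hω 1 = Pi.single (0 : F9) (1 : F) := by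
  funext z
  rw [dec, decK_one, Pi.single_apply, Pi.single_apply]
  split_ifs
  · rw [map_one]
  · rw [map_zero]

theorem e0_mem : (Pi.single (0 : F9) (1 : F) : F9 → F) ∈ orbO ω hω :=
  ⟨1, by norm_num, memB_one, (dec_one ω hω).symm⟩

theorem mem_orbO_iff (v : F9 → F) : v ∈ orbO ω hω ↔
    ∃ g ∈ threeJ3 F ω, v = (g : Matrix F9 F9 F) *ᵥ (Pi.single (0 : F9) (1 : F) : F9 → F) := by
  constructor
  · rintro ⟨c, hc, hm, rfl⟩
    obtain ⟨h, hh, e⟩ := walk1 ω hω c hc hm
    refine ⟨h⁻¹, inv_mem hh, ?_⟩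
    rw [← dec_one ω hω, ← e, inv_mulVec_mulVec]
  · rintro ⟨g, hg, rfl⟩
    exact pres_of_mem ω hω hg _ (e0_mem ω hω)

theorem ne_zero_of_mem {v : F9 → F} (hv : v ∈ orbO ω hω) : v ≠ 0 := by
  obtain ⟨c, hc, hm, rfl⟩ := hv
  intro h0
  have : c = 0 := dec_injOn ω hω hc (by norm_num) (h0.trans (dec_zero ω hω).symm)
  subst this
  rw [memB_zero] at hm
  exact Bool.false_ne_true hm

theorem smul_omega_mem {v : F9 → F} (hv : v ∈ orbO ω hω) : ω • v ∈ orbO ω hω := by
  have h := map_pres ω hω mS_mem hv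
  have e : (mS.map (phi ω hω)) *ᵥ v = ω • v := by
    funext i
    rw [mS, Matrix.diagonal_map (map_zero _), Matrix.mulVec_diagonal, phi_w, Pi.smul_apply,
      smul_eq_mul]
  rwa [e] at h

include hω in
theorem omega_sq : ω * ω = ω + 1 := by
  rw [omega_mul_self ω hω, add_comm]

include hω in
theorem units_cases (hF : Fintype.card F = 4) (a : F) (ha : a ≠ 0) :
    a = 1 ∨ a = ω ∨ a = ω * ω := by
  obtain ⟨k, rfl⟩ := (phi_bijective ω hω hF).2 a
  rcases K_cases k with rfl | rfl | rfl | rfl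
  · exact absurd (map_zero _) ha
  · exact Or.inl (map_one _)
  · exact Or.inr (Or.inl (phi_w ω hω))
  · right; right
    rw [map_add, map_one, phi_w, omega_sq ω hω]

theorem smul_mem (hF : Fintype.card F = 4) {v : F9 → F} (hv : v ∈ orbO ω hω) (a : F)
    (ha : a ≠ 0) : a • v ∈ orbO ω hω := by
  rcases units_cases ω hω hF a ha with h | h | h
  · rwa [h, one_smul]
  · rw [h]
    exact smul_omega_mem ω hω hv
  · rw [h, mul_smul]
    exact smul_omega_mem ω hω (smul_omega_mem ω hω hv)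

include hω in
theorem lines_card (hF : Fintype.card F = 4) :
    {L : Submodule F (F9 → F) | ∃ g ∈ threeJ3 F ω,
      L = F ∙ ((g : Matrix F9 F9 F) *ᵥ (Pi.single (0 : F9) (1 : F) : F9 → F))}.ncard = 23256 := by
  classical
  let S : Finset ℕ := (Finset.range (2 ^ 18)).filter fun c => memB c = true
  have hS : S.card = 69768 := by
    rw [← count_check, cntR_range]
  let O : Finset (F9 → F) := S.image (dec ω hω)
  have hO : O.card = 69768 := by
    rw [Finset.card_image_of_injOn, hS]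
    intro a ha b hb hab
    have ha' := (Finset.mem_filter.mp ha).1
    have hb' := (Finset.mem_filter.mp hb).1
    rw [Finset.mem_range] at ha' hb'
    exact dec_injOn ω hω ha' hb' hab
  have hOmem : ∀ v, v ∈ O ↔ v ∈ orbO ω hω := by
    intro v
    simp only [O, S, Finset.mem_image, Finset.mem_filter, Finset.mem_range, orbO,
      Set.mem_ofPred_eq]
    constructor
    · rintro ⟨c, ⟨hc, hm⟩, rfl⟩
      exact ⟨c, hc, hm, rfl⟩
    · rintro ⟨c, hc, hm, rfl⟩
      exact ⟨c, ⟨hc, hm⟩, rfl⟩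
  let T : Finset (Submodule F (F9 → F)) := O.image fun v => F ∙ v
  have hset : {L : Submodule F (F9 → F) | ∃ g ∈ threeJ3 F ω,
      L = F ∙ ((g : Matrix F9 F9 F) *ᵥ (Pi.single (0 : F9) (1 : F) : F9 → F))} = ↑T := by
    ext L
    simp only [Set.mem_ofPred_eq, T, Finset.coe_image, Set.mem_image, Finset.mem_coe]
    constructor
    · rintro ⟨g, hg, rfl⟩
      exact ⟨_, (hOmem _).2 ((mem_orbO_iff ω hω _).2 ⟨g, hg, rfl⟩), rfl⟩
    · rintro ⟨v, hv, rfl⟩
      obtain ⟨g, hg, rfl⟩ := (mem_orbO_iff ω hω _).1 ((hOmem _).1 hv)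
      exact ⟨g, hg, rfl⟩
  rw [hset, Set.ncard_coe_finset]
  have hfib : ∀ L ∈ T, (O.filter fun v => F ∙ v = L).card = 3 := by
    intro L hL
    obtain ⟨v₀, hv₀, rfl⟩ := Finset.mem_image.mp hL
    have hv₀' := (hOmem _).1 hv₀
    have hne := ne_zero_of_mem ω hω hv₀'
    have heq : (O.filter fun v => F ∙ v = F ∙ v₀) =
        (Finset.univ : Finset Fˣ).image fun a : Fˣ => (a : F) • v₀ := by
      ext u
      simp only [Finset.mem_filter, Finset.mem_image, Finset.mem_univ, true_and]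
      constructor
      · rintro ⟨_, hu⟩
        obtain ⟨z, hz⟩ := Submodule.span_singleton_eq_span_singleton.mp hu.symm
        exact ⟨z, hz⟩
      · rintro ⟨a, rfl⟩
        refine ⟨(hOmem _).2 (smul_mem ω hω hF hv₀' _ a.ne_zero), ?_⟩
        exact (Submodule.span_singleton_eq_span_singleton.mpr ⟨a, rfl⟩).symm
    rw [heq, Finset.card_image_of_injective, Finset.card_univ, Fintype.card_units, hF]
    intro a b hab
    exact Units.ext (smul_left_injective F hne hab)
  have hsum := Finset.card_eq_sum_card_fiberwise (f := fun v => F ∙ v) (s := O) (t := T)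
    (fun v hv => Finset.mem_image_of_mem _ hv)
  rw [Finset.sum_const_nat hfib, hO] at hsum
  omega

theorem good2_of_iso {c : ℕ} (hc : dec ω hω c ≠ 0) (hq : ∑ z, dec ω hω c z ^ 3 = 0) :
    good2 c = true := by
  have h1 : isoB c = true := by
    rw [isoB_spec]
    apply (phi_eq_zero_iff ω hω _).1
    rw [map_sum, ← hq]
    apply Finset.sum_congr rfl
    intro z _
    rw [map_pow]
    rfl
  have h2 : Nat.beq c 0 = false := by
    cases h : Nat.beq c 0
    · rfl
    · exact absurd (by rw [Nat.eq_of_beq_eq_true h]; exact dec_zero ω hω) hc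
  simp only [good2, h1, h2, Bool.not_false, Bool.and_self]

include hω in
theorem iso_transitive (hF : Fintype.card F = 4) (v u : F9 → F) (hv : v ≠ 0) (hu : u ≠ 0)
    (qv : ∑ z, v z ^ 3 = 0) (qu : ∑ z, u z ^ 3 = 0) :
    ∃ g ∈ threeJ3 F ω, ∃ c : F, c ≠ 0 ∧ (g : Matrix F9 F9 F) *ᵥ v = c • u := by
  obtain ⟨cv, hcv, rfl⟩ := dec_surj ω hω hF v
  obtain ⟨cu, hcu, rfl⟩ := dec_surj ω hω hF u
  obtain ⟨h1, hh1, e1⟩ := walk2 ω hω cv hcv (good2_of_iso ω hω hv qv)
  obtain ⟨h2, hh2, e2⟩ := walk2 ω hω cu hcu (good2_of_iso ω hω hu qu)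
  refine ⟨h2⁻¹ * h1, mul_mem (inv_mem hh2) hh1, 1, one_ne_zero, ?_⟩
  rw [Units.val_mul, ← Matrix.mulVec_mulVec, e1, ← e2, inv_mulVec_mulVec, one_smul]

end

end Cfsg.Agent.Lib.Helper57.J3
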