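import Cfsg.Agent.Lib.Helper57.J3Code

/-!
# Transfer of the generators of `3·J₃` from the concrete field with four elements
-/

set_option autoImplicit false

namespace Cfsg.Agent.Lib.Helper57.J3

open Matrix Cfsg.Spor Cfsg.Agent.Lib.Helper57.Hexa

instance factK : Fact (∀ r : ZMod 2, r ^ 2 ≠ 1 + 1 * r) := ⟨by decide⟩

section transfer

variable {F : Type*} [Field F] [Fintype F] [CharP F 2] (ω : F) (hω : ω ^ 2 + ω + 1 = 0)

theorem omegaPow_map (n : ZMod 3) : omegaPow F ω n = phi ω hω (omegaPow K w n) := by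
  simp only [omegaPow, map_pow, phi_w]

theorem j3A_map (Z : F9) : j3A F ω Z = (j3A K w Z).map (phi ω hω) := by
  rw [j3A, j3A, Matrix.diagonal_map (map_zero _)]
  congr 1
  funext z
  exact omegaPow_map ω hω _

theorem j3E_map (Z : F9) : j3E F ω Z = (j3E K w Z).map (phi ω hω) := by
  rw [j3E, j3E, Matrix.diagonal_map (map_zero _)]
  congr 1
  funext z
  exact omegaPow_map ω hω _

theorem j3Lam_map (Z z : F9) : j3Lam F ω Z z = phi ω hω (j3Lam K w Z z) := by
  unfold j3Lam
  split_ifs <;> simp only [map_one, map_pow, phi_w]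

theorem j3D_map (Z : F9) : j3D F ω Z = (j3D K w Z).map (phi ω hω) := by
  ext i j
  simp only [j3D, Matrix.of_apply, Matrix.map_apply]
  split_ifs
  · exact j3Lam_map ω hω _ _
  · rw [map_zero]

theorem j3B_map (Z : F9) : j3B F Z = (j3B K Z).map (phi ω hω) := by
  ext i j
  simp only [j3B, Matrix.of_apply, Matrix.map_apply]
  split_ifs
  · rw [map_one]
  · rw [map_zero]

theorem j3C_map (Z : F9) : j3C F Z = (j3C K Z).map (phi ω hω) := by
  ext i j
  simp only [j3C, Matrix.of_apply, Matrix.map_apply]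
  split_ifs <;> simp only [map_one, map_zero]

/-- the vector over `F` with code `c` -/
noncomputable def dec (c : ℕ) : F9 → F := fun z => phi ω hω (decK c z)

theorem dec_zero : dec ω hω 0 = 0 := by
  funext z
  simp [dec, decK_zero]

theorem dec_injOn {a b : ℕ} (ha : a < 2 ^ 18) (hb : b < 2 ^ 18) (h : dec ω hω a = dec ω hω b) :
    a = b := by
  apply decK_injOn ha hb
  funext z
  exact phi_injective ω hω (congrFun h z)

theorem map_mulVec_dec {M : Matrix F9 F9 K} {T : ℕ} (h : IsTab M T) (c : ℕ) :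
    (M.map (phi ω hω)) *ᵥ dec ω hω c = dec ω hω (app T c) := by
  funext i
  have := RingHom.map_mulVec (phi ω hω) M (decK c) i
  rw [mulVec_decK h] at this
  exact this.symm

theorem dec_surj (hF : Fintype.card F = 4) (v : F9 → F) : ∃ c < 2 ^ 18, dec ω hω c = v := by
  classical
  let f : Fin (2 ^ 18) → (F9 → F) := fun c => dec ω hω c.val
  have hinj : Function.Injective f := fun a b h => Fin.ext (dec_injOn ω hω a.2 b.2 h)
  have hcard : Fintype.card (Fin (2 ^ 18)) = Fintype.card (F9 → F) := by
    rw [Fintype.card_fin, Fintype.card_fun, hF]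
    have : Fintype.card F9 = 9 := by decide
    rw [this]
    norm_num
  have hbij := (Fintype.bijective_iff_injective_and_card f).2 ⟨hinj, hcard⟩
  obtain ⟨c, hc⟩ := hbij.2 v
  exact ⟨c.val, c.2, hc⟩

end transfer

end Cfsg.Agent.Lib.Helper57.J3
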