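import Cfsg.Agent.Lib.Helper57.J3Check2
import Cfsg.Agent.Lib.Helper57.J3Check4

/-!
# Orbits of `3·J₃` on the vectors of its nine-dimensional module
-/

set_option autoImplicit false

namespace Cfsg.Agent.Lib.Helper57.J3

open Matrix Cfsg.Spor Cfsg.Agent.Lib.Helper57.Hexa

/-! ### matrices over `K` preserving the coded orbit -/

/-- the matrices over `K` mapping the coded orbit into itself -/
def PresK : Submonoid (Matrix F9 F9 K) where
  carrier := {M | ∀ c < 2 ^ 18, memB c = true →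
    ∃ c' < 2 ^ 18, memB c' = true ∧ M *ᵥ decK c = decK c'}
  one_mem' := fun c hc hm => ⟨c, hc, hm, Matrix.one_mulVec _⟩
  mul_mem' := by
    intro M N hM hN c hc hm
    obtain ⟨c1, h1, hm1, e1⟩ := hN c hc hm
    obtain ⟨c2, h2, hm2, e2⟩ := hM c1 h1 hm1
    exact ⟨c2, h2, hm2, by rw [← Matrix.mulVec_mulVec, e1, e2]⟩

theorem mem_PresK_of_tab {M : Matrix F9 F9 K} {T U : ℕ} (hT : IsTab M T) (hU : IsTab3 T U)
    (h : ∀ c < 2 ^ 18, memB c = true → memB (app3 U c) = true) : M ∈ PresK := by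
  intro c hc hm
  exact ⟨app3 U c, app3_lt _ _, h c hc hm, by rw [mulVec_decK hT, app3_eq_app hU]⟩

theorem closed_all (c : ℕ) (hc : c < 2 ^ 18) (hm : memB c = true) :
    memB (app3 uA1 c) = true ∧ memB (app3 uA2 c) = true ∧ memB (app3 uE0 c) = true ∧
    memB (app3 uD1 c) = true ∧ memB (app3 uB1 c) = true ∧ memB (app3 uC1 c) = true ∧
    memB (app3 uS c) = true := by
  have := allR_range closedAt 18 closed_check c hc
  simp only [closedAt, hm, Bool.not_true, Bool.false_or, Bool.and_eq_true] at this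
  exact this

theorem walkM_mem (j : ℕ) : walkM j ∈ PresK := by
  obtain ⟨hT, hU, _⟩ := walk_tab j
  apply mem_PresK_of_tab hT hU
  intro c hc hm
  obtain ⟨h0, h1, h2, h3, h4, h5, _⟩ := closed_all c hc hm
  rcases j with _ | _ | _ | _ | _ | k
  · exact h0
  · exact h1
  · exact h2
  · exact h3
  · exact h4
  · exact h5

theorem mS_mem : mS ∈ PresK :=
  mem_PresK_of_tab scalar_tab.1 scalar_tab.2 fun c hc hm => (closed_all c hc hm).2.2.2.2.2.2

theorem j3A_mem (Z : F9) : j3A K w Z ∈ PresK := by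
  rw [relA Z]
  exact mul_mem (pow_mem (walkM_mem 0) _) (pow_mem (walkM_mem 1) _)

theorem j3E_mem (Z : F9) : j3E K w Z ∈ PresK := by
  rw [relE Z]
  exact mul_mem (mul_mem (pow_mem mS_mem _) (j3A_mem Z)) (walkM_mem 2)

theorem j3B_pw_mem : ∀ k : ℕ, k < 8 → j3B K (pw k) ∈ PresK := by
  intro k
  induction k with
  | zero =>
    intro _
    show j3B K F9.one ∈ PresK
    rw [relB0]
    exact one_mem _
  | succ k ih =>
    intro hk
    have hk' : k < 8 := by omega
    show j3B K (F9.mul (pw k) (1, 1)) ∈ PresK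
    rw [relB (pw k) (pw_ne_zero ⟨k, hk'⟩)]
    exact mul_mem (ih hk') (walkM_mem 4)

theorem j3B_mem (Z : F9) (hZ : Z ≠ 0) : j3B K Z ∈ PresK := by
  obtain ⟨k, rfl⟩ := exists_pw Z hZ
  exact j3B_pw_mem k k.2

theorem j3D_mem (Z : F9) : j3D K w Z ∈ PresK := by
  by_cases hZ : Z = 0
  · subst hZ
    rw [relD0]
    exact one_mem _
  · rw [relD Z hZ]
    exact mul_mem (mul_mem (j3B_mem Z hZ) (walkM_mem 3)) (j3B_mem _ (inv_ne_zero Z hZ))

theorem j3C_mem (Z : F9) (hZ : Z ≠ 0) : j3C K Z ∈ PresK := by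
  rw [relC Z hZ]
  exact mul_mem (j3B_mem Z hZ) (walkM_mem 5)

/-! ### the orbit over an arbitrary field with four elements -/

section

variable {F : Type*} [Field F] [Fintype F] [CharP F 2] (ω : F) (hω : ω ^ 2 + ω + 1 = 0)

/-- the coded orbit, as a set of vectors over `F` -/
def orbO : Set (F9 → F) := {v | ∃ c < 2 ^ 18, memB c = true ∧ v = dec ω hω c}

theorem orbO_finite : (orbO ω hω).Finite := by
  apply Set.Finite.subset ((Set.finite_Iio (2 ^ 18)).image (dec ω hω))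
  rintro v ⟨c, hc, _, rfl⟩
  exact ⟨c, hc, rfl⟩

theorem map_pres {M : Matrix F9 F9 K} (hM : M ∈ PresK) {v : F9 → F} (hv : v ∈ orbO ω hω) :
    (M.map (phi ω hω)) *ᵥ v ∈ orbO ω hω := by
  obtain ⟨c, hc, hm, rfl⟩ := hv
  obtain ⟨c', hc', hm', e⟩ := hM c hc hm
  refine ⟨c', hc', hm', ?_⟩
  funext i
  have := RingHom.map_mulVec (phi ω hω) M (decK c) i
  rw [e] at this
  exact this.symm

theorem gens_pres (g : GL F9 F) (hg : (g : Matrix F9 F9 F) ∈ j3Gens F ω) {v : F9 → F}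
    (hv : v ∈ orbO ω hω) : (g : Matrix F9 F9 F) *ᵥ v ∈ orbO ω hω := by
  simp only [j3Gens, Set.mem_union, Set.mem_range, Set.mem_ofPred_eq] at hg
  rcases hg with (((⟨Z, h⟩ | ⟨Z, h⟩) | ⟨Z, h⟩) | ⟨Z, hZ, h⟩) | ⟨Z, hZ, h⟩
  · rw [← h, j3A_map ω hω]
    exact map_pres ω hω (j3A_mem Z) hv
  · rw [← h, j3E_map ω hω]
    exact map_pres ω hω (j3E_mem Z) hv
  · rw [← h, j3D_map ω hω]
    exact map_pres ω hω (j3D_mem Z) hv
  · rw [h, j3B_map ω hω]
    exact map_pres ω hω (j3B_mem Z hZ) hv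
  · rw [h, j3C_map ω hω]
    exact map_pres ω hω (j3C_mem Z hZ) hv

omit [Fintype F] [CharP F 2] in
theorem inv_mulVec_mulVec (g : GL F9 F) (v : F9 → F) :
    ((g⁻¹ : GL F9 F) : Matrix F9 F9 F) *ᵥ ((g : Matrix F9 F9 F) *ᵥ v) = v := by
  rw [Matrix.mulVec_mulVec, ← Units.val_mul, inv_mul_cancel, Units.val_one, Matrix.one_mulVec]

theorem pres_of_mem {g : GL F9 F} (hg : g ∈ threeJ3 F ω) :
    ∀ v ∈ orbO ω hω, (g : Matrix F9 F9 F) *ᵥ v ∈ orbO ω hω := by
  induction hg using Subgroup.closure_induction with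
  | mem g hg => exact fun v hv => gens_pres ω hω g hg hv
  | one =>
    intro v hv
    rw [Units.val_one, Matrix.one_mulVec]
    exact hv
  | mul g h _ _ ihg ihh =>
    intro v hv
    rw [Units.val_mul, ← Matrix.mulVec_mulVec]
    exact ihg _ (ihh v hv)
  | inv g _ ih =>
    intro v hv
    have : Finite (orbO ω hω) := (orbO_finite ω hω).to_subtype
    let f : orbO ω hω → orbO ω hω := fun u => ⟨(g : Matrix F9 F9 F) *ᵥ u.1, ih u.1 u.2⟩
    have hinj : Function.Injective f := by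
      intro a b hab
      have h1 : (g : Matrix F9 F9 F) *ᵥ a.1 = (g : Matrix F9 F9 F) *ᵥ b.1 :=
        congrArg Subtype.val hab
      apply Subtype.ext
      rw [← inv_mulVec_mulVec g a.1, h1, inv_mulVec_mulVec]
    obtain ⟨⟨u, hu⟩, hfu⟩ := Finite.surjective_of_injective hinj ⟨v, hv⟩
    have h2 : (g : Matrix F9 F9 F) *ᵥ u = v := congrArg Subtype.val hfu
    rw [← h2, inv_mulVec_mulVec]
    exact hu

/-! ### the walking generators as elements of the group -/

/-- the invertible matrix over `F` coming from a unitary matrix over `K` -/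
noncomputable def unitOf (M : Matrix F9 F9 K) (h : M * conjT M = 1) : GL F9 F :=
  ⟨M.map (phi ω hω), (conjT M).map (phi ω hω),
    by rw [← Matrix.map_mul, h, Matrix.map_one _ (map_zero _) (map_one _)],
    by rw [← Matrix.map_mul, mul_eq_one_comm.mp h, Matrix.map_one _ (map_zero _) (map_one _)]⟩

/-- the walking generators over `F` -/
noncomputable def walkG (j : ℕ) : GL F9 F := unitOf ω hω (walkM j) (walk_tab j).2.2

theorem coe_walkG (j : ℕ) : ((walkG ω hω j : GL F9 F) : Matrix F9 F9 F) = (walkM j).map (phi ω hω) :=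
  rfl

theorem walkM_gen (j : ℕ) : (walkM j).map (phi ω hω) ∈ j3Gens F ω := by
  have h1 : ((1, 1) : F9) ≠ 0 := by decide
  have h2 : F9.one ≠ 0 := by decide
  simp only [j3Gens, Set.mem_union, Set.mem_range, Set.mem_ofPred_eq]
  rcases j with _ | _ | _ | _ | _ | k
  · exact Or.inl (Or.inl (Or.inl (Or.inl ⟨_, j3A_map ω hω _⟩)))
  · exact Or.inl (Or.inl (Or.inl (Or.inl ⟨_, j3A_map ω hω _⟩)))
  · exact Or.inl (Or.inl (Or.inl (Or.inr ⟨_, j3E_map ω hω _⟩)))
  · exact Or.inl (Or.inl (Or.inr ⟨_, j3D_map ω hω _⟩))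
  · exact Or.inl (Or.inr ⟨_, h1, (j3B_map ω hω _).symm⟩)
  · exact Or.inr ⟨_, h2, (j3C_map ω hω _).symm⟩

theorem walkG_mem (j : ℕ) : walkG ω hω j ∈ threeJ3 F ω :=
  Subgroup.subset_closure (walkM_gen ω hω j)

theorem walkG_mulVec (j c : ℕ) :
    (walkG ω hω j : Matrix F9 F9 F) *ᵥ dec ω hω c = dec ω hω (app3 (walkU j) c) := by
  rw [coe_walkG, map_mulVec_dec ω hω (walk_tab j).1, app3_eq_app (walk_tab j).2.1]

theorem walk_lemma (good : ℕ → Bool) (base : ℕ)
    (hw : ∀ c < 2 ^ 18, good c = true →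
      c = base ∨ (good (stepW c) = true ∧ depW (stepW c) < depW c)) :
    ∀ c < 2 ^ 18, good c = true →
      ∃ h ∈ threeJ3 F ω, (h : Matrix F9 F9 F) *ᵥ dec ω hω c = dec ω hω base := by
  have key : ∀ d c, depW c = d → c < 2 ^ 18 → good c = true →
      ∃ h ∈ threeJ3 F ω, (h : Matrix F9 F9 F) *ᵥ dec ω hω c = dec ω hω base := by
    intro d
    induction d using Nat.strong_induction_on with
    | _ d ih =>
      intro c hd hc hg
      rcases hw c hc hg with rfl | ⟨hg', hlt⟩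
      · exact ⟨1, one_mem _, by rw [Units.val_one, Matrix.one_mulVec]⟩
      · obtain ⟨h, hh, e⟩ := ih (depW (stepW c)) (hd ▸ hlt) (stepW c) rfl (app3_lt _ _) hg'
        refine ⟨h * walkG ω hω (Nat.shiftRight (ndAt c) 4), mul_mem hh (walkG_mem ω hω _), ?_⟩
        rw [Units.val_mul, ← Matrix.mulVec_mulVec, walkG_mulVec]
        exact e
  exact fun c hc hg => key _ c rfl hc hg

theorem walk1 (c : ℕ) (hc : c < 2 ^ 18) (hm : memB c = true) :
    ∃ h ∈ threeJ3 F ω, (h : Matrix F9 F9 F) *ᵥ dec ω hω c = dec ω hω 1 := by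
  apply walk_lemma ω hω memB 1 _ c hc hm
  intro c hc hm
  have := allR_range walk1At 18 walk1_check c hc
  simp only [walk1At, hm, Bool.not_true, Bool.false_or, Bool.or_eq_true, Bool.and_eq_true,
    Nat.blt_eq] at this
  rcases this with h | h
  · exact Or.inl (Nat.eq_of_beq_eq_true h)
  · exact Or.inr h

theorem walk2 (c : ℕ) (hc : c < 2 ^ 18) (hm : good2 c = true) :
    ∃ h ∈ threeJ3 F ω, (h : Matrix F9 F9 F) *ᵥ dec ω hω c = dec ω hω 5 := by
  apply walk_lemma ω hω good2 5 _ c hc hm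
  intro c hc hm
  have := allR_range walk2At 18 walk2_check c hc
  simp only [walk2At, hm, Bool.not_true, Bool.false_or, Bool.or_eq_true, Bool.and_eq_true,
    Nat.blt_eq] at this
  rcases this with h | h
  · exact Or.inl (Nat.eq_of_beq_eq_true h)
  · exact Or.inr h

end

end Cfsg.Agent.Lib.Helper57.J3
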