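import Cfsg.Agent.Lib.Helper57.J3Check1
import Cfsg.Agent.Lib.Helper57.J3SubData

/-!
# Matrices over the field with four elements coded by naturals, and tables of products
-/

set_option autoImplicit false

namespace Cfsg.Agent.Lib.Helper57.J3

open Matrix Cfsg.Spor Cfsg.Agent.Lib.Helper57.Hexa

/-! ### tables of products -/

/-- `V` is the table of the product of the matrices with tables `T` and `U` -/
def IsComp (T U V : ℕ) : Prop := ∀ j < 9, ∀ a < 4, entry V j a = app T (entry U j a)

instance (T U V : ℕ) : Decidable (IsComp T U V) := by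
  unfold IsComp; infer_instance

theorem isTab_mul {M N : Matrix F9 F9 K} {T U V : ℕ} (hM : IsTab M T) (hN : IsTab N U)
    (hV : IsComp T U V) : IsTab (M * N) V := by
  intro z a i
  rw [hV (idx z) (idx_lt z) a a.2]
  have h1 : kOf (app T (entry U (idx z) a) >>> (2 * idx i)) =
      (M *ᵥ decK (entry U (idx z) a)) i := by
    rw [mulVec_decK hM]
    rfl
  rw [h1, Matrix.mulVec, dotProduct, Matrix.mul_apply, Finset.sum_mul]
  apply Finset.sum_congr rfl
  intro j _
  rw [mul_assoc, hN z a j]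
  rfl

/-! ### coded matrices -/

/-- the `j`-th column of a coded matrix -/
def col (e j : ℕ) : ℕ := (e >>> (18 * j)) &&& 262143

theorem col_lt (e j : ℕ) : col e j < 2 ^ 18 := Nat.and_lt_two_pow _ (n := 18) (by norm_num)

/-- the matrix with code `e` -/
def decM (e : ℕ) : Matrix F9 F9 K := Matrix.of fun i z => decK (col e (idx z)) i

theorem mul_decM {M : Matrix F9 F9 K} {T U : ℕ} (hT : IsTab M T) (hU : IsTab3 T U) {e e' : ℕ}
    (h : ∀ j < 9, app3 U (col e j) = col e' j) : M * decM e = decM e' := by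
  apply Matrix.ext
  intro i z
  rw [Matrix.mul_apply]
  have h1 : ∑ j, M i j * decM e j z = (M *ᵥ decK (col e (idx z))) i := rfl
  rw [h1, mulVec_decK hT, ← app3_eq_app hU, h (idx z) (idx_lt z)]
  rfl

theorem decM_injOn {e e' : ℕ} (he : e < 2 ^ 162) (he' : e' < 2 ^ 162) (h : decM e = decM e') :
    e = e' := by
  have hcol : ∀ j < 9, col e j = col e' j := by
    intro j hj
    obtain ⟨z, rfl⟩ := exists_idx j hj
    apply decK_injOn (col_lt _ _) (col_lt _ _)
    funext i
    exact congrFun (congrFun h i) z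
  apply Nat.eq_of_testBit_eq
  intro b
  by_cases hb : b < 162
  · have h1 := congrArg (fun x => Nat.testBit x (b % 18)) (hcol (b / 18) (by omega))
    have h262 : (262143 : ℕ).testBit (b % 18) = decide (b % 18 < 18) :=
      Nat.testBit_two_pow_sub_one 18 _
    have hlt : b % 18 < 18 := Nat.mod_lt _ (by norm_num)
    simp only [col, Nat.testBit_and, Nat.testBit_shiftRight, h262, hlt, decide_true,
      Bool.and_true] at h1
    have hb' : 18 * (b / 18) + b % 18 = b := Nat.div_add_mod b 18
    rwa [hb'] at h1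
  · have h162 : (2 : ℕ) ^ 162 ≤ 2 ^ b := Nat.pow_le_pow_right (by norm_num) (by omega)
    rw [Nat.testBit_lt_two_pow (lt_of_lt_of_le he h162),
      Nat.testBit_lt_two_pow (lt_of_lt_of_le he' h162)]

/-! ### kernel-level comparison of columns -/

/-- the `j`-th column, with raw operations -/
def colR (e j : ℕ) : ℕ := Nat.land (Nat.shiftRight e (Nat.mul 18 j)) 262143

/-- the table by blocks `U` maps the columns of `e` to the columns of `e'` -/
def colsEq (U e e' : ℕ) : Bool :=
  and (Nat.beq (app3 U (colR e 0)) (colR e' 0)) (and (Nat.beq (app3 U (colR e 1)) (colR e' 1))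
  (and (Nat.beq (app3 U (colR e 2)) (colR e' 2)) (and (Nat.beq (app3 U (colR e 3)) (colR e' 3))
  (and (Nat.beq (app3 U (colR e 4)) (colR e' 4)) (and (Nat.beq (app3 U (colR e 5)) (colR e' 5))
  (and (Nat.beq (app3 U (colR e 6)) (colR e' 6)) (and (Nat.beq (app3 U (colR e 7)) (colR e' 7))
  (Nat.beq (app3 U (colR e 8)) (colR e' 8)))))))))

theorem colsEq_spec {U e e' : ℕ} (h : colsEq U e e' = true) :
    ∀ j < 9, app3 U (col e j) = col e' j := by
  simp only [colsEq, Bool.and_eq_true] at h
  obtain ⟨h0, h1, h2, h3, h4, h5, h6, h7, h8⟩ := h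
  intro j hj
  interval_cases j
  · exact Nat.eq_of_beq_eq_true h0
  · exact Nat.eq_of_beq_eq_true h1
  · exact Nat.eq_of_beq_eq_true h2
  · exact Nat.eq_of_beq_eq_true h3
  · exact Nat.eq_of_beq_eq_true h4
  · exact Nat.eq_of_beq_eq_true h5
  · exact Nat.eq_of_beq_eq_true h6
  · exact Nat.eq_of_beq_eq_true h7
  · exact Nat.eq_of_beq_eq_true h8

theorem eAt_lt (i : ℕ) : eAt i < 2 ^ 162 := Nat.and_lt_two_pow _ (n := 162) (by norm_num)

/-! ### units over `K` -/

/-- the invertible matrix given by a unitary matrix over `K` -/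
def unitK (M : Matrix F9 F9 K) (h : M * conjT M = 1) : GL F9 K :=
  ⟨M, conjT M, h, mul_eq_one_comm.mp h⟩

/-- the walking generators, as invertible matrices over `K` -/
def walkK (j : ℕ) : GL F9 K := unitK (walkM j) (walk_tab j).2.2

theorem coe_walkK (j : ℕ) : ((walkK j : GL F9 K) : Matrix F9 F9 K) = walkM j := rfl

theorem walkK_mem (j : ℕ) : walkK j ∈ threeJ3 K w := by
  apply Subgroup.subset_closure
  show walkM j ∈ j3Gens K w
  have h1 : ((1, 1) : F9) ≠ 0 := by decide
  have h2 : F9.one ≠ 0 := by decide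
  simp only [j3Gens, Set.mem_union, Set.mem_range, Set.mem_ofPred_eq]
  rcases j with _ | _ | _ | _ | _ | k
  · exact Or.inl (Or.inl (Or.inl (Or.inl ⟨_, rfl⟩)))
  · exact Or.inl (Or.inl (Or.inl (Or.inl ⟨_, rfl⟩)))
  · exact Or.inl (Or.inl (Or.inl (Or.inr ⟨_, rfl⟩)))
  · exact Or.inl (Or.inl (Or.inr ⟨_, rfl⟩))
  · exact Or.inl (Or.inr ⟨_, h1, rfl⟩)
  · exact Or.inr ⟨_, h2, rfl⟩

end Cfsg.Agent.Lib.Helper57.J3
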