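import Cfsg.Agent.Lib.Helper57.J3Sub

/-!
# Kernel checks for a subgroup of order 24480 of `3·J₃`: tables, closure
-/

set_option autoImplicit false
set_option maxRecDepth 1000000

namespace Cfsg.Agent.Lib.Helper57.J3

open Matrix Cfsg.Spor Cfsg.Agent.Lib.Helper57.Hexa

/-- the first generator of the subgroup -/
def m1K : Matrix F9 F9 K := walkM 4 * (walkM 4 * (walkM 4 * (walkM 4 * walkM 3)))

/-- the second generator of the subgroup -/
def m2K : Matrix F9 F9 K :=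
  walkM 0 * (walkM 5 * (walkM 4 * (walkM 3 * (walkM 4 * (walkM 1 * walkM 1)))))

theorem comp_m1 : IsComp (walkT 4) (walkT 3) tM1p0 ∧ IsComp (walkT 4) tM1p0 tM1p1 ∧
    IsComp (walkT 4) tM1p1 tM1p2 ∧ IsComp (walkT 4) tM1p2 tM1p3 ∧ IsTab3 tM1p3 uM1 := by
  decide +kernel

theorem comp_m2 : IsComp (walkT 1) (walkT 1) tM2p0 ∧ IsComp (walkT 4) tM2p0 tM2p1 ∧
    IsComp (walkT 3) tM2p1 tM2p2 ∧ IsComp (walkT 4) tM2p2 tM2p3 ∧
    IsComp (walkT 5) tM2p3 tM2p4 ∧ IsComp (walkT 0) tM2p4 tM2p5 ∧ IsTab3 tM2p5 uM2 := by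
  decide +kernel

theorem tab_m1 : IsTab m1K tM1p3 :=
  isTab_mul (walk_tab 4).1 (isTab_mul (walk_tab 4).1 (isTab_mul (walk_tab 4).1
    (isTab_mul (walk_tab 4).1 (walk_tab 3).1 comp_m1.1) comp_m1.2.1) comp_m1.2.2.1)
    comp_m1.2.2.2.1

theorem tab_m2 : IsTab m2K tM2p5 :=
  isTab_mul (walk_tab 0).1 (isTab_mul (walk_tab 5).1 (isTab_mul (walk_tab 4).1
    (isTab_mul (walk_tab 3).1 (isTab_mul (walk_tab 4).1 (isTab_mul (walk_tab 1).1 (walk_tab 1).1
      comp_m2.1) comp_m2.2.1) comp_m2.2.2.1) comp_m2.2.2.2.1) comp_m2.2.2.2.2.1)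
    comp_m2.2.2.2.2.2.1

/-- closure of the list of elements under the two generators, at the index `i` -/
def closedMAt (i : ℕ) : Bool :=
  or (Nat.ble 24480 i)
    (and (colsEq uM1 (eAt i) (eAt (p1At i))) (and (Nat.blt (p1At i) 24480)
      (and (colsEq uM2 (eAt i) (eAt (p2At i))) (Nat.blt (p2At i) 24480))))

theorem closedM_check : allR closedMAt 15 0 = true := by decide +kernel

end Cfsg.Agent.Lib.Helper57.J3
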