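import Cfsg.Agent.Lib.Helper57.J3Sub

/-!
# Kernel checks for a subgroup of order 24480 of `3·J₃`: the list is sorted, walking to `1`
-/

set_option autoImplicit false
set_option maxRecDepth 1000000

namespace Cfsg.Agent.Lib.Helper57.J3

open Matrix Cfsg.Spor Cfsg.Agent.Lib.Helper57.Hexa

/-- the list of elements increases at `i` -/
def sortedMAt (i : ℕ) : Bool := or (Nat.ble 24479 i) (Nat.blt (eAt i) (eAt (Nat.succ i)))

theorem sortedM_check : allR sortedMAt 15 0 = true := by decide +kernel

/-- one step of the walk to the identity, on indices -/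
def stepM (i : ℕ) : ℕ := cond (Nat.beq (Nat.shiftRight (mdAt i) 6) 0) (p1At i) (p2At i)

/-- the depth of the element `i` -/
def depM (i : ℕ) : ℕ := Nat.land (mdAt i) 63

/-- the walk goes down at `i` -/
def walkMAt (i : ℕ) : Bool :=
  or (Nat.ble 24480 i) (or (Nat.beq i 6241) (Nat.blt (depM (stepM i)) (depM i)))

theorem walkM_check : allR walkMAt 15 0 = true := by decide +kernel

theorem eAt_one : decM (eAt 6241) = 1 := by decide +kernel

theorem eAt_scalar : decM (eAt 12321) = mS := by decide +kernel

end Cfsg.Agent.Lib.Helper57.J3
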