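import Cfsg.Agent.Lib.Helper57.J3SubCheck1
import Cfsg.Agent.Lib.Helper57.J3SubCheck2

/-!
# A subgroup of order 24480 of `3·J₃` (over the concrete field with four elements)
-/

set_option autoImplicit false

namespace Cfsg.Agent.Lib.Helper57.J3

open Matrix Cfsg.Spor Cfsg.Agent.Lib.Helper57.Hexa

/-- the first generator, as an invertible matrix -/
def m1G : GL F9 K := walkK 4 * (walkK 4 * (walkK 4 * (walkK 4 * walkK 3)))

/-- the second generator, as an invertible matrix -/
def m2G : GL F9 K :=
  walkK 0 * (walkK 5 * (walkK 4 * (walkK 3 * (walkK 4 * (walkK 1 * walkK 1)))))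

theorem coe_m1G : (m1G : Matrix F9 F9 K) = m1K := rfl

theorem coe_m2G : (m2G : Matrix F9 F9 K) = m2K := rfl

theorem m1G_mem : m1G ∈ threeJ3 K w :=
  mul_mem (walkK_mem 4) (mul_mem (walkK_mem 4) (mul_mem (walkK_mem 4)
    (mul_mem (walkK_mem 4) (walkK_mem 3))))

theorem m2G_mem : m2G ∈ threeJ3 K w :=
  mul_mem (walkK_mem 0) (mul_mem (walkK_mem 5) (mul_mem (walkK_mem 4) (mul_mem (walkK_mem 3)
    (mul_mem (walkK_mem 4) (mul_mem (walkK_mem 1) (walkK_mem 1))))))

/-- the subgroup generated by the two generators -/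
def subM : Subgroup (GL F9 K) := Subgroup.closure {m1G, m2G}

theorem subM_le : subM ≤ threeJ3 K w := by
  rw [subM, Subgroup.closure_le]
  rintro g (rfl | rfl)
  · exact m1G_mem
  · exact m2G_mem

theorem m1G_mem_subM : m1G ∈ subM := Subgroup.subset_closure (by simp)

theorem m2G_mem_subM : m2G ∈ subM := Subgroup.subset_closure (by simp)

/-- the invertible matrices in the list -/
def Eset : Set (GL F9 K) := {g | ∃ i < 24480, (g : Matrix F9 F9 K) = decM (eAt i)}

theorem ble_false {a i : ℕ} (h : i < a) : Nat.ble a i = false := by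
  cases hb : Nat.ble a i
  · rfl
  · exact absurd (Nat.le_of_ble_eq_true hb) (by omega)

theorem closedM_spec (i : ℕ) (hi : i < 24480) :
    m1K * decM (eAt i) = decM (eAt (p1At i)) ∧ p1At i < 24480 ∧
    m2K * decM (eAt i) = decM (eAt (p2At i)) ∧ p2At i < 24480 := by
  have h := allR_range closedMAt 15 closedM_check i (by omega)
  simp only [closedMAt, ble_false hi, Bool.false_or, Bool.and_eq_true, Nat.blt_eq] at h
  obtain ⟨h1, h2, h3, h4⟩ := h
  exact ⟨mul_decM tab_m1 comp_m1.2.2.2.2 (colsEq_spec h1), h2,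
    mul_decM tab_m2 comp_m2.2.2.2.2.2.2 (colsEq_spec h3), h4⟩

theorem gen_mul_mem {e : GL F9 K} (he : e ∈ Eset) : m1G * e ∈ Eset ∧ m2G * e ∈ Eset := by
  obtain ⟨i, hi, hei⟩ := he
  obtain ⟨h1, h2, h3, h4⟩ := closedM_spec i hi
  constructor
  · exact ⟨p1At i, h2, by rw [Units.val_mul, hei, coe_m1G, h1]⟩
  · exact ⟨p2At i, h4, by rw [Units.val_mul, hei, coe_m2G, h3]⟩

theorem one_mem_Eset : (1 : GL F9 K) ∈ Eset :=
  ⟨6241, by norm_num, by rw [Units.val_one, eAt_one]⟩

theorem mul_mem_Eset {g : GL F9 K} (hg : g ∈ subM) : ∀ e ∈ Eset, g * e ∈ Eset := by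
  induction hg using Subgroup.closure_induction with
  | mem g hg =>
    intro e he
    rcases hg with rfl | rfl
    · exact (gen_mul_mem he).1
    · exact (gen_mul_mem he).2
  | one => intro e he; rwa [one_mul]
  | mul g h _ _ ihg ihh => intro e he; rw [mul_assoc]; exact ihg _ (ihh e he)
  | inv g _ ih =>
    intro e he
    let f : Eset → Eset := fun u => ⟨g * u.1, ih u.1 u.2⟩
    have hinj : Function.Injective f := by
      intro a b hab
      have h1 : g * a.1 = g * b.1 := congrArg Subtype.val hab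
      exact Subtype.ext (mul_left_cancel h1)
    obtain ⟨⟨u, hu⟩, hfu⟩ := Finite.surjective_of_injective hinj ⟨e, he⟩
    have h2 : g * u = e := congrArg Subtype.val hfu
    rw [← h2, inv_mul_cancel_left]
    exact hu

theorem subM_subset : ∀ g ∈ subM, g ∈ Eset := by
  intro g hg
  have := mul_mem_Eset hg 1 one_mem_Eset
  rwa [mul_one] at this

theorem walkM_spec (i : ℕ) (hi : i < 24480) :
    i = 6241 ∨ depM (stepM i) < depM i := by
  have h := allR_range walkMAt 15 walkM_check i (by omega)
  simp only [walkMAt, ble_false hi, Bool.false_or, Bool.or_eq_true, Nat.blt_eq] at h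
  rcases h with h | h
  · exact Or.inl (Nat.eq_of_beq_eq_true h)
  · exact Or.inr h

theorem exists_unit (i : ℕ) (hi : i < 24480) :
    ∃ g ∈ subM, (g : Matrix F9 F9 K) = decM (eAt i) := by
  have key : ∀ d i, depM i = d → i < 24480 →
      ∃ g ∈ subM, (g : Matrix F9 F9 K) = decM (eAt i) := by
    intro d
    induction d using Nat.strong_induction_on with
    | _ d ih =>
      intro i hd hi
      rcases walkM_spec i hi with rfl | hlt
      · exact ⟨1, one_mem _, by rw [Units.val_one, eAt_one]⟩
      · obtain ⟨h1, h2, h3, h4⟩ := closedM_spec i hi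
        cases hb : Nat.beq (Nat.shiftRight (mdAt i) 6) 0
        · have hs : stepM i = p2At i := by simp only [stepM, hb, cond_false]
          rw [hs] at hlt
          obtain ⟨g', hg', e'⟩ := ih _ (hd ▸ hlt) (p2At i) rfl h4
          refine ⟨m2G⁻¹ * g', mul_mem (inv_mem m2G_mem_subM) hg', ?_⟩
          have : (m2G : Matrix F9 F9 K) * decM (eAt i) = (g' : Matrix F9 F9 K) := by
            rw [coe_m2G, h3, e']
          rw [Units.val_mul, ← this, ← mul_assoc, ← Units.val_mul, inv_mul_cancel, Units.val_one,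
            one_mul]
        · have hs : stepM i = p1At i := by simp only [stepM, hb, cond_true]
          rw [hs] at hlt
          obtain ⟨g', hg', e'⟩ := ih _ (hd ▸ hlt) (p1At i) rfl h2
          refine ⟨m1G⁻¹ * g', mul_mem (inv_mem m1G_mem_subM) hg', ?_⟩
          have : (m1G : Matrix F9 F9 K) * decM (eAt i) = (g' : Matrix F9 F9 K) := by
            rw [coe_m1G, h1, e']
          rw [Units.val_mul, ← this, ← mul_assoc, ← Units.val_mul, inv_mul_cancel, Units.val_one,
            one_mul]
  exact key _ i rfl hi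

theorem sortedM_spec (i : ℕ) (hi : i < 24479) : eAt i < eAt (i + 1) := by
  have h := allR_range sortedMAt 15 sortedM_check i (by omega)
  simp only [sortedMAt, ble_false hi, Bool.false_or, Nat.blt_eq] at h
  exact h

theorem eAt_lt_of_lt : ∀ d i, i + d + 1 < 24480 → eAt i < eAt (i + d + 1) := by
  intro d
  induction d with
  | zero => intro i hi; exact sortedM_spec i (by omega)
  | succ d ih =>
    intro i hi
    exact lt_trans (ih i (by omega)) (sortedM_spec (i + d + 1) (by omega))

theorem eAt_inj {i j : ℕ} (hi : i < 24480) (hj : j < 24480) (h : eAt i = eAt j) : i = j := by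
  rcases Nat.lt_trichotomy i j with hlt | heq | hgt
  · obtain ⟨d, rfl⟩ : ∃ d, j = i + d + 1 := ⟨j - i - 1, by omega⟩
    exact absurd h (ne_of_lt (eAt_lt_of_lt d i hj))
  · exact heq
  · obtain ⟨d, rfl⟩ : ∃ d, i = j + d + 1 := ⟨i - j - 1, by omega⟩
    exact absurd h.symm (ne_of_lt (eAt_lt_of_lt d j hi))

theorem card_subM : Nat.card subM = 24480 := by
  classical
  let f : Fin 24480 → subM := fun i =>
    ⟨(exists_unit i.1 i.2).choose, (exists_unit i.1 i.2).choose_spec.1⟩
  have hf : ∀ i : Fin 24480, ((f i : GL F9 K) : Matrix F9 F9 K) = decM (eAt i.1) :=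
    fun i => (exists_unit i.1 i.2).choose_spec.2
  have hbij : Function.Bijective f := by
    constructor
    · intro i j hij
      have h1 : decM (eAt i.1) = decM (eAt j.1) := by rw [← hf i, ← hf j, hij]
      exact Fin.ext (eAt_inj i.2 j.2 (decM_injOn (eAt_lt _) (eAt_lt _) h1))
    · intro g
      obtain ⟨i, hi, hgi⟩ := subM_subset g.1 g.2
      refine ⟨⟨i, hi⟩, ?_⟩
      apply Subtype.ext
      apply Units.ext
      rw [hf ⟨i, hi⟩, hgi]
  rw [← Nat.card_eq_of_bijective f hbij, Nat.card_eq_fintype_card, Fintype.card_fin]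

/-! ### the scalar -/

theorem exists_scalar : ∃ g ∈ subM, (g : Matrix F9 F9 K) = mS := by
  obtain ⟨g, hg, e⟩ := exists_unit 12321 (by norm_num)
  exact ⟨g, hg, by rw [e, eAt_scalar]⟩

theorem mS_comm (A : Matrix F9 F9 K) : mS * A = A * mS := by
  apply Matrix.ext
  intro i j
  rw [mS, Matrix.diagonal_mul, Matrix.mul_diagonal, mul_comm]

theorem mS_ne_one : mS ≠ 1 := by decide +kernel

end Cfsg.Agent.Lib.Helper57.J3
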