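import Mathlib
import Cfsg.Agent.Lib.Helper57.AffGrp

set_option autoImplicit false

namespace Cfsg.Agent.Lib.Helper57.L33

open Cfsg.Agent.Lib.Helper57

open Polynomial Matrix

variable {F : Type*} [Field F]

theorem three_eq_zero [Fintype F] (hF : Fintype.card F = 3) : (3 : F) = 0 := by
  have h := Nat.cast_card_eq_zero F
  rw [hF] at h
  exact_mod_cast h

theorem elems [Fintype F] (hF : Fintype.card F = 3) (x : F) : x = 0 ∨ x = 1 ∨ x = -1 := by
  obtain ⟨y, rfl⟩ := (ZMod.ringEquivOfPrime F Nat.prime_three hF).surjective x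
  have hy : y = 0 ∨ y = 1 ∨ y = -1 := by
    revert y; decide
  rcases hy with rfl | rfl | rfl
  · left; simp
  · right; left; simp
  · right; right; simp

theorem pow_eq_one_of_charpoly_mul (A : Matrix (Fin 3) (Fin 3) F) (N : ℕ) (Q : F[X])
    (hkey : (X : F[X]) ^ N - 1 = A.charpoly * Q) : A ^ N = 1 := by
  have h := Matrix.aeval_self_charpoly A
  have h2 : aeval A ((X : F[X]) ^ N - 1) = 0 := by
    rw [hkey, map_mul, h, zero_mul]
  simpa [sub_eq_zero] using h2

theorem charpoly_form (A : Matrix (Fin 3) (Fin 3) F) (hA : A.det = 1) :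
    A.charpoly = X ^ 3 + C (A.charpoly.coeff 2) * X ^ 2 + C (A.charpoly.coeff 1) * X - 1 := by
  have hmonic : A.charpoly.Monic := Matrix.charpoly_monic A
  have hdeg : A.charpoly.natDegree = 3 := by
    rw [Matrix.charpoly_natDegree_eq_dim]; simp
  have hc0 : A.charpoly.coeff 0 = -1 := by
    have h := Matrix.det_eq_sign_charpoly_coeff A
    rw [hA] at h
    simp only [Fintype.card_fin] at h
    have : (-1 : F) ^ 3 = -1 := by ring
    rw [this] at h
    linear_combination h
  have hc3 : A.charpoly.coeff 3 = 1 := by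
    have := hmonic.leadingCoeff
    rwa [Polynomial.leadingCoeff, hdeg] at this
  conv_lhs => rw [Polynomial.as_sum_range_C_mul_X_pow A.charpoly]
  rw [hdeg]
  simp only [Finset.sum_range_succ, Finset.range_zero, Finset.sum_empty, zero_add, hc0, hc3]
  simp only [map_neg, map_one, pow_zero, pow_one, one_mul, mul_one]
  ring

theorem pow_cases_matrix [Fintype F] (hF : Fintype.card F = 3) (A : Matrix (Fin 3) (Fin 3) F)
    (hA : A.det = 1) : A ^ 13 = 1 ∨ A ^ 3 = 1 ∨ A ^ 6 = 1 ∨ A ^ 4 = 1 ∨ A ^ 8 = 1 := by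
  have h3 : (3 : F[X]) = 0 := by
    have := congrArg (C : F → F[X]) (three_eq_zero hF)
    simpa [map_ofNat] using this
  have hform := charpoly_form A hA
  rcases elems hF (A.charpoly.coeff 2) with ha | ha | ha <;>
    rcases elems hF (A.charpoly.coeff 1) with hb | hb | hb <;>
    rw [ha, hb] at hform <;>
    simp only [map_zero, map_one, map_neg, zero_mul, one_mul, add_zero, neg_mul] at hform
  · -- (0,0): N = 3
    right; left
    apply pow_eq_one_of_charpoly_mul A 3 1
    rw [hform]; ring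
  · -- (0,1): N = 8
    right; right; right; right
    apply pow_eq_one_of_charpoly_mul A 8 (1 + X + X ^ 2 - X ^ 3 + X ^ 5)
    rw [hform]; linear_combination (-X ^ 3 : F[X]) * h3
  · -- (0,-1): N = 13
    left
    apply pow_eq_one_of_charpoly_mul A 13
      (1 - X + X ^ 2 - X ^ 4 - X ^ 5 + X ^ 6 + X ^ 7 + X ^ 8 + X ^ 10)
    rw [hform]; linear_combination (-X ^ 5 + X ^ 7 + X ^ 8 : F[X]) * h3
  · -- (1,0): N = 13
    left
    apply pow_eq_one_of_charpoly_mul A 13
      (1 + X ^ 2 + X ^ 3 + X ^ 4 - X ^ 5 - X ^ 6 + X ^ 8 - X ^ 9 + X ^ 10)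
    rw [hform]; linear_combination (-X ^ 5 - X ^ 6 + X ^ 8 : F[X]) * h3
  · -- (1,1): N = 13
    left
    apply pow_eq_one_of_charpoly_mul A 13
      (1 + X - X ^ 2 + X ^ 3 + X ^ 4 + X ^ 5 - X ^ 7 - X ^ 9 + X ^ 10)
    rw [hform]; linear_combination (-X ^ 2 - X ^ 6 - X ^ 7 + X ^ 10 : F[X]) * h3
  · -- (1,-1): N = 6
    right; right; left
    apply pow_eq_one_of_charpoly_mul A 6 (1 - X - X ^ 2 + X ^ 3)
    rw [hform]; linear_combination (-X ^ 2 + X ^ 4 : F[X]) * h3
  · -- (-1,0): N = 8
    right; right; right; right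
    apply pow_eq_one_of_charpoly_mul A 8 (1 - X ^ 2 + X ^ 3 + X ^ 4 + X ^ 5)
    rw [hform]; linear_combination (X ^ 5 : F[X]) * h3
  · -- (-1,1): N = 4
    right; right; right; left
    apply pow_eq_one_of_charpoly_mul A 4 (1 + X)
    rw [hform]; ring
  · -- (-1,-1): N = 13
    left
    apply pow_eq_one_of_charpoly_mul A 13
      (1 - X - X ^ 3 + X ^ 5 + X ^ 6 + X ^ 7 - X ^ 8 + X ^ 9 + X ^ 10)
    rw [hform]; linear_combination (-X ^ 3 + X ^ 6 + X ^ 7 + X ^ 11 : F[X]) * h3


open scoped MatrixGroups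

theorem pow_cases_SL [Fintype F] (hF : Fintype.card F = 3) (A : Matrix.SpecialLinearGroup (Fin 3) F) :
    A ^ 13 = 1 ∨ A ^ 3 = 1 ∨ A ^ 6 = 1 ∨ A ^ 4 = 1 ∨ A ^ 8 = 1 := by
  have key : ∀ N : ℕ, (A : Matrix (Fin 3) (Fin 3) F) ^ N = 1 → A ^ N = 1 := by
    intro N h
    exact Subtype.ext ((Matrix.SpecialLinearGroup.coe_pow A N).trans
      (h.trans Matrix.SpecialLinearGroup.coe_one.symm))
  rcases pow_cases_matrix hF A.1 A.2 with h | h | h | h | h
  · exact Or.inl (key _ h)
  · exact Or.inr (Or.inl (key _ h))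
  · exact Or.inr (Or.inr (Or.inl (key _ h)))
  · exact Or.inr (Or.inr (Or.inr (Or.inl (key _ h))))
  · exact Or.inr (Or.inr (Or.inr (Or.inr (key _ h))))

theorem orderOf_mem_of_pow_cases {G : Type*} [Group G] (x : G)
    (h : x ^ 13 = 1 ∨ x ^ 3 = 1 ∨ x ^ 6 = 1 ∨ x ^ 4 = 1 ∨ x ^ 8 = 1) :
    orderOf x ∈ ({1, 2, 3, 4, 6, 8, 13} : Set ℕ) := by
  have aux : ∀ N : ℕ, N ≠ 0 → x ^ N = 1 → orderOf x ∈ Nat.divisors N := fun N hN hx =>
    Nat.mem_divisors.mpr ⟨orderOf_dvd_of_pow_eq_one hx, hN⟩
  rcases h with h | h | h | h | h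
  · have := aux 13 (by norm_num) h
    have hd : Nat.divisors 13 = {1, 13} := by decide
    rw [hd] at this
    simp only [Finset.mem_insert, Finset.mem_singleton] at this
    rcases this with h | h <;> simp [h]
  · have := aux 3 (by norm_num) h
    have hd : Nat.divisors 3 = {1, 3} := by decide
    rw [hd] at this
    simp only [Finset.mem_insert, Finset.mem_singleton] at this
    rcases this with h | h <;> simp [h]
  · have := aux 6 (by norm_num) h
    have hd : Nat.divisors 6 = {1, 2, 3, 6} := by decide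
    rw [hd] at this
    simp only [Finset.mem_insert, Finset.mem_singleton] at this
    rcases this with h | h | h | h <;> simp [h]
  · have := aux 4 (by norm_num) h
    have hd : Nat.divisors 4 = {1, 2, 4} := by decide
    rw [hd] at this
    simp only [Finset.mem_insert, Finset.mem_singleton] at this
    rcases this with h | h | h <;> simp [h]
  · have := aux 8 (by norm_num) h
    have hd : Nat.divisors 8 = {1, 2, 4, 8} := by decide
    rw [hd] at this
    simp only [Finset.mem_insert, Finset.mem_singleton] at this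
    rcases this with h | h | h | h <;> simp [h]

theorem orderOf_PSL_mem [Fintype F] (hF : Fintype.card F = 3)
    (x : Matrix.ProjectiveSpecialLinearGroup (Fin 3) F) :
    orderOf x ∈ ({1, 2, 3, 4, 6, 8, 13} : Set ℕ) := by
  obtain ⟨A, rfl⟩ := QuotientGroup.mk_surjective x
  apply orderOf_mem_of_pow_cases
  have key : ∀ N : ℕ, A ^ N = 1 →
      (QuotientGroup.mk A : Matrix.ProjectiveSpecialLinearGroup (Fin 3) F) ^ N = 1 := by
    intro N h
    rw [← QuotientGroup.mk_pow, h]
    rfl
  rcases pow_cases_SL hF A with h | h | h | h | h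
  · exact Or.inl (key _ h)
  · exact Or.inr (Or.inl (key _ h))
  · exact Or.inr (Or.inr (Or.inl (key _ h)))
  · exact Or.inr (Or.inr (Or.inr (Or.inl (key _ h))))
  · exact Or.inr (Or.inr (Or.inr (Or.inr (key _ h))))

theorem center_eq_bot [Fintype F] (hF : Fintype.card F = 3) :
    Subgroup.center (Matrix.SpecialLinearGroup (Fin 3) F) = ⊥ := by
  rw [eq_bot_iff]
  intro A hA
  rw [Matrix.SpecialLinearGroup.mem_center_iff] at hA
  obtain ⟨r, hr, hrA⟩ := hA
  rw [Subgroup.mem_bot]
  simp only [Fintype.card_fin] at hr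
  have hr1 : r = 1 := by
    rcases elems hF r with h | h | h
    · rw [h] at hr; simp at hr
    · exact h
    · rw [h] at hr
      have h2 : (-1 : F) ^ 3 = -1 := by ring
      rw [h2] at hr
      -- -1 = 1 means 2 = 0, but 3 = 0 so 1 = 0
      have h3 := three_eq_zero hF
      have : (1 : F) = 0 := by linear_combination h3 + hr
      exact absurd this one_ne_zero
  apply Subtype.ext
  rw [← hrA, hr1]
  simp

/-- companion matrices over `ZMod 3` -/
def B13 : Matrix.SpecialLinearGroup (Fin 3) (ZMod 3) := ⟨!![0, 0, 1; 1, 0, 1; 0, 1, 0], by decide⟩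
/-- order 8 -/
def B8 : Matrix.SpecialLinearGroup (Fin 3) (ZMod 3) := ⟨!![0, 0, 1; 1, 0, 2; 0, 1, 0], by decide⟩
/-- order 6 -/
def B6 : Matrix.SpecialLinearGroup (Fin 3) (ZMod 3) := ⟨!![0, 0, 1; 1, 0, 1; 0, 1, 2], by decide⟩

theorem SL_pow_eq_one_iff {R : Type*} [CommRing R] (A : Matrix.SpecialLinearGroup (Fin 3) R) (N : ℕ) :
    A ^ N = 1 ↔ (A : Matrix (Fin 3) (Fin 3) R) ^ N = 1 := by
  constructor
  · intro h
    exact (Matrix.SpecialLinearGroup.coe_pow A N).symm.trans
      ((congrArg Subtype.val h).trans Matrix.SpecialLinearGroup.coe_one)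
  · intro h
    exact Subtype.ext ((Matrix.SpecialLinearGroup.coe_pow A N).trans
      (h.trans Matrix.SpecialLinearGroup.coe_one.symm))

theorem orderOf_B13 : orderOf B13 = 13 := by
  have : Fact (Nat.Prime 13) := ⟨by norm_num⟩
  apply orderOf_eq_prime
  · rw [SL_pow_eq_one_iff]; decide +kernel
  · intro h
    have := congrArg (fun A : Matrix.SpecialLinearGroup (Fin 3) (ZMod 3) => A.1 0 0) h
    revert this
    decide

theorem orderOf_B8 : orderOf B8 = 8 := by
  have : Fact (Nat.Prime 2) := ⟨Nat.prime_two⟩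
  have h := orderOf_eq_prime_pow (x := B8) (p := 2) (n := 2)
    (by rw [SL_pow_eq_one_iff]; decide +kernel) (by rw [SL_pow_eq_one_iff]; decide +kernel)
  simpa using h

theorem orderOf_B6 : orderOf B6 = 6 := by
  apply orderOf_eq_six
  · rw [SL_pow_eq_one_iff]; decide +kernel
  · rw [Ne, SL_pow_eq_one_iff]; decide +kernel
  · rw [Ne, SL_pow_eq_one_iff]; decide +kernel

/-- the embedding `SL(3, ZMod 3) → PSL(3, F)` -/
noncomputable def toPSL [Fintype F] (hF : Fintype.card F = 3) :
    Matrix.SpecialLinearGroup (Fin 3) (ZMod 3) →* Matrix.ProjectiveSpecialLinearGroup (Fin 3) F :=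
  (QuotientGroup.mk' _).comp
    (Matrix.SpecialLinearGroup.map (ZMod.ringEquivOfPrime F Nat.prime_three hF).toRingHom)

theorem toPSL_injective [Fintype F] (hF : Fintype.card F = 3) :
    Function.Injective (toPSL hF) := by
  rw [← MonoidHom.ker_eq_bot_iff, eq_bot_iff]
  intro A hA
  rw [MonoidHom.mem_ker, toPSL, MonoidHom.comp_apply, QuotientGroup.mk'_apply,
    QuotientGroup.eq_one_iff, center_eq_bot hF, Subgroup.mem_bot] at hA
  rw [Subgroup.mem_bot]
  apply Subtype.ext
  have h1 := congrArg Subtype.val hA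
  simp only [Matrix.SpecialLinearGroup.map_apply_coe, Matrix.SpecialLinearGroup.coe_one] at h1
  have hinj : Function.Injective
      ((ZMod.ringEquivOfPrime F Nat.prime_three hF).toRingHom.mapMatrix (m := Fin 3)) := by
    intro M N hMN
    ext i j
    have := congrFun (congrFun hMN i) j
    simp only [RingHom.mapMatrix_apply, Matrix.map_apply] at this
    exact (ZMod.ringEquivOfPrime F Nat.prime_three hF).injective this
  apply hinj
  rw [h1]
  exact (map_one ((ZMod.ringEquivOfPrime F Nat.prime_three hF).toRingHom.mapMatrix (m := Fin 3))).symm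

theorem range_orderOf_PSL [Fintype F] (hF : Fintype.card F = 3) :
    Set.range (orderOf : Matrix.ProjectiveSpecialLinearGroup (Fin 3) F → ℕ) =
      {1, 2, 3, 4, 6, 8, 13} := by
  ext n
  constructor
  · rintro ⟨x, rfl⟩
    exact orderOf_PSL_mem hF x
  · intro hn
    have ho : ∀ B : Matrix.SpecialLinearGroup (Fin 3) (ZMod 3), orderOf (toPSL hF B) = orderOf B :=
      fun B => orderOf_injective (toPSL hF) (toPSL_injective hF) B
    simp only [Set.mem_insert_iff, Set.mem_singleton_iff] at hn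
    rcases hn with rfl | rfl | rfl | rfl | rfl | rfl | rfl
    · exact ⟨1, orderOf_one⟩
    · refine ⟨toPSL hF (B8 ^ 4), ?_⟩
      rw [ho, orderOf_pow_of_dvd (by norm_num) (by rw [orderOf_B8]; norm_num), orderOf_B8]
    · refine ⟨toPSL hF (B6 ^ 2), ?_⟩
      rw [ho, orderOf_pow_of_dvd (by norm_num) (by rw [orderOf_B6]; norm_num), orderOf_B6]
    · refine ⟨toPSL hF (B8 ^ 2), ?_⟩
      rw [ho, orderOf_pow_of_dvd (by norm_num) (by rw [orderOf_B8]; norm_num), orderOf_B8]
    · exact ⟨toPSL hF B6, by rw [ho, orderOf_B6]⟩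
    · exact ⟨toPSL hF B8, by rw [ho, orderOf_B8]⟩
    · exact ⟨toPSL hF B13, by rw [ho, orderOf_B13]⟩

end Cfsg.Agent.Lib.Helper57.L33
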