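import Cfsg.Agent.Lib.Helper57.J1Abs
import Cfsg.Agent.Lib.Helper57.StemSeven
import Cfsg.Agent.Lib.Helper65.StemLemmas2

/-!
# Stem extensions of the semidihedral group of order 16, and related abstract lemmas

Used for the Schur multiplier of `M₁₁`.
-/

set_option autoImplicit false

namespace Cfsg.Agent.Lib.Helper57.StemSD

open scoped commutatorElement

universe u v

theorem mem_normalizer_zpowers_of_comm {X : Type*} [Group X] {g c : X} (h : g * c = c * g) :
    g ∈ Subgroup.normalizer (Subgroup.zpowers c : Set X) := by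
  have hx : ∀ y ∈ Subgroup.zpowers c, g * y * g⁻¹ = y := by
    intro y hy
    obtain ⟨k, rfl⟩ := Subgroup.mem_zpowers_iff.1 hy
    have : Commute g (c ^ k) := (show Commute g c from h).zpow_right k
    rw [this.eq, mul_assoc, mul_inv_cancel, mul_one]
  rw [Subgroup.mem_normalizer_iff]
  intro x
  constructor
  · intro hx'; rw [hx x hx']; exact hx'
  · intro hx'
    have h2 := hx _ hx'
    have h3 : g * x * g⁻¹ = x := by
      have := congrArg (fun t => g⁻¹ * t * g) h2
      simpa [mul_assoc] using this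
    rw [← h3]; exact hx'

section SD16

variable {P : Type u} [Group P] {Q : Type v} [Group Q]

/-- stem extensions of the semidihedral group of order 16 are trivial -/
theorem sd16_stem_trivial (r s : P) (hgen : Subgroup.closure {r, s} = ⊤) (hr : orderOf r = 8)
    (hrs : s * r = r ^ 3 * s) (hs : s * s = 1) (τ : Q →* P) (hτ : Cfsg.IsStemExtension τ) :
    τ.ker = ⊥ := by
  obtain ⟨R, rfl⟩ := hτ.1 r
  obtain ⟨S, rfl⟩ := hτ.1 s
  have hcen := hτ.2.1
  set k : Q := (R ^ 3)⁻¹ * (S * R * S⁻¹) with hk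
  have hkker : k ∈ τ.ker := by
    rw [MonoidHom.mem_ker, hk]
    simp only [map_mul, map_inv, map_pow]
    rw [hrs]; group
  have hkc : ∀ g, Commute k g := fun g => ((Subgroup.mem_center_iff.1 (hcen hkker)) g).symm
  have hT : S * R * S⁻¹ = R ^ 3 * k := by rw [hk]; group
  have hS2 : S * S ∈ τ.ker := by rw [MonoidHom.mem_ker, map_mul, hs]
  have hS2c : ∀ g, Commute (S * S) g := fun g => ((Subgroup.mem_center_iff.1 (hcen hS2)) g).symm
  have e1 : S * (S * R * S⁻¹) * S⁻¹ = R := by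
    calc S * (S * R * S⁻¹) * S⁻¹ = (S * S) * R * (S * S)⁻¹ := by group
      _ = R * (S * S) * (S * S)⁻¹ := by rw [(hS2c R).eq]
      _ = R := by group
  have hkS : S * k * S⁻¹ = k := by
    rw [← (hkc S).eq, mul_assoc, mul_inv_cancel, mul_one]
  have e2 : S * (R ^ 3 * k) * S⁻¹ = (R ^ 3 * k) ^ 3 * k := by
    calc S * (R ^ 3 * k) * S⁻¹ = (S * R * S⁻¹) ^ 3 * (S * k * S⁻¹) := by rw [conj_pow]; group
      _ = (R ^ 3 * k) ^ 3 * k := by rw [hT, hkS]
  have e3 : ∀ n : ℕ, (R ^ 3 * k) ^ n = R ^ (3 * n) * k ^ n := by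
    intro n
    rw [((hkc (R ^ 3)).symm).mul_pow, ← pow_mul]
  have h84 : R ^ 8 * k ^ 4 = 1 := by
    have h1 : R = R ^ 9 * k ^ 3 * k := by
      rw [← e3 3, ← e2, ← hT]; exact e1.symm
    have h2 : R = R * (R ^ 8 * k ^ 4) := by
      calc R = R ^ 9 * k ^ 3 * k := h1
        _ = R * (R ^ 8 * k ^ 4) := by
          rw [show (9 : ℕ) = 1 + 8 from rfl, pow_add, pow_one, show (4 : ℕ) = 3 + 1 from rfl,
            pow_add k, pow_one]
          group
    exact (mul_eq_left.1 h2.symm)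
  set c : Q := R * S * R⁻¹ * S⁻¹ with hc
  have hki : ∀ g, Commute k⁻¹ g := fun g => (hkc g).inv_left
  have hc' : c = (R ^ 2)⁻¹ * k⁻¹ := by
    calc c = R * (S * R * S⁻¹)⁻¹ := by rw [hc]; group
      _ = R * (R ^ 3 * k)⁻¹ := by rw [hT]
      _ = R * ((R ^ 3)⁻¹ * k⁻¹) := by rw [mul_inv_rev, (hki ((R ^ 3)⁻¹)).eq]
      _ = (R ^ 2)⁻¹ * k⁻¹ := by rw [← mul_assoc]; congr 1; group
  have hc4 : c ^ 4 = 1 := by
    rw [hc', ((hki ((R ^ 2)⁻¹)).symm).mul_pow, inv_pow, inv_pow, ← pow_mul,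
      ← mul_inv_rev, inv_eq_one]
    rw [((hkc (R ^ (2 * 4))).pow_left 4).eq]
    exact h84
  have hRc : R * c = c * R := by
    have h1 : Commute R ((R ^ 2)⁻¹) := ((Commute.refl R).pow_right 2).inv_right
    rw [hc']
    calc R * ((R ^ 2)⁻¹ * k⁻¹) = (R * (R ^ 2)⁻¹) * k⁻¹ := by rw [mul_assoc]
      _ = ((R ^ 2)⁻¹ * R) * k⁻¹ := by rw [h1.eq]
      _ = (R ^ 2)⁻¹ * (R * k⁻¹) := by rw [mul_assoc]
      _ = (R ^ 2)⁻¹ * (k⁻¹ * R) := by rw [(hki R).eq]
      _ = (R ^ 2)⁻¹ * k⁻¹ * R := by rw [mul_assoc]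
  have hSc : S * c * S⁻¹ = c⁻¹ := by
    have h1 : S * c * S⁻¹ = ((S * R * S⁻¹) ^ 2)⁻¹ * (S * k * S⁻¹)⁻¹ := by
      rw [hc', conj_pow]; group
    have h2 : k * (R ^ 6 * k ^ 2) * (k * R ^ 2) = R ^ 8 * k ^ 4 := by
      calc k * (R ^ 6 * k ^ 2) * (k * R ^ 2) = (R ^ 6 * k ^ 2) * k * (k * R ^ 2) := by
            rw [(hkc (R ^ 6 * k ^ 2)).eq]
        _ = R ^ 6 * (k ^ 2 * k * k) * R ^ 2 := by group
        _ = R ^ 6 * (k ^ 4 * R ^ 2) := by
            rw [← pow_succ, ← pow_succ, mul_assoc]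
        _ = R ^ 6 * (R ^ 2 * k ^ 4) := by rw [((hkc (R ^ 2)).pow_left 4).eq]
        _ = R ^ 8 * k ^ 4 := by rw [← mul_assoc, ← pow_add]
    rw [h1, hT, hkS, e3 2, ← mul_inv_rev]
    apply inv_eq_of_mul_eq_one_right
    rw [hc', mul_inv_rev, inv_inv, inv_inv]
    exact h2.trans h84
  have hle := Cfsg.Agent.Lib.Helper65.ker_le_zpowers_of_normalizer τ hτ R S hgen
    (mem_normalizer_zpowers_of_comm hRc)
    (Cfsg.Agent.Lib.Helper65.mem_normalizer_zpowers_of_conj_inv hSc)
  rw [eq_bot_iff]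
  intro z hz
  obtain ⟨i, rfl⟩ := Subgroup.mem_zpowers_iff.1 (hle hz)
  rw [Subgroup.mem_bot]
  rw [MonoidHom.mem_ker, map_zpow] at hz
  have hτc : τ c = (τ R ^ 2)⁻¹ := by
    rw [hc]
    simp only [map_mul, map_inv]
    have : τ R * τ S * (τ R)⁻¹ * (τ S)⁻¹ = τ R * (τ S * τ R * (τ S)⁻¹)⁻¹ := by group
    rw [this, hrs]; group
  have ho : orderOf (τ c) = 4 := by
    rw [hτc, orderOf_inv, orderOf_pow' _ (by norm_num : (2 : ℕ) ≠ 0), hr]
    rfl
  have hdvd : ((4 : ℕ) : ℤ) ∣ i := by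
    rw [← ho, orderOf_dvd_iff_zpow_eq_one]; exact hz
  obtain ⟨m, rfl⟩ := hdvd
  rw [zpow_mul, zpow_natCast, hc4, one_zpow]

end SD16

section Card

variable {G : Type*} [Group G] [Finite G]

open Cfsg.Agent.Lib.Helper57

/-- a semidihedral-type subgroup has order 16 -/
theorem card_closure_sd16 (r s : G) (hr : orderOf r = 8) (hrs : s * r = r ^ 3 * s)
    (hs : s * s = 1) (hns : s ∉ Subgroup.zpowers r) :
    Nat.card (Subgroup.closure {r, s}) = 16 := by
  have hr8 : r ^ 8 = 1 := by rw [← hr]; exact pow_orderOf_eq_one r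
  have hs2 : s ^ 2 = 1 := by rw [pow_two]; exact hs
  let f : Fin 8 × Fin 2 → G := fun p => r ^ (p.1 : ℕ) * s ^ (p.2 : ℕ)
  have hmem : ∀ i j : ℕ, r ^ i * s ^ j ∈ Set.range f := by
    intro i j
    refine ⟨(⟨i % 8, Nat.mod_lt _ (by norm_num)⟩, ⟨j % 2, Nat.mod_lt _ (by norm_num)⟩), ?_⟩
    show r ^ (i % 8) * s ^ (j % 2) = r ^ i * s ^ j
    rw [← pow_eq_pow_mod i hr8, ← pow_eq_pow_mod j hs2]
  have hsub : ((Subgroup.closure {r, s} : Subgroup G) : Set G) ⊆ Set.range f := by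
    apply J1.closure_subset_of_left_mul (Set.range f) ⟨(0, 0), by simp [f]⟩ _ _ 7 1 hr8 hs2
    · rintro _ ⟨p, rfl⟩
      have : r * (r ^ (p.1 : ℕ) * s ^ (p.2 : ℕ)) = r ^ ((p.1 : ℕ) + 1) * s ^ (p.2 : ℕ) := by
        rw [← mul_assoc, ← pow_succ']
      show r * (r ^ (p.1 : ℕ) * s ^ (p.2 : ℕ)) ∈ _
      rw [this]; exact hmem _ _
    · rintro _ ⟨p, rfl⟩
      have : s * (r ^ (p.1 : ℕ) * s ^ (p.2 : ℕ)) = r ^ (3 * (p.1 : ℕ)) * s ^ ((p.2 : ℕ) + 1) := by
        rw [← mul_assoc, J1.conj_pow hrs, mul_assoc, ← pow_succ']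
      show s * (r ^ (p.1 : ℕ) * s ^ (p.2 : ℕ)) ∈ _
      rw [this]; exact hmem _ _
  have hle : Nat.card (Subgroup.closure {r, s}) ≤ 16 := by
    calc Nat.card (Subgroup.closure {r, s}) ≤ Nat.card (Set.range f) :=
          Nat.card_mono (Set.toFinite _) hsub
      _ ≤ Nat.card (Fin 8 × Fin 2) := Finite.card_range_le f
      _ = 16 := by simp
  have hzle : Subgroup.zpowers r ≤ Subgroup.closure {r, s} := by
    rw [Subgroup.zpowers_le]; exact Subgroup.subset_closure (by simp)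
  have hdvd : 8 ∣ Nat.card (Subgroup.closure {r, s}) := by
    have := Subgroup.card_dvd_of_le hzle
    rwa [Nat.card_zpowers, hr] at this
  have hne : Nat.card (Subgroup.closure {r, s}) ≠ 8 := by
    intro h
    have : Subgroup.zpowers r = Subgroup.closure {r, s} :=
      Subgroup.eq_of_le_of_card_ge hzle (by rw [h, Nat.card_zpowers, hr])
    apply hns; rw [this]; exact Subgroup.subset_closure (by simp)
  have hpos : 0 < Nat.card (Subgroup.closure {r, s}) := Nat.card_pos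
  obtain ⟨m, hm⟩ := hdvd
  omega

/-- an elementary abelian subgroup of order 9 -/
theorem card_closure_c3c3 (u v : G) (hu : orderOf u = 3) (hv : v ^ 3 = 1) (huv : u * v = v * u)
    (hnv : v ∉ Subgroup.zpowers u) : Nat.card (Subgroup.closure {u, v}) = 9 := by
  have hu3 : u ^ 3 = 1 := by rw [← hu]; exact pow_orderOf_eq_one u
  let f : Fin 3 × Fin 3 → G := fun p => u ^ (p.1 : ℕ) * v ^ (p.2 : ℕ)
  have hmem : ∀ i j : ℕ, u ^ i * v ^ j ∈ Set.range f := by
    intro i j
    refine ⟨(⟨i % 3, Nat.mod_lt _ (by norm_num)⟩, ⟨j % 3, Nat.mod_lt _ (by norm_num)⟩), ?_⟩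
    show u ^ (i % 3) * v ^ (j % 3) = u ^ i * v ^ j
    rw [← pow_eq_pow_mod i hu3, ← pow_eq_pow_mod j hv]
  have hsub : ((Subgroup.closure {u, v} : Subgroup G) : Set G) ⊆ Set.range f := by
    apply J1.closure_subset_of_left_mul (Set.range f) ⟨(0, 0), by simp [f]⟩ _ _ 2 2 hu3 hv
    · rintro _ ⟨p, rfl⟩
      have : u * (u ^ (p.1 : ℕ) * v ^ (p.2 : ℕ)) = u ^ ((p.1 : ℕ) + 1) * v ^ (p.2 : ℕ) := by
        rw [← mul_assoc, ← pow_succ']
      show u * (u ^ (p.1 : ℕ) * v ^ (p.2 : ℕ)) ∈ _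
      rw [this]; exact hmem _ _
    · rintro _ ⟨p, rfl⟩
      have hc : Commute v (u ^ (p.1 : ℕ)) := (show Commute u v from huv).symm.pow_right _
      have : v * (u ^ (p.1 : ℕ) * v ^ (p.2 : ℕ)) = u ^ (p.1 : ℕ) * v ^ ((p.2 : ℕ) + 1) := by
        rw [← mul_assoc, hc.eq, mul_assoc, ← pow_succ']
      show v * (u ^ (p.1 : ℕ) * v ^ (p.2 : ℕ)) ∈ _
      rw [this]; exact hmem _ _
  have hle : Nat.card (Subgroup.closure {u, v}) ≤ 9 := by
    calc Nat.card (Subgroup.closure {u, v}) ≤ Nat.card (Set.range f) :=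
          Nat.card_mono (Set.toFinite _) hsub
      _ ≤ Nat.card (Fin 3 × Fin 3) := Finite.card_range_le f
      _ = 9 := by simp
  have hzle : Subgroup.zpowers u ≤ Subgroup.closure {u, v} := by
    rw [Subgroup.zpowers_le]; exact Subgroup.subset_closure (by simp)
  have hdvd : 3 ∣ Nat.card (Subgroup.closure {u, v}) := by
    have := Subgroup.card_dvd_of_le hzle
    rwa [Nat.card_zpowers, hu] at this
  have hne : Nat.card (Subgroup.closure {u, v}) ≠ 3 := by
    intro h
    have : Subgroup.zpowers u = Subgroup.closure {u, v} :=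
      Subgroup.eq_of_le_of_card_ge hzle (by rw [h, Nat.card_zpowers, hu])
    apply hnv; rw [this]; exact Subgroup.subset_closure (by simp)
  have : Fact (Nat.Prime 3) := ⟨Nat.prime_three⟩
  have hp : IsPGroup 3 (Subgroup.closure {u, v}) := by
    rintro ⟨g, hg⟩
    obtain ⟨p, rfl⟩ := hsub hg
    refine ⟨1, Subtype.ext ?_⟩
    have hc : Commute (u ^ (p.1 : ℕ)) (v ^ (p.2 : ℕ)) :=
      ((show Commute u v from huv).pow_left _).pow_right _
    show (u ^ (p.1 : ℕ) * v ^ (p.2 : ℕ)) ^ 3 ^ 1 = 1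
    rw [pow_one, hc.mul_pow, ← pow_mul, ← pow_mul, mul_comm _ 3, mul_comm _ 3, pow_mul, pow_mul,
      hu3, hv, one_pow, one_pow, mul_one]
  obtain ⟨n, hn⟩ := IsPGroup.iff_card.1 hp
  rw [hn] at hle hdvd hne ⊢
  have hn2 : n ≤ 2 := by
    by_contra hcon
    have : 3 ^ 3 ≤ 3 ^ n := Nat.pow_le_pow_right (by norm_num) (by omega)
    omega
  interval_cases n
  · norm_num at hdvd
  · exact absurd rfl hne
  · rfl

end Card

section Three

variable {Γ : Type*} [Group Γ] {G : Type*} [Group G]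

theorem comm_left_central {x y k : Γ} (hk : k ∈ Subgroup.center Γ) : ⁅x * k, y⁆ = ⁅x, y⁆ := by
  rw [← commutatorElement_inv, StemSeven.comm_right_central hk, commutatorElement_inv]

/-- two commuting elements with an element inverting (squaring) one and centralising the other
have commuting lifts in a central extension -/
theorem comm_lifts (σ : Γ →* G) (hk : σ.ker ≤ Subgroup.center Γ) (U V N : Γ)
    (h1 : σ U * σ V = σ V * σ U) (h2 : σ N * σ U = σ U ^ 2 * σ N)
    (h3 : σ N * σ V = σ V * σ N) : U * V = V * U := by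
  set β : Γ := ⁅U, V⁆ with hβ
  have hβk : β ∈ σ.ker := by
    rw [MonoidHom.mem_ker, hβ, map_commutatorElement, commutatorElement_eq_one_iff_mul_comm]
    exact h1
  have hβc := hk hβk
  set k1 : Γ := (U ^ 2)⁻¹ * (N * U * N⁻¹) with hk1
  set k2 : Γ := V⁻¹ * (N * V * N⁻¹) with hk2
  have hk1c : k1 ∈ Subgroup.center Γ := by
    apply hk
    rw [MonoidHom.mem_ker, hk1]
    simp only [map_mul, map_inv, map_pow]
    rw [h2]; group
  have hk2c : k2 ∈ Subgroup.center Γ := by
    apply hk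
    rw [MonoidHom.mem_ker, hk2]
    simp only [map_mul, map_inv]
    rw [h3]; group
  have e1 : N * U * N⁻¹ = U ^ 2 * k1 := by rw [hk1]; group
  have e2 : N * V * N⁻¹ = V * k2 := by rw [hk2]; group
  have e3 : N * β * N⁻¹ = β := StemSeven.conj_central hβc N
  have e4 : N * β * N⁻¹ = ⁅N * U * N⁻¹, N * V * N⁻¹⁆ := by
    rw [hβ, commutatorElement_def, commutatorElement_def]; group
  have e5 : ⁅U ^ 2, V⁆ = U * β * U⁻¹ * β := by
    rw [hβ, commutatorElement_def, commutatorElement_def, pow_two]; group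
  rw [e1, e2, comm_left_central hk1c, StemSeven.comm_right_central hk2c, e5,
    StemSeven.conj_central hβc U, e3] at e4
  have : β = 1 := by
    have := mul_eq_left.1 e4.symm
    exact this
  rw [hβ, commutatorElement_eq_one_iff_mul_comm] at this
  exact this

/-- the preimage of the subgroup generated by the images of two commuting elements is commutative
when the kernel is central -/
theorem comap_closure_comm (σ : Γ →* G) (hk : σ.ker ≤ Subgroup.center Γ) (U V : Γ)
    (hUV : U * V = V * U) :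
    ∀ x ∈ (Subgroup.closure {σ U, σ V}).comap σ, ∀ y ∈ (Subgroup.closure {σ U, σ V}).comap σ,
      x * y = y * x := by
  have h1 : (Subgroup.closure {σ U, σ V}).comap σ
      = Subgroup.closure ({U, V} ∪ (σ.ker : Set Γ)) := by
    have : Subgroup.closure {σ U, σ V} = (Subgroup.closure {U, V}).map σ := by
      rw [MonoidHom.map_closure]; congr 1; simp [Set.image_pair]
    rw [this, Subgroup.comap_map_eq, Subgroup.closure_union, Subgroup.closure_eq]
  rw [h1]
  have hcomm : ∀ x ∈ ({U, V} ∪ (σ.ker : Set Γ)), ∀ y ∈ ({U, V} ∪ (σ.ker : Set Γ)),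
      x * y = y * x := by
    intro x hx y hy
    rcases hx with hx | hx
    · rcases hy with hy | hy
      · rcases hx with rfl | hx <;> rcases hy with rfl | hy
        · rfl
        · rw [Set.mem_singleton_iff] at hy; subst hy; exact hUV
        · rw [Set.mem_singleton_iff] at hx; subst hx; exact hUV.symm
        · rw [Set.mem_singleton_iff] at hx hy; subst hx; subst hy; rfl
      · exact (Subgroup.mem_center_iff.1 (hk hy)) x
    · exact ((Subgroup.mem_center_iff.1 (hk hx)) y).symm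
  intro x hx y hy
  have hmc := Subgroup.isMulCommutative_closure hcomm
  have := hmc.is_comm.comm (⟨x, hx⟩ : Subgroup.closure ({U, V} ∪ (σ.ker : Set Γ))) ⟨y, hy⟩
  exact congrArg Subtype.val this

/-- the preimage of a cyclic subgroup is commutative when the kernel is central -/
theorem comap_zpowers_comm (σ : Γ →* G) (hs : Function.Surjective σ)
    (hk : σ.ker ≤ Subgroup.center Γ) (g : G) :
    ∀ x ∈ (Subgroup.zpowers g).comap σ, ∀ y ∈ (Subgroup.zpowers g).comap σ, x * y = y * x := by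
  obtain ⟨g', rfl⟩ := hs g
  have h1 : (Subgroup.zpowers (σ g')).comap σ
      = Subgroup.closure ({g'} ∪ (σ.ker : Set Γ)) := by
    have : Subgroup.zpowers (σ g') = (Subgroup.zpowers g').map σ := by
      rw [MonoidHom.map_zpowers]
    rw [this, Subgroup.comap_map_eq, Subgroup.closure_union, Subgroup.closure_eq,
      Subgroup.zpowers_eq_closure]
  rw [h1]
  have hcomm : ∀ x ∈ ({g'} ∪ (σ.ker : Set Γ)), ∀ y ∈ ({g'} ∪ (σ.ker : Set Γ)),
      x * y = y * x := by
    intro x hx y hy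
    rcases hx with hx | hx
    · rcases hy with hy | hy
      · rw [Set.mem_singleton_iff] at hx hy; subst hx; subst hy; rfl
      · exact (Subgroup.mem_center_iff.1 (hk hy)) x
    · exact ((Subgroup.mem_center_iff.1 (hk hx)) y).symm
  intro x hx y hy
  have hmc := Subgroup.isMulCommutative_closure hcomm
  have := hmc.is_comm.comm (⟨x, hx⟩ : Subgroup.closure ({g'} ∪ (σ.ker : Set Γ))) ⟨y, hy⟩
  exact congrArg Subtype.val this

end Three

section Transfer

variable {Γ : Type*} [Group Γ] [Finite Γ] {G : Type*} [Group G] [Finite G]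

omit [Finite G] in
/-- transfer to a subgroup whose preimage is commutative -/
theorem ker_pow_of_comm_subgroup (σ : Γ →* G) (hσ : Cfsg.IsStemExtension σ) (A : Subgroup G)
    (hA : ∀ x ∈ A.comap σ, ∀ y ∈ A.comap σ, x * y = y * x) (a m N : ℕ) (hN : Nat.card G = N)
    (ha : Nat.card A = a) (hpos : 0 < a) (hm : m * a = N) {z : Γ} (hz : z ∈ σ.ker) :
    z ^ m = 1 := by
  obtain ⟨hs, hk, hcm⟩ := hσ
  have h1 := Cfsg.Agent.Lib.Helper65.pow_index_eq_one_of_comm (A.comap σ) hA z (hk hz) (hcm hz)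
  rw [Subgroup.index_comap_of_surjective _ hs] at h1
  have h2 := A.index_mul_card
  rw [ha, hN, ← hm] at h2
  rw [Nat.eq_of_mul_eq_mul_right hpos h2] at h1
  exact h1

omit [Finite G] in
theorem ker_pow_of_order (σ : Γ →* G) (hσ : Cfsg.IsStemExtension σ) (g : G) (n m N : ℕ)
    (hN : Nat.card G = N) (hg : orderOf g = n) (hn : 0 < n) (hm : m * n = N) {z : Γ}
    (hz : z ∈ σ.ker) : z ^ m = 1 :=
  ker_pow_of_comm_subgroup σ hσ (Subgroup.zpowers g) (comap_zpowers_comm σ hσ.1 hσ.2.1 g) n m N hN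
    (by rw [Nat.card_zpowers, hg]) hn hm hz

end Transfer

section Sub

variable {G : Type u} [Group G]

/-- stem extensions of a semidihedral-type subgroup are trivial -/
theorem sd16_subgroup_stem_trivial (r s : G) (hr : orderOf r = 8) (hrs : s * r = r ^ 3 * s)
    (hs : s * s = 1) {Q : Type v} [Group Q] (τ : Q →* ↥(Subgroup.closure {r, s}))
    (hτ : Cfsg.IsStemExtension τ) : τ.ker = ⊥ := by
  have hrm : r ∈ Subgroup.closure {r, s} := Subgroup.subset_closure (by simp)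
  have hsm : s ∈ Subgroup.closure {r, s} := Subgroup.subset_closure (by simp)
  refine sd16_stem_trivial ⟨r, hrm⟩ ⟨s, hsm⟩ ?_ ?_ ?_ ?_ τ hτ
  · have := Subgroup.closure_closure_coe_preimage (k := ({r, s} : Set G))
    convert this using 2
    ext x
    simp [Subtype.ext_iff]
  · rw [Subgroup.orderOf_mk]; exact hr
  · exact Subtype.ext hrs
  · exact Subtype.ext hs

end Sub

end Cfsg.Agent.Lib.Helper57.StemSD
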