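import Cfsg.Agent.S2060
import Cfsg.Agent.S0387
import Cfsg.Agent.Lib.Helper57.StemSD

/-!
# The Schur multiplier of `M₁₁` is trivial
-/

set_option autoImplicit false
set_option maxRecDepth 1000000

namespace Cfsg.Agent.Lib.Helper57.M11

open Cfsg Cfsg.Agent.Lib.Helper93.Golay
open scoped Pointwise
open Cfsg.Agent.S5522 (K mem_K okU ptIdx_inj)
open Cfsg.Agent.S1602 (mem_of_ok)
open Cfsg.Agent.S2060 (IdxFun)

/-! ### the order -/

theorem sqDod_mem : Spor.squareDodecad ∈ dodecads := by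
  refine ⟨⟨qrWord 0, ?_, rfl⟩, ?_⟩
  · exact Submodule.subset_span (Or.inl ⟨0, rfl⟩)
  · rw [Cfsg.Agent.S5522.sqD_eq]; decide +kernel

theorem zero_mem_sqDod : (some 0 : GolayPt) ∈ Spor.squareDodecad := by
  rw [Cfsg.Agent.S5522.sqD_eq, mem_fset]; decide +kernel

theorem card_M11 : Nat.card ↥Spor.M11 = 7920 := by
  have h := Cfsg.Agent.S0387.result Spor.squareDodecad sqDod_mem (some 0) zero_mem_sqDod
  rw [Cfsg.Agent.Lib.Helper7.card_stabilizer_subgroup₂'] at h
  exact h

theorem card_K1 : Nat.card ↥(K 1) = 7920 := by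
  rw [← Cfsg.Agent.S2060.M11_eq]; exact card_M11

instance : Finite ↥(K 1) := Nat.finite_of_card_ne_zero (by rw [card_K1]; norm_num)

/-! ### equality of permutations through index functions -/

theorem IdxFun.eq_iff {g1 g2 : Equiv.Perm GolayPt} {f1 f2 : ℕ → ℕ} (h1 : IdxFun g1 f1)
    (h2 : IdxFun g2 f2) :
    g1 = g2 ↔ (List.range 24).all (fun i => Nat.beq (f1 i) (f2 i)) = true := by
  rw [List.all_eq_true]
  constructor
  · intro hg i hi
    have hi24 : i < 24 := List.mem_range.1 hi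
    have e1 := h1 (P i hi24)
    have e2 := h2 (P i hi24)
    rw [ptIdx_P] at e1 e2
    rw [← e1, ← e2, hg]
    exact Nat.beq_refl _
  · intro hf
    apply Equiv.ext
    intro p
    apply ptIdx_inj
    rw [h1, h2]
    exact Nat.eq_of_beq_eq_true (hf _ (List.mem_range.2 (ptIdx p).isLt))

/-! ### the elements -/

def rc : ℕ := 838203988226629996505168562786339872
def sc : ℕ := 486073779993727295785104656607348768
def uc : ℕ := 487607080158395075740321133224921120
def vc : ℕ := 487655643029606470073469406179395616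
def nc : ℕ := 796558286233399051595921388863915072
def c5 : ℕ := 321483090699936189506869915383172128
def c11 : ℕ := 902783021901764480487164157927956544

theorem codes_ok : okU [rc, sc, uc, vc, nc, c5, c11] 1 = true := by decide +kernel

theorem r_mem : isAutC rc = true ∧ permC rc ∈ K 1 :=
  mem_of_ok codes_ok (S := rc) (by simp)
theorem s_mem : isAutC sc = true ∧ permC sc ∈ K 1 :=
  mem_of_ok codes_ok (S := sc) (by simp)
theorem u_mem : isAutC uc = true ∧ permC uc ∈ K 1 :=
  mem_of_ok codes_ok (S := uc) (by simp)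
theorem v_mem : isAutC vc = true ∧ permC vc ∈ K 1 :=
  mem_of_ok codes_ok (S := vc) (by simp)
theorem n_mem : isAutC nc = true ∧ permC nc ∈ K 1 :=
  mem_of_ok codes_ok (S := nc) (by simp)
theorem c5_mem : isAutC c5 = true ∧ permC c5 ∈ K 1 :=
  mem_of_ok codes_ok (S := c5) (by simp)
theorem c11_mem : isAutC c11 = true ∧ permC c11 ∈ K 1 :=
  mem_of_ok codes_ok (S := c11) (by simp)

theorem hr : IdxFun (permC rc) (papp rc) := IdxFun.permC (isPerm_of_isAutC r_mem.1)
theorem hs : IdxFun (permC sc) (papp sc) := IdxFun.permC (isPerm_of_isAutC s_mem.1)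
theorem hu : IdxFun (permC uc) (papp uc) := IdxFun.permC (isPerm_of_isAutC u_mem.1)
theorem hv : IdxFun (permC vc) (papp vc) := IdxFun.permC (isPerm_of_isAutC v_mem.1)
theorem hn : IdxFun (permC nc) (papp nc) := IdxFun.permC (isPerm_of_isAutC n_mem.1)
theorem h5 : IdxFun (permC c5) (papp c5) := IdxFun.permC (isPerm_of_isAutC c5_mem.1)
theorem h11 : IdxFun (permC c11) (papp c11) := IdxFun.permC (isPerm_of_isAutC c11_mem.1)

def rG : ↥(K 1) := ⟨permC rc, r_mem.2⟩
def sG : ↥(K 1) := ⟨permC sc, s_mem.2⟩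
def uG : ↥(K 1) := ⟨permC uc, u_mem.2⟩
def vG : ↥(K 1) := ⟨permC vc, v_mem.2⟩
def nG : ↥(K 1) := ⟨permC nc, n_mem.2⟩
def g5 : ↥(K 1) := ⟨permC c5, c5_mem.2⟩
def g11 : ↥(K 1) := ⟨permC c11, c11_mem.2⟩

/-! ### relations -/

theorem order_r : orderOf rG = 8 := by
  rw [show rG = ⟨permC rc, r_mem.2⟩ from rfl, Subgroup.orderOf_mk]
  refine orderOf_eq_prime_pow (p := 2) (n := 2) ?_ ?_
  · show permC rc ^ 4 ≠ 1
    rw [(hr.pow 4).ne_one_iff]; decide +kernel
  · show permC rc ^ 8 = 1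
    rw [(hr.pow 8).eq_one_iff]; decide +kernel

theorem s_sq : sG * sG = 1 := by
  apply Subtype.ext
  show permC sc * permC sc = 1
  rw [(hs.mul hs).eq_one_iff]; decide +kernel

theorem rel_sr : sG * rG = rG ^ 3 * sG := by
  apply Subtype.ext
  show permC sc * permC rc = permC rc ^ 3 * permC sc
  rw [IdxFun.eq_iff (hs.mul hr) ((hr.pow 3).mul hs)]; decide +kernel

theorem s_not_mem : sG ∉ Subgroup.zpowers rG := by
  intro h
  obtain ⟨k, hk⟩ := Subgroup.mem_zpowers_iff.1 h
  have hc : sG * rG = rG * sG := by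
    rw [← hk]
    exact ((Commute.refl rG).zpow_left k).eq
  rw [rel_sr, mul_left_inj] at hc
  have h2 : rG ^ 2 = 1 := by
    have : rG * rG ^ 2 = rG * 1 := by rw [← pow_succ', hc, mul_one]
    exact mul_left_cancel this
  have := orderOf_dvd_of_pow_eq_one h2
  rw [order_r] at this
  norm_num at this

theorem order_u : orderOf uG = 3 := by
  rw [show uG = ⟨permC uc, u_mem.2⟩ from rfl, Subgroup.orderOf_mk]
  refine orderOf_eq_prime ?_ ?_
  · rw [(hu.pow 3).eq_one_iff]; decide +kernel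
  · rw [hu.ne_one_iff]; decide +kernel

theorem v_cube : vG ^ 3 = 1 := by
  apply Subtype.ext
  show permC vc ^ 3 = 1
  rw [(hv.pow 3).eq_one_iff]; decide +kernel

theorem rel_uv : uG * vG = vG * uG := by
  apply Subtype.ext
  show permC uc * permC vc = permC vc * permC uc
  rw [IdxFun.eq_iff (hu.mul hv) (hv.mul hu)]; decide +kernel

theorem rel_nu : nG * uG = uG ^ 2 * nG := by
  apply Subtype.ext
  show permC nc * permC uc = permC uc ^ 2 * permC nc
  rw [IdxFun.eq_iff (hn.mul hu) ((hu.pow 2).mul hn)]; decide +kernel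

theorem rel_nv : nG * vG = vG * nG := by
  apply Subtype.ext
  show permC nc * permC vc = permC vc * permC nc
  rw [IdxFun.eq_iff (hn.mul hv) (hv.mul hn)]; decide +kernel

theorem v_not_mem : vG ∉ Subgroup.zpowers uG := by
  classical
  intro h
  rw [mem_zpowers_iff_mem_range_orderOf, order_u] at h
  simp only [Finset.mem_image, Finset.mem_range] at h
  obtain ⟨a, ha, hav⟩ := h
  have hav' : permC uc ^ a = permC vc := congrArg Subtype.val hav
  rw [IdxFun.eq_iff (hu.pow a) hv] at hav'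
  interval_cases a <;> revert hav' <;> decide +kernel

theorem order_g5 : orderOf g5 = 5 := by
  rw [show g5 = ⟨permC c5, c5_mem.2⟩ from rfl, Subgroup.orderOf_mk]
  have : Fact (Nat.Prime 5) := ⟨by norm_num⟩
  refine orderOf_eq_prime ?_ ?_
  · rw [(h5.pow 5).eq_one_iff]; decide +kernel
  · rw [h5.ne_one_iff]; decide +kernel

theorem order_g11 : orderOf g11 = 11 := by
  rw [show g11 = ⟨permC c11, c11_mem.2⟩ from rfl, Subgroup.orderOf_mk]
  have : Fact (Nat.Prime 11) := ⟨by norm_num⟩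
  refine orderOf_eq_prime ?_ ?_
  · rw [(h11.pow 11).eq_one_iff]; decide +kernel
  · rw [h11.ne_one_iff]; decide +kernel

/-! ### the kernel of a stem extension -/

section Main

variable {Γ : Type*} [Group Γ] [Finite Γ] (σ : Γ →* ↥(K 1)) (hσ : Cfsg.IsStemExtension σ)

omit [Finite Γ] in
include hσ in
theorem ker_pow_two {z : Γ} (hz : z ∈ σ.ker) : z ^ 495 = 1 := by
  have h := Cfsg.Agent.Lib.Helper65.pow_index_eq_one_of_trivial_mult
    (Subgroup.closure {rG, sG})
    (fun Q _ _ τ hτ => StemSD.sd16_subgroup_stem_trivial rG sG order_r rel_sr s_sq τ hτ)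
    σ hσ z hz
  have h2 := (Subgroup.closure {rG, sG}).index_mul_card
  rw [StemSD.card_closure_sd16 rG sG order_r rel_sr s_sq s_not_mem, card_K1] at h2
  have h3 : (Subgroup.closure {rG, sG}).index = 495 := by omega
  rwa [h3] at h

include hσ in
theorem ker_pow_three {z : Γ} (hz : z ∈ σ.ker) : z ^ 880 = 1 := by
  obtain ⟨U, hU⟩ := hσ.1 uG
  obtain ⟨V, hV⟩ := hσ.1 vG
  obtain ⟨N, hN⟩ := hσ.1 nG
  have hUV : U * V = V * U := StemSD.comm_lifts σ hσ.2.1 U V N
    (by rw [hU, hV]; exact rel_uv) (by rw [hU, hN]; exact rel_nu) (by rw [hN, hV]; exact rel_nv)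
  have hA := StemSD.comap_closure_comm σ hσ.2.1 U V hUV
  rw [hU, hV] at hA
  exact StemSD.ker_pow_of_comm_subgroup σ hσ (Subgroup.closure {uG, vG}) hA 9 880 7920 card_K1
    (StemSD.card_closure_c3c3 uG vG order_u v_cube rel_uv v_not_mem) (by norm_num) (by norm_num) hz

include hσ in
/-- every finite stem extension of `M₁₁` is an isomorphism -/
theorem stem_ker_eq_bot : σ.ker = ⊥ := by
  rw [eq_bot_iff]
  intro z hz
  rw [Subgroup.mem_bot]
  have h2 := orderOf_dvd_of_pow_eq_one (ker_pow_two σ hσ hz)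
  have h3 := orderOf_dvd_of_pow_eq_one (ker_pow_three σ hσ hz)
  have h5 := orderOf_dvd_of_pow_eq_one
    (StemSD.ker_pow_of_order σ hσ g5 5 1584 7920 card_K1 order_g5 (by norm_num) (by norm_num) hz)
  have h11 := orderOf_dvd_of_pow_eq_one
    (StemSD.ker_pow_of_order σ hσ g11 11 720 7920 card_K1 order_g11 (by norm_num) (by norm_num) hz)
  have hd : orderOf z ∣ Nat.gcd 495 (Nat.gcd 880 (Nat.gcd 1584 720)) :=
    Nat.dvd_gcd h2 (Nat.dvd_gcd h3 (Nat.dvd_gcd h5 h11))
  have h1 : Nat.gcd 495 (Nat.gcd 880 (Nat.gcd 1584 720)) = 1 := by norm_num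
  rw [h1, Nat.dvd_one, orderOf_eq_one_iff] at hd
  exact hd

end Main

theorem multiplier_of_eq (H : Subgroup (Equiv.Perm GolayPt)) (hH : H = K 1) :
    Cfsg.HasCyclicSchurMultiplier ↥H 1 := by
  subst hH
  refine ⟨⟨↥(K 1), inferInstance, inferInstance, MonoidHom.id _, ?_, ?_⟩, ?_⟩
  · refine ⟨Function.surjective_id, ?_, ?_⟩
    · rw [MonoidHom.ker_id]; exact bot_le
    · rw [MonoidHom.ker_id]; exact bot_le
  · rw [MonoidHom.ker_id]
    exact ⟨MulEquiv.ofUnique⟩
  · intro Γ _ _ σ hσ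
    refine ⟨1, ?_⟩
    rintro ⟨z, hz⟩
    refine ⟨1, ?_⟩
    rw [stem_ker_eq_bot σ hσ, Subgroup.mem_bot] at hz
    subst hz
    rfl

/-- the Schur multiplier of `M₁₁` is trivial -/
theorem multiplier_M11 : Cfsg.HasCyclicSchurMultiplier ↥Spor.M11 1 :=
  multiplier_of_eq _ Cfsg.Agent.S2060.M11_eq

end Cfsg.Agent.Lib.Helper57.M11
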