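import Cfsg.Agent.Lib.Helper28.ONSimple
import Cfsg.Agent.Lib.Helper57.CayNat

set_option autoImplicit false
set_option linter.all false

/-!
Two-generator subgroups of the presented O'Nan group, read off from the coset table of degree
122760 (helper28's `Setup`), via orbits of the base `(0, 1, 95603)` of trivial stabiliser.
-/

namespace Cfsg.Agent.Lib.Helper57.ONCay

open Cfsg Cfsg.Spor Cfsg.Agent.Lib.Helper28 Cfsg.Agent.Lib.Helper28.ONSub
open Cfsg.Agent.Lib.Helper28.ONOrderC Cfsg.Agent.Lib.Helper57.CayMatch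

/-- triples of cosets -/
abbrev X3 : Type := (G ⧸ H) × (G ⧸ H) × (G ⧸ H)

/-- coordinate `i` (17 bits) of a packed triple -/
def co (e i : Nat) : Nat := Nat.land (Nat.shiftRight e (Nat.mul 17 i)) 131071

/-- the label of index `s` -/
noncomputable def β3 (kk : ℕ → ℕ) (s : ℕ) : X3 :=
  (psi cert H gam (co (kk s) 0), psi cert H gam (co (kk s) 1), psi cert H gam (co (kk s) 2))

/-- the per-index check on the O'Nan side -/
noncomputable def chkK (wA wB : List Nat) (n : Nat) (pa pb qb kk : Nat → Nat) (s : Nat) : Bool :=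
  Nat.blt (pa s) n && Nat.blt (pb s) n && Nat.blt (qb s) n &&
  Nat.beq (pa (pa s)) s && Nat.beq (qb (pb s)) s && Nat.beq (pb (qb s)) s &&
  Nat.blt (co (kk s) 0) 122760 && Nat.blt (co (kk s) 1) 122760 && Nat.blt (co (kk s) 2) 122760 &&
  Nat.beq (walkTF cert wA (co (kk s) 0)) (co (kk (pa s)) 0) &&
  Nat.beq (walkTF cert wA (co (kk s) 1)) (co (kk (pa s)) 1) &&
  Nat.beq (walkTF cert wA (co (kk s) 2)) (co (kk (pa s)) 2) &&
  Nat.beq (walkTF cert wB (co (kk s) 0)) (co (kk (pb s)) 0) &&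
  Nat.beq (walkTF cert wB (co (kk s) 1)) (co (kk (pb s)) 1) &&
  Nat.beq (walkTF cert wB (co (kk s) 2)) (co (kk (pb s)) 2) &&
  (Nat.beq s 0 ||
    (!(Nat.beq (co (kk s) 0) 0 && Nat.beq (co (kk s) 1) 1 && Nat.beq (co (kk s) 2) 95603) &&
      (Nat.blt (pa s) s || Nat.blt (qb s) s)))

theorem blt_iff (a b : Nat) : Nat.blt a b = true ↔ a < b := by
  simp [Nat.blt]

theorem beq_iff (a b : Nat) : Nat.beq a b = true ↔ a = b := by
  constructor
  · exact Nat.eq_of_beq_eq_true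
  · rintro rfl; exact Nat.beq_refl a

section

variable {φ : G →* Equiv.Perm ℕ} (hS : Setup cert H gam φ)

include hS

theorem act_word' (w : List ℕ) (hw : ∀ l ∈ w, l < 14) (p : ℕ) (hp : p < 122760) :
    (evw gam w)⁻¹ • psi cert H gam p = psi cert H gam (walkT cert p w) ∧
      walkT cert p w < 122760 := by
  have hk : cert.k = 7 := rfl
  have hlt : ∀ l ∈ w, l < 2 * cert.k := by
    intro l hl; rw [hk]; have := hw l hl; omega
  have h1 := rN_word cert gam φ hS.hφ hS.hpts w hlt p hp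
  have h2 := (hS.psi_equiv (evw gam w)).1 p hp
  rw [h1.1] at h2
  exact ⟨h2.symm, h1.2⟩

theorem mem_H_of_fix (k : G) (h : k • psi cert H gam 0 = psi cert H gam 0) : k ∈ H := by
  rw [psi_zero cert H gam hS.hglob] at h
  have h4 : k • ((1 : G) : G ⧸ H) = ((k * 1 : G) : G ⧸ H) := rfl
  unfold basePt at h
  rw [h4, mul_one] at h
  have := (QuotientGroup.eq (s := H) (a := k) (b := 1)).1 h
  simpa using this

theorem kside (n : ℕ) [NeZero n] (wA wB : List ℕ) (hwA : ∀ l ∈ wA, l < 14)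
    (hwB : ∀ l ∈ wB, l < 14) (pa pb qb kk : ℕ → ℕ)
    (hchk : ∀ s, s < n → chkK wA wB n pa pb qb kk s = true)
    (hbase : co (kk 0) 0 = 0 ∧ co (kk 0) 1 = 1 ∧ co (kk 0) 2 = 95603) :
    ∃ (hpa : ∀ s, s < n → pa s < n ∧ pa s < n ∧ pa (pa s) = s ∧ pa (pa s) = s)
      (hpb : ∀ s, s < n → pb s < n ∧ qb s < n ∧ qb (pb s) = s ∧ pb (qb s) = s),
      KSide ((evw gam wA)⁻¹) ((evw gam wB)⁻¹) (mkPerm n pa pa hpa) (mkPerm n pb qb hpb)
        (fun s : Fin n => β3 kk s.val) := by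
  have key : ∀ s, s < n →
      (pa s < n ∧ pb s < n ∧ qb s < n ∧ pa (pa s) = s ∧ qb (pb s) = s ∧ pb (qb s) = s) ∧
      (co (kk s) 0 < 122760 ∧ co (kk s) 1 < 122760 ∧ co (kk s) 2 < 122760) ∧
      (walkT cert (co (kk s) 0) wA = co (kk (pa s)) 0 ∧
        walkT cert (co (kk s) 1) wA = co (kk (pa s)) 1 ∧
        walkT cert (co (kk s) 2) wA = co (kk (pa s)) 2) ∧
      (walkT cert (co (kk s) 0) wB = co (kk (pb s)) 0 ∧
        walkT cert (co (kk s) 1) wB = co (kk (pb s)) 1 ∧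
        walkT cert (co (kk s) 2) wB = co (kk (pb s)) 2) ∧
      (s ≠ 0 → ¬ (co (kk s) 0 = 0 ∧ co (kk s) 1 = 1 ∧ co (kk s) 2 = 95603) ∧
        (pa s < s ∨ qb s < s)) := by
    intro s hs
    have h := hchk s hs
    simp only [chkK, Bool.and_eq_true, Bool.or_eq_true, Bool.not_eq_true', blt_iff, beq_iff,
      walkTF_eq] at h
    obtain ⟨⟨⟨⟨⟨⟨⟨⟨⟨⟨⟨⟨⟨⟨⟨h1, h2⟩, h3⟩, h4⟩, h5⟩, h6⟩, h7⟩, h8⟩, h9⟩, h10⟩, h11⟩, h12⟩, h13⟩,
      h14⟩, h15⟩, h16⟩ := h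
    refine ⟨⟨h1, h2, h3, h4, h5, h6⟩, ⟨h7, h8, h9⟩, ⟨h10, h11, h12⟩, ⟨h13, h14, h15⟩, ?_⟩
    intro hs0
    rcases h16 with h16 | ⟨h16, h17⟩
    · exact absurd h16 hs0
    · refine ⟨?_, h17⟩
      rintro ⟨e0, e1, e2⟩
      rw [e0, e1, e2] at h16
      simp at h16
  have hpa : ∀ s, s < n → pa s < n ∧ pa s < n ∧ pa (pa s) = s ∧ pa (pa s) = s := by
    intro s hs
    obtain ⟨⟨h1, -, -, h4, -, -⟩, -⟩ := key s hs
    exact ⟨h1, h1, h4, h4⟩
  have hpb : ∀ s, s < n → pb s < n ∧ qb s < n ∧ qb (pb s) = s ∧ pb (qb s) = s := by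
    intro s hs
    obtain ⟨⟨-, h2, h3, -, h5, h6⟩, -⟩ := key s hs
    exact ⟨h2, h3, h5, h6⟩
  refine ⟨hpa, hpb, ?_⟩
  apply kside_of_nat n _ _ pa pa pb qb hpa hpb (β3 kk)
  · intro s hs
    obtain ⟨-, ⟨b0, b1, b2⟩, ⟨a0, a1, a2⟩, -, -⟩ := key s hs
    show (evw gam wA)⁻¹ • β3 kk s = β3 kk (pa s)
    unfold β3
    rw [Prod.smul_mk, Prod.smul_mk, (act_word' hS wA hwA _ b0).1, (act_word' hS wA hwA _ b1).1,
      (act_word' hS wA hwA _ b2).1, a0, a1, a2]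
  · intro s hs
    obtain ⟨-, ⟨b0, b1, b2⟩, -, ⟨a0, a1, a2⟩, -⟩ := key s hs
    show (evw gam wB)⁻¹ • β3 kk s = β3 kk (pb s)
    unfold β3
    rw [Prod.smul_mk, Prod.smul_mk, (act_word' hS wB hwB _ b0).1, (act_word' hS wB hwB _ b1).1,
      (act_word' hS wB hwB _ b2).1, a0, a1, a2]
  · intro k _ hk
    unfold β3 at hk
    rw [hbase.1, hbase.2.1, hbase.2.2, Prod.smul_mk, Prod.smul_mk, Prod.mk.injEq,
      Prod.mk.injEq] at hk
    obtain ⟨k0, k1, k2⟩ := hk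
    exact (chain hS).2 k (mem_H_of_fix hS k k0) k1 k2
  · intro s hs hβ
    by_contra hs0
    obtain ⟨-, ⟨b0, b1, b2⟩, -, -, h5⟩ := key s hs
    apply (h5 hs0).1
    unfold β3 at hβ
    rw [hbase.1, hbase.2.1, hbase.2.2, Prod.mk.injEq, Prod.mk.injEq] at hβ
    obtain ⟨e0, e1, e2⟩ := hβ
    exact ⟨hS.psi_injOn b0 (by decide) e0, hS.psi_injOn b1 (by decide) e1,
      hS.psi_injOn b2 (by decide) e2⟩
  · intro s hs hs0
    obtain ⟨-, -, -, -, h5⟩ := key s hs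
    exact (h5 hs0).2

end

end Cfsg.Agent.Lib.Helper57.ONCay
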