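import Cfsg.Agent.Lib.Helper57.ONJ1Chk
import Cfsg.Agent.Lib.Helper57.J1Simple
import Cfsg.Prelude.Def_Sporadic

set_option autoImplicit false
set_option linter.all false
set_option maxRecDepth 100000

/-!
A subgroup of the presented O'Nan group isomorphic to Janko's group `J₁ ≤ GL₇(11)`.
-/

namespace Cfsg.Agent.Lib.Helper57.ONJ1

open Cfsg Cfsg.Spor Cfsg.Agent.Lib.Helper28 Cfsg.Agent.Lib.Helper28.ONSub
open Cfsg.Agent.Lib.Helper28.ONOrderC Cfsg.Agent.Lib.Helper57.CayMatch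
open Cfsg.Agent.Lib.Helper57.ONCay Cfsg.Agent.Lib.Helper57.J1

/-- the action of `J₁` on column vectors -/
noncomputable instance actJ1 : MulAction ↥J1 (Fin 7 → ZMod 11) where
  smul g v := (((g : GL (Fin 7) (ZMod 11)) : Matrix (Fin 7) (Fin 7) (ZMod 11))).mulVec v
  one_smul v := by
    show (((1 : ↥J1) : GL (Fin 7) (ZMod 11)) : Matrix (Fin 7) (Fin 7) (ZMod 11)).mulVec v = v
    simp
  mul_smul g h v := by
    show (((g * h : ↥J1) : GL (Fin 7) (ZMod 11)) : Matrix (Fin 7) (Fin 7) (ZMod 11)).mulVec v =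
      ((g : GL (Fin 7) (ZMod 11)) : Matrix (Fin 7) (Fin 7) (ZMod 11)).mulVec
        (((h : GL (Fin 7) (ZMod 11)) : Matrix (Fin 7) (Fin 7) (ZMod 11)).mulVec v)
    rw [Subgroup.coe_mul, Units.val_mul, Matrix.mulVec_mulVec]

theorem smul_def' (g : ↥J1) (v : Fin 7 → ZMod 11) :
    g • v = (((g : GL (Fin 7) (ZMod 11)) : Matrix (Fin 7) (Fin 7) (ZMod 11))).mulVec v := rfl

theorem val_eG2 (w : List Nat) :
    (((eG w : ↥J1) : GL (Fin 7) (ZMod 11)) : Matrix (Fin 7) (Fin 7) (ZMod 11)) = toM (evalC w) :=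
  val_evalG w

theorem evalC_wU : evalC wU = Uc := by decide +kernel
theorem evalC_wV : evalC wV = Vc := by decide +kernel

/-- labels by vectors -/
noncomputable def βM (s : ℕ) : Fin 7 → ZMod 11 := toV (dec7 (tMV s))

theorem chkM_spec (s : ℕ) (hs : s < 175560) :
    ltR (dec7 (tMV s)) = true ∧
    mulVecC Uc (dec7 (tMV s)) = dec7 (tMV (tPA s)) ∧
    mulVecC Vc (dec7 (tMV s)) = dec7 (tMV (tPB s)) ∧
    (s ≠ 0 → dec7 (tMV s) ≠ dec7 (tMV 0)) := by
  have h := chkM_all s hs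
  simp only [chkM, Bool.and_eq_true, Bool.or_eq_true, Bool.not_eq_true', beq_iff, eqR_iff] at h
  obtain ⟨⟨⟨h1, h2⟩, h3⟩, h4⟩ := h
  refine ⟨h1, h2, h3, ?_⟩
  intro hs0 he
  rcases h4 with h4 | h4
  · exact hs0 h4
  · rw [← Bool.not_eq_true, eqR_iff] at h4
    exact h4 he

theorem βM_U (s : ℕ) (hs : s < 175560) : eG wU • βM s = βM (tPA s) := by
  obtain ⟨-, h2, -, -⟩ := chkM_spec s hs
  rw [smul_def', val_eG2, evalC_wU]
  unfold βM
  rw [← toV_mulVecC, h2]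

theorem βM_V (s : ℕ) (hs : s < 175560) : eG wV • βM s = βM (tPB s) := by
  obtain ⟨-, -, h3, -⟩ := chkM_spec s hs
  rw [smul_def', val_eG2, evalC_wV]
  unfold βM
  rw [← toV_mulVecC, h3]

theorem toV_inj_of_lt (u v : R7) (hu : ltR u = true) (hv : ltR v = true) (h : toV u = toV v) :
    u = v := by
  obtain ⟨a0, a1, a2, a3, a4, a5, a6⟩ := u
  obtain ⟨b0, b1, b2, b3, b4, b5, b6⟩ := v
  simp only [ltR, Bool.and_eq_true, blt_iff] at hu hv
  obtain ⟨⟨⟨⟨⟨⟨u0, u1⟩, u2⟩, u3⟩, u4⟩, u5⟩, u6⟩ := hu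
  obtain ⟨⟨⟨⟨⟨⟨v0, v1⟩, v2⟩, v3⟩, v4⟩, v5⟩, v6⟩ := hv
  have key : ∀ (x y : ℕ), x < 11 → y < 11 → ((x : ZMod 11) = (y : ZMod 11)) → x = y := by
    intro x y hx hy hxy
    rw [ZMod.natCast_eq_natCast_iff'] at hxy
    rw [Nat.mod_eq_of_lt hx, Nat.mod_eq_of_lt hy] at hxy
    exact hxy
  have e0 := key _ _ u0 v0 (congrFun h 0)
  have e1 := key _ _ u1 v1 (congrFun h 1)
  have e2 := key _ _ u2 v2 (congrFun h 2)
  have e3 := key _ _ u3 v3 (congrFun h 3)
  have e4 := key _ _ u4 v4 (congrFun h 4)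
  have e5 := key _ _ u5 v5 (congrFun h 5)
  have e6 := key _ _ u6 v6 (congrFun h 6)
  rw [e0, e1, e2, e3, e4, e5, e6]

theorem βM_inj (s : ℕ) (hs : s < 175560) (h : βM s = βM 0) : s = 0 := by
  by_contra hs0
  obtain ⟨h1, -, -, h4⟩ := chkM_spec s hs
  obtain ⟨h1', -, -, -⟩ := chkM_spec 0 (by norm_num)
  exact h4 hs0 (toV_inj_of_lt _ _ h1 h1' h)

section

variable {φ : G →* Equiv.Perm ℕ} (hS : Setup cert H gam φ)

include hS

/-- the O'Nan group has a subgroup that is simple of order 175560 -/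
theorem exists_J1 : ∃ K : Subgroup G, IsJ1 K := by
  haveI : NeZero 175560 := ⟨by norm_num⟩
  haveI : Finite G := (cardG hS).1
  obtain ⟨hpa, hpb, hK⟩ := kside hS 175560 wA wB wA_lt wB_lt tPA tPB tQB tKK chkK_all base_ok
  refine ⟨Subgroup.closure {(evw gam wA)⁻¹, (evw gam wB)⁻¹}, ?_⟩
  obtain ⟨e⟩ := hK.nonempty_mulEquiv_of_card (eG wU) (eG wV) (fun s : Fin 175560 => βM s.val)
    (fun s => by
      have := βM_U s.val s.isLt
      rw [this]; rfl)
    (fun s => by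
      have := βM_V s.val s.isLt
      rw [this]; rfl)
    (fun s h => by
      have h0 : ((0 : Fin 175560) : ℕ) = 0 := rfl
      rw [h0] at h
      exact Fin.ext (βM_inj s.val s.isLt h))
    card_J1
  haveI := simple_J1
  exact ⟨e.isSimpleGroup, by rw [Nat.card_congr e.toEquiv, card_J1]⟩

end

end Cfsg.Agent.Lib.Helper57.ONJ1
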