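import Cfsg.Agent.Lib.Helper57.ONJ1Defs

set_option autoImplicit false
set_option maxRecDepth 1000000
set_option linter.all false
set_option Elab.async false

namespace Cfsg.Agent.Lib.Helper57.ONJ1

open Cfsg.Agent.Lib.Helper28 Cfsg.Agent.Lib.Helper57.ONCay

theorem chkK_0 : allRangeF (chkK wA wB 175560 tPA tPB tQB tKK) 0 300 = true := by decide +kernel
theorem chkK_300 : allRangeF (chkK wA wB 175560 tPA tPB tQB tKK) 300 300 = true := by decide +kernel
theorem chkK_600 : allRangeF (chkK wA wB 175560 tPA tPB tQB tKK) 600 300 = true := by decide +kernel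
theorem chkK_900 : allRangeF (chkK wA wB 175560 tPA tPB tQB tKK) 900 300 = true := by decide +kernel
theorem chkK_1200 : allRangeF (chkK wA wB 175560 tPA tPB tQB tKK) 1200 300 = true := by decide +kernel
theorem chkK_1500 : allRangeF (chkK wA wB 175560 tPA tPB tQB tKK) 1500 300 = true := by decide +kernel
theorem chkK_1800 : allRangeF (chkK wA wB 175560 tPA tPB tQB tKK) 1800 300 = true := by decide +kernel
theorem chkK_2100 : allRangeF (chkK wA wB 175560 tPA tPB tQB tKK) 2100 300 = true := by decide +kernel
theorem chkK_2400 : allRangeF (chkK wA wB 175560 tPA tPB tQB tKK) 2400 300 = true := by decide +kernel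
theorem chkK_2700 : allRangeF (chkK wA wB 175560 tPA tPB tQB tKK) 2700 300 = true := by decide +kernel
theorem chkK_3000 : allRangeF (chkK wA wB 175560 tPA tPB tQB tKK) 3000 300 = true := by decide +kernel
theorem chkK_3300 : allRangeF (chkK wA wB 175560 tPA tPB tQB tKK) 3300 300 = true := by decide +kernel
theorem chkK_3600 : allRangeF (chkK wA wB 175560 tPA tPB tQB tKK) 3600 300 = true := by decide +kernel
theorem chkK_3900 : allRangeF (chkK wA wB 175560 tPA tPB tQB tKK) 3900 300 = true := by decide +kernel
theorem chkK_4200 : allRangeF (chkK wA wB 175560 tPA tPB tQB tKK) 4200 300 = true := by decide +kernel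
theorem chkK_4500 : allRangeF (chkK wA wB 175560 tPA tPB tQB tKK) 4500 300 = true := by decide +kernel
theorem chkK_4800 : allRangeF (chkK wA wB 175560 tPA tPB tQB tKK) 4800 300 = true := by decide +kernel
theorem chkK_5100 : allRangeF (chkK wA wB 175560 tPA tPB tQB tKK) 5100 300 = true := by decide +kernel
theorem chkK_5400 : allRangeF (chkK wA wB 175560 tPA tPB tQB tKK) 5400 300 = true := by decide +kernel
theorem chkK_5700 : allRangeF (chkK wA wB 175560 tPA tPB tQB tKK) 5700 300 = true := by decide +kernel
theorem chkK_6000 : allRangeF (chkK wA wB 175560 tPA tPB tQB tKK) 6000 300 = true := by decide +kernel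
theorem chkK_6300 : allRangeF (chkK wA wB 175560 tPA tPB tQB tKK) 6300 300 = true := by decide +kernel
theorem chkK_6600 : allRangeF (chkK wA wB 175560 tPA tPB tQB tKK) 6600 300 = true := by decide +kernel
theorem chkK_6900 : allRangeF (chkK wA wB 175560 tPA tPB tQB tKK) 6900 300 = true := by decide +kernel
theorem chkK_7200 : allRangeF (chkK wA wB 175560 tPA tPB tQB tKK) 7200 300 = true := by decide +kernel
theorem chkK_7500 : allRangeF (chkK wA wB 175560 tPA tPB tQB tKK) 7500 300 = true := by decide +kernel
theorem chkK_7800 : allRangeF (chkK wA wB 175560 tPA tPB tQB tKK) 7800 300 = true := by decide +kernel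
theorem chkK_8100 : allRangeF (chkK wA wB 175560 tPA tPB tQB tKK) 8100 300 = true := by decide +kernel
theorem chkK_8400 : allRangeF (chkK wA wB 175560 tPA tPB tQB tKK) 8400 300 = true := by decide +kernel
theorem chkK_8700 : allRangeF (chkK wA wB 175560 tPA tPB tQB tKK) 8700 300 = true := by decide +kernel
theorem chkK_9000 : allRangeF (chkK wA wB 175560 tPA tPB tQB tKK) 9000 300 = true := by decide +kernel
theorem chkK_9300 : allRangeF (chkK wA wB 175560 tPA tPB tQB tKK) 9300 300 = true := by decide +kernel
theorem chkK_9600 : allRangeF (chkK wA wB 175560 tPA tPB tQB tKK) 9600 300 = true := by decide +kernel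
theorem chkK_9900 : allRangeF (chkK wA wB 175560 tPA tPB tQB tKK) 9900 300 = true := by decide +kernel
theorem chkK_10200 : allRangeF (chkK wA wB 175560 tPA tPB tQB tKK) 10200 300 = true := by decide +kernel
theorem chkK_10500 : allRangeF (chkK wA wB 175560 tPA tPB tQB tKK) 10500 300 = true := by decide +kernel
theorem chkK_10800 : allRangeF (chkK wA wB 175560 tPA tPB tQB tKK) 10800 300 = true := by decide +kernel
theorem chkK_11100 : allRangeF (chkK wA wB 175560 tPA tPB tQB tKK) 11100 300 = true := by decide +kernel
theorem chkK_11400 : allRangeF (chkK wA wB 175560 tPA tPB tQB tKK) 11400 300 = true := by decide +kernel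
theorem chkK_11700 : allRangeF (chkK wA wB 175560 tPA tPB tQB tKK) 11700 300 = true := by decide +kernel
theorem chkK_12000 : allRangeF (chkK wA wB 175560 tPA tPB tQB tKK) 12000 300 = true := by decide +kernel
theorem chkK_12300 : allRangeF (chkK wA wB 175560 tPA tPB tQB tKK) 12300 300 = true := by decide +kernel
theorem chkK_12600 : allRangeF (chkK wA wB 175560 tPA tPB tQB tKK) 12600 300 = true := by decide +kernel
theorem chkK_12900 : allRangeF (chkK wA wB 175560 tPA tPB tQB tKK) 12900 300 = true := by decide +kernel
theorem chkK_13200 : allRangeF (chkK wA wB 175560 tPA tPB tQB tKK) 13200 300 = true := by decide +kernel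
theorem chkK_13500 : allRangeF (chkK wA wB 175560 tPA tPB tQB tKK) 13500 300 = true := by decide +kernel
theorem chkK_13800 : allRangeF (chkK wA wB 175560 tPA tPB tQB tKK) 13800 300 = true := by decide +kernel
theorem chkK_14100 : allRangeF (chkK wA wB 175560 tPA tPB tQB tKK) 14100 300 = true := by decide +kernel
theorem chkK_14400 : allRangeF (chkK wA wB 175560 tPA tPB tQB tKK) 14400 300 = true := by decide +kernel

theorem chkK_file0 (s : Nat) (h1 : 0 ≤ s) (h2 : s < 14700) : chkK wA wB 175560 tPA tPB tQB tKK s = true := by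
  by_cases h0 : s < 300
  · exact allRangeF_sound _ _ (fun _ => rfl) 0 300 chkK_0 s (by omega) (by omega)
  by_cases h300 : s < 600
  · exact allRangeF_sound _ _ (fun _ => rfl) 300 300 chkK_300 s (by omega) (by omega)
  by_cases h600 : s < 900
  · exact allRangeF_sound _ _ (fun _ => rfl) 600 300 chkK_600 s (by omega) (by omega)
  by_cases h900 : s < 1200
  · exact allRangeF_sound _ _ (fun _ => rfl) 900 300 chkK_900 s (by omega) (by omega)
  by_cases h1200 : s < 1500
  · exact allRangeF_sound _ _ (fun _ => rfl) 1200 300 chkK_1200 s (by omega) (by omega)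
  by_cases h1500 : s < 1800
  · exact allRangeF_sound _ _ (fun _ => rfl) 1500 300 chkK_1500 s (by omega) (by omega)
  by_cases h1800 : s < 2100
  · exact allRangeF_sound _ _ (fun _ => rfl) 1800 300 chkK_1800 s (by omega) (by omega)
  by_cases h2100 : s < 2400
  · exact allRangeF_sound _ _ (fun _ => rfl) 2100 300 chkK_2100 s (by omega) (by omega)
  by_cases h2400 : s < 2700
  · exact allRangeF_sound _ _ (fun _ => rfl) 2400 300 chkK_2400 s (by omega) (by omega)
  by_cases h2700 : s < 3000
  · exact allRangeF_sound _ _ (fun _ => rfl) 2700 300 chkK_2700 s (by omega) (by omega)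
  by_cases h3000 : s < 3300
  · exact allRangeF_sound _ _ (fun _ => rfl) 3000 300 chkK_3000 s (by omega) (by omega)
  by_cases h3300 : s < 3600
  · exact allRangeF_sound _ _ (fun _ => rfl) 3300 300 chkK_3300 s (by omega) (by omega)
  by_cases h3600 : s < 3900
  · exact allRangeF_sound _ _ (fun _ => rfl) 3600 300 chkK_3600 s (by omega) (by omega)
  by_cases h3900 : s < 4200
  · exact allRangeF_sound _ _ (fun _ => rfl) 3900 300 chkK_3900 s (by omega) (by omega)
  by_cases h4200 : s < 4500
  · exact allRangeF_sound _ _ (fun _ => rfl) 4200 300 chkK_4200 s (by omega) (by omega)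
  by_cases h4500 : s < 4800
  · exact allRangeF_sound _ _ (fun _ => rfl) 4500 300 chkK_4500 s (by omega) (by omega)
  by_cases h4800 : s < 5100
  · exact allRangeF_sound _ _ (fun _ => rfl) 4800 300 chkK_4800 s (by omega) (by omega)
  by_cases h5100 : s < 5400
  · exact allRangeF_sound _ _ (fun _ => rfl) 5100 300 chkK_5100 s (by omega) (by omega)
  by_cases h5400 : s < 5700
  · exact allRangeF_sound _ _ (fun _ => rfl) 5400 300 chkK_5400 s (by omega) (by omega)
  by_cases h5700 : s < 6000
  · exact allRangeF_sound _ _ (fun _ => rfl) 5700 300 chkK_5700 s (by omega) (by omega)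
  by_cases h6000 : s < 6300
  · exact allRangeF_sound _ _ (fun _ => rfl) 6000 300 chkK_6000 s (by omega) (by omega)
  by_cases h6300 : s < 6600
  · exact allRangeF_sound _ _ (fun _ => rfl) 6300 300 chkK_6300 s (by omega) (by omega)
  by_cases h6600 : s < 6900
  · exact allRangeF_sound _ _ (fun _ => rfl) 6600 300 chkK_6600 s (by omega) (by omega)
  by_cases h6900 : s < 7200
  · exact allRangeF_sound _ _ (fun _ => rfl) 6900 300 chkK_6900 s (by omega) (by omega)
  by_cases h7200 : s < 7500
  · exact allRangeF_sound _ _ (fun _ => rfl) 7200 300 chkK_7200 s (by omega) (by omega)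
  by_cases h7500 : s < 7800
  · exact allRangeF_sound _ _ (fun _ => rfl) 7500 300 chkK_7500 s (by omega) (by omega)
  by_cases h7800 : s < 8100
  · exact allRangeF_sound _ _ (fun _ => rfl) 7800 300 chkK_7800 s (by omega) (by omega)
  by_cases h8100 : s < 8400
  · exact allRangeF_sound _ _ (fun _ => rfl) 8100 300 chkK_8100 s (by omega) (by omega)
  by_cases h8400 : s < 8700
  · exact allRangeF_sound _ _ (fun _ => rfl) 8400 300 chkK_8400 s (by omega) (by omega)
  by_cases h8700 : s < 9000
  · exact allRangeF_sound _ _ (fun _ => rfl) 8700 300 chkK_8700 s (by omega) (by omega)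
  by_cases h9000 : s < 9300
  · exact allRangeF_sound _ _ (fun _ => rfl) 9000 300 chkK_9000 s (by omega) (by omega)
  by_cases h9300 : s < 9600
  · exact allRangeF_sound _ _ (fun _ => rfl) 9300 300 chkK_9300 s (by omega) (by omega)
  by_cases h9600 : s < 9900
  · exact allRangeF_sound _ _ (fun _ => rfl) 9600 300 chkK_9600 s (by omega) (by omega)
  by_cases h9900 : s < 10200
  · exact allRangeF_sound _ _ (fun _ => rfl) 9900 300 chkK_9900 s (by omega) (by omega)
  by_cases h10200 : s < 10500
  · exact allRangeF_sound _ _ (fun _ => rfl) 10200 300 chkK_10200 s (by omega) (by omega)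
  by_cases h10500 : s < 10800
  · exact allRangeF_sound _ _ (fun _ => rfl) 10500 300 chkK_10500 s (by omega) (by omega)
  by_cases h10800 : s < 11100
  · exact allRangeF_sound _ _ (fun _ => rfl) 10800 300 chkK_10800 s (by omega) (by omega)
  by_cases h11100 : s < 11400
  · exact allRangeF_sound _ _ (fun _ => rfl) 11100 300 chkK_11100 s (by omega) (by omega)
  by_cases h11400 : s < 11700
  · exact allRangeF_sound _ _ (fun _ => rfl) 11400 300 chkK_11400 s (by omega) (by omega)
  by_cases h11700 : s < 12000
  · exact allRangeF_sound _ _ (fun _ => rfl) 11700 300 chkK_11700 s (by omega) (by omega)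
  by_cases h12000 : s < 12300
  · exact allRangeF_sound _ _ (fun _ => rfl) 12000 300 chkK_12000 s (by omega) (by omega)
  by_cases h12300 : s < 12600
  · exact allRangeF_sound _ _ (fun _ => rfl) 12300 300 chkK_12300 s (by omega) (by omega)
  by_cases h12600 : s < 12900
  · exact allRangeF_sound _ _ (fun _ => rfl) 12600 300 chkK_12600 s (by omega) (by omega)
  by_cases h12900 : s < 13200
  · exact allRangeF_sound _ _ (fun _ => rfl) 12900 300 chkK_12900 s (by omega) (by omega)
  by_cases h13200 : s < 13500
  · exact allRangeF_sound _ _ (fun _ => rfl) 13200 300 chkK_13200 s (by omega) (by omega)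
  by_cases h13500 : s < 13800
  · exact allRangeF_sound _ _ (fun _ => rfl) 13500 300 chkK_13500 s (by omega) (by omega)
  by_cases h13800 : s < 14100
  · exact allRangeF_sound _ _ (fun _ => rfl) 13800 300 chkK_13800 s (by omega) (by omega)
  by_cases h14100 : s < 14400
  · exact allRangeF_sound _ _ (fun _ => rfl) 14100 300 chkK_14100 s (by omega) (by omega)
  exact allRangeF_sound _ _ (fun _ => rfl) 14400 300 chkK_14400 s (by omega) (by omega)

end Cfsg.Agent.Lib.Helper57.ONJ1
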