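import Cfsg.Agent.Lib.Helper57.ONJ1Defs

set_option autoImplicit false
set_option maxRecDepth 1000000
set_option linter.all false
set_option Elab.async false

namespace Cfsg.Agent.Lib.Helper57.ONJ1

open Cfsg.Agent.Lib.Helper28 Cfsg.Agent.Lib.Helper57.ONCay

theorem chkK_14700 : allRangeF (chkK wA wB 175560 tPA tPB tQB tKK) 14700 300 = true := by decide +kernel
theorem chkK_15000 : allRangeF (chkK wA wB 175560 tPA tPB tQB tKK) 15000 300 = true := by decide +kernel
theorem chkK_15300 : allRangeF (chkK wA wB 175560 tPA tPB tQB tKK) 15300 300 = true := by decide +kernel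
theorem chkK_15600 : allRangeF (chkK wA wB 175560 tPA tPB tQB tKK) 15600 300 = true := by decide +kernel
theorem chkK_15900 : allRangeF (chkK wA wB 175560 tPA tPB tQB tKK) 15900 300 = true := by decide +kernel
theorem chkK_16200 : allRangeF (chkK wA wB 175560 tPA tPB tQB tKK) 16200 300 = true := by decide +kernel
theorem chkK_16500 : allRangeF (chkK wA wB 175560 tPA tPB tQB tKK) 16500 300 = true := by decide +kernel
theorem chkK_16800 : allRangeF (chkK wA wB 175560 tPA tPB tQB tKK) 16800 300 = true := by decide +kernel
theorem chkK_17100 : allRangeF (chkK wA wB 175560 tPA tPB tQB tKK) 17100 300 = true := by decide +kernel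
theorem chkK_17400 : allRangeF (chkK wA wB 175560 tPA tPB tQB tKK) 17400 300 = true := by decide +kernel
theorem chkK_17700 : allRangeF (chkK wA wB 175560 tPA tPB tQB tKK) 17700 300 = true := by decide +kernel
theorem chkK_18000 : allRangeF (chkK wA wB 175560 tPA tPB tQB tKK) 18000 300 = true := by decide +kernel
theorem chkK_18300 : allRangeF (chkK wA wB 175560 tPA tPB tQB tKK) 18300 300 = true := by decide +kernel
theorem chkK_18600 : allRangeF (chkK wA wB 175560 tPA tPB tQB tKK) 18600 300 = true := by decide +kernel
theorem chkK_18900 : allRangeF (chkK wA wB 175560 tPA tPB tQB tKK) 18900 300 = true := by decide +kernel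
theorem chkK_19200 : allRangeF (chkK wA wB 175560 tPA tPB tQB tKK) 19200 300 = true := by decide +kernel
theorem chkK_19500 : allRangeF (chkK wA wB 175560 tPA tPB tQB tKK) 19500 300 = true := by decide +kernel
theorem chkK_19800 : allRangeF (chkK wA wB 175560 tPA tPB tQB tKK) 19800 300 = true := by decide +kernel
theorem chkK_20100 : allRangeF (chkK wA wB 175560 tPA tPB tQB tKK) 20100 300 = true := by decide +kernel
theorem chkK_20400 : allRangeF (chkK wA wB 175560 tPA tPB tQB tKK) 20400 300 = true := by decide +kernel
theorem chkK_20700 : allRangeF (chkK wA wB 175560 tPA tPB tQB tKK) 20700 300 = true := by decide +kernel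
theorem chkK_21000 : allRangeF (chkK wA wB 175560 tPA tPB tQB tKK) 21000 300 = true := by decide +kernel
theorem chkK_21300 : allRangeF (chkK wA wB 175560 tPA tPB tQB tKK) 21300 300 = true := by decide +kernel
theorem chkK_21600 : allRangeF (chkK wA wB 175560 tPA tPB tQB tKK) 21600 300 = true := by decide +kernel
theorem chkK_21900 : allRangeF (chkK wA wB 175560 tPA tPB tQB tKK) 21900 300 = true := by decide +kernel
theorem chkK_22200 : allRangeF (chkK wA wB 175560 tPA tPB tQB tKK) 22200 300 = true := by decide +kernel
theorem chkK_22500 : allRangeF (chkK wA wB 175560 tPA tPB tQB tKK) 22500 300 = true := by decide +kernel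
theorem chkK_22800 : allRangeF (chkK wA wB 175560 tPA tPB tQB tKK) 22800 300 = true := by decide +kernel
theorem chkK_23100 : allRangeF (chkK wA wB 175560 tPA tPB tQB tKK) 23100 300 = true := by decide +kernel
theorem chkK_23400 : allRangeF (chkK wA wB 175560 tPA tPB tQB tKK) 23400 300 = true := by decide +kernel
theorem chkK_23700 : allRangeF (chkK wA wB 175560 tPA tPB tQB tKK) 23700 300 = true := by decide +kernel
theorem chkK_24000 : allRangeF (chkK wA wB 175560 tPA tPB tQB tKK) 24000 300 = true := by decide +kernel
theorem chkK_24300 : allRangeF (chkK wA wB 175560 tPA tPB tQB tKK) 24300 300 = true := by decide +kernel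
theorem chkK_24600 : allRangeF (chkK wA wB 175560 tPA tPB tQB tKK) 24600 300 = true := by decide +kernel
theorem chkK_24900 : allRangeF (chkK wA wB 175560 tPA tPB tQB tKK) 24900 300 = true := by decide +kernel
theorem chkK_25200 : allRangeF (chkK wA wB 175560 tPA tPB tQB tKK) 25200 300 = true := by decide +kernel
theorem chkK_25500 : allRangeF (chkK wA wB 175560 tPA tPB tQB tKK) 25500 300 = true := by decide +kernel
theorem chkK_25800 : allRangeF (chkK wA wB 175560 tPA tPB tQB tKK) 25800 300 = true := by decide +kernel
theorem chkK_26100 : allRangeF (chkK wA wB 175560 tPA tPB tQB tKK) 26100 300 = true := by decide +kernel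
theorem chkK_26400 : allRangeF (chkK wA wB 175560 tPA tPB tQB tKK) 26400 300 = true := by decide +kernel
theorem chkK_26700 : allRangeF (chkK wA wB 175560 tPA tPB tQB tKK) 26700 300 = true := by decide +kernel
theorem chkK_27000 : allRangeF (chkK wA wB 175560 tPA tPB tQB tKK) 27000 300 = true := by decide +kernel
theorem chkK_27300 : allRangeF (chkK wA wB 175560 tPA tPB tQB tKK) 27300 300 = true := by decide +kernel
theorem chkK_27600 : allRangeF (chkK wA wB 175560 tPA tPB tQB tKK) 27600 300 = true := by decide +kernel
theorem chkK_27900 : allRangeF (chkK wA wB 175560 tPA tPB tQB tKK) 27900 300 = true := by decide +kernel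
theorem chkK_28200 : allRangeF (chkK wA wB 175560 tPA tPB tQB tKK) 28200 300 = true := by decide +kernel
theorem chkK_28500 : allRangeF (chkK wA wB 175560 tPA tPB tQB tKK) 28500 300 = true := by decide +kernel
theorem chkK_28800 : allRangeF (chkK wA wB 175560 tPA tPB tQB tKK) 28800 300 = true := by decide +kernel
theorem chkK_29100 : allRangeF (chkK wA wB 175560 tPA tPB tQB tKK) 29100 300 = true := by decide +kernel

theorem chkK_file1 (s : Nat) (h1 : 14700 ≤ s) (h2 : s < 29400) : chkK wA wB 175560 tPA tPB tQB tKK s = true := by
  by_cases h14700 : s < 15000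
  · exact allRangeF_sound _ _ (fun _ => rfl) 14700 300 chkK_14700 s (by omega) (by omega)
  by_cases h15000 : s < 15300
  · exact allRangeF_sound _ _ (fun _ => rfl) 15000 300 chkK_15000 s (by omega) (by omega)
  by_cases h15300 : s < 15600
  · exact allRangeF_sound _ _ (fun _ => rfl) 15300 300 chkK_15300 s (by omega) (by omega)
  by_cases h15600 : s < 15900
  · exact allRangeF_sound _ _ (fun _ => rfl) 15600 300 chkK_15600 s (by omega) (by omega)
  by_cases h15900 : s < 16200
  · exact allRangeF_sound _ _ (fun _ => rfl) 15900 300 chkK_15900 s (by omega) (by omega)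
  by_cases h16200 : s < 16500
  · exact allRangeF_sound _ _ (fun _ => rfl) 16200 300 chkK_16200 s (by omega) (by omega)
  by_cases h16500 : s < 16800
  · exact allRangeF_sound _ _ (fun _ => rfl) 16500 300 chkK_16500 s (by omega) (by omega)
  by_cases h16800 : s < 17100
  · exact allRangeF_sound _ _ (fun _ => rfl) 16800 300 chkK_16800 s (by omega) (by omega)
  by_cases h17100 : s < 17400
  · exact allRangeF_sound _ _ (fun _ => rfl) 17100 300 chkK_17100 s (by omega) (by omega)
  by_cases h17400 : s < 17700
  · exact allRangeF_sound _ _ (fun _ => rfl) 17400 300 chkK_17400 s (by omega) (by omega)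
  by_cases h17700 : s < 18000
  · exact allRangeF_sound _ _ (fun _ => rfl) 17700 300 chkK_17700 s (by omega) (by omega)
  by_cases h18000 : s < 18300
  · exact allRangeF_sound _ _ (fun _ => rfl) 18000 300 chkK_18000 s (by omega) (by omega)
  by_cases h18300 : s < 18600
  · exact allRangeF_sound _ _ (fun _ => rfl) 18300 300 chkK_18300 s (by omega) (by omega)
  by_cases h18600 : s < 18900
  · exact allRangeF_sound _ _ (fun _ => rfl) 18600 300 chkK_18600 s (by omega) (by omega)
  by_cases h18900 : s < 19200
  · exact allRangeF_sound _ _ (fun _ => rfl) 18900 300 chkK_18900 s (by omega) (by omega)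
  by_cases h19200 : s < 19500
  · exact allRangeF_sound _ _ (fun _ => rfl) 19200 300 chkK_19200 s (by omega) (by omega)
  by_cases h19500 : s < 19800
  · exact allRangeF_sound _ _ (fun _ => rfl) 19500 300 chkK_19500 s (by omega) (by omega)
  by_cases h19800 : s < 20100
  · exact allRangeF_sound _ _ (fun _ => rfl) 19800 300 chkK_19800 s (by omega) (by omega)
  by_cases h20100 : s < 20400
  · exact allRangeF_sound _ _ (fun _ => rfl) 20100 300 chkK_20100 s (by omega) (by omega)
  by_cases h20400 : s < 20700
  · exact allRangeF_sound _ _ (fun _ => rfl) 20400 300 chkK_20400 s (by omega) (by omega)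
  by_cases h20700 : s < 21000
  · exact allRangeF_sound _ _ (fun _ => rfl) 20700 300 chkK_20700 s (by omega) (by omega)
  by_cases h21000 : s < 21300
  · exact allRangeF_sound _ _ (fun _ => rfl) 21000 300 chkK_21000 s (by omega) (by omega)
  by_cases h21300 : s < 21600
  · exact allRangeF_sound _ _ (fun _ => rfl) 21300 300 chkK_21300 s (by omega) (by omega)
  by_cases h21600 : s < 21900
  · exact allRangeF_sound _ _ (fun _ => rfl) 21600 300 chkK_21600 s (by omega) (by omega)
  by_cases h21900 : s < 22200
  · exact allRangeF_sound _ _ (fun _ => rfl) 21900 300 chkK_21900 s (by omega) (by omega)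
  by_cases h22200 : s < 22500
  · exact allRangeF_sound _ _ (fun _ => rfl) 22200 300 chkK_22200 s (by omega) (by omega)
  by_cases h22500 : s < 22800
  · exact allRangeF_sound _ _ (fun _ => rfl) 22500 300 chkK_22500 s (by omega) (by omega)
  by_cases h22800 : s < 23100
  · exact allRangeF_sound _ _ (fun _ => rfl) 22800 300 chkK_22800 s (by omega) (by omega)
  by_cases h23100 : s < 23400
  · exact allRangeF_sound _ _ (fun _ => rfl) 23100 300 chkK_23100 s (by omega) (by omega)
  by_cases h23400 : s < 23700
  · exact allRangeF_sound _ _ (fun _ => rfl) 23400 300 chkK_23400 s (by omega) (by omega)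
  by_cases h23700 : s < 24000
  · exact allRangeF_sound _ _ (fun _ => rfl) 23700 300 chkK_23700 s (by omega) (by omega)
  by_cases h24000 : s < 24300
  · exact allRangeF_sound _ _ (fun _ => rfl) 24000 300 chkK_24000 s (by omega) (by omega)
  by_cases h24300 : s < 24600
  · exact allRangeF_sound _ _ (fun _ => rfl) 24300 300 chkK_24300 s (by omega) (by omega)
  by_cases h24600 : s < 24900
  · exact allRangeF_sound _ _ (fun _ => rfl) 24600 300 chkK_24600 s (by omega) (by omega)
  by_cases h24900 : s < 25200
  · exact allRangeF_sound _ _ (fun _ => rfl) 24900 300 chkK_24900 s (by omega) (by omega)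
  by_cases h25200 : s < 25500
  · exact allRangeF_sound _ _ (fun _ => rfl) 25200 300 chkK_25200 s (by omega) (by omega)
  by_cases h25500 : s < 25800
  · exact allRangeF_sound _ _ (fun _ => rfl) 25500 300 chkK_25500 s (by omega) (by omega)
  by_cases h25800 : s < 26100
  · exact allRangeF_sound _ _ (fun _ => rfl) 25800 300 chkK_25800 s (by omega) (by omega)
  by_cases h26100 : s < 26400
  · exact allRangeF_sound _ _ (fun _ => rfl) 26100 300 chkK_26100 s (by omega) (by omega)
  by_cases h26400 : s < 26700
  · exact allRangeF_sound _ _ (fun _ => rfl) 26400 300 chkK_26400 s (by omega) (by omega)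
  by_cases h26700 : s < 27000
  · exact allRangeF_sound _ _ (fun _ => rfl) 26700 300 chkK_26700 s (by omega) (by omega)
  by_cases h27000 : s < 27300
  · exact allRangeF_sound _ _ (fun _ => rfl) 27000 300 chkK_27000 s (by omega) (by omega)
  by_cases h27300 : s < 27600
  · exact allRangeF_sound _ _ (fun _ => rfl) 27300 300 chkK_27300 s (by omega) (by omega)
  by_cases h27600 : s < 27900
  · exact allRangeF_sound _ _ (fun _ => rfl) 27600 300 chkK_27600 s (by omega) (by omega)
  by_cases h27900 : s < 28200
  · exact allRangeF_sound _ _ (fun _ => rfl) 27900 300 chkK_27900 s (by omega) (by omega)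
  by_cases h28200 : s < 28500
  · exact allRangeF_sound _ _ (fun _ => rfl) 28200 300 chkK_28200 s (by omega) (by omega)
  by_cases h28500 : s < 28800
  · exact allRangeF_sound _ _ (fun _ => rfl) 28500 300 chkK_28500 s (by omega) (by omega)
  by_cases h28800 : s < 29100
  · exact allRangeF_sound _ _ (fun _ => rfl) 28800 300 chkK_28800 s (by omega) (by omega)
  exact allRangeF_sound _ _ (fun _ => rfl) 29100 300 chkK_29100 s (by omega) (by omega)

end Cfsg.Agent.Lib.Helper57.ONJ1
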