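import Cfsg.Agent.Lib.Helper57.ONJ1Defs

set_option autoImplicit false
set_option maxRecDepth 1000000
set_option linter.all false
set_option Elab.async false

namespace Cfsg.Agent.Lib.Helper57.ONJ1

open Cfsg.Agent.Lib.Helper28 Cfsg.Agent.Lib.Helper57.ONCay

theorem chkK_161700 : allRangeF (chkK wA wB 175560 tPA tPB tQB tKK) 161700 300 = true := by decide +kernel
theorem chkK_162000 : allRangeF (chkK wA wB 175560 tPA tPB tQB tKK) 162000 300 = true := by decide +kernel
theorem chkK_162300 : allRangeF (chkK wA wB 175560 tPA tPB tQB tKK) 162300 300 = true := by decide +kernel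
theorem chkK_162600 : allRangeF (chkK wA wB 175560 tPA tPB tQB tKK) 162600 300 = true := by decide +kernel
theorem chkK_162900 : allRangeF (chkK wA wB 175560 tPA tPB tQB tKK) 162900 300 = true := by decide +kernel
theorem chkK_163200 : allRangeF (chkK wA wB 175560 tPA tPB tQB tKK) 163200 300 = true := by decide +kernel
theorem chkK_163500 : allRangeF (chkK wA wB 175560 tPA tPB tQB tKK) 163500 300 = true := by decide +kernel
theorem chkK_163800 : allRangeF (chkK wA wB 175560 tPA tPB tQB tKK) 163800 300 = true := by decide +kernel
theorem chkK_164100 : allRangeF (chkK wA wB 175560 tPA tPB tQB tKK) 164100 300 = true := by decide +kernel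
theorem chkK_164400 : allRangeF (chkK wA wB 175560 tPA tPB tQB tKK) 164400 300 = true := by decide +kernel
theorem chkK_164700 : allRangeF (chkK wA wB 175560 tPA tPB tQB tKK) 164700 300 = true := by decide +kernel
theorem chkK_165000 : allRangeF (chkK wA wB 175560 tPA tPB tQB tKK) 165000 300 = true := by decide +kernel
theorem chkK_165300 : allRangeF (chkK wA wB 175560 tPA tPB tQB tKK) 165300 300 = true := by decide +kernel
theorem chkK_165600 : allRangeF (chkK wA wB 175560 tPA tPB tQB tKK) 165600 300 = true := by decide +kernel
theorem chkK_165900 : allRangeF (chkK wA wB 175560 tPA tPB tQB tKK) 165900 300 = true := by decide +kernel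
theorem chkK_166200 : allRangeF (chkK wA wB 175560 tPA tPB tQB tKK) 166200 300 = true := by decide +kernel
theorem chkK_166500 : allRangeF (chkK wA wB 175560 tPA tPB tQB tKK) 166500 300 = true := by decide +kernel
theorem chkK_166800 : allRangeF (chkK wA wB 175560 tPA tPB tQB tKK) 166800 300 = true := by decide +kernel
theorem chkK_167100 : allRangeF (chkK wA wB 175560 tPA tPB tQB tKK) 167100 300 = true := by decide +kernel
theorem chkK_167400 : allRangeF (chkK wA wB 175560 tPA tPB tQB tKK) 167400 300 = true := by decide +kernel
theorem chkK_167700 : allRangeF (chkK wA wB 175560 tPA tPB tQB tKK) 167700 300 = true := by decide +kernel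
theorem chkK_168000 : allRangeF (chkK wA wB 175560 tPA tPB tQB tKK) 168000 300 = true := by decide +kernel
theorem chkK_168300 : allRangeF (chkK wA wB 175560 tPA tPB tQB tKK) 168300 300 = true := by decide +kernel
theorem chkK_168600 : allRangeF (chkK wA wB 175560 tPA tPB tQB tKK) 168600 300 = true := by decide +kernel
theorem chkK_168900 : allRangeF (chkK wA wB 175560 tPA tPB tQB tKK) 168900 300 = true := by decide +kernel
theorem chkK_169200 : allRangeF (chkK wA wB 175560 tPA tPB tQB tKK) 169200 300 = true := by decide +kernel
theorem chkK_169500 : allRangeF (chkK wA wB 175560 tPA tPB tQB tKK) 169500 300 = true := by decide +kernel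
theorem chkK_169800 : allRangeF (chkK wA wB 175560 tPA tPB tQB tKK) 169800 300 = true := by decide +kernel
theorem chkK_170100 : allRangeF (chkK wA wB 175560 tPA tPB tQB tKK) 170100 300 = true := by decide +kernel
theorem chkK_170400 : allRangeF (chkK wA wB 175560 tPA tPB tQB tKK) 170400 300 = true := by decide +kernel
theorem chkK_170700 : allRangeF (chkK wA wB 175560 tPA tPB tQB tKK) 170700 300 = true := by decide +kernel
theorem chkK_171000 : allRangeF (chkK wA wB 175560 tPA tPB tQB tKK) 171000 300 = true := by decide +kernel
theorem chkK_171300 : allRangeF (chkK wA wB 175560 tPA tPB tQB tKK) 171300 300 = true := by decide +kernel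
theorem chkK_171600 : allRangeF (chkK wA wB 175560 tPA tPB tQB tKK) 171600 300 = true := by decide +kernel
theorem chkK_171900 : allRangeF (chkK wA wB 175560 tPA tPB tQB tKK) 171900 300 = true := by decide +kernel
theorem chkK_172200 : allRangeF (chkK wA wB 175560 tPA tPB tQB tKK) 172200 300 = true := by decide +kernel
theorem chkK_172500 : allRangeF (chkK wA wB 175560 tPA tPB tQB tKK) 172500 300 = true := by decide +kernel
theorem chkK_172800 : allRangeF (chkK wA wB 175560 tPA tPB tQB tKK) 172800 300 = true := by decide +kernel
theorem chkK_173100 : allRangeF (chkK wA wB 175560 tPA tPB tQB tKK) 173100 300 = true := by decide +kernel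
theorem chkK_173400 : allRangeF (chkK wA wB 175560 tPA tPB tQB tKK) 173400 300 = true := by decide +kernel
theorem chkK_173700 : allRangeF (chkK wA wB 175560 tPA tPB tQB tKK) 173700 300 = true := by decide +kernel
theorem chkK_174000 : allRangeF (chkK wA wB 175560 tPA tPB tQB tKK) 174000 300 = true := by decide +kernel
theorem chkK_174300 : allRangeF (chkK wA wB 175560 tPA tPB tQB tKK) 174300 300 = true := by decide +kernel
theorem chkK_174600 : allRangeF (chkK wA wB 175560 tPA tPB tQB tKK) 174600 300 = true := by decide +kernel
theorem chkK_174900 : allRangeF (chkK wA wB 175560 tPA tPB tQB tKK) 174900 300 = true := by decide +kernel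
theorem chkK_175200 : allRangeF (chkK wA wB 175560 tPA tPB tQB tKK) 175200 300 = true := by decide +kernel
theorem chkK_175500 : allRangeF (chkK wA wB 175560 tPA tPB tQB tKK) 175500 60 = true := by decide +kernel

theorem chkK_file11 (s : Nat) (h1 : 161700 ≤ s) (h2 : s < 175560) : chkK wA wB 175560 tPA tPB tQB tKK s = true := by
  by_cases h161700 : s < 162000
  · exact allRangeF_sound _ _ (fun _ => rfl) 161700 300 chkK_161700 s (by omega) (by omega)
  by_cases h162000 : s < 162300
  · exact allRangeF_sound _ _ (fun _ => rfl) 162000 300 chkK_162000 s (by omega) (by omega)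
  by_cases h162300 : s < 162600
  · exact allRangeF_sound _ _ (fun _ => rfl) 162300 300 chkK_162300 s (by omega) (by omega)
  by_cases h162600 : s < 162900
  · exact allRangeF_sound _ _ (fun _ => rfl) 162600 300 chkK_162600 s (by omega) (by omega)
  by_cases h162900 : s < 163200
  · exact allRangeF_sound _ _ (fun _ => rfl) 162900 300 chkK_162900 s (by omega) (by omega)
  by_cases h163200 : s < 163500
  · exact allRangeF_sound _ _ (fun _ => rfl) 163200 300 chkK_163200 s (by omega) (by omega)
  by_cases h163500 : s < 163800
  · exact allRangeF_sound _ _ (fun _ => rfl) 163500 300 chkK_163500 s (by omega) (by omega)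
  by_cases h163800 : s < 164100
  · exact allRangeF_sound _ _ (fun _ => rfl) 163800 300 chkK_163800 s (by omega) (by omega)
  by_cases h164100 : s < 164400
  · exact allRangeF_sound _ _ (fun _ => rfl) 164100 300 chkK_164100 s (by omega) (by omega)
  by_cases h164400 : s < 164700
  · exact allRangeF_sound _ _ (fun _ => rfl) 164400 300 chkK_164400 s (by omega) (by omega)
  by_cases h164700 : s < 165000
  · exact allRangeF_sound _ _ (fun _ => rfl) 164700 300 chkK_164700 s (by omega) (by omega)
  by_cases h165000 : s < 165300
  · exact allRangeF_sound _ _ (fun _ => rfl) 165000 300 chkK_165000 s (by omega) (by omega)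
  by_cases h165300 : s < 165600
  · exact allRangeF_sound _ _ (fun _ => rfl) 165300 300 chkK_165300 s (by omega) (by omega)
  by_cases h165600 : s < 165900
  · exact allRangeF_sound _ _ (fun _ => rfl) 165600 300 chkK_165600 s (by omega) (by omega)
  by_cases h165900 : s < 166200
  · exact allRangeF_sound _ _ (fun _ => rfl) 165900 300 chkK_165900 s (by omega) (by omega)
  by_cases h166200 : s < 166500
  · exact allRangeF_sound _ _ (fun _ => rfl) 166200 300 chkK_166200 s (by omega) (by omega)
  by_cases h166500 : s < 166800
  · exact allRangeF_sound _ _ (fun _ => rfl) 166500 300 chkK_166500 s (by omega) (by omega)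
  by_cases h166800 : s < 167100
  · exact allRangeF_sound _ _ (fun _ => rfl) 166800 300 chkK_166800 s (by omega) (by omega)
  by_cases h167100 : s < 167400
  · exact allRangeF_sound _ _ (fun _ => rfl) 167100 300 chkK_167100 s (by omega) (by omega)
  by_cases h167400 : s < 167700
  · exact allRangeF_sound _ _ (fun _ => rfl) 167400 300 chkK_167400 s (by omega) (by omega)
  by_cases h167700 : s < 168000
  · exact allRangeF_sound _ _ (fun _ => rfl) 167700 300 chkK_167700 s (by omega) (by omega)
  by_cases h168000 : s < 168300
  · exact allRangeF_sound _ _ (fun _ => rfl) 168000 300 chkK_168000 s (by omega) (by omega)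
  by_cases h168300 : s < 168600
  · exact allRangeF_sound _ _ (fun _ => rfl) 168300 300 chkK_168300 s (by omega) (by omega)
  by_cases h168600 : s < 168900
  · exact allRangeF_sound _ _ (fun _ => rfl) 168600 300 chkK_168600 s (by omega) (by omega)
  by_cases h168900 : s < 169200
  · exact allRangeF_sound _ _ (fun _ => rfl) 168900 300 chkK_168900 s (by omega) (by omega)
  by_cases h169200 : s < 169500
  · exact allRangeF_sound _ _ (fun _ => rfl) 169200 300 chkK_169200 s (by omega) (by omega)
  by_cases h169500 : s < 169800
  · exact allRangeF_sound _ _ (fun _ => rfl) 169500 300 chkK_169500 s (by omega) (by omega)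
  by_cases h169800 : s < 170100
  · exact allRangeF_sound _ _ (fun _ => rfl) 169800 300 chkK_169800 s (by omega) (by omega)
  by_cases h170100 : s < 170400
  · exact allRangeF_sound _ _ (fun _ => rfl) 170100 300 chkK_170100 s (by omega) (by omega)
  by_cases h170400 : s < 170700
  · exact allRangeF_sound _ _ (fun _ => rfl) 170400 300 chkK_170400 s (by omega) (by omega)
  by_cases h170700 : s < 171000
  · exact allRangeF_sound _ _ (fun _ => rfl) 170700 300 chkK_170700 s (by omega) (by omega)
  by_cases h171000 : s < 171300
  · exact allRangeF_sound _ _ (fun _ => rfl) 171000 300 chkK_171000 s (by omega) (by omega)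
  by_cases h171300 : s < 171600
  · exact allRangeF_sound _ _ (fun _ => rfl) 171300 300 chkK_171300 s (by omega) (by omega)
  by_cases h171600 : s < 171900
  · exact allRangeF_sound _ _ (fun _ => rfl) 171600 300 chkK_171600 s (by omega) (by omega)
  by_cases h171900 : s < 172200
  · exact allRangeF_sound _ _ (fun _ => rfl) 171900 300 chkK_171900 s (by omega) (by omega)
  by_cases h172200 : s < 172500
  · exact allRangeF_sound _ _ (fun _ => rfl) 172200 300 chkK_172200 s (by omega) (by omega)
  by_cases h172500 : s < 172800
  · exact allRangeF_sound _ _ (fun _ => rfl) 172500 300 chkK_172500 s (by omega) (by omega)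
  by_cases h172800 : s < 173100
  · exact allRangeF_sound _ _ (fun _ => rfl) 172800 300 chkK_172800 s (by omega) (by omega)
  by_cases h173100 : s < 173400
  · exact allRangeF_sound _ _ (fun _ => rfl) 173100 300 chkK_173100 s (by omega) (by omega)
  by_cases h173400 : s < 173700
  · exact allRangeF_sound _ _ (fun _ => rfl) 173400 300 chkK_173400 s (by omega) (by omega)
  by_cases h173700 : s < 174000
  · exact allRangeF_sound _ _ (fun _ => rfl) 173700 300 chkK_173700 s (by omega) (by omega)
  by_cases h174000 : s < 174300
  · exact allRangeF_sound _ _ (fun _ => rfl) 174000 300 chkK_174000 s (by omega) (by omega)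
  by_cases h174300 : s < 174600
  · exact allRangeF_sound _ _ (fun _ => rfl) 174300 300 chkK_174300 s (by omega) (by omega)
  by_cases h174600 : s < 174900
  · exact allRangeF_sound _ _ (fun _ => rfl) 174600 300 chkK_174600 s (by omega) (by omega)
  by_cases h174900 : s < 175200
  · exact allRangeF_sound _ _ (fun _ => rfl) 174900 300 chkK_174900 s (by omega) (by omega)
  by_cases h175200 : s < 175500
  · exact allRangeF_sound _ _ (fun _ => rfl) 175200 300 chkK_175200 s (by omega) (by omega)
  exact allRangeF_sound _ _ (fun _ => rfl) 175500 60 chkK_175500 s (by omega) (by omega)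

end Cfsg.Agent.Lib.Helper57.ONJ1
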