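import Cfsg.Agent.Lib.Helper57.ONJ1Defs

set_option autoImplicit false
set_option maxRecDepth 1000000
set_option linter.all false
set_option Elab.async false

namespace Cfsg.Agent.Lib.Helper57.ONJ1

open Cfsg.Agent.Lib.Helper28 Cfsg.Agent.Lib.Helper57.ONCay

theorem chkK_29400 : allRangeF (chkK wA wB 175560 tPA tPB tQB tKK) 29400 300 = true := by decide +kernel
theorem chkK_29700 : allRangeF (chkK wA wB 175560 tPA tPB tQB tKK) 29700 300 = true := by decide +kernel
theorem chkK_30000 : allRangeF (chkK wA wB 175560 tPA tPB tQB tKK) 30000 300 = true := by decide +kernel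
theorem chkK_30300 : allRangeF (chkK wA wB 175560 tPA tPB tQB tKK) 30300 300 = true := by decide +kernel
theorem chkK_30600 : allRangeF (chkK wA wB 175560 tPA tPB tQB tKK) 30600 300 = true := by decide +kernel
theorem chkK_30900 : allRangeF (chkK wA wB 175560 tPA tPB tQB tKK) 30900 300 = true := by decide +kernel
theorem chkK_31200 : allRangeF (chkK wA wB 175560 tPA tPB tQB tKK) 31200 300 = true := by decide +kernel
theorem chkK_31500 : allRangeF (chkK wA wB 175560 tPA tPB tQB tKK) 31500 300 = true := by decide +kernel
theorem chkK_31800 : allRangeF (chkK wA wB 175560 tPA tPB tQB tKK) 31800 300 = true := by decide +kernel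
theorem chkK_32100 : allRangeF (chkK wA wB 175560 tPA tPB tQB tKK) 32100 300 = true := by decide +kernel
theorem chkK_32400 : allRangeF (chkK wA wB 175560 tPA tPB tQB tKK) 32400 300 = true := by decide +kernel
theorem chkK_32700 : allRangeF (chkK wA wB 175560 tPA tPB tQB tKK) 32700 300 = true := by decide +kernel
theorem chkK_33000 : allRangeF (chkK wA wB 175560 tPA tPB tQB tKK) 33000 300 = true := by decide +kernel
theorem chkK_33300 : allRangeF (chkK wA wB 175560 tPA tPB tQB tKK) 33300 300 = true := by decide +kernel
theorem chkK_33600 : allRangeF (chkK wA wB 175560 tPA tPB tQB tKK) 33600 300 = true := by decide +kernel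
theorem chkK_33900 : allRangeF (chkK wA wB 175560 tPA tPB tQB tKK) 33900 300 = true := by decide +kernel
theorem chkK_34200 : allRangeF (chkK wA wB 175560 tPA tPB tQB tKK) 34200 300 = true := by decide +kernel
theorem chkK_34500 : allRangeF (chkK wA wB 175560 tPA tPB tQB tKK) 34500 300 = true := by decide +kernel
theorem chkK_34800 : allRangeF (chkK wA wB 175560 tPA tPB tQB tKK) 34800 300 = true := by decide +kernel
theorem chkK_35100 : allRangeF (chkK wA wB 175560 tPA tPB tQB tKK) 35100 300 = true := by decide +kernel
theorem chkK_35400 : allRangeF (chkK wA wB 175560 tPA tPB tQB tKK) 35400 300 = true := by decide +kernel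
theorem chkK_35700 : allRangeF (chkK wA wB 175560 tPA tPB tQB tKK) 35700 300 = true := by decide +kernel
theorem chkK_36000 : allRangeF (chkK wA wB 175560 tPA tPB tQB tKK) 36000 300 = true := by decide +kernel
theorem chkK_36300 : allRangeF (chkK wA wB 175560 tPA tPB tQB tKK) 36300 300 = true := by decide +kernel
theorem chkK_36600 : allRangeF (chkK wA wB 175560 tPA tPB tQB tKK) 36600 300 = true := by decide +kernel
theorem chkK_36900 : allRangeF (chkK wA wB 175560 tPA tPB tQB tKK) 36900 300 = true := by decide +kernel
theorem chkK_37200 : allRangeF (chkK wA wB 175560 tPA tPB tQB tKK) 37200 300 = true := by decide +kernel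
theorem chkK_37500 : allRangeF (chkK wA wB 175560 tPA tPB tQB tKK) 37500 300 = true := by decide +kernel
theorem chkK_37800 : allRangeF (chkK wA wB 175560 tPA tPB tQB tKK) 37800 300 = true := by decide +kernel
theorem chkK_38100 : allRangeF (chkK wA wB 175560 tPA tPB tQB tKK) 38100 300 = true := by decide +kernel
theorem chkK_38400 : allRangeF (chkK wA wB 175560 tPA tPB tQB tKK) 38400 300 = true := by decide +kernel
theorem chkK_38700 : allRangeF (chkK wA wB 175560 tPA tPB tQB tKK) 38700 300 = true := by decide +kernel
theorem chkK_39000 : allRangeF (chkK wA wB 175560 tPA tPB tQB tKK) 39000 300 = true := by decide +kernel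
theorem chkK_39300 : allRangeF (chkK wA wB 175560 tPA tPB tQB tKK) 39300 300 = true := by decide +kernel
theorem chkK_39600 : allRangeF (chkK wA wB 175560 tPA tPB tQB tKK) 39600 300 = true := by decide +kernel
theorem chkK_39900 : allRangeF (chkK wA wB 175560 tPA tPB tQB tKK) 39900 300 = true := by decide +kernel
theorem chkK_40200 : allRangeF (chkK wA wB 175560 tPA tPB tQB tKK) 40200 300 = true := by decide +kernel
theorem chkK_40500 : allRangeF (chkK wA wB 175560 tPA tPB tQB tKK) 40500 300 = true := by decide +kernel
theorem chkK_40800 : allRangeF (chkK wA wB 175560 tPA tPB tQB tKK) 40800 300 = true := by decide +kernel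
theorem chkK_41100 : allRangeF (chkK wA wB 175560 tPA tPB tQB tKK) 41100 300 = true := by decide +kernel
theorem chkK_41400 : allRangeF (chkK wA wB 175560 tPA tPB tQB tKK) 41400 300 = true := by decide +kernel
theorem chkK_41700 : allRangeF (chkK wA wB 175560 tPA tPB tQB tKK) 41700 300 = true := by decide +kernel
theorem chkK_42000 : allRangeF (chkK wA wB 175560 tPA tPB tQB tKK) 42000 300 = true := by decide +kernel
theorem chkK_42300 : allRangeF (chkK wA wB 175560 tPA tPB tQB tKK) 42300 300 = true := by decide +kernel
theorem chkK_42600 : allRangeF (chkK wA wB 175560 tPA tPB tQB tKK) 42600 300 = true := by decide +kernel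
theorem chkK_42900 : allRangeF (chkK wA wB 175560 tPA tPB tQB tKK) 42900 300 = true := by decide +kernel
theorem chkK_43200 : allRangeF (chkK wA wB 175560 tPA tPB tQB tKK) 43200 300 = true := by decide +kernel
theorem chkK_43500 : allRangeF (chkK wA wB 175560 tPA tPB tQB tKK) 43500 300 = true := by decide +kernel
theorem chkK_43800 : allRangeF (chkK wA wB 175560 tPA tPB tQB tKK) 43800 300 = true := by decide +kernel

theorem chkK_file2 (s : Nat) (h1 : 29400 ≤ s) (h2 : s < 44100) : chkK wA wB 175560 tPA tPB tQB tKK s = true := by
  by_cases h29400 : s < 29700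
  · exact allRangeF_sound _ _ (fun _ => rfl) 29400 300 chkK_29400 s (by omega) (by omega)
  by_cases h29700 : s < 30000
  · exact allRangeF_sound _ _ (fun _ => rfl) 29700 300 chkK_29700 s (by omega) (by omega)
  by_cases h30000 : s < 30300
  · exact allRangeF_sound _ _ (fun _ => rfl) 30000 300 chkK_30000 s (by omega) (by omega)
  by_cases h30300 : s < 30600
  · exact allRangeF_sound _ _ (fun _ => rfl) 30300 300 chkK_30300 s (by omega) (by omega)
  by_cases h30600 : s < 30900
  · exact allRangeF_sound _ _ (fun _ => rfl) 30600 300 chkK_30600 s (by omega) (by omega)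
  by_cases h30900 : s < 31200
  · exact allRangeF_sound _ _ (fun _ => rfl) 30900 300 chkK_30900 s (by omega) (by omega)
  by_cases h31200 : s < 31500
  · exact allRangeF_sound _ _ (fun _ => rfl) 31200 300 chkK_31200 s (by omega) (by omega)
  by_cases h31500 : s < 31800
  · exact allRangeF_sound _ _ (fun _ => rfl) 31500 300 chkK_31500 s (by omega) (by omega)
  by_cases h31800 : s < 32100
  · exact allRangeF_sound _ _ (fun _ => rfl) 31800 300 chkK_31800 s (by omega) (by omega)
  by_cases h32100 : s < 32400
  · exact allRangeF_sound _ _ (fun _ => rfl) 32100 300 chkK_32100 s (by omega) (by omega)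
  by_cases h32400 : s < 32700
  · exact allRangeF_sound _ _ (fun _ => rfl) 32400 300 chkK_32400 s (by omega) (by omega)
  by_cases h32700 : s < 33000
  · exact allRangeF_sound _ _ (fun _ => rfl) 32700 300 chkK_32700 s (by omega) (by omega)
  by_cases h33000 : s < 33300
  · exact allRangeF_sound _ _ (fun _ => rfl) 33000 300 chkK_33000 s (by omega) (by omega)
  by_cases h33300 : s < 33600
  · exact allRangeF_sound _ _ (fun _ => rfl) 33300 300 chkK_33300 s (by omega) (by omega)
  by_cases h33600 : s < 33900
  · exact allRangeF_sound _ _ (fun _ => rfl) 33600 300 chkK_33600 s (by omega) (by omega)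
  by_cases h33900 : s < 34200
  · exact allRangeF_sound _ _ (fun _ => rfl) 33900 300 chkK_33900 s (by omega) (by omega)
  by_cases h34200 : s < 34500
  · exact allRangeF_sound _ _ (fun _ => rfl) 34200 300 chkK_34200 s (by omega) (by omega)
  by_cases h34500 : s < 34800
  · exact allRangeF_sound _ _ (fun _ => rfl) 34500 300 chkK_34500 s (by omega) (by omega)
  by_cases h34800 : s < 35100
  · exact allRangeF_sound _ _ (fun _ => rfl) 34800 300 chkK_34800 s (by omega) (by omega)
  by_cases h35100 : s < 35400
  · exact allRangeF_sound _ _ (fun _ => rfl) 35100 300 chkK_35100 s (by omega) (by omega)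
  by_cases h35400 : s < 35700
  · exact allRangeF_sound _ _ (fun _ => rfl) 35400 300 chkK_35400 s (by omega) (by omega)
  by_cases h35700 : s < 36000
  · exact allRangeF_sound _ _ (fun _ => rfl) 35700 300 chkK_35700 s (by omega) (by omega)
  by_cases h36000 : s < 36300
  · exact allRangeF_sound _ _ (fun _ => rfl) 36000 300 chkK_36000 s (by omega) (by omega)
  by_cases h36300 : s < 36600
  · exact allRangeF_sound _ _ (fun _ => rfl) 36300 300 chkK_36300 s (by omega) (by omega)
  by_cases h36600 : s < 36900
  · exact allRangeF_sound _ _ (fun _ => rfl) 36600 300 chkK_36600 s (by omega) (by omega)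
  by_cases h36900 : s < 37200
  · exact allRangeF_sound _ _ (fun _ => rfl) 36900 300 chkK_36900 s (by omega) (by omega)
  by_cases h37200 : s < 37500
  · exact allRangeF_sound _ _ (fun _ => rfl) 37200 300 chkK_37200 s (by omega) (by omega)
  by_cases h37500 : s < 37800
  · exact allRangeF_sound _ _ (fun _ => rfl) 37500 300 chkK_37500 s (by omega) (by omega)
  by_cases h37800 : s < 38100
  · exact allRangeF_sound _ _ (fun _ => rfl) 37800 300 chkK_37800 s (by omega) (by omega)
  by_cases h38100 : s < 38400
  · exact allRangeF_sound _ _ (fun _ => rfl) 38100 300 chkK_38100 s (by omega) (by omega)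
  by_cases h38400 : s < 38700
  · exact allRangeF_sound _ _ (fun _ => rfl) 38400 300 chkK_38400 s (by omega) (by omega)
  by_cases h38700 : s < 39000
  · exact allRangeF_sound _ _ (fun _ => rfl) 38700 300 chkK_38700 s (by omega) (by omega)
  by_cases h39000 : s < 39300
  · exact allRangeF_sound _ _ (fun _ => rfl) 39000 300 chkK_39000 s (by omega) (by omega)
  by_cases h39300 : s < 39600
  · exact allRangeF_sound _ _ (fun _ => rfl) 39300 300 chkK_39300 s (by omega) (by omega)
  by_cases h39600 : s < 39900
  · exact allRangeF_sound _ _ (fun _ => rfl) 39600 300 chkK_39600 s (by omega) (by omega)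
  by_cases h39900 : s < 40200
  · exact allRangeF_sound _ _ (fun _ => rfl) 39900 300 chkK_39900 s (by omega) (by omega)
  by_cases h40200 : s < 40500
  · exact allRangeF_sound _ _ (fun _ => rfl) 40200 300 chkK_40200 s (by omega) (by omega)
  by_cases h40500 : s < 40800
  · exact allRangeF_sound _ _ (fun _ => rfl) 40500 300 chkK_40500 s (by omega) (by omega)
  by_cases h40800 : s < 41100
  · exact allRangeF_sound _ _ (fun _ => rfl) 40800 300 chkK_40800 s (by omega) (by omega)
  by_cases h41100 : s < 41400
  · exact allRangeF_sound _ _ (fun _ => rfl) 41100 300 chkK_41100 s (by omega) (by omega)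
  by_cases h41400 : s < 41700
  · exact allRangeF_sound _ _ (fun _ => rfl) 41400 300 chkK_41400 s (by omega) (by omega)
  by_cases h41700 : s < 42000
  · exact allRangeF_sound _ _ (fun _ => rfl) 41700 300 chkK_41700 s (by omega) (by omega)
  by_cases h42000 : s < 42300
  · exact allRangeF_sound _ _ (fun _ => rfl) 42000 300 chkK_42000 s (by omega) (by omega)
  by_cases h42300 : s < 42600
  · exact allRangeF_sound _ _ (fun _ => rfl) 42300 300 chkK_42300 s (by omega) (by omega)
  by_cases h42600 : s < 42900
  · exact allRangeF_sound _ _ (fun _ => rfl) 42600 300 chkK_42600 s (by omega) (by omega)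
  by_cases h42900 : s < 43200
  · exact allRangeF_sound _ _ (fun _ => rfl) 42900 300 chkK_42900 s (by omega) (by omega)
  by_cases h43200 : s < 43500
  · exact allRangeF_sound _ _ (fun _ => rfl) 43200 300 chkK_43200 s (by omega) (by omega)
  by_cases h43500 : s < 43800
  · exact allRangeF_sound _ _ (fun _ => rfl) 43500 300 chkK_43500 s (by omega) (by omega)
  exact allRangeF_sound _ _ (fun _ => rfl) 43800 300 chkK_43800 s (by omega) (by omega)

end Cfsg.Agent.Lib.Helper57.ONJ1
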