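import Cfsg.Agent.Lib.Helper57.ONJ1Defs

set_option autoImplicit false
set_option maxRecDepth 1000000
set_option linter.all false
set_option Elab.async false

namespace Cfsg.Agent.Lib.Helper57.ONJ1

open Cfsg.Agent.Lib.Helper28 Cfsg.Agent.Lib.Helper57.ONCay

theorem chkK_44100 : allRangeF (chkK wA wB 175560 tPA tPB tQB tKK) 44100 300 = true := by decide +kernel
theorem chkK_44400 : allRangeF (chkK wA wB 175560 tPA tPB tQB tKK) 44400 300 = true := by decide +kernel
theorem chkK_44700 : allRangeF (chkK wA wB 175560 tPA tPB tQB tKK) 44700 300 = true := by decide +kernel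
theorem chkK_45000 : allRangeF (chkK wA wB 175560 tPA tPB tQB tKK) 45000 300 = true := by decide +kernel
theorem chkK_45300 : allRangeF (chkK wA wB 175560 tPA tPB tQB tKK) 45300 300 = true := by decide +kernel
theorem chkK_45600 : allRangeF (chkK wA wB 175560 tPA tPB tQB tKK) 45600 300 = true := by decide +kernel
theorem chkK_45900 : allRangeF (chkK wA wB 175560 tPA tPB tQB tKK) 45900 300 = true := by decide +kernel
theorem chkK_46200 : allRangeF (chkK wA wB 175560 tPA tPB tQB tKK) 46200 300 = true := by decide +kernel
theorem chkK_46500 : allRangeF (chkK wA wB 175560 tPA tPB tQB tKK) 46500 300 = true := by decide +kernel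
theorem chkK_46800 : allRangeF (chkK wA wB 175560 tPA tPB tQB tKK) 46800 300 = true := by decide +kernel
theorem chkK_47100 : allRangeF (chkK wA wB 175560 tPA tPB tQB tKK) 47100 300 = true := by decide +kernel
theorem chkK_47400 : allRangeF (chkK wA wB 175560 tPA tPB tQB tKK) 47400 300 = true := by decide +kernel
theorem chkK_47700 : allRangeF (chkK wA wB 175560 tPA tPB tQB tKK) 47700 300 = true := by decide +kernel
theorem chkK_48000 : allRangeF (chkK wA wB 175560 tPA tPB tQB tKK) 48000 300 = true := by decide +kernel
theorem chkK_48300 : allRangeF (chkK wA wB 175560 tPA tPB tQB tKK) 48300 300 = true := by decide +kernel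
theorem chkK_48600 : allRangeF (chkK wA wB 175560 tPA tPB tQB tKK) 48600 300 = true := by decide +kernel
theorem chkK_48900 : allRangeF (chkK wA wB 175560 tPA tPB tQB tKK) 48900 300 = true := by decide +kernel
theorem chkK_49200 : allRangeF (chkK wA wB 175560 tPA tPB tQB tKK) 49200 300 = true := by decide +kernel
theorem chkK_49500 : allRangeF (chkK wA wB 175560 tPA tPB tQB tKK) 49500 300 = true := by decide +kernel
theorem chkK_49800 : allRangeF (chkK wA wB 175560 tPA tPB tQB tKK) 49800 300 = true := by decide +kernel
theorem chkK_50100 : allRangeF (chkK wA wB 175560 tPA tPB tQB tKK) 50100 300 = true := by decide +kernel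
theorem chkK_50400 : allRangeF (chkK wA wB 175560 tPA tPB tQB tKK) 50400 300 = true := by decide +kernel
theorem chkK_50700 : allRangeF (chkK wA wB 175560 tPA tPB tQB tKK) 50700 300 = true := by decide +kernel
theorem chkK_51000 : allRangeF (chkK wA wB 175560 tPA tPB tQB tKK) 51000 300 = true := by decide +kernel
theorem chkK_51300 : allRangeF (chkK wA wB 175560 tPA tPB tQB tKK) 51300 300 = true := by decide +kernel
theorem chkK_51600 : allRangeF (chkK wA wB 175560 tPA tPB tQB tKK) 51600 300 = true := by decide +kernel
theorem chkK_51900 : allRangeF (chkK wA wB 175560 tPA tPB tQB tKK) 51900 300 = true := by decide +kernel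
theorem chkK_52200 : allRangeF (chkK wA wB 175560 tPA tPB tQB tKK) 52200 300 = true := by decide +kernel
theorem chkK_52500 : allRangeF (chkK wA wB 175560 tPA tPB tQB tKK) 52500 300 = true := by decide +kernel
theorem chkK_52800 : allRangeF (chkK wA wB 175560 tPA tPB tQB tKK) 52800 300 = true := by decide +kernel
theorem chkK_53100 : allRangeF (chkK wA wB 175560 tPA tPB tQB tKK) 53100 300 = true := by decide +kernel
theorem chkK_53400 : allRangeF (chkK wA wB 175560 tPA tPB tQB tKK) 53400 300 = true := by decide +kernel
theorem chkK_53700 : allRangeF (chkK wA wB 175560 tPA tPB tQB tKK) 53700 300 = true := by decide +kernel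
theorem chkK_54000 : allRangeF (chkK wA wB 175560 tPA tPB tQB tKK) 54000 300 = true := by decide +kernel
theorem chkK_54300 : allRangeF (chkK wA wB 175560 tPA tPB tQB tKK) 54300 300 = true := by decide +kernel
theorem chkK_54600 : allRangeF (chkK wA wB 175560 tPA tPB tQB tKK) 54600 300 = true := by decide +kernel
theorem chkK_54900 : allRangeF (chkK wA wB 175560 tPA tPB tQB tKK) 54900 300 = true := by decide +kernel
theorem chkK_55200 : allRangeF (chkK wA wB 175560 tPA tPB tQB tKK) 55200 300 = true := by decide +kernel
theorem chkK_55500 : allRangeF (chkK wA wB 175560 tPA tPB tQB tKK) 55500 300 = true := by decide +kernel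
theorem chkK_55800 : allRangeF (chkK wA wB 175560 tPA tPB tQB tKK) 55800 300 = true := by decide +kernel
theorem chkK_56100 : allRangeF (chkK wA wB 175560 tPA tPB tQB tKK) 56100 300 = true := by decide +kernel
theorem chkK_56400 : allRangeF (chkK wA wB 175560 tPA tPB tQB tKK) 56400 300 = true := by decide +kernel
theorem chkK_56700 : allRangeF (chkK wA wB 175560 tPA tPB tQB tKK) 56700 300 = true := by decide +kernel
theorem chkK_57000 : allRangeF (chkK wA wB 175560 tPA tPB tQB tKK) 57000 300 = true := by decide +kernel
theorem chkK_57300 : allRangeF (chkK wA wB 175560 tPA tPB tQB tKK) 57300 300 = true := by decide +kernel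
theorem chkK_57600 : allRangeF (chkK wA wB 175560 tPA tPB tQB tKK) 57600 300 = true := by decide +kernel
theorem chkK_57900 : allRangeF (chkK wA wB 175560 tPA tPB tQB tKK) 57900 300 = true := by decide +kernel
theorem chkK_58200 : allRangeF (chkK wA wB 175560 tPA tPB tQB tKK) 58200 300 = true := by decide +kernel
theorem chkK_58500 : allRangeF (chkK wA wB 175560 tPA tPB tQB tKK) 58500 300 = true := by decide +kernel

theorem chkK_file3 (s : Nat) (h1 : 44100 ≤ s) (h2 : s < 58800) : chkK wA wB 175560 tPA tPB tQB tKK s = true := by
  by_cases h44100 : s < 44400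
  · exact allRangeF_sound _ _ (fun _ => rfl) 44100 300 chkK_44100 s (by omega) (by omega)
  by_cases h44400 : s < 44700
  · exact allRangeF_sound _ _ (fun _ => rfl) 44400 300 chkK_44400 s (by omega) (by omega)
  by_cases h44700 : s < 45000
  · exact allRangeF_sound _ _ (fun _ => rfl) 44700 300 chkK_44700 s (by omega) (by omega)
  by_cases h45000 : s < 45300
  · exact allRangeF_sound _ _ (fun _ => rfl) 45000 300 chkK_45000 s (by omega) (by omega)
  by_cases h45300 : s < 45600
  · exact allRangeF_sound _ _ (fun _ => rfl) 45300 300 chkK_45300 s (by omega) (by omega)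
  by_cases h45600 : s < 45900
  · exact allRangeF_sound _ _ (fun _ => rfl) 45600 300 chkK_45600 s (by omega) (by omega)
  by_cases h45900 : s < 46200
  · exact allRangeF_sound _ _ (fun _ => rfl) 45900 300 chkK_45900 s (by omega) (by omega)
  by_cases h46200 : s < 46500
  · exact allRangeF_sound _ _ (fun _ => rfl) 46200 300 chkK_46200 s (by omega) (by omega)
  by_cases h46500 : s < 46800
  · exact allRangeF_sound _ _ (fun _ => rfl) 46500 300 chkK_46500 s (by omega) (by omega)
  by_cases h46800 : s < 47100
  · exact allRangeF_sound _ _ (fun _ => rfl) 46800 300 chkK_46800 s (by omega) (by omega)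
  by_cases h47100 : s < 47400
  · exact allRangeF_sound _ _ (fun _ => rfl) 47100 300 chkK_47100 s (by omega) (by omega)
  by_cases h47400 : s < 47700
  · exact allRangeF_sound _ _ (fun _ => rfl) 47400 300 chkK_47400 s (by omega) (by omega)
  by_cases h47700 : s < 48000
  · exact allRangeF_sound _ _ (fun _ => rfl) 47700 300 chkK_47700 s (by omega) (by omega)
  by_cases h48000 : s < 48300
  · exact allRangeF_sound _ _ (fun _ => rfl) 48000 300 chkK_48000 s (by omega) (by omega)
  by_cases h48300 : s < 48600
  · exact allRangeF_sound _ _ (fun _ => rfl) 48300 300 chkK_48300 s (by omega) (by omega)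
  by_cases h48600 : s < 48900
  · exact allRangeF_sound _ _ (fun _ => rfl) 48600 300 chkK_48600 s (by omega) (by omega)
  by_cases h48900 : s < 49200
  · exact allRangeF_sound _ _ (fun _ => rfl) 48900 300 chkK_48900 s (by omega) (by omega)
  by_cases h49200 : s < 49500
  · exact allRangeF_sound _ _ (fun _ => rfl) 49200 300 chkK_49200 s (by omega) (by omega)
  by_cases h49500 : s < 49800
  · exact allRangeF_sound _ _ (fun _ => rfl) 49500 300 chkK_49500 s (by omega) (by omega)
  by_cases h49800 : s < 50100
  · exact allRangeF_sound _ _ (fun _ => rfl) 49800 300 chkK_49800 s (by omega) (by omega)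
  by_cases h50100 : s < 50400
  · exact allRangeF_sound _ _ (fun _ => rfl) 50100 300 chkK_50100 s (by omega) (by omega)
  by_cases h50400 : s < 50700
  · exact allRangeF_sound _ _ (fun _ => rfl) 50400 300 chkK_50400 s (by omega) (by omega)
  by_cases h50700 : s < 51000
  · exact allRangeF_sound _ _ (fun _ => rfl) 50700 300 chkK_50700 s (by omega) (by omega)
  by_cases h51000 : s < 51300
  · exact allRangeF_sound _ _ (fun _ => rfl) 51000 300 chkK_51000 s (by omega) (by omega)
  by_cases h51300 : s < 51600
  · exact allRangeF_sound _ _ (fun _ => rfl) 51300 300 chkK_51300 s (by omega) (by omega)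
  by_cases h51600 : s < 51900
  · exact allRangeF_sound _ _ (fun _ => rfl) 51600 300 chkK_51600 s (by omega) (by omega)
  by_cases h51900 : s < 52200
  · exact allRangeF_sound _ _ (fun _ => rfl) 51900 300 chkK_51900 s (by omega) (by omega)
  by_cases h52200 : s < 52500
  · exact allRangeF_sound _ _ (fun _ => rfl) 52200 300 chkK_52200 s (by omega) (by omega)
  by_cases h52500 : s < 52800
  · exact allRangeF_sound _ _ (fun _ => rfl) 52500 300 chkK_52500 s (by omega) (by omega)
  by_cases h52800 : s < 53100
  · exact allRangeF_sound _ _ (fun _ => rfl) 52800 300 chkK_52800 s (by omega) (by omega)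
  by_cases h53100 : s < 53400
  · exact allRangeF_sound _ _ (fun _ => rfl) 53100 300 chkK_53100 s (by omega) (by omega)
  by_cases h53400 : s < 53700
  · exact allRangeF_sound _ _ (fun _ => rfl) 53400 300 chkK_53400 s (by omega) (by omega)
  by_cases h53700 : s < 54000
  · exact allRangeF_sound _ _ (fun _ => rfl) 53700 300 chkK_53700 s (by omega) (by omega)
  by_cases h54000 : s < 54300
  · exact allRangeF_sound _ _ (fun _ => rfl) 54000 300 chkK_54000 s (by omega) (by omega)
  by_cases h54300 : s < 54600
  · exact allRangeF_sound _ _ (fun _ => rfl) 54300 300 chkK_54300 s (by omega) (by omega)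
  by_cases h54600 : s < 54900
  · exact allRangeF_sound _ _ (fun _ => rfl) 54600 300 chkK_54600 s (by omega) (by omega)
  by_cases h54900 : s < 55200
  · exact allRangeF_sound _ _ (fun _ => rfl) 54900 300 chkK_54900 s (by omega) (by omega)
  by_cases h55200 : s < 55500
  · exact allRangeF_sound _ _ (fun _ => rfl) 55200 300 chkK_55200 s (by omega) (by omega)
  by_cases h55500 : s < 55800
  · exact allRangeF_sound _ _ (fun _ => rfl) 55500 300 chkK_55500 s (by omega) (by omega)
  by_cases h55800 : s < 56100
  · exact allRangeF_sound _ _ (fun _ => rfl) 55800 300 chkK_55800 s (by omega) (by omega)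
  by_cases h56100 : s < 56400
  · exact allRangeF_sound _ _ (fun _ => rfl) 56100 300 chkK_56100 s (by omega) (by omega)
  by_cases h56400 : s < 56700
  · exact allRangeF_sound _ _ (fun _ => rfl) 56400 300 chkK_56400 s (by omega) (by omega)
  by_cases h56700 : s < 57000
  · exact allRangeF_sound _ _ (fun _ => rfl) 56700 300 chkK_56700 s (by omega) (by omega)
  by_cases h57000 : s < 57300
  · exact allRangeF_sound _ _ (fun _ => rfl) 57000 300 chkK_57000 s (by omega) (by omega)
  by_cases h57300 : s < 57600
  · exact allRangeF_sound _ _ (fun _ => rfl) 57300 300 chkK_57300 s (by omega) (by omega)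
  by_cases h57600 : s < 57900
  · exact allRangeF_sound _ _ (fun _ => rfl) 57600 300 chkK_57600 s (by omega) (by omega)
  by_cases h57900 : s < 58200
  · exact allRangeF_sound _ _ (fun _ => rfl) 57900 300 chkK_57900 s (by omega) (by omega)
  by_cases h58200 : s < 58500
  · exact allRangeF_sound _ _ (fun _ => rfl) 58200 300 chkK_58200 s (by omega) (by omega)
  exact allRangeF_sound _ _ (fun _ => rfl) 58500 300 chkK_58500 s (by omega) (by omega)

end Cfsg.Agent.Lib.Helper57.ONJ1
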