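import Cfsg.Agent.Lib.Helper57.ONJ1Defs

set_option autoImplicit false
set_option maxRecDepth 1000000
set_option linter.all false
set_option Elab.async false

namespace Cfsg.Agent.Lib.Helper57.ONJ1

open Cfsg.Agent.Lib.Helper28 Cfsg.Agent.Lib.Helper57.ONCay

theorem chkK_58800 : allRangeF (chkK wA wB 175560 tPA tPB tQB tKK) 58800 300 = true := by decide +kernel
theorem chkK_59100 : allRangeF (chkK wA wB 175560 tPA tPB tQB tKK) 59100 300 = true := by decide +kernel
theorem chkK_59400 : allRangeF (chkK wA wB 175560 tPA tPB tQB tKK) 59400 300 = true := by decide +kernel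
theorem chkK_59700 : allRangeF (chkK wA wB 175560 tPA tPB tQB tKK) 59700 300 = true := by decide +kernel
theorem chkK_60000 : allRangeF (chkK wA wB 175560 tPA tPB tQB tKK) 60000 300 = true := by decide +kernel
theorem chkK_60300 : allRangeF (chkK wA wB 175560 tPA tPB tQB tKK) 60300 300 = true := by decide +kernel
theorem chkK_60600 : allRangeF (chkK wA wB 175560 tPA tPB tQB tKK) 60600 300 = true := by decide +kernel
theorem chkK_60900 : allRangeF (chkK wA wB 175560 tPA tPB tQB tKK) 60900 300 = true := by decide +kernel
theorem chkK_61200 : allRangeF (chkK wA wB 175560 tPA tPB tQB tKK) 61200 300 = true := by decide +kernel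
theorem chkK_61500 : allRangeF (chkK wA wB 175560 tPA tPB tQB tKK) 61500 300 = true := by decide +kernel
theorem chkK_61800 : allRangeF (chkK wA wB 175560 tPA tPB tQB tKK) 61800 300 = true := by decide +kernel
theorem chkK_62100 : allRangeF (chkK wA wB 175560 tPA tPB tQB tKK) 62100 300 = true := by decide +kernel
theorem chkK_62400 : allRangeF (chkK wA wB 175560 tPA tPB tQB tKK) 62400 300 = true := by decide +kernel
theorem chkK_62700 : allRangeF (chkK wA wB 175560 tPA tPB tQB tKK) 62700 300 = true := by decide +kernel
theorem chkK_63000 : allRangeF (chkK wA wB 175560 tPA tPB tQB tKK) 63000 300 = true := by decide +kernel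
theorem chkK_63300 : allRangeF (chkK wA wB 175560 tPA tPB tQB tKK) 63300 300 = true := by decide +kernel
theorem chkK_63600 : allRangeF (chkK wA wB 175560 tPA tPB tQB tKK) 63600 300 = true := by decide +kernel
theorem chkK_63900 : allRangeF (chkK wA wB 175560 tPA tPB tQB tKK) 63900 300 = true := by decide +kernel
theorem chkK_64200 : allRangeF (chkK wA wB 175560 tPA tPB tQB tKK) 64200 300 = true := by decide +kernel
theorem chkK_64500 : allRangeF (chkK wA wB 175560 tPA tPB tQB tKK) 64500 300 = true := by decide +kernel
theorem chkK_64800 : allRangeF (chkK wA wB 175560 tPA tPB tQB tKK) 64800 300 = true := by decide +kernel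
theorem chkK_65100 : allRangeF (chkK wA wB 175560 tPA tPB tQB tKK) 65100 300 = true := by decide +kernel
theorem chkK_65400 : allRangeF (chkK wA wB 175560 tPA tPB tQB tKK) 65400 300 = true := by decide +kernel
theorem chkK_65700 : allRangeF (chkK wA wB 175560 tPA tPB tQB tKK) 65700 300 = true := by decide +kernel
theorem chkK_66000 : allRangeF (chkK wA wB 175560 tPA tPB tQB tKK) 66000 300 = true := by decide +kernel
theorem chkK_66300 : allRangeF (chkK wA wB 175560 tPA tPB tQB tKK) 66300 300 = true := by decide +kernel
theorem chkK_66600 : allRangeF (chkK wA wB 175560 tPA tPB tQB tKK) 66600 300 = true := by decide +kernel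
theorem chkK_66900 : allRangeF (chkK wA wB 175560 tPA tPB tQB tKK) 66900 300 = true := by decide +kernel
theorem chkK_67200 : allRangeF (chkK wA wB 175560 tPA tPB tQB tKK) 67200 300 = true := by decide +kernel
theorem chkK_67500 : allRangeF (chkK wA wB 175560 tPA tPB tQB tKK) 67500 300 = true := by decide +kernel
theorem chkK_67800 : allRangeF (chkK wA wB 175560 tPA tPB tQB tKK) 67800 300 = true := by decide +kernel
theorem chkK_68100 : allRangeF (chkK wA wB 175560 tPA tPB tQB tKK) 68100 300 = true := by decide +kernel
theorem chkK_68400 : allRangeF (chkK wA wB 175560 tPA tPB tQB tKK) 68400 300 = true := by decide +kernel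
theorem chkK_68700 : allRangeF (chkK wA wB 175560 tPA tPB tQB tKK) 68700 300 = true := by decide +kernel
theorem chkK_69000 : allRangeF (chkK wA wB 175560 tPA tPB tQB tKK) 69000 300 = true := by decide +kernel
theorem chkK_69300 : allRangeF (chkK wA wB 175560 tPA tPB tQB tKK) 69300 300 = true := by decide +kernel
theorem chkK_69600 : allRangeF (chkK wA wB 175560 tPA tPB tQB tKK) 69600 300 = true := by decide +kernel
theorem chkK_69900 : allRangeF (chkK wA wB 175560 tPA tPB tQB tKK) 69900 300 = true := by decide +kernel
theorem chkK_70200 : allRangeF (chkK wA wB 175560 tPA tPB tQB tKK) 70200 300 = true := by decide +kernel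
theorem chkK_70500 : allRangeF (chkK wA wB 175560 tPA tPB tQB tKK) 70500 300 = true := by decide +kernel
theorem chkK_70800 : allRangeF (chkK wA wB 175560 tPA tPB tQB tKK) 70800 300 = true := by decide +kernel
theorem chkK_71100 : allRangeF (chkK wA wB 175560 tPA tPB tQB tKK) 71100 300 = true := by decide +kernel
theorem chkK_71400 : allRangeF (chkK wA wB 175560 tPA tPB tQB tKK) 71400 300 = true := by decide +kernel
theorem chkK_71700 : allRangeF (chkK wA wB 175560 tPA tPB tQB tKK) 71700 300 = true := by decide +kernel
theorem chkK_72000 : allRangeF (chkK wA wB 175560 tPA tPB tQB tKK) 72000 300 = true := by decide +kernel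
theorem chkK_72300 : allRangeF (chkK wA wB 175560 tPA tPB tQB tKK) 72300 300 = true := by decide +kernel
theorem chkK_72600 : allRangeF (chkK wA wB 175560 tPA tPB tQB tKK) 72600 300 = true := by decide +kernel
theorem chkK_72900 : allRangeF (chkK wA wB 175560 tPA tPB tQB tKK) 72900 300 = true := by decide +kernel
theorem chkK_73200 : allRangeF (chkK wA wB 175560 tPA tPB tQB tKK) 73200 300 = true := by decide +kernel

theorem chkK_file4 (s : Nat) (h1 : 58800 ≤ s) (h2 : s < 73500) : chkK wA wB 175560 tPA tPB tQB tKK s = true := by
  by_cases h58800 : s < 59100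
  · exact allRangeF_sound _ _ (fun _ => rfl) 58800 300 chkK_58800 s (by omega) (by omega)
  by_cases h59100 : s < 59400
  · exact allRangeF_sound _ _ (fun _ => rfl) 59100 300 chkK_59100 s (by omega) (by omega)
  by_cases h59400 : s < 59700
  · exact allRangeF_sound _ _ (fun _ => rfl) 59400 300 chkK_59400 s (by omega) (by omega)
  by_cases h59700 : s < 60000
  · exact allRangeF_sound _ _ (fun _ => rfl) 59700 300 chkK_59700 s (by omega) (by omega)
  by_cases h60000 : s < 60300
  · exact allRangeF_sound _ _ (fun _ => rfl) 60000 300 chkK_60000 s (by omega) (by omega)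
  by_cases h60300 : s < 60600
  · exact allRangeF_sound _ _ (fun _ => rfl) 60300 300 chkK_60300 s (by omega) (by omega)
  by_cases h60600 : s < 60900
  · exact allRangeF_sound _ _ (fun _ => rfl) 60600 300 chkK_60600 s (by omega) (by omega)
  by_cases h60900 : s < 61200
  · exact allRangeF_sound _ _ (fun _ => rfl) 60900 300 chkK_60900 s (by omega) (by omega)
  by_cases h61200 : s < 61500
  · exact allRangeF_sound _ _ (fun _ => rfl) 61200 300 chkK_61200 s (by omega) (by omega)
  by_cases h61500 : s < 61800
  · exact allRangeF_sound _ _ (fun _ => rfl) 61500 300 chkK_61500 s (by omega) (by omega)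
  by_cases h61800 : s < 62100
  · exact allRangeF_sound _ _ (fun _ => rfl) 61800 300 chkK_61800 s (by omega) (by omega)
  by_cases h62100 : s < 62400
  · exact allRangeF_sound _ _ (fun _ => rfl) 62100 300 chkK_62100 s (by omega) (by omega)
  by_cases h62400 : s < 62700
  · exact allRangeF_sound _ _ (fun _ => rfl) 62400 300 chkK_62400 s (by omega) (by omega)
  by_cases h62700 : s < 63000
  · exact allRangeF_sound _ _ (fun _ => rfl) 62700 300 chkK_62700 s (by omega) (by omega)
  by_cases h63000 : s < 63300
  · exact allRangeF_sound _ _ (fun _ => rfl) 63000 300 chkK_63000 s (by omega) (by omega)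
  by_cases h63300 : s < 63600
  · exact allRangeF_sound _ _ (fun _ => rfl) 63300 300 chkK_63300 s (by omega) (by omega)
  by_cases h63600 : s < 63900
  · exact allRangeF_sound _ _ (fun _ => rfl) 63600 300 chkK_63600 s (by omega) (by omega)
  by_cases h63900 : s < 64200
  · exact allRangeF_sound _ _ (fun _ => rfl) 63900 300 chkK_63900 s (by omega) (by omega)
  by_cases h64200 : s < 64500
  · exact allRangeF_sound _ _ (fun _ => rfl) 64200 300 chkK_64200 s (by omega) (by omega)
  by_cases h64500 : s < 64800
  · exact allRangeF_sound _ _ (fun _ => rfl) 64500 300 chkK_64500 s (by omega) (by omega)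
  by_cases h64800 : s < 65100
  · exact allRangeF_sound _ _ (fun _ => rfl) 64800 300 chkK_64800 s (by omega) (by omega)
  by_cases h65100 : s < 65400
  · exact allRangeF_sound _ _ (fun _ => rfl) 65100 300 chkK_65100 s (by omega) (by omega)
  by_cases h65400 : s < 65700
  · exact allRangeF_sound _ _ (fun _ => rfl) 65400 300 chkK_65400 s (by omega) (by omega)
  by_cases h65700 : s < 66000
  · exact allRangeF_sound _ _ (fun _ => rfl) 65700 300 chkK_65700 s (by omega) (by omega)
  by_cases h66000 : s < 66300
  · exact allRangeF_sound _ _ (fun _ => rfl) 66000 300 chkK_66000 s (by omega) (by omega)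
  by_cases h66300 : s < 66600
  · exact allRangeF_sound _ _ (fun _ => rfl) 66300 300 chkK_66300 s (by omega) (by omega)
  by_cases h66600 : s < 66900
  · exact allRangeF_sound _ _ (fun _ => rfl) 66600 300 chkK_66600 s (by omega) (by omega)
  by_cases h66900 : s < 67200
  · exact allRangeF_sound _ _ (fun _ => rfl) 66900 300 chkK_66900 s (by omega) (by omega)
  by_cases h67200 : s < 67500
  · exact allRangeF_sound _ _ (fun _ => rfl) 67200 300 chkK_67200 s (by omega) (by omega)
  by_cases h67500 : s < 67800
  · exact allRangeF_sound _ _ (fun _ => rfl) 67500 300 chkK_67500 s (by omega) (by omega)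
  by_cases h67800 : s < 68100
  · exact allRangeF_sound _ _ (fun _ => rfl) 67800 300 chkK_67800 s (by omega) (by omega)
  by_cases h68100 : s < 68400
  · exact allRangeF_sound _ _ (fun _ => rfl) 68100 300 chkK_68100 s (by omega) (by omega)
  by_cases h68400 : s < 68700
  · exact allRangeF_sound _ _ (fun _ => rfl) 68400 300 chkK_68400 s (by omega) (by omega)
  by_cases h68700 : s < 69000
  · exact allRangeF_sound _ _ (fun _ => rfl) 68700 300 chkK_68700 s (by omega) (by omega)
  by_cases h69000 : s < 69300
  · exact allRangeF_sound _ _ (fun _ => rfl) 69000 300 chkK_69000 s (by omega) (by omega)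
  by_cases h69300 : s < 69600
  · exact allRangeF_sound _ _ (fun _ => rfl) 69300 300 chkK_69300 s (by omega) (by omega)
  by_cases h69600 : s < 69900
  · exact allRangeF_sound _ _ (fun _ => rfl) 69600 300 chkK_69600 s (by omega) (by omega)
  by_cases h69900 : s < 70200
  · exact allRangeF_sound _ _ (fun _ => rfl) 69900 300 chkK_69900 s (by omega) (by omega)
  by_cases h70200 : s < 70500
  · exact allRangeF_sound _ _ (fun _ => rfl) 70200 300 chkK_70200 s (by omega) (by omega)
  by_cases h70500 : s < 70800
  · exact allRangeF_sound _ _ (fun _ => rfl) 70500 300 chkK_70500 s (by omega) (by omega)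
  by_cases h70800 : s < 71100
  · exact allRangeF_sound _ _ (fun _ => rfl) 70800 300 chkK_70800 s (by omega) (by omega)
  by_cases h71100 : s < 71400
  · exact allRangeF_sound _ _ (fun _ => rfl) 71100 300 chkK_71100 s (by omega) (by omega)
  by_cases h71400 : s < 71700
  · exact allRangeF_sound _ _ (fun _ => rfl) 71400 300 chkK_71400 s (by omega) (by omega)
  by_cases h71700 : s < 72000
  · exact allRangeF_sound _ _ (fun _ => rfl) 71700 300 chkK_71700 s (by omega) (by omega)
  by_cases h72000 : s < 72300
  · exact allRangeF_sound _ _ (fun _ => rfl) 72000 300 chkK_72000 s (by omega) (by omega)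
  by_cases h72300 : s < 72600
  · exact allRangeF_sound _ _ (fun _ => rfl) 72300 300 chkK_72300 s (by omega) (by omega)
  by_cases h72600 : s < 72900
  · exact allRangeF_sound _ _ (fun _ => rfl) 72600 300 chkK_72600 s (by omega) (by omega)
  by_cases h72900 : s < 73200
  · exact allRangeF_sound _ _ (fun _ => rfl) 72900 300 chkK_72900 s (by omega) (by omega)
  exact allRangeF_sound _ _ (fun _ => rfl) 73200 300 chkK_73200 s (by omega) (by omega)

end Cfsg.Agent.Lib.Helper57.ONJ1
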