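import Cfsg.Agent.Lib.Helper57.ONJ1Defs

set_option autoImplicit false
set_option maxRecDepth 1000000
set_option linter.all false
set_option Elab.async false

namespace Cfsg.Agent.Lib.Helper57.ONJ1

open Cfsg.Agent.Lib.Helper28 Cfsg.Agent.Lib.Helper57.ONCay

theorem chkK_73500 : allRangeF (chkK wA wB 175560 tPA tPB tQB tKK) 73500 300 = true := by decide +kernel
theorem chkK_73800 : allRangeF (chkK wA wB 175560 tPA tPB tQB tKK) 73800 300 = true := by decide +kernel
theorem chkK_74100 : allRangeF (chkK wA wB 175560 tPA tPB tQB tKK) 74100 300 = true := by decide +kernel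
theorem chkK_74400 : allRangeF (chkK wA wB 175560 tPA tPB tQB tKK) 74400 300 = true := by decide +kernel
theorem chkK_74700 : allRangeF (chkK wA wB 175560 tPA tPB tQB tKK) 74700 300 = true := by decide +kernel
theorem chkK_75000 : allRangeF (chkK wA wB 175560 tPA tPB tQB tKK) 75000 300 = true := by decide +kernel
theorem chkK_75300 : allRangeF (chkK wA wB 175560 tPA tPB tQB tKK) 75300 300 = true := by decide +kernel
theorem chkK_75600 : allRangeF (chkK wA wB 175560 tPA tPB tQB tKK) 75600 300 = true := by decide +kernel
theorem chkK_75900 : allRangeF (chkK wA wB 175560 tPA tPB tQB tKK) 75900 300 = true := by decide +kernel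
theorem chkK_76200 : allRangeF (chkK wA wB 175560 tPA tPB tQB tKK) 76200 300 = true := by decide +kernel
theorem chkK_76500 : allRangeF (chkK wA wB 175560 tPA tPB tQB tKK) 76500 300 = true := by decide +kernel
theorem chkK_76800 : allRangeF (chkK wA wB 175560 tPA tPB tQB tKK) 76800 300 = true := by decide +kernel
theorem chkK_77100 : allRangeF (chkK wA wB 175560 tPA tPB tQB tKK) 77100 300 = true := by decide +kernel
theorem chkK_77400 : allRangeF (chkK wA wB 175560 tPA tPB tQB tKK) 77400 300 = true := by decide +kernel
theorem chkK_77700 : allRangeF (chkK wA wB 175560 tPA tPB tQB tKK) 77700 300 = true := by decide +kernel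
theorem chkK_78000 : allRangeF (chkK wA wB 175560 tPA tPB tQB tKK) 78000 300 = true := by decide +kernel
theorem chkK_78300 : allRangeF (chkK wA wB 175560 tPA tPB tQB tKK) 78300 300 = true := by decide +kernel
theorem chkK_78600 : allRangeF (chkK wA wB 175560 tPA tPB tQB tKK) 78600 300 = true := by decide +kernel
theorem chkK_78900 : allRangeF (chkK wA wB 175560 tPA tPB tQB tKK) 78900 300 = true := by decide +kernel
theorem chkK_79200 : allRangeF (chkK wA wB 175560 tPA tPB tQB tKK) 79200 300 = true := by decide +kernel
theorem chkK_79500 : allRangeF (chkK wA wB 175560 tPA tPB tQB tKK) 79500 300 = true := by decide +kernel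
theorem chkK_79800 : allRangeF (chkK wA wB 175560 tPA tPB tQB tKK) 79800 300 = true := by decide +kernel
theorem chkK_80100 : allRangeF (chkK wA wB 175560 tPA tPB tQB tKK) 80100 300 = true := by decide +kernel
theorem chkK_80400 : allRangeF (chkK wA wB 175560 tPA tPB tQB tKK) 80400 300 = true := by decide +kernel
theorem chkK_80700 : allRangeF (chkK wA wB 175560 tPA tPB tQB tKK) 80700 300 = true := by decide +kernel
theorem chkK_81000 : allRangeF (chkK wA wB 175560 tPA tPB tQB tKK) 81000 300 = true := by decide +kernel
theorem chkK_81300 : allRangeF (chkK wA wB 175560 tPA tPB tQB tKK) 81300 300 = true := by decide +kernel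
theorem chkK_81600 : allRangeF (chkK wA wB 175560 tPA tPB tQB tKK) 81600 300 = true := by decide +kernel
theorem chkK_81900 : allRangeF (chkK wA wB 175560 tPA tPB tQB tKK) 81900 300 = true := by decide +kernel
theorem chkK_82200 : allRangeF (chkK wA wB 175560 tPA tPB tQB tKK) 82200 300 = true := by decide +kernel
theorem chkK_82500 : allRangeF (chkK wA wB 175560 tPA tPB tQB tKK) 82500 300 = true := by decide +kernel
theorem chkK_82800 : allRangeF (chkK wA wB 175560 tPA tPB tQB tKK) 82800 300 = true := by decide +kernel
theorem chkK_83100 : allRangeF (chkK wA wB 175560 tPA tPB tQB tKK) 83100 300 = true := by decide +kernel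
theorem chkK_83400 : allRangeF (chkK wA wB 175560 tPA tPB tQB tKK) 83400 300 = true := by decide +kernel
theorem chkK_83700 : allRangeF (chkK wA wB 175560 tPA tPB tQB tKK) 83700 300 = true := by decide +kernel
theorem chkK_84000 : allRangeF (chkK wA wB 175560 tPA tPB tQB tKK) 84000 300 = true := by decide +kernel
theorem chkK_84300 : allRangeF (chkK wA wB 175560 tPA tPB tQB tKK) 84300 300 = true := by decide +kernel
theorem chkK_84600 : allRangeF (chkK wA wB 175560 tPA tPB tQB tKK) 84600 300 = true := by decide +kernel
theorem chkK_84900 : allRangeF (chkK wA wB 175560 tPA tPB tQB tKK) 84900 300 = true := by decide +kernel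
theorem chkK_85200 : allRangeF (chkK wA wB 175560 tPA tPB tQB tKK) 85200 300 = true := by decide +kernel
theorem chkK_85500 : allRangeF (chkK wA wB 175560 tPA tPB tQB tKK) 85500 300 = true := by decide +kernel
theorem chkK_85800 : allRangeF (chkK wA wB 175560 tPA tPB tQB tKK) 85800 300 = true := by decide +kernel
theorem chkK_86100 : allRangeF (chkK wA wB 175560 tPA tPB tQB tKK) 86100 300 = true := by decide +kernel
theorem chkK_86400 : allRangeF (chkK wA wB 175560 tPA tPB tQB tKK) 86400 300 = true := by decide +kernel
theorem chkK_86700 : allRangeF (chkK wA wB 175560 tPA tPB tQB tKK) 86700 300 = true := by decide +kernel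
theorem chkK_87000 : allRangeF (chkK wA wB 175560 tPA tPB tQB tKK) 87000 300 = true := by decide +kernel
theorem chkK_87300 : allRangeF (chkK wA wB 175560 tPA tPB tQB tKK) 87300 300 = true := by decide +kernel
theorem chkK_87600 : allRangeF (chkK wA wB 175560 tPA tPB tQB tKK) 87600 300 = true := by decide +kernel
theorem chkK_87900 : allRangeF (chkK wA wB 175560 tPA tPB tQB tKK) 87900 300 = true := by decide +kernel

theorem chkK_file5 (s : Nat) (h1 : 73500 ≤ s) (h2 : s < 88200) : chkK wA wB 175560 tPA tPB tQB tKK s = true := by
  by_cases h73500 : s < 73800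
  · exact allRangeF_sound _ _ (fun _ => rfl) 73500 300 chkK_73500 s (by omega) (by omega)
  by_cases h73800 : s < 74100
  · exact allRangeF_sound _ _ (fun _ => rfl) 73800 300 chkK_73800 s (by omega) (by omega)
  by_cases h74100 : s < 74400
  · exact allRangeF_sound _ _ (fun _ => rfl) 74100 300 chkK_74100 s (by omega) (by omega)
  by_cases h74400 : s < 74700
  · exact allRangeF_sound _ _ (fun _ => rfl) 74400 300 chkK_74400 s (by omega) (by omega)
  by_cases h74700 : s < 75000
  · exact allRangeF_sound _ _ (fun _ => rfl) 74700 300 chkK_74700 s (by omega) (by omega)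
  by_cases h75000 : s < 75300
  · exact allRangeF_sound _ _ (fun _ => rfl) 75000 300 chkK_75000 s (by omega) (by omega)
  by_cases h75300 : s < 75600
  · exact allRangeF_sound _ _ (fun _ => rfl) 75300 300 chkK_75300 s (by omega) (by omega)
  by_cases h75600 : s < 75900
  · exact allRangeF_sound _ _ (fun _ => rfl) 75600 300 chkK_75600 s (by omega) (by omega)
  by_cases h75900 : s < 76200
  · exact allRangeF_sound _ _ (fun _ => rfl) 75900 300 chkK_75900 s (by omega) (by omega)
  by_cases h76200 : s < 76500
  · exact allRangeF_sound _ _ (fun _ => rfl) 76200 300 chkK_76200 s (by omega) (by omega)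
  by_cases h76500 : s < 76800
  · exact allRangeF_sound _ _ (fun _ => rfl) 76500 300 chkK_76500 s (by omega) (by omega)
  by_cases h76800 : s < 77100
  · exact allRangeF_sound _ _ (fun _ => rfl) 76800 300 chkK_76800 s (by omega) (by omega)
  by_cases h77100 : s < 77400
  · exact allRangeF_sound _ _ (fun _ => rfl) 77100 300 chkK_77100 s (by omega) (by omega)
  by_cases h77400 : s < 77700
  · exact allRangeF_sound _ _ (fun _ => rfl) 77400 300 chkK_77400 s (by omega) (by omega)
  by_cases h77700 : s < 78000
  · exact allRangeF_sound _ _ (fun _ => rfl) 77700 300 chkK_77700 s (by omega) (by omega)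
  by_cases h78000 : s < 78300
  · exact allRangeF_sound _ _ (fun _ => rfl) 78000 300 chkK_78000 s (by omega) (by omega)
  by_cases h78300 : s < 78600
  · exact allRangeF_sound _ _ (fun _ => rfl) 78300 300 chkK_78300 s (by omega) (by omega)
  by_cases h78600 : s < 78900
  · exact allRangeF_sound _ _ (fun _ => rfl) 78600 300 chkK_78600 s (by omega) (by omega)
  by_cases h78900 : s < 79200
  · exact allRangeF_sound _ _ (fun _ => rfl) 78900 300 chkK_78900 s (by omega) (by omega)
  by_cases h79200 : s < 79500
  · exact allRangeF_sound _ _ (fun _ => rfl) 79200 300 chkK_79200 s (by omega) (by omega)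
  by_cases h79500 : s < 79800
  · exact allRangeF_sound _ _ (fun _ => rfl) 79500 300 chkK_79500 s (by omega) (by omega)
  by_cases h79800 : s < 80100
  · exact allRangeF_sound _ _ (fun _ => rfl) 79800 300 chkK_79800 s (by omega) (by omega)
  by_cases h80100 : s < 80400
  · exact allRangeF_sound _ _ (fun _ => rfl) 80100 300 chkK_80100 s (by omega) (by omega)
  by_cases h80400 : s < 80700
  · exact allRangeF_sound _ _ (fun _ => rfl) 80400 300 chkK_80400 s (by omega) (by omega)
  by_cases h80700 : s < 81000
  · exact allRangeF_sound _ _ (fun _ => rfl) 80700 300 chkK_80700 s (by omega) (by omega)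
  by_cases h81000 : s < 81300
  · exact allRangeF_sound _ _ (fun _ => rfl) 81000 300 chkK_81000 s (by omega) (by omega)
  by_cases h81300 : s < 81600
  · exact allRangeF_sound _ _ (fun _ => rfl) 81300 300 chkK_81300 s (by omega) (by omega)
  by_cases h81600 : s < 81900
  · exact allRangeF_sound _ _ (fun _ => rfl) 81600 300 chkK_81600 s (by omega) (by omega)
  by_cases h81900 : s < 82200
  · exact allRangeF_sound _ _ (fun _ => rfl) 81900 300 chkK_81900 s (by omega) (by omega)
  by_cases h82200 : s < 82500
  · exact allRangeF_sound _ _ (fun _ => rfl) 82200 300 chkK_82200 s (by omega) (by omega)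
  by_cases h82500 : s < 82800
  · exact allRangeF_sound _ _ (fun _ => rfl) 82500 300 chkK_82500 s (by omega) (by omega)
  by_cases h82800 : s < 83100
  · exact allRangeF_sound _ _ (fun _ => rfl) 82800 300 chkK_82800 s (by omega) (by omega)
  by_cases h83100 : s < 83400
  · exact allRangeF_sound _ _ (fun _ => rfl) 83100 300 chkK_83100 s (by omega) (by omega)
  by_cases h83400 : s < 83700
  · exact allRangeF_sound _ _ (fun _ => rfl) 83400 300 chkK_83400 s (by omega) (by omega)
  by_cases h83700 : s < 84000
  · exact allRangeF_sound _ _ (fun _ => rfl) 83700 300 chkK_83700 s (by omega) (by omega)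
  by_cases h84000 : s < 84300
  · exact allRangeF_sound _ _ (fun _ => rfl) 84000 300 chkK_84000 s (by omega) (by omega)
  by_cases h84300 : s < 84600
  · exact allRangeF_sound _ _ (fun _ => rfl) 84300 300 chkK_84300 s (by omega) (by omega)
  by_cases h84600 : s < 84900
  · exact allRangeF_sound _ _ (fun _ => rfl) 84600 300 chkK_84600 s (by omega) (by omega)
  by_cases h84900 : s < 85200
  · exact allRangeF_sound _ _ (fun _ => rfl) 84900 300 chkK_84900 s (by omega) (by omega)
  by_cases h85200 : s < 85500
  · exact allRangeF_sound _ _ (fun _ => rfl) 85200 300 chkK_85200 s (by omega) (by omega)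
  by_cases h85500 : s < 85800
  · exact allRangeF_sound _ _ (fun _ => rfl) 85500 300 chkK_85500 s (by omega) (by omega)
  by_cases h85800 : s < 86100
  · exact allRangeF_sound _ _ (fun _ => rfl) 85800 300 chkK_85800 s (by omega) (by omega)
  by_cases h86100 : s < 86400
  · exact allRangeF_sound _ _ (fun _ => rfl) 86100 300 chkK_86100 s (by omega) (by omega)
  by_cases h86400 : s < 86700
  · exact allRangeF_sound _ _ (fun _ => rfl) 86400 300 chkK_86400 s (by omega) (by omega)
  by_cases h86700 : s < 87000
  · exact allRangeF_sound _ _ (fun _ => rfl) 86700 300 chkK_86700 s (by omega) (by omega)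
  by_cases h87000 : s < 87300
  · exact allRangeF_sound _ _ (fun _ => rfl) 87000 300 chkK_87000 s (by omega) (by omega)
  by_cases h87300 : s < 87600
  · exact allRangeF_sound _ _ (fun _ => rfl) 87300 300 chkK_87300 s (by omega) (by omega)
  by_cases h87600 : s < 87900
  · exact allRangeF_sound _ _ (fun _ => rfl) 87600 300 chkK_87600 s (by omega) (by omega)
  exact allRangeF_sound _ _ (fun _ => rfl) 87900 300 chkK_87900 s (by omega) (by omega)

end Cfsg.Agent.Lib.Helper57.ONJ1
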