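import Cfsg.Agent.Lib.Helper57.ONJ1Defs

set_option autoImplicit false
set_option maxRecDepth 1000000
set_option linter.all false
set_option Elab.async false

namespace Cfsg.Agent.Lib.Helper57.ONJ1

open Cfsg.Agent.Lib.Helper28 Cfsg.Agent.Lib.Helper57.ONCay

theorem chkK_88200 : allRangeF (chkK wA wB 175560 tPA tPB tQB tKK) 88200 300 = true := by decide +kernel
theorem chkK_88500 : allRangeF (chkK wA wB 175560 tPA tPB tQB tKK) 88500 300 = true := by decide +kernel
theorem chkK_88800 : allRangeF (chkK wA wB 175560 tPA tPB tQB tKK) 88800 300 = true := by decide +kernel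
theorem chkK_89100 : allRangeF (chkK wA wB 175560 tPA tPB tQB tKK) 89100 300 = true := by decide +kernel
theorem chkK_89400 : allRangeF (chkK wA wB 175560 tPA tPB tQB tKK) 89400 300 = true := by decide +kernel
theorem chkK_89700 : allRangeF (chkK wA wB 175560 tPA tPB tQB tKK) 89700 300 = true := by decide +kernel
theorem chkK_90000 : allRangeF (chkK wA wB 175560 tPA tPB tQB tKK) 90000 300 = true := by decide +kernel
theorem chkK_90300 : allRangeF (chkK wA wB 175560 tPA tPB tQB tKK) 90300 300 = true := by decide +kernel
theorem chkK_90600 : allRangeF (chkK wA wB 175560 tPA tPB tQB tKK) 90600 300 = true := by decide +kernel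
theorem chkK_90900 : allRangeF (chkK wA wB 175560 tPA tPB tQB tKK) 90900 300 = true := by decide +kernel
theorem chkK_91200 : allRangeF (chkK wA wB 175560 tPA tPB tQB tKK) 91200 300 = true := by decide +kernel
theorem chkK_91500 : allRangeF (chkK wA wB 175560 tPA tPB tQB tKK) 91500 300 = true := by decide +kernel
theorem chkK_91800 : allRangeF (chkK wA wB 175560 tPA tPB tQB tKK) 91800 300 = true := by decide +kernel
theorem chkK_92100 : allRangeF (chkK wA wB 175560 tPA tPB tQB tKK) 92100 300 = true := by decide +kernel
theorem chkK_92400 : allRangeF (chkK wA wB 175560 tPA tPB tQB tKK) 92400 300 = true := by decide +kernel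
theorem chkK_92700 : allRangeF (chkK wA wB 175560 tPA tPB tQB tKK) 92700 300 = true := by decide +kernel
theorem chkK_93000 : allRangeF (chkK wA wB 175560 tPA tPB tQB tKK) 93000 300 = true := by decide +kernel
theorem chkK_93300 : allRangeF (chkK wA wB 175560 tPA tPB tQB tKK) 93300 300 = true := by decide +kernel
theorem chkK_93600 : allRangeF (chkK wA wB 175560 tPA tPB tQB tKK) 93600 300 = true := by decide +kernel
theorem chkK_93900 : allRangeF (chkK wA wB 175560 tPA tPB tQB tKK) 93900 300 = true := by decide +kernel
theorem chkK_94200 : allRangeF (chkK wA wB 175560 tPA tPB tQB tKK) 94200 300 = true := by decide +kernel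
theorem chkK_94500 : allRangeF (chkK wA wB 175560 tPA tPB tQB tKK) 94500 300 = true := by decide +kernel
theorem chkK_94800 : allRangeF (chkK wA wB 175560 tPA tPB tQB tKK) 94800 300 = true := by decide +kernel
theorem chkK_95100 : allRangeF (chkK wA wB 175560 tPA tPB tQB tKK) 95100 300 = true := by decide +kernel
theorem chkK_95400 : allRangeF (chkK wA wB 175560 tPA tPB tQB tKK) 95400 300 = true := by decide +kernel
theorem chkK_95700 : allRangeF (chkK wA wB 175560 tPA tPB tQB tKK) 95700 300 = true := by decide +kernel
theorem chkK_96000 : allRangeF (chkK wA wB 175560 tPA tPB tQB tKK) 96000 300 = true := by decide +kernel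
theorem chkK_96300 : allRangeF (chkK wA wB 175560 tPA tPB tQB tKK) 96300 300 = true := by decide +kernel
theorem chkK_96600 : allRangeF (chkK wA wB 175560 tPA tPB tQB tKK) 96600 300 = true := by decide +kernel
theorem chkK_96900 : allRangeF (chkK wA wB 175560 tPA tPB tQB tKK) 96900 300 = true := by decide +kernel
theorem chkK_97200 : allRangeF (chkK wA wB 175560 tPA tPB tQB tKK) 97200 300 = true := by decide +kernel
theorem chkK_97500 : allRangeF (chkK wA wB 175560 tPA tPB tQB tKK) 97500 300 = true := by decide +kernel
theorem chkK_97800 : allRangeF (chkK wA wB 175560 tPA tPB tQB tKK) 97800 300 = true := by decide +kernel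
theorem chkK_98100 : allRangeF (chkK wA wB 175560 tPA tPB tQB tKK) 98100 300 = true := by decide +kernel
theorem chkK_98400 : allRangeF (chkK wA wB 175560 tPA tPB tQB tKK) 98400 300 = true := by decide +kernel
theorem chkK_98700 : allRangeF (chkK wA wB 175560 tPA tPB tQB tKK) 98700 300 = true := by decide +kernel
theorem chkK_99000 : allRangeF (chkK wA wB 175560 tPA tPB tQB tKK) 99000 300 = true := by decide +kernel
theorem chkK_99300 : allRangeF (chkK wA wB 175560 tPA tPB tQB tKK) 99300 300 = true := by decide +kernel
theorem chkK_99600 : allRangeF (chkK wA wB 175560 tPA tPB tQB tKK) 99600 300 = true := by decide +kernel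
theorem chkK_99900 : allRangeF (chkK wA wB 175560 tPA tPB tQB tKK) 99900 300 = true := by decide +kernel
theorem chkK_100200 : allRangeF (chkK wA wB 175560 tPA tPB tQB tKK) 100200 300 = true := by decide +kernel
theorem chkK_100500 : allRangeF (chkK wA wB 175560 tPA tPB tQB tKK) 100500 300 = true := by decide +kernel
theorem chkK_100800 : allRangeF (chkK wA wB 175560 tPA tPB tQB tKK) 100800 300 = true := by decide +kernel
theorem chkK_101100 : allRangeF (chkK wA wB 175560 tPA tPB tQB tKK) 101100 300 = true := by decide +kernel
theorem chkK_101400 : allRangeF (chkK wA wB 175560 tPA tPB tQB tKK) 101400 300 = true := by decide +kernel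
theorem chkK_101700 : allRangeF (chkK wA wB 175560 tPA tPB tQB tKK) 101700 300 = true := by decide +kernel
theorem chkK_102000 : allRangeF (chkK wA wB 175560 tPA tPB tQB tKK) 102000 300 = true := by decide +kernel
theorem chkK_102300 : allRangeF (chkK wA wB 175560 tPA tPB tQB tKK) 102300 300 = true := by decide +kernel
theorem chkK_102600 : allRangeF (chkK wA wB 175560 tPA tPB tQB tKK) 102600 300 = true := by decide +kernel

theorem chkK_file6 (s : Nat) (h1 : 88200 ≤ s) (h2 : s < 102900) : chkK wA wB 175560 tPA tPB tQB tKK s = true := by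
  by_cases h88200 : s < 88500
  · exact allRangeF_sound _ _ (fun _ => rfl) 88200 300 chkK_88200 s (by omega) (by omega)
  by_cases h88500 : s < 88800
  · exact allRangeF_sound _ _ (fun _ => rfl) 88500 300 chkK_88500 s (by omega) (by omega)
  by_cases h88800 : s < 89100
  · exact allRangeF_sound _ _ (fun _ => rfl) 88800 300 chkK_88800 s (by omega) (by omega)
  by_cases h89100 : s < 89400
  · exact allRangeF_sound _ _ (fun _ => rfl) 89100 300 chkK_89100 s (by omega) (by omega)
  by_cases h89400 : s < 89700
  · exact allRangeF_sound _ _ (fun _ => rfl) 89400 300 chkK_89400 s (by omega) (by omega)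
  by_cases h89700 : s < 90000
  · exact allRangeF_sound _ _ (fun _ => rfl) 89700 300 chkK_89700 s (by omega) (by omega)
  by_cases h90000 : s < 90300
  · exact allRangeF_sound _ _ (fun _ => rfl) 90000 300 chkK_90000 s (by omega) (by omega)
  by_cases h90300 : s < 90600
  · exact allRangeF_sound _ _ (fun _ => rfl) 90300 300 chkK_90300 s (by omega) (by omega)
  by_cases h90600 : s < 90900
  · exact allRangeF_sound _ _ (fun _ => rfl) 90600 300 chkK_90600 s (by omega) (by omega)
  by_cases h90900 : s < 91200
  · exact allRangeF_sound _ _ (fun _ => rfl) 90900 300 chkK_90900 s (by omega) (by omega)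
  by_cases h91200 : s < 91500
  · exact allRangeF_sound _ _ (fun _ => rfl) 91200 300 chkK_91200 s (by omega) (by omega)
  by_cases h91500 : s < 91800
  · exact allRangeF_sound _ _ (fun _ => rfl) 91500 300 chkK_91500 s (by omega) (by omega)
  by_cases h91800 : s < 92100
  · exact allRangeF_sound _ _ (fun _ => rfl) 91800 300 chkK_91800 s (by omega) (by omega)
  by_cases h92100 : s < 92400
  · exact allRangeF_sound _ _ (fun _ => rfl) 92100 300 chkK_92100 s (by omega) (by omega)
  by_cases h92400 : s < 92700
  · exact allRangeF_sound _ _ (fun _ => rfl) 92400 300 chkK_92400 s (by omega) (by omega)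
  by_cases h92700 : s < 93000
  · exact allRangeF_sound _ _ (fun _ => rfl) 92700 300 chkK_92700 s (by omega) (by omega)
  by_cases h93000 : s < 93300
  · exact allRangeF_sound _ _ (fun _ => rfl) 93000 300 chkK_93000 s (by omega) (by omega)
  by_cases h93300 : s < 93600
  · exact allRangeF_sound _ _ (fun _ => rfl) 93300 300 chkK_93300 s (by omega) (by omega)
  by_cases h93600 : s < 93900
  · exact allRangeF_sound _ _ (fun _ => rfl) 93600 300 chkK_93600 s (by omega) (by omega)
  by_cases h93900 : s < 94200
  · exact allRangeF_sound _ _ (fun _ => rfl) 93900 300 chkK_93900 s (by omega) (by omega)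
  by_cases h94200 : s < 94500
  · exact allRangeF_sound _ _ (fun _ => rfl) 94200 300 chkK_94200 s (by omega) (by omega)
  by_cases h94500 : s < 94800
  · exact allRangeF_sound _ _ (fun _ => rfl) 94500 300 chkK_94500 s (by omega) (by omega)
  by_cases h94800 : s < 95100
  · exact allRangeF_sound _ _ (fun _ => rfl) 94800 300 chkK_94800 s (by omega) (by omega)
  by_cases h95100 : s < 95400
  · exact allRangeF_sound _ _ (fun _ => rfl) 95100 300 chkK_95100 s (by omega) (by omega)
  by_cases h95400 : s < 95700
  · exact allRangeF_sound _ _ (fun _ => rfl) 95400 300 chkK_95400 s (by omega) (by omega)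
  by_cases h95700 : s < 96000
  · exact allRangeF_sound _ _ (fun _ => rfl) 95700 300 chkK_95700 s (by omega) (by omega)
  by_cases h96000 : s < 96300
  · exact allRangeF_sound _ _ (fun _ => rfl) 96000 300 chkK_96000 s (by omega) (by omega)
  by_cases h96300 : s < 96600
  · exact allRangeF_sound _ _ (fun _ => rfl) 96300 300 chkK_96300 s (by omega) (by omega)
  by_cases h96600 : s < 96900
  · exact allRangeF_sound _ _ (fun _ => rfl) 96600 300 chkK_96600 s (by omega) (by omega)
  by_cases h96900 : s < 97200
  · exact allRangeF_sound _ _ (fun _ => rfl) 96900 300 chkK_96900 s (by omega) (by omega)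
  by_cases h97200 : s < 97500
  · exact allRangeF_sound _ _ (fun _ => rfl) 97200 300 chkK_97200 s (by omega) (by omega)
  by_cases h97500 : s < 97800
  · exact allRangeF_sound _ _ (fun _ => rfl) 97500 300 chkK_97500 s (by omega) (by omega)
  by_cases h97800 : s < 98100
  · exact allRangeF_sound _ _ (fun _ => rfl) 97800 300 chkK_97800 s (by omega) (by omega)
  by_cases h98100 : s < 98400
  · exact allRangeF_sound _ _ (fun _ => rfl) 98100 300 chkK_98100 s (by omega) (by omega)
  by_cases h98400 : s < 98700
  · exact allRangeF_sound _ _ (fun _ => rfl) 98400 300 chkK_98400 s (by omega) (by omega)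
  by_cases h98700 : s < 99000
  · exact allRangeF_sound _ _ (fun _ => rfl) 98700 300 chkK_98700 s (by omega) (by omega)
  by_cases h99000 : s < 99300
  · exact allRangeF_sound _ _ (fun _ => rfl) 99000 300 chkK_99000 s (by omega) (by omega)
  by_cases h99300 : s < 99600
  · exact allRangeF_sound _ _ (fun _ => rfl) 99300 300 chkK_99300 s (by omega) (by omega)
  by_cases h99600 : s < 99900
  · exact allRangeF_sound _ _ (fun _ => rfl) 99600 300 chkK_99600 s (by omega) (by omega)
  by_cases h99900 : s < 100200
  · exact allRangeF_sound _ _ (fun _ => rfl) 99900 300 chkK_99900 s (by omega) (by omega)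
  by_cases h100200 : s < 100500
  · exact allRangeF_sound _ _ (fun _ => rfl) 100200 300 chkK_100200 s (by omega) (by omega)
  by_cases h100500 : s < 100800
  · exact allRangeF_sound _ _ (fun _ => rfl) 100500 300 chkK_100500 s (by omega) (by omega)
  by_cases h100800 : s < 101100
  · exact allRangeF_sound _ _ (fun _ => rfl) 100800 300 chkK_100800 s (by omega) (by omega)
  by_cases h101100 : s < 101400
  · exact allRangeF_sound _ _ (fun _ => rfl) 101100 300 chkK_101100 s (by omega) (by omega)
  by_cases h101400 : s < 101700
  · exact allRangeF_sound _ _ (fun _ => rfl) 101400 300 chkK_101400 s (by omega) (by omega)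
  by_cases h101700 : s < 102000
  · exact allRangeF_sound _ _ (fun _ => rfl) 101700 300 chkK_101700 s (by omega) (by omega)
  by_cases h102000 : s < 102300
  · exact allRangeF_sound _ _ (fun _ => rfl) 102000 300 chkK_102000 s (by omega) (by omega)
  by_cases h102300 : s < 102600
  · exact allRangeF_sound _ _ (fun _ => rfl) 102300 300 chkK_102300 s (by omega) (by omega)
  exact allRangeF_sound _ _ (fun _ => rfl) 102600 300 chkK_102600 s (by omega) (by omega)

end Cfsg.Agent.Lib.Helper57.ONJ1
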