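import Cfsg.Agent.Lib.Helper57.ONJ1Defs

set_option autoImplicit false
set_option maxRecDepth 1000000
set_option linter.all false
set_option Elab.async false

namespace Cfsg.Agent.Lib.Helper57.ONJ1

open Cfsg.Agent.Lib.Helper28 Cfsg.Agent.Lib.Helper57.ONCay

theorem chkK_102900 : allRangeF (chkK wA wB 175560 tPA tPB tQB tKK) 102900 300 = true := by decide +kernel
theorem chkK_103200 : allRangeF (chkK wA wB 175560 tPA tPB tQB tKK) 103200 300 = true := by decide +kernel
theorem chkK_103500 : allRangeF (chkK wA wB 175560 tPA tPB tQB tKK) 103500 300 = true := by decide +kernel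
theorem chkK_103800 : allRangeF (chkK wA wB 175560 tPA tPB tQB tKK) 103800 300 = true := by decide +kernel
theorem chkK_104100 : allRangeF (chkK wA wB 175560 tPA tPB tQB tKK) 104100 300 = true := by decide +kernel
theorem chkK_104400 : allRangeF (chkK wA wB 175560 tPA tPB tQB tKK) 104400 300 = true := by decide +kernel
theorem chkK_104700 : allRangeF (chkK wA wB 175560 tPA tPB tQB tKK) 104700 300 = true := by decide +kernel
theorem chkK_105000 : allRangeF (chkK wA wB 175560 tPA tPB tQB tKK) 105000 300 = true := by decide +kernel
theorem chkK_105300 : allRangeF (chkK wA wB 175560 tPA tPB tQB tKK) 105300 300 = true := by decide +kernel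
theorem chkK_105600 : allRangeF (chkK wA wB 175560 tPA tPB tQB tKK) 105600 300 = true := by decide +kernel
theorem chkK_105900 : allRangeF (chkK wA wB 175560 tPA tPB tQB tKK) 105900 300 = true := by decide +kernel
theorem chkK_106200 : allRangeF (chkK wA wB 175560 tPA tPB tQB tKK) 106200 300 = true := by decide +kernel
theorem chkK_106500 : allRangeF (chkK wA wB 175560 tPA tPB tQB tKK) 106500 300 = true := by decide +kernel
theorem chkK_106800 : allRangeF (chkK wA wB 175560 tPA tPB tQB tKK) 106800 300 = true := by decide +kernel
theorem chkK_107100 : allRangeF (chkK wA wB 175560 tPA tPB tQB tKK) 107100 300 = true := by decide +kernel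
theorem chkK_107400 : allRangeF (chkK wA wB 175560 tPA tPB tQB tKK) 107400 300 = true := by decide +kernel
theorem chkK_107700 : allRangeF (chkK wA wB 175560 tPA tPB tQB tKK) 107700 300 = true := by decide +kernel
theorem chkK_108000 : allRangeF (chkK wA wB 175560 tPA tPB tQB tKK) 108000 300 = true := by decide +kernel
theorem chkK_108300 : allRangeF (chkK wA wB 175560 tPA tPB tQB tKK) 108300 300 = true := by decide +kernel
theorem chkK_108600 : allRangeF (chkK wA wB 175560 tPA tPB tQB tKK) 108600 300 = true := by decide +kernel
theorem chkK_108900 : allRangeF (chkK wA wB 175560 tPA tPB tQB tKK) 108900 300 = true := by decide +kernel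
theorem chkK_109200 : allRangeF (chkK wA wB 175560 tPA tPB tQB tKK) 109200 300 = true := by decide +kernel
theorem chkK_109500 : allRangeF (chkK wA wB 175560 tPA tPB tQB tKK) 109500 300 = true := by decide +kernel
theorem chkK_109800 : allRangeF (chkK wA wB 175560 tPA tPB tQB tKK) 109800 300 = true := by decide +kernel
theorem chkK_110100 : allRangeF (chkK wA wB 175560 tPA tPB tQB tKK) 110100 300 = true := by decide +kernel
theorem chkK_110400 : allRangeF (chkK wA wB 175560 tPA tPB tQB tKK) 110400 300 = true := by decide +kernel
theorem chkK_110700 : allRangeF (chkK wA wB 175560 tPA tPB tQB tKK) 110700 300 = true := by decide +kernel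
theorem chkK_111000 : allRangeF (chkK wA wB 175560 tPA tPB tQB tKK) 111000 300 = true := by decide +kernel
theorem chkK_111300 : allRangeF (chkK wA wB 175560 tPA tPB tQB tKK) 111300 300 = true := by decide +kernel
theorem chkK_111600 : allRangeF (chkK wA wB 175560 tPA tPB tQB tKK) 111600 300 = true := by decide +kernel
theorem chkK_111900 : allRangeF (chkK wA wB 175560 tPA tPB tQB tKK) 111900 300 = true := by decide +kernel
theorem chkK_112200 : allRangeF (chkK wA wB 175560 tPA tPB tQB tKK) 112200 300 = true := by decide +kernel
theorem chkK_112500 : allRangeF (chkK wA wB 175560 tPA tPB tQB tKK) 112500 300 = true := by decide +kernel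
theorem chkK_112800 : allRangeF (chkK wA wB 175560 tPA tPB tQB tKK) 112800 300 = true := by decide +kernel
theorem chkK_113100 : allRangeF (chkK wA wB 175560 tPA tPB tQB tKK) 113100 300 = true := by decide +kernel
theorem chkK_113400 : allRangeF (chkK wA wB 175560 tPA tPB tQB tKK) 113400 300 = true := by decide +kernel
theorem chkK_113700 : allRangeF (chkK wA wB 175560 tPA tPB tQB tKK) 113700 300 = true := by decide +kernel
theorem chkK_114000 : allRangeF (chkK wA wB 175560 tPA tPB tQB tKK) 114000 300 = true := by decide +kernel
theorem chkK_114300 : allRangeF (chkK wA wB 175560 tPA tPB tQB tKK) 114300 300 = true := by decide +kernel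
theorem chkK_114600 : allRangeF (chkK wA wB 175560 tPA tPB tQB tKK) 114600 300 = true := by decide +kernel
theorem chkK_114900 : allRangeF (chkK wA wB 175560 tPA tPB tQB tKK) 114900 300 = true := by decide +kernel
theorem chkK_115200 : allRangeF (chkK wA wB 175560 tPA tPB tQB tKK) 115200 300 = true := by decide +kernel
theorem chkK_115500 : allRangeF (chkK wA wB 175560 tPA tPB tQB tKK) 115500 300 = true := by decide +kernel
theorem chkK_115800 : allRangeF (chkK wA wB 175560 tPA tPB tQB tKK) 115800 300 = true := by decide +kernel
theorem chkK_116100 : allRangeF (chkK wA wB 175560 tPA tPB tQB tKK) 116100 300 = true := by decide +kernel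
theorem chkK_116400 : allRangeF (chkK wA wB 175560 tPA tPB tQB tKK) 116400 300 = true := by decide +kernel
theorem chkK_116700 : allRangeF (chkK wA wB 175560 tPA tPB tQB tKK) 116700 300 = true := by decide +kernel
theorem chkK_117000 : allRangeF (chkK wA wB 175560 tPA tPB tQB tKK) 117000 300 = true := by decide +kernel
theorem chkK_117300 : allRangeF (chkK wA wB 175560 tPA tPB tQB tKK) 117300 300 = true := by decide +kernel

theorem chkK_file7 (s : Nat) (h1 : 102900 ≤ s) (h2 : s < 117600) : chkK wA wB 175560 tPA tPB tQB tKK s = true := by
  by_cases h102900 : s < 103200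
  · exact allRangeF_sound _ _ (fun _ => rfl) 102900 300 chkK_102900 s (by omega) (by omega)
  by_cases h103200 : s < 103500
  · exact allRangeF_sound _ _ (fun _ => rfl) 103200 300 chkK_103200 s (by omega) (by omega)
  by_cases h103500 : s < 103800
  · exact allRangeF_sound _ _ (fun _ => rfl) 103500 300 chkK_103500 s (by omega) (by omega)
  by_cases h103800 : s < 104100
  · exact allRangeF_sound _ _ (fun _ => rfl) 103800 300 chkK_103800 s (by omega) (by omega)
  by_cases h104100 : s < 104400
  · exact allRangeF_sound _ _ (fun _ => rfl) 104100 300 chkK_104100 s (by omega) (by omega)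
  by_cases h104400 : s < 104700
  · exact allRangeF_sound _ _ (fun _ => rfl) 104400 300 chkK_104400 s (by omega) (by omega)
  by_cases h104700 : s < 105000
  · exact allRangeF_sound _ _ (fun _ => rfl) 104700 300 chkK_104700 s (by omega) (by omega)
  by_cases h105000 : s < 105300
  · exact allRangeF_sound _ _ (fun _ => rfl) 105000 300 chkK_105000 s (by omega) (by omega)
  by_cases h105300 : s < 105600
  · exact allRangeF_sound _ _ (fun _ => rfl) 105300 300 chkK_105300 s (by omega) (by omega)
  by_cases h105600 : s < 105900
  · exact allRangeF_sound _ _ (fun _ => rfl) 105600 300 chkK_105600 s (by omega) (by omega)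
  by_cases h105900 : s < 106200
  · exact allRangeF_sound _ _ (fun _ => rfl) 105900 300 chkK_105900 s (by omega) (by omega)
  by_cases h106200 : s < 106500
  · exact allRangeF_sound _ _ (fun _ => rfl) 106200 300 chkK_106200 s (by omega) (by omega)
  by_cases h106500 : s < 106800
  · exact allRangeF_sound _ _ (fun _ => rfl) 106500 300 chkK_106500 s (by omega) (by omega)
  by_cases h106800 : s < 107100
  · exact allRangeF_sound _ _ (fun _ => rfl) 106800 300 chkK_106800 s (by omega) (by omega)
  by_cases h107100 : s < 107400
  · exact allRangeF_sound _ _ (fun _ => rfl) 107100 300 chkK_107100 s (by omega) (by omega)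
  by_cases h107400 : s < 107700
  · exact allRangeF_sound _ _ (fun _ => rfl) 107400 300 chkK_107400 s (by omega) (by omega)
  by_cases h107700 : s < 108000
  · exact allRangeF_sound _ _ (fun _ => rfl) 107700 300 chkK_107700 s (by omega) (by omega)
  by_cases h108000 : s < 108300
  · exact allRangeF_sound _ _ (fun _ => rfl) 108000 300 chkK_108000 s (by omega) (by omega)
  by_cases h108300 : s < 108600
  · exact allRangeF_sound _ _ (fun _ => rfl) 108300 300 chkK_108300 s (by omega) (by omega)
  by_cases h108600 : s < 108900
  · exact allRangeF_sound _ _ (fun _ => rfl) 108600 300 chkK_108600 s (by omega) (by omega)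
  by_cases h108900 : s < 109200
  · exact allRangeF_sound _ _ (fun _ => rfl) 108900 300 chkK_108900 s (by omega) (by omega)
  by_cases h109200 : s < 109500
  · exact allRangeF_sound _ _ (fun _ => rfl) 109200 300 chkK_109200 s (by omega) (by omega)
  by_cases h109500 : s < 109800
  · exact allRangeF_sound _ _ (fun _ => rfl) 109500 300 chkK_109500 s (by omega) (by omega)
  by_cases h109800 : s < 110100
  · exact allRangeF_sound _ _ (fun _ => rfl) 109800 300 chkK_109800 s (by omega) (by omega)
  by_cases h110100 : s < 110400
  · exact allRangeF_sound _ _ (fun _ => rfl) 110100 300 chkK_110100 s (by omega) (by omega)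
  by_cases h110400 : s < 110700
  · exact allRangeF_sound _ _ (fun _ => rfl) 110400 300 chkK_110400 s (by omega) (by omega)
  by_cases h110700 : s < 111000
  · exact allRangeF_sound _ _ (fun _ => rfl) 110700 300 chkK_110700 s (by omega) (by omega)
  by_cases h111000 : s < 111300
  · exact allRangeF_sound _ _ (fun _ => rfl) 111000 300 chkK_111000 s (by omega) (by omega)
  by_cases h111300 : s < 111600
  · exact allRangeF_sound _ _ (fun _ => rfl) 111300 300 chkK_111300 s (by omega) (by omega)
  by_cases h111600 : s < 111900
  · exact allRangeF_sound _ _ (fun _ => rfl) 111600 300 chkK_111600 s (by omega) (by omega)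
  by_cases h111900 : s < 112200
  · exact allRangeF_sound _ _ (fun _ => rfl) 111900 300 chkK_111900 s (by omega) (by omega)
  by_cases h112200 : s < 112500
  · exact allRangeF_sound _ _ (fun _ => rfl) 112200 300 chkK_112200 s (by omega) (by omega)
  by_cases h112500 : s < 112800
  · exact allRangeF_sound _ _ (fun _ => rfl) 112500 300 chkK_112500 s (by omega) (by omega)
  by_cases h112800 : s < 113100
  · exact allRangeF_sound _ _ (fun _ => rfl) 112800 300 chkK_112800 s (by omega) (by omega)
  by_cases h113100 : s < 113400
  · exact allRangeF_sound _ _ (fun _ => rfl) 113100 300 chkK_113100 s (by omega) (by omega)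
  by_cases h113400 : s < 113700
  · exact allRangeF_sound _ _ (fun _ => rfl) 113400 300 chkK_113400 s (by omega) (by omega)
  by_cases h113700 : s < 114000
  · exact allRangeF_sound _ _ (fun _ => rfl) 113700 300 chkK_113700 s (by omega) (by omega)
  by_cases h114000 : s < 114300
  · exact allRangeF_sound _ _ (fun _ => rfl) 114000 300 chkK_114000 s (by omega) (by omega)
  by_cases h114300 : s < 114600
  · exact allRangeF_sound _ _ (fun _ => rfl) 114300 300 chkK_114300 s (by omega) (by omega)
  by_cases h114600 : s < 114900
  · exact allRangeF_sound _ _ (fun _ => rfl) 114600 300 chkK_114600 s (by omega) (by omega)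
  by_cases h114900 : s < 115200
  · exact allRangeF_sound _ _ (fun _ => rfl) 114900 300 chkK_114900 s (by omega) (by omega)
  by_cases h115200 : s < 115500
  · exact allRangeF_sound _ _ (fun _ => rfl) 115200 300 chkK_115200 s (by omega) (by omega)
  by_cases h115500 : s < 115800
  · exact allRangeF_sound _ _ (fun _ => rfl) 115500 300 chkK_115500 s (by omega) (by omega)
  by_cases h115800 : s < 116100
  · exact allRangeF_sound _ _ (fun _ => rfl) 115800 300 chkK_115800 s (by omega) (by omega)
  by_cases h116100 : s < 116400
  · exact allRangeF_sound _ _ (fun _ => rfl) 116100 300 chkK_116100 s (by omega) (by omega)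
  by_cases h116400 : s < 116700
  · exact allRangeF_sound _ _ (fun _ => rfl) 116400 300 chkK_116400 s (by omega) (by omega)
  by_cases h116700 : s < 117000
  · exact allRangeF_sound _ _ (fun _ => rfl) 116700 300 chkK_116700 s (by omega) (by omega)
  by_cases h117000 : s < 117300
  · exact allRangeF_sound _ _ (fun _ => rfl) 117000 300 chkK_117000 s (by omega) (by omega)
  exact allRangeF_sound _ _ (fun _ => rfl) 117300 300 chkK_117300 s (by omega) (by omega)

end Cfsg.Agent.Lib.Helper57.ONJ1
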