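import Cfsg.Agent.Lib.Helper57.ONJ1Defs

set_option autoImplicit false
set_option maxRecDepth 1000000
set_option linter.all false
set_option Elab.async false

namespace Cfsg.Agent.Lib.Helper57.ONJ1

open Cfsg.Agent.Lib.Helper28 Cfsg.Agent.Lib.Helper57.ONCay

theorem chkK_117600 : allRangeF (chkK wA wB 175560 tPA tPB tQB tKK) 117600 300 = true := by decide +kernel
theorem chkK_117900 : allRangeF (chkK wA wB 175560 tPA tPB tQB tKK) 117900 300 = true := by decide +kernel
theorem chkK_118200 : allRangeF (chkK wA wB 175560 tPA tPB tQB tKK) 118200 300 = true := by decide +kernel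
theorem chkK_118500 : allRangeF (chkK wA wB 175560 tPA tPB tQB tKK) 118500 300 = true := by decide +kernel
theorem chkK_118800 : allRangeF (chkK wA wB 175560 tPA tPB tQB tKK) 118800 300 = true := by decide +kernel
theorem chkK_119100 : allRangeF (chkK wA wB 175560 tPA tPB tQB tKK) 119100 300 = true := by decide +kernel
theorem chkK_119400 : allRangeF (chkK wA wB 175560 tPA tPB tQB tKK) 119400 300 = true := by decide +kernel
theorem chkK_119700 : allRangeF (chkK wA wB 175560 tPA tPB tQB tKK) 119700 300 = true := by decide +kernel
theorem chkK_120000 : allRangeF (chkK wA wB 175560 tPA tPB tQB tKK) 120000 300 = true := by decide +kernel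
theorem chkK_120300 : allRangeF (chkK wA wB 175560 tPA tPB tQB tKK) 120300 300 = true := by decide +kernel
theorem chkK_120600 : allRangeF (chkK wA wB 175560 tPA tPB tQB tKK) 120600 300 = true := by decide +kernel
theorem chkK_120900 : allRangeF (chkK wA wB 175560 tPA tPB tQB tKK) 120900 300 = true := by decide +kernel
theorem chkK_121200 : allRangeF (chkK wA wB 175560 tPA tPB tQB tKK) 121200 300 = true := by decide +kernel
theorem chkK_121500 : allRangeF (chkK wA wB 175560 tPA tPB tQB tKK) 121500 300 = true := by decide +kernel
theorem chkK_121800 : allRangeF (chkK wA wB 175560 tPA tPB tQB tKK) 121800 300 = true := by decide +kernel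
theorem chkK_122100 : allRangeF (chkK wA wB 175560 tPA tPB tQB tKK) 122100 300 = true := by decide +kernel
theorem chkK_122400 : allRangeF (chkK wA wB 175560 tPA tPB tQB tKK) 122400 300 = true := by decide +kernel
theorem chkK_122700 : allRangeF (chkK wA wB 175560 tPA tPB tQB tKK) 122700 300 = true := by decide +kernel
theorem chkK_123000 : allRangeF (chkK wA wB 175560 tPA tPB tQB tKK) 123000 300 = true := by decide +kernel
theorem chkK_123300 : allRangeF (chkK wA wB 175560 tPA tPB tQB tKK) 123300 300 = true := by decide +kernel
theorem chkK_123600 : allRangeF (chkK wA wB 175560 tPA tPB tQB tKK) 123600 300 = true := by decide +kernel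
theorem chkK_123900 : allRangeF (chkK wA wB 175560 tPA tPB tQB tKK) 123900 300 = true := by decide +kernel
theorem chkK_124200 : allRangeF (chkK wA wB 175560 tPA tPB tQB tKK) 124200 300 = true := by decide +kernel
theorem chkK_124500 : allRangeF (chkK wA wB 175560 tPA tPB tQB tKK) 124500 300 = true := by decide +kernel
theorem chkK_124800 : allRangeF (chkK wA wB 175560 tPA tPB tQB tKK) 124800 300 = true := by decide +kernel
theorem chkK_125100 : allRangeF (chkK wA wB 175560 tPA tPB tQB tKK) 125100 300 = true := by decide +kernel
theorem chkK_125400 : allRangeF (chkK wA wB 175560 tPA tPB tQB tKK) 125400 300 = true := by decide +kernel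
theorem chkK_125700 : allRangeF (chkK wA wB 175560 tPA tPB tQB tKK) 125700 300 = true := by decide +kernel
theorem chkK_126000 : allRangeF (chkK wA wB 175560 tPA tPB tQB tKK) 126000 300 = true := by decide +kernel
theorem chkK_126300 : allRangeF (chkK wA wB 175560 tPA tPB tQB tKK) 126300 300 = true := by decide +kernel
theorem chkK_126600 : allRangeF (chkK wA wB 175560 tPA tPB tQB tKK) 126600 300 = true := by decide +kernel
theorem chkK_126900 : allRangeF (chkK wA wB 175560 tPA tPB tQB tKK) 126900 300 = true := by decide +kernel
theorem chkK_127200 : allRangeF (chkK wA wB 175560 tPA tPB tQB tKK) 127200 300 = true := by decide +kernel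
theorem chkK_127500 : allRangeF (chkK wA wB 175560 tPA tPB tQB tKK) 127500 300 = true := by decide +kernel
theorem chkK_127800 : allRangeF (chkK wA wB 175560 tPA tPB tQB tKK) 127800 300 = true := by decide +kernel
theorem chkK_128100 : allRangeF (chkK wA wB 175560 tPA tPB tQB tKK) 128100 300 = true := by decide +kernel
theorem chkK_128400 : allRangeF (chkK wA wB 175560 tPA tPB tQB tKK) 128400 300 = true := by decide +kernel
theorem chkK_128700 : allRangeF (chkK wA wB 175560 tPA tPB tQB tKK) 128700 300 = true := by decide +kernel
theorem chkK_129000 : allRangeF (chkK wA wB 175560 tPA tPB tQB tKK) 129000 300 = true := by decide +kernel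
theorem chkK_129300 : allRangeF (chkK wA wB 175560 tPA tPB tQB tKK) 129300 300 = true := by decide +kernel
theorem chkK_129600 : allRangeF (chkK wA wB 175560 tPA tPB tQB tKK) 129600 300 = true := by decide +kernel
theorem chkK_129900 : allRangeF (chkK wA wB 175560 tPA tPB tQB tKK) 129900 300 = true := by decide +kernel
theorem chkK_130200 : allRangeF (chkK wA wB 175560 tPA tPB tQB tKK) 130200 300 = true := by decide +kernel
theorem chkK_130500 : allRangeF (chkK wA wB 175560 tPA tPB tQB tKK) 130500 300 = true := by decide +kernel
theorem chkK_130800 : allRangeF (chkK wA wB 175560 tPA tPB tQB tKK) 130800 300 = true := by decide +kernel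
theorem chkK_131100 : allRangeF (chkK wA wB 175560 tPA tPB tQB tKK) 131100 300 = true := by decide +kernel
theorem chkK_131400 : allRangeF (chkK wA wB 175560 tPA tPB tQB tKK) 131400 300 = true := by decide +kernel
theorem chkK_131700 : allRangeF (chkK wA wB 175560 tPA tPB tQB tKK) 131700 300 = true := by decide +kernel
theorem chkK_132000 : allRangeF (chkK wA wB 175560 tPA tPB tQB tKK) 132000 300 = true := by decide +kernel

theorem chkK_file8 (s : Nat) (h1 : 117600 ≤ s) (h2 : s < 132300) : chkK wA wB 175560 tPA tPB tQB tKK s = true := by
  by_cases h117600 : s < 117900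
  · exact allRangeF_sound _ _ (fun _ => rfl) 117600 300 chkK_117600 s (by omega) (by omega)
  by_cases h117900 : s < 118200
  · exact allRangeF_sound _ _ (fun _ => rfl) 117900 300 chkK_117900 s (by omega) (by omega)
  by_cases h118200 : s < 118500
  · exact allRangeF_sound _ _ (fun _ => rfl) 118200 300 chkK_118200 s (by omega) (by omega)
  by_cases h118500 : s < 118800
  · exact allRangeF_sound _ _ (fun _ => rfl) 118500 300 chkK_118500 s (by omega) (by omega)
  by_cases h118800 : s < 119100
  · exact allRangeF_sound _ _ (fun _ => rfl) 118800 300 chkK_118800 s (by omega) (by omega)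
  by_cases h119100 : s < 119400
  · exact allRangeF_sound _ _ (fun _ => rfl) 119100 300 chkK_119100 s (by omega) (by omega)
  by_cases h119400 : s < 119700
  · exact allRangeF_sound _ _ (fun _ => rfl) 119400 300 chkK_119400 s (by omega) (by omega)
  by_cases h119700 : s < 120000
  · exact allRangeF_sound _ _ (fun _ => rfl) 119700 300 chkK_119700 s (by omega) (by omega)
  by_cases h120000 : s < 120300
  · exact allRangeF_sound _ _ (fun _ => rfl) 120000 300 chkK_120000 s (by omega) (by omega)
  by_cases h120300 : s < 120600
  · exact allRangeF_sound _ _ (fun _ => rfl) 120300 300 chkK_120300 s (by omega) (by omega)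
  by_cases h120600 : s < 120900
  · exact allRangeF_sound _ _ (fun _ => rfl) 120600 300 chkK_120600 s (by omega) (by omega)
  by_cases h120900 : s < 121200
  · exact allRangeF_sound _ _ (fun _ => rfl) 120900 300 chkK_120900 s (by omega) (by omega)
  by_cases h121200 : s < 121500
  · exact allRangeF_sound _ _ (fun _ => rfl) 121200 300 chkK_121200 s (by omega) (by omega)
  by_cases h121500 : s < 121800
  · exact allRangeF_sound _ _ (fun _ => rfl) 121500 300 chkK_121500 s (by omega) (by omega)
  by_cases h121800 : s < 122100
  · exact allRangeF_sound _ _ (fun _ => rfl) 121800 300 chkK_121800 s (by omega) (by omega)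
  by_cases h122100 : s < 122400
  · exact allRangeF_sound _ _ (fun _ => rfl) 122100 300 chkK_122100 s (by omega) (by omega)
  by_cases h122400 : s < 122700
  · exact allRangeF_sound _ _ (fun _ => rfl) 122400 300 chkK_122400 s (by omega) (by omega)
  by_cases h122700 : s < 123000
  · exact allRangeF_sound _ _ (fun _ => rfl) 122700 300 chkK_122700 s (by omega) (by omega)
  by_cases h123000 : s < 123300
  · exact allRangeF_sound _ _ (fun _ => rfl) 123000 300 chkK_123000 s (by omega) (by omega)
  by_cases h123300 : s < 123600
  · exact allRangeF_sound _ _ (fun _ => rfl) 123300 300 chkK_123300 s (by omega) (by omega)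
  by_cases h123600 : s < 123900
  · exact allRangeF_sound _ _ (fun _ => rfl) 123600 300 chkK_123600 s (by omega) (by omega)
  by_cases h123900 : s < 124200
  · exact allRangeF_sound _ _ (fun _ => rfl) 123900 300 chkK_123900 s (by omega) (by omega)
  by_cases h124200 : s < 124500
  · exact allRangeF_sound _ _ (fun _ => rfl) 124200 300 chkK_124200 s (by omega) (by omega)
  by_cases h124500 : s < 124800
  · exact allRangeF_sound _ _ (fun _ => rfl) 124500 300 chkK_124500 s (by omega) (by omega)
  by_cases h124800 : s < 125100
  · exact allRangeF_sound _ _ (fun _ => rfl) 124800 300 chkK_124800 s (by omega) (by omega)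
  by_cases h125100 : s < 125400
  · exact allRangeF_sound _ _ (fun _ => rfl) 125100 300 chkK_125100 s (by omega) (by omega)
  by_cases h125400 : s < 125700
  · exact allRangeF_sound _ _ (fun _ => rfl) 125400 300 chkK_125400 s (by omega) (by omega)
  by_cases h125700 : s < 126000
  · exact allRangeF_sound _ _ (fun _ => rfl) 125700 300 chkK_125700 s (by omega) (by omega)
  by_cases h126000 : s < 126300
  · exact allRangeF_sound _ _ (fun _ => rfl) 126000 300 chkK_126000 s (by omega) (by omega)
  by_cases h126300 : s < 126600
  · exact allRangeF_sound _ _ (fun _ => rfl) 126300 300 chkK_126300 s (by omega) (by omega)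
  by_cases h126600 : s < 126900
  · exact allRangeF_sound _ _ (fun _ => rfl) 126600 300 chkK_126600 s (by omega) (by omega)
  by_cases h126900 : s < 127200
  · exact allRangeF_sound _ _ (fun _ => rfl) 126900 300 chkK_126900 s (by omega) (by omega)
  by_cases h127200 : s < 127500
  · exact allRangeF_sound _ _ (fun _ => rfl) 127200 300 chkK_127200 s (by omega) (by omega)
  by_cases h127500 : s < 127800
  · exact allRangeF_sound _ _ (fun _ => rfl) 127500 300 chkK_127500 s (by omega) (by omega)
  by_cases h127800 : s < 128100
  · exact allRangeF_sound _ _ (fun _ => rfl) 127800 300 chkK_127800 s (by omega) (by omega)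
  by_cases h128100 : s < 128400
  · exact allRangeF_sound _ _ (fun _ => rfl) 128100 300 chkK_128100 s (by omega) (by omega)
  by_cases h128400 : s < 128700
  · exact allRangeF_sound _ _ (fun _ => rfl) 128400 300 chkK_128400 s (by omega) (by omega)
  by_cases h128700 : s < 129000
  · exact allRangeF_sound _ _ (fun _ => rfl) 128700 300 chkK_128700 s (by omega) (by omega)
  by_cases h129000 : s < 129300
  · exact allRangeF_sound _ _ (fun _ => rfl) 129000 300 chkK_129000 s (by omega) (by omega)
  by_cases h129300 : s < 129600
  · exact allRangeF_sound _ _ (fun _ => rfl) 129300 300 chkK_129300 s (by omega) (by omega)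
  by_cases h129600 : s < 129900
  · exact allRangeF_sound _ _ (fun _ => rfl) 129600 300 chkK_129600 s (by omega) (by omega)
  by_cases h129900 : s < 130200
  · exact allRangeF_sound _ _ (fun _ => rfl) 129900 300 chkK_129900 s (by omega) (by omega)
  by_cases h130200 : s < 130500
  · exact allRangeF_sound _ _ (fun _ => rfl) 130200 300 chkK_130200 s (by omega) (by omega)
  by_cases h130500 : s < 130800
  · exact allRangeF_sound _ _ (fun _ => rfl) 130500 300 chkK_130500 s (by omega) (by omega)
  by_cases h130800 : s < 131100
  · exact allRangeF_sound _ _ (fun _ => rfl) 130800 300 chkK_130800 s (by omega) (by omega)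
  by_cases h131100 : s < 131400
  · exact allRangeF_sound _ _ (fun _ => rfl) 131100 300 chkK_131100 s (by omega) (by omega)
  by_cases h131400 : s < 131700
  · exact allRangeF_sound _ _ (fun _ => rfl) 131400 300 chkK_131400 s (by omega) (by omega)
  by_cases h131700 : s < 132000
  · exact allRangeF_sound _ _ (fun _ => rfl) 131700 300 chkK_131700 s (by omega) (by omega)
  exact allRangeF_sound _ _ (fun _ => rfl) 132000 300 chkK_132000 s (by omega) (by omega)

end Cfsg.Agent.Lib.Helper57.ONJ1
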