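import Cfsg.Agent.Lib.Helper57.ONJ1Defs

set_option autoImplicit false
set_option maxRecDepth 1000000
set_option linter.all false
set_option Elab.async false

namespace Cfsg.Agent.Lib.Helper57.ONJ1

open Cfsg.Agent.Lib.Helper28 Cfsg.Agent.Lib.Helper57.ONCay

theorem chkK_132300 : allRangeF (chkK wA wB 175560 tPA tPB tQB tKK) 132300 300 = true := by decide +kernel
theorem chkK_132600 : allRangeF (chkK wA wB 175560 tPA tPB tQB tKK) 132600 300 = true := by decide +kernel
theorem chkK_132900 : allRangeF (chkK wA wB 175560 tPA tPB tQB tKK) 132900 300 = true := by decide +kernel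
theorem chkK_133200 : allRangeF (chkK wA wB 175560 tPA tPB tQB tKK) 133200 300 = true := by decide +kernel
theorem chkK_133500 : allRangeF (chkK wA wB 175560 tPA tPB tQB tKK) 133500 300 = true := by decide +kernel
theorem chkK_133800 : allRangeF (chkK wA wB 175560 tPA tPB tQB tKK) 133800 300 = true := by decide +kernel
theorem chkK_134100 : allRangeF (chkK wA wB 175560 tPA tPB tQB tKK) 134100 300 = true := by decide +kernel
theorem chkK_134400 : allRangeF (chkK wA wB 175560 tPA tPB tQB tKK) 134400 300 = true := by decide +kernel
theorem chkK_134700 : allRangeF (chkK wA wB 175560 tPA tPB tQB tKK) 134700 300 = true := by decide +kernel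
theorem chkK_135000 : allRangeF (chkK wA wB 175560 tPA tPB tQB tKK) 135000 300 = true := by decide +kernel
theorem chkK_135300 : allRangeF (chkK wA wB 175560 tPA tPB tQB tKK) 135300 300 = true := by decide +kernel
theorem chkK_135600 : allRangeF (chkK wA wB 175560 tPA tPB tQB tKK) 135600 300 = true := by decide +kernel
theorem chkK_135900 : allRangeF (chkK wA wB 175560 tPA tPB tQB tKK) 135900 300 = true := by decide +kernel
theorem chkK_136200 : allRangeF (chkK wA wB 175560 tPA tPB tQB tKK) 136200 300 = true := by decide +kernel
theorem chkK_136500 : allRangeF (chkK wA wB 175560 tPA tPB tQB tKK) 136500 300 = true := by decide +kernel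
theorem chkK_136800 : allRangeF (chkK wA wB 175560 tPA tPB tQB tKK) 136800 300 = true := by decide +kernel
theorem chkK_137100 : allRangeF (chkK wA wB 175560 tPA tPB tQB tKK) 137100 300 = true := by decide +kernel
theorem chkK_137400 : allRangeF (chkK wA wB 175560 tPA tPB tQB tKK) 137400 300 = true := by decide +kernel
theorem chkK_137700 : allRangeF (chkK wA wB 175560 tPA tPB tQB tKK) 137700 300 = true := by decide +kernel
theorem chkK_138000 : allRangeF (chkK wA wB 175560 tPA tPB tQB tKK) 138000 300 = true := by decide +kernel
theorem chkK_138300 : allRangeF (chkK wA wB 175560 tPA tPB tQB tKK) 138300 300 = true := by decide +kernel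
theorem chkK_138600 : allRangeF (chkK wA wB 175560 tPA tPB tQB tKK) 138600 300 = true := by decide +kernel
theorem chkK_138900 : allRangeF (chkK wA wB 175560 tPA tPB tQB tKK) 138900 300 = true := by decide +kernel
theorem chkK_139200 : allRangeF (chkK wA wB 175560 tPA tPB tQB tKK) 139200 300 = true := by decide +kernel
theorem chkK_139500 : allRangeF (chkK wA wB 175560 tPA tPB tQB tKK) 139500 300 = true := by decide +kernel
theorem chkK_139800 : allRangeF (chkK wA wB 175560 tPA tPB tQB tKK) 139800 300 = true := by decide +kernel
theorem chkK_140100 : allRangeF (chkK wA wB 175560 tPA tPB tQB tKK) 140100 300 = true := by decide +kernel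
theorem chkK_140400 : allRangeF (chkK wA wB 175560 tPA tPB tQB tKK) 140400 300 = true := by decide +kernel
theorem chkK_140700 : allRangeF (chkK wA wB 175560 tPA tPB tQB tKK) 140700 300 = true := by decide +kernel
theorem chkK_141000 : allRangeF (chkK wA wB 175560 tPA tPB tQB tKK) 141000 300 = true := by decide +kernel
theorem chkK_141300 : allRangeF (chkK wA wB 175560 tPA tPB tQB tKK) 141300 300 = true := by decide +kernel
theorem chkK_141600 : allRangeF (chkK wA wB 175560 tPA tPB tQB tKK) 141600 300 = true := by decide +kernel
theorem chkK_141900 : allRangeF (chkK wA wB 175560 tPA tPB tQB tKK) 141900 300 = true := by decide +kernel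
theorem chkK_142200 : allRangeF (chkK wA wB 175560 tPA tPB tQB tKK) 142200 300 = true := by decide +kernel
theorem chkK_142500 : allRangeF (chkK wA wB 175560 tPA tPB tQB tKK) 142500 300 = true := by decide +kernel
theorem chkK_142800 : allRangeF (chkK wA wB 175560 tPA tPB tQB tKK) 142800 300 = true := by decide +kernel
theorem chkK_143100 : allRangeF (chkK wA wB 175560 tPA tPB tQB tKK) 143100 300 = true := by decide +kernel
theorem chkK_143400 : allRangeF (chkK wA wB 175560 tPA tPB tQB tKK) 143400 300 = true := by decide +kernel
theorem chkK_143700 : allRangeF (chkK wA wB 175560 tPA tPB tQB tKK) 143700 300 = true := by decide +kernel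
theorem chkK_144000 : allRangeF (chkK wA wB 175560 tPA tPB tQB tKK) 144000 300 = true := by decide +kernel
theorem chkK_144300 : allRangeF (chkK wA wB 175560 tPA tPB tQB tKK) 144300 300 = true := by decide +kernel
theorem chkK_144600 : allRangeF (chkK wA wB 175560 tPA tPB tQB tKK) 144600 300 = true := by decide +kernel
theorem chkK_144900 : allRangeF (chkK wA wB 175560 tPA tPB tQB tKK) 144900 300 = true := by decide +kernel
theorem chkK_145200 : allRangeF (chkK wA wB 175560 tPA tPB tQB tKK) 145200 300 = true := by decide +kernel
theorem chkK_145500 : allRangeF (chkK wA wB 175560 tPA tPB tQB tKK) 145500 300 = true := by decide +kernel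
theorem chkK_145800 : allRangeF (chkK wA wB 175560 tPA tPB tQB tKK) 145800 300 = true := by decide +kernel
theorem chkK_146100 : allRangeF (chkK wA wB 175560 tPA tPB tQB tKK) 146100 300 = true := by decide +kernel
theorem chkK_146400 : allRangeF (chkK wA wB 175560 tPA tPB tQB tKK) 146400 300 = true := by decide +kernel
theorem chkK_146700 : allRangeF (chkK wA wB 175560 tPA tPB tQB tKK) 146700 300 = true := by decide +kernel

theorem chkK_file9 (s : Nat) (h1 : 132300 ≤ s) (h2 : s < 147000) : chkK wA wB 175560 tPA tPB tQB tKK s = true := by
  by_cases h132300 : s < 132600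
  · exact allRangeF_sound _ _ (fun _ => rfl) 132300 300 chkK_132300 s (by omega) (by omega)
  by_cases h132600 : s < 132900
  · exact allRangeF_sound _ _ (fun _ => rfl) 132600 300 chkK_132600 s (by omega) (by omega)
  by_cases h132900 : s < 133200
  · exact allRangeF_sound _ _ (fun _ => rfl) 132900 300 chkK_132900 s (by omega) (by omega)
  by_cases h133200 : s < 133500
  · exact allRangeF_sound _ _ (fun _ => rfl) 133200 300 chkK_133200 s (by omega) (by omega)
  by_cases h133500 : s < 133800
  · exact allRangeF_sound _ _ (fun _ => rfl) 133500 300 chkK_133500 s (by omega) (by omega)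
  by_cases h133800 : s < 134100
  · exact allRangeF_sound _ _ (fun _ => rfl) 133800 300 chkK_133800 s (by omega) (by omega)
  by_cases h134100 : s < 134400
  · exact allRangeF_sound _ _ (fun _ => rfl) 134100 300 chkK_134100 s (by omega) (by omega)
  by_cases h134400 : s < 134700
  · exact allRangeF_sound _ _ (fun _ => rfl) 134400 300 chkK_134400 s (by omega) (by omega)
  by_cases h134700 : s < 135000
  · exact allRangeF_sound _ _ (fun _ => rfl) 134700 300 chkK_134700 s (by omega) (by omega)
  by_cases h135000 : s < 135300
  · exact allRangeF_sound _ _ (fun _ => rfl) 135000 300 chkK_135000 s (by omega) (by omega)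
  by_cases h135300 : s < 135600
  · exact allRangeF_sound _ _ (fun _ => rfl) 135300 300 chkK_135300 s (by omega) (by omega)
  by_cases h135600 : s < 135900
  · exact allRangeF_sound _ _ (fun _ => rfl) 135600 300 chkK_135600 s (by omega) (by omega)
  by_cases h135900 : s < 136200
  · exact allRangeF_sound _ _ (fun _ => rfl) 135900 300 chkK_135900 s (by omega) (by omega)
  by_cases h136200 : s < 136500
  · exact allRangeF_sound _ _ (fun _ => rfl) 136200 300 chkK_136200 s (by omega) (by omega)
  by_cases h136500 : s < 136800
  · exact allRangeF_sound _ _ (fun _ => rfl) 136500 300 chkK_136500 s (by omega) (by omega)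
  by_cases h136800 : s < 137100
  · exact allRangeF_sound _ _ (fun _ => rfl) 136800 300 chkK_136800 s (by omega) (by omega)
  by_cases h137100 : s < 137400
  · exact allRangeF_sound _ _ (fun _ => rfl) 137100 300 chkK_137100 s (by omega) (by omega)
  by_cases h137400 : s < 137700
  · exact allRangeF_sound _ _ (fun _ => rfl) 137400 300 chkK_137400 s (by omega) (by omega)
  by_cases h137700 : s < 138000
  · exact allRangeF_sound _ _ (fun _ => rfl) 137700 300 chkK_137700 s (by omega) (by omega)
  by_cases h138000 : s < 138300
  · exact allRangeF_sound _ _ (fun _ => rfl) 138000 300 chkK_138000 s (by omega) (by omega)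
  by_cases h138300 : s < 138600
  · exact allRangeF_sound _ _ (fun _ => rfl) 138300 300 chkK_138300 s (by omega) (by omega)
  by_cases h138600 : s < 138900
  · exact allRangeF_sound _ _ (fun _ => rfl) 138600 300 chkK_138600 s (by omega) (by omega)
  by_cases h138900 : s < 139200
  · exact allRangeF_sound _ _ (fun _ => rfl) 138900 300 chkK_138900 s (by omega) (by omega)
  by_cases h139200 : s < 139500
  · exact allRangeF_sound _ _ (fun _ => rfl) 139200 300 chkK_139200 s (by omega) (by omega)
  by_cases h139500 : s < 139800
  · exact allRangeF_sound _ _ (fun _ => rfl) 139500 300 chkK_139500 s (by omega) (by omega)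
  by_cases h139800 : s < 140100
  · exact allRangeF_sound _ _ (fun _ => rfl) 139800 300 chkK_139800 s (by omega) (by omega)
  by_cases h140100 : s < 140400
  · exact allRangeF_sound _ _ (fun _ => rfl) 140100 300 chkK_140100 s (by omega) (by omega)
  by_cases h140400 : s < 140700
  · exact allRangeF_sound _ _ (fun _ => rfl) 140400 300 chkK_140400 s (by omega) (by omega)
  by_cases h140700 : s < 141000
  · exact allRangeF_sound _ _ (fun _ => rfl) 140700 300 chkK_140700 s (by omega) (by omega)
  by_cases h141000 : s < 141300
  · exact allRangeF_sound _ _ (fun _ => rfl) 141000 300 chkK_141000 s (by omega) (by omega)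
  by_cases h141300 : s < 141600
  · exact allRangeF_sound _ _ (fun _ => rfl) 141300 300 chkK_141300 s (by omega) (by omega)
  by_cases h141600 : s < 141900
  · exact allRangeF_sound _ _ (fun _ => rfl) 141600 300 chkK_141600 s (by omega) (by omega)
  by_cases h141900 : s < 142200
  · exact allRangeF_sound _ _ (fun _ => rfl) 141900 300 chkK_141900 s (by omega) (by omega)
  by_cases h142200 : s < 142500
  · exact allRangeF_sound _ _ (fun _ => rfl) 142200 300 chkK_142200 s (by omega) (by omega)
  by_cases h142500 : s < 142800
  · exact allRangeF_sound _ _ (fun _ => rfl) 142500 300 chkK_142500 s (by omega) (by omega)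
  by_cases h142800 : s < 143100
  · exact allRangeF_sound _ _ (fun _ => rfl) 142800 300 chkK_142800 s (by omega) (by omega)
  by_cases h143100 : s < 143400
  · exact allRangeF_sound _ _ (fun _ => rfl) 143100 300 chkK_143100 s (by omega) (by omega)
  by_cases h143400 : s < 143700
  · exact allRangeF_sound _ _ (fun _ => rfl) 143400 300 chkK_143400 s (by omega) (by omega)
  by_cases h143700 : s < 144000
  · exact allRangeF_sound _ _ (fun _ => rfl) 143700 300 chkK_143700 s (by omega) (by omega)
  by_cases h144000 : s < 144300
  · exact allRangeF_sound _ _ (fun _ => rfl) 144000 300 chkK_144000 s (by omega) (by omega)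
  by_cases h144300 : s < 144600
  · exact allRangeF_sound _ _ (fun _ => rfl) 144300 300 chkK_144300 s (by omega) (by omega)
  by_cases h144600 : s < 144900
  · exact allRangeF_sound _ _ (fun _ => rfl) 144600 300 chkK_144600 s (by omega) (by omega)
  by_cases h144900 : s < 145200
  · exact allRangeF_sound _ _ (fun _ => rfl) 144900 300 chkK_144900 s (by omega) (by omega)
  by_cases h145200 : s < 145500
  · exact allRangeF_sound _ _ (fun _ => rfl) 145200 300 chkK_145200 s (by omega) (by omega)
  by_cases h145500 : s < 145800
  · exact allRangeF_sound _ _ (fun _ => rfl) 145500 300 chkK_145500 s (by omega) (by omega)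
  by_cases h145800 : s < 146100
  · exact allRangeF_sound _ _ (fun _ => rfl) 145800 300 chkK_145800 s (by omega) (by omega)
  by_cases h146100 : s < 146400
  · exact allRangeF_sound _ _ (fun _ => rfl) 146100 300 chkK_146100 s (by omega) (by omega)
  by_cases h146400 : s < 146700
  · exact allRangeF_sound _ _ (fun _ => rfl) 146400 300 chkK_146400 s (by omega) (by omega)
  exact allRangeF_sound _ _ (fun _ => rfl) 146700 300 chkK_146700 s (by omega) (by omega)

end Cfsg.Agent.Lib.Helper57.ONJ1
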