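import Cfsg.Agent.Lib.Helper57.ONJ1Defs

set_option autoImplicit false
set_option maxRecDepth 1000000
set_option linter.all false
set_option Elab.async false

namespace Cfsg.Agent.Lib.Helper57.ONJ1

open Cfsg.Agent.Lib.Helper28 Cfsg.Agent.Lib.Helper57.ONCay

theorem chkM_0 : allRangeF chkM 0 1000 = true := by decide +kernel
theorem chkM_1000 : allRangeF chkM 1000 1000 = true := by decide +kernel
theorem chkM_2000 : allRangeF chkM 2000 1000 = true := by decide +kernel
theorem chkM_3000 : allRangeF chkM 3000 1000 = true := by decide +kernel
theorem chkM_4000 : allRangeF chkM 4000 1000 = true := by decide +kernel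
theorem chkM_5000 : allRangeF chkM 5000 1000 = true := by decide +kernel
theorem chkM_6000 : allRangeF chkM 6000 1000 = true := by decide +kernel
theorem chkM_7000 : allRangeF chkM 7000 1000 = true := by decide +kernel
theorem chkM_8000 : allRangeF chkM 8000 1000 = true := by decide +kernel
theorem chkM_9000 : allRangeF chkM 9000 1000 = true := by decide +kernel
theorem chkM_10000 : allRangeF chkM 10000 1000 = true := by decide +kernel
theorem chkM_11000 : allRangeF chkM 11000 1000 = true := by decide +kernel
theorem chkM_12000 : allRangeF chkM 12000 1000 = true := by decide +kernel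
theorem chkM_13000 : allRangeF chkM 13000 1000 = true := by decide +kernel
theorem chkM_14000 : allRangeF chkM 14000 1000 = true := by decide +kernel
theorem chkM_15000 : allRangeF chkM 15000 1000 = true := by decide +kernel
theorem chkM_16000 : allRangeF chkM 16000 1000 = true := by decide +kernel
theorem chkM_17000 : allRangeF chkM 17000 1000 = true := by decide +kernel
theorem chkM_18000 : allRangeF chkM 18000 1000 = true := by decide +kernel
theorem chkM_19000 : allRangeF chkM 19000 1000 = true := by decide +kernel
theorem chkM_20000 : allRangeF chkM 20000 1000 = true := by decide +kernel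
theorem chkM_21000 : allRangeF chkM 21000 1000 = true := by decide +kernel
theorem chkM_22000 : allRangeF chkM 22000 1000 = true := by decide +kernel
theorem chkM_23000 : allRangeF chkM 23000 1000 = true := by decide +kernel
theorem chkM_24000 : allRangeF chkM 24000 1000 = true := by decide +kernel
theorem chkM_25000 : allRangeF chkM 25000 1000 = true := by decide +kernel
theorem chkM_26000 : allRangeF chkM 26000 1000 = true := by decide +kernel
theorem chkM_27000 : allRangeF chkM 27000 1000 = true := by decide +kernel
theorem chkM_28000 : allRangeF chkM 28000 1000 = true := by decide +kernel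
theorem chkM_29000 : allRangeF chkM 29000 1000 = true := by decide +kernel
theorem chkM_30000 : allRangeF chkM 30000 1000 = true := by decide +kernel
theorem chkM_31000 : allRangeF chkM 31000 1000 = true := by decide +kernel
theorem chkM_32000 : allRangeF chkM 32000 1000 = true := by decide +kernel
theorem chkM_33000 : allRangeF chkM 33000 1000 = true := by decide +kernel
theorem chkM_34000 : allRangeF chkM 34000 1000 = true := by decide +kernel
theorem chkM_35000 : allRangeF chkM 35000 1000 = true := by decide +kernel
theorem chkM_36000 : allRangeF chkM 36000 1000 = true := by decide +kernel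
theorem chkM_37000 : allRangeF chkM 37000 1000 = true := by decide +kernel
theorem chkM_38000 : allRangeF chkM 38000 1000 = true := by decide +kernel
theorem chkM_39000 : allRangeF chkM 39000 1000 = true := by decide +kernel
theorem chkM_40000 : allRangeF chkM 40000 1000 = true := by decide +kernel
theorem chkM_41000 : allRangeF chkM 41000 1000 = true := by decide +kernel
theorem chkM_42000 : allRangeF chkM 42000 1000 = true := by decide +kernel
theorem chkM_43000 : allRangeF chkM 43000 1000 = true := by decide +kernel

theorem chkM_file0 (s : Nat) (h1 : 0 ≤ s) (h2 : s < 44000) : chkM s = true := by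
  by_cases h0 : s < 1000
  · exact allRangeF_sound _ _ (fun _ => rfl) 0 1000 chkM_0 s (by omega) (by omega)
  by_cases h1000 : s < 2000
  · exact allRangeF_sound _ _ (fun _ => rfl) 1000 1000 chkM_1000 s (by omega) (by omega)
  by_cases h2000 : s < 3000
  · exact allRangeF_sound _ _ (fun _ => rfl) 2000 1000 chkM_2000 s (by omega) (by omega)
  by_cases h3000 : s < 4000
  · exact allRangeF_sound _ _ (fun _ => rfl) 3000 1000 chkM_3000 s (by omega) (by omega)
  by_cases h4000 : s < 5000
  · exact allRangeF_sound _ _ (fun _ => rfl) 4000 1000 chkM_4000 s (by omega) (by omega)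
  by_cases h5000 : s < 6000
  · exact allRangeF_sound _ _ (fun _ => rfl) 5000 1000 chkM_5000 s (by omega) (by omega)
  by_cases h6000 : s < 7000
  · exact allRangeF_sound _ _ (fun _ => rfl) 6000 1000 chkM_6000 s (by omega) (by omega)
  by_cases h7000 : s < 8000
  · exact allRangeF_sound _ _ (fun _ => rfl) 7000 1000 chkM_7000 s (by omega) (by omega)
  by_cases h8000 : s < 9000
  · exact allRangeF_sound _ _ (fun _ => rfl) 8000 1000 chkM_8000 s (by omega) (by omega)
  by_cases h9000 : s < 10000
  · exact allRangeF_sound _ _ (fun _ => rfl) 9000 1000 chkM_9000 s (by omega) (by omega)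
  by_cases h10000 : s < 11000
  · exact allRangeF_sound _ _ (fun _ => rfl) 10000 1000 chkM_10000 s (by omega) (by omega)
  by_cases h11000 : s < 12000
  · exact allRangeF_sound _ _ (fun _ => rfl) 11000 1000 chkM_11000 s (by omega) (by omega)
  by_cases h12000 : s < 13000
  · exact allRangeF_sound _ _ (fun _ => rfl) 12000 1000 chkM_12000 s (by omega) (by omega)
  by_cases h13000 : s < 14000
  · exact allRangeF_sound _ _ (fun _ => rfl) 13000 1000 chkM_13000 s (by omega) (by omega)
  by_cases h14000 : s < 15000
  · exact allRangeF_sound _ _ (fun _ => rfl) 14000 1000 chkM_14000 s (by omega) (by omega)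
  by_cases h15000 : s < 16000
  · exact allRangeF_sound _ _ (fun _ => rfl) 15000 1000 chkM_15000 s (by omega) (by omega)
  by_cases h16000 : s < 17000
  · exact allRangeF_sound _ _ (fun _ => rfl) 16000 1000 chkM_16000 s (by omega) (by omega)
  by_cases h17000 : s < 18000
  · exact allRangeF_sound _ _ (fun _ => rfl) 17000 1000 chkM_17000 s (by omega) (by omega)
  by_cases h18000 : s < 19000
  · exact allRangeF_sound _ _ (fun _ => rfl) 18000 1000 chkM_18000 s (by omega) (by omega)
  by_cases h19000 : s < 20000
  · exact allRangeF_sound _ _ (fun _ => rfl) 19000 1000 chkM_19000 s (by omega) (by omega)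
  by_cases h20000 : s < 21000
  · exact allRangeF_sound _ _ (fun _ => rfl) 20000 1000 chkM_20000 s (by omega) (by omega)
  by_cases h21000 : s < 22000
  · exact allRangeF_sound _ _ (fun _ => rfl) 21000 1000 chkM_21000 s (by omega) (by omega)
  by_cases h22000 : s < 23000
  · exact allRangeF_sound _ _ (fun _ => rfl) 22000 1000 chkM_22000 s (by omega) (by omega)
  by_cases h23000 : s < 24000
  · exact allRangeF_sound _ _ (fun _ => rfl) 23000 1000 chkM_23000 s (by omega) (by omega)
  by_cases h24000 : s < 25000
  · exact allRangeF_sound _ _ (fun _ => rfl) 24000 1000 chkM_24000 s (by omega) (by omega)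
  by_cases h25000 : s < 26000
  · exact allRangeF_sound _ _ (fun _ => rfl) 25000 1000 chkM_25000 s (by omega) (by omega)
  by_cases h26000 : s < 27000
  · exact allRangeF_sound _ _ (fun _ => rfl) 26000 1000 chkM_26000 s (by omega) (by omega)
  by_cases h27000 : s < 28000
  · exact allRangeF_sound _ _ (fun _ => rfl) 27000 1000 chkM_27000 s (by omega) (by omega)
  by_cases h28000 : s < 29000
  · exact allRangeF_sound _ _ (fun _ => rfl) 28000 1000 chkM_28000 s (by omega) (by omega)
  by_cases h29000 : s < 30000
  · exact allRangeF_sound _ _ (fun _ => rfl) 29000 1000 chkM_29000 s (by omega) (by omega)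
  by_cases h30000 : s < 31000
  · exact allRangeF_sound _ _ (fun _ => rfl) 30000 1000 chkM_30000 s (by omega) (by omega)
  by_cases h31000 : s < 32000
  · exact allRangeF_sound _ _ (fun _ => rfl) 31000 1000 chkM_31000 s (by omega) (by omega)
  by_cases h32000 : s < 33000
  · exact allRangeF_sound _ _ (fun _ => rfl) 32000 1000 chkM_32000 s (by omega) (by omega)
  by_cases h33000 : s < 34000
  · exact allRangeF_sound _ _ (fun _ => rfl) 33000 1000 chkM_33000 s (by omega) (by omega)
  by_cases h34000 : s < 35000
  · exact allRangeF_sound _ _ (fun _ => rfl) 34000 1000 chkM_34000 s (by omega) (by omega)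
  by_cases h35000 : s < 36000
  · exact allRangeF_sound _ _ (fun _ => rfl) 35000 1000 chkM_35000 s (by omega) (by omega)
  by_cases h36000 : s < 37000
  · exact allRangeF_sound _ _ (fun _ => rfl) 36000 1000 chkM_36000 s (by omega) (by omega)
  by_cases h37000 : s < 38000
  · exact allRangeF_sound _ _ (fun _ => rfl) 37000 1000 chkM_37000 s (by omega) (by omega)
  by_cases h38000 : s < 39000
  · exact allRangeF_sound _ _ (fun _ => rfl) 38000 1000 chkM_38000 s (by omega) (by omega)
  by_cases h39000 : s < 40000
  · exact allRangeF_sound _ _ (fun _ => rfl) 39000 1000 chkM_39000 s (by omega) (by omega)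
  by_cases h40000 : s < 41000
  · exact allRangeF_sound _ _ (fun _ => rfl) 40000 1000 chkM_40000 s (by omega) (by omega)
  by_cases h41000 : s < 42000
  · exact allRangeF_sound _ _ (fun _ => rfl) 41000 1000 chkM_41000 s (by omega) (by omega)
  by_cases h42000 : s < 43000
  · exact allRangeF_sound _ _ (fun _ => rfl) 42000 1000 chkM_42000 s (by omega) (by omega)
  exact allRangeF_sound _ _ (fun _ => rfl) 43000 1000 chkM_43000 s (by omega) (by omega)

end Cfsg.Agent.Lib.Helper57.ONJ1
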