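import Cfsg.Agent.Lib.Helper57.ONJ1Defs

set_option autoImplicit false
set_option maxRecDepth 1000000
set_option linter.all false
set_option Elab.async false

namespace Cfsg.Agent.Lib.Helper57.ONJ1

open Cfsg.Agent.Lib.Helper28 Cfsg.Agent.Lib.Helper57.ONCay

theorem chkM_44000 : allRangeF chkM 44000 1000 = true := by decide +kernel
theorem chkM_45000 : allRangeF chkM 45000 1000 = true := by decide +kernel
theorem chkM_46000 : allRangeF chkM 46000 1000 = true := by decide +kernel
theorem chkM_47000 : allRangeF chkM 47000 1000 = true := by decide +kernel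
theorem chkM_48000 : allRangeF chkM 48000 1000 = true := by decide +kernel
theorem chkM_49000 : allRangeF chkM 49000 1000 = true := by decide +kernel
theorem chkM_50000 : allRangeF chkM 50000 1000 = true := by decide +kernel
theorem chkM_51000 : allRangeF chkM 51000 1000 = true := by decide +kernel
theorem chkM_52000 : allRangeF chkM 52000 1000 = true := by decide +kernel
theorem chkM_53000 : allRangeF chkM 53000 1000 = true := by decide +kernel
theorem chkM_54000 : allRangeF chkM 54000 1000 = true := by decide +kernel
theorem chkM_55000 : allRangeF chkM 55000 1000 = true := by decide +kernel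
theorem chkM_56000 : allRangeF chkM 56000 1000 = true := by decide +kernel
theorem chkM_57000 : allRangeF chkM 57000 1000 = true := by decide +kernel
theorem chkM_58000 : allRangeF chkM 58000 1000 = true := by decide +kernel
theorem chkM_59000 : allRangeF chkM 59000 1000 = true := by decide +kernel
theorem chkM_60000 : allRangeF chkM 60000 1000 = true := by decide +kernel
theorem chkM_61000 : allRangeF chkM 61000 1000 = true := by decide +kernel
theorem chkM_62000 : allRangeF chkM 62000 1000 = true := by decide +kernel
theorem chkM_63000 : allRangeF chkM 63000 1000 = true := by decide +kernel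
theorem chkM_64000 : allRangeF chkM 64000 1000 = true := by decide +kernel
theorem chkM_65000 : allRangeF chkM 65000 1000 = true := by decide +kernel
theorem chkM_66000 : allRangeF chkM 66000 1000 = true := by decide +kernel
theorem chkM_67000 : allRangeF chkM 67000 1000 = true := by decide +kernel
theorem chkM_68000 : allRangeF chkM 68000 1000 = true := by decide +kernel
theorem chkM_69000 : allRangeF chkM 69000 1000 = true := by decide +kernel
theorem chkM_70000 : allRangeF chkM 70000 1000 = true := by decide +kernel
theorem chkM_71000 : allRangeF chkM 71000 1000 = true := by decide +kernel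
theorem chkM_72000 : allRangeF chkM 72000 1000 = true := by decide +kernel
theorem chkM_73000 : allRangeF chkM 73000 1000 = true := by decide +kernel
theorem chkM_74000 : allRangeF chkM 74000 1000 = true := by decide +kernel
theorem chkM_75000 : allRangeF chkM 75000 1000 = true := by decide +kernel
theorem chkM_76000 : allRangeF chkM 76000 1000 = true := by decide +kernel
theorem chkM_77000 : allRangeF chkM 77000 1000 = true := by decide +kernel
theorem chkM_78000 : allRangeF chkM 78000 1000 = true := by decide +kernel
theorem chkM_79000 : allRangeF chkM 79000 1000 = true := by decide +kernel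
theorem chkM_80000 : allRangeF chkM 80000 1000 = true := by decide +kernel
theorem chkM_81000 : allRangeF chkM 81000 1000 = true := by decide +kernel
theorem chkM_82000 : allRangeF chkM 82000 1000 = true := by decide +kernel
theorem chkM_83000 : allRangeF chkM 83000 1000 = true := by decide +kernel
theorem chkM_84000 : allRangeF chkM 84000 1000 = true := by decide +kernel
theorem chkM_85000 : allRangeF chkM 85000 1000 = true := by decide +kernel
theorem chkM_86000 : allRangeF chkM 86000 1000 = true := by decide +kernel
theorem chkM_87000 : allRangeF chkM 87000 1000 = true := by decide +kernel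

theorem chkM_file1 (s : Nat) (h1 : 44000 ≤ s) (h2 : s < 88000) : chkM s = true := by
  by_cases h44000 : s < 45000
  · exact allRangeF_sound _ _ (fun _ => rfl) 44000 1000 chkM_44000 s (by omega) (by omega)
  by_cases h45000 : s < 46000
  · exact allRangeF_sound _ _ (fun _ => rfl) 45000 1000 chkM_45000 s (by omega) (by omega)
  by_cases h46000 : s < 47000
  · exact allRangeF_sound _ _ (fun _ => rfl) 46000 1000 chkM_46000 s (by omega) (by omega)
  by_cases h47000 : s < 48000
  · exact allRangeF_sound _ _ (fun _ => rfl) 47000 1000 chkM_47000 s (by omega) (by omega)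
  by_cases h48000 : s < 49000
  · exact allRangeF_sound _ _ (fun _ => rfl) 48000 1000 chkM_48000 s (by omega) (by omega)
  by_cases h49000 : s < 50000
  · exact allRangeF_sound _ _ (fun _ => rfl) 49000 1000 chkM_49000 s (by omega) (by omega)
  by_cases h50000 : s < 51000
  · exact allRangeF_sound _ _ (fun _ => rfl) 50000 1000 chkM_50000 s (by omega) (by omega)
  by_cases h51000 : s < 52000
  · exact allRangeF_sound _ _ (fun _ => rfl) 51000 1000 chkM_51000 s (by omega) (by omega)
  by_cases h52000 : s < 53000
  · exact allRangeF_sound _ _ (fun _ => rfl) 52000 1000 chkM_52000 s (by omega) (by omega)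
  by_cases h53000 : s < 54000
  · exact allRangeF_sound _ _ (fun _ => rfl) 53000 1000 chkM_53000 s (by omega) (by omega)
  by_cases h54000 : s < 55000
  · exact allRangeF_sound _ _ (fun _ => rfl) 54000 1000 chkM_54000 s (by omega) (by omega)
  by_cases h55000 : s < 56000
  · exact allRangeF_sound _ _ (fun _ => rfl) 55000 1000 chkM_55000 s (by omega) (by omega)
  by_cases h56000 : s < 57000
  · exact allRangeF_sound _ _ (fun _ => rfl) 56000 1000 chkM_56000 s (by omega) (by omega)
  by_cases h57000 : s < 58000
  · exact allRangeF_sound _ _ (fun _ => rfl) 57000 1000 chkM_57000 s (by omega) (by omega)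
  by_cases h58000 : s < 59000
  · exact allRangeF_sound _ _ (fun _ => rfl) 58000 1000 chkM_58000 s (by omega) (by omega)
  by_cases h59000 : s < 60000
  · exact allRangeF_sound _ _ (fun _ => rfl) 59000 1000 chkM_59000 s (by omega) (by omega)
  by_cases h60000 : s < 61000
  · exact allRangeF_sound _ _ (fun _ => rfl) 60000 1000 chkM_60000 s (by omega) (by omega)
  by_cases h61000 : s < 62000
  · exact allRangeF_sound _ _ (fun _ => rfl) 61000 1000 chkM_61000 s (by omega) (by omega)
  by_cases h62000 : s < 63000
  · exact allRangeF_sound _ _ (fun _ => rfl) 62000 1000 chkM_62000 s (by omega) (by omega)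
  by_cases h63000 : s < 64000
  · exact allRangeF_sound _ _ (fun _ => rfl) 63000 1000 chkM_63000 s (by omega) (by omega)
  by_cases h64000 : s < 65000
  · exact allRangeF_sound _ _ (fun _ => rfl) 64000 1000 chkM_64000 s (by omega) (by omega)
  by_cases h65000 : s < 66000
  · exact allRangeF_sound _ _ (fun _ => rfl) 65000 1000 chkM_65000 s (by omega) (by omega)
  by_cases h66000 : s < 67000
  · exact allRangeF_sound _ _ (fun _ => rfl) 66000 1000 chkM_66000 s (by omega) (by omega)
  by_cases h67000 : s < 68000
  · exact allRangeF_sound _ _ (fun _ => rfl) 67000 1000 chkM_67000 s (by omega) (by omega)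
  by_cases h68000 : s < 69000
  · exact allRangeF_sound _ _ (fun _ => rfl) 68000 1000 chkM_68000 s (by omega) (by omega)
  by_cases h69000 : s < 70000
  · exact allRangeF_sound _ _ (fun _ => rfl) 69000 1000 chkM_69000 s (by omega) (by omega)
  by_cases h70000 : s < 71000
  · exact allRangeF_sound _ _ (fun _ => rfl) 70000 1000 chkM_70000 s (by omega) (by omega)
  by_cases h71000 : s < 72000
  · exact allRangeF_sound _ _ (fun _ => rfl) 71000 1000 chkM_71000 s (by omega) (by omega)
  by_cases h72000 : s < 73000
  · exact allRangeF_sound _ _ (fun _ => rfl) 72000 1000 chkM_72000 s (by omega) (by omega)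
  by_cases h73000 : s < 74000
  · exact allRangeF_sound _ _ (fun _ => rfl) 73000 1000 chkM_73000 s (by omega) (by omega)
  by_cases h74000 : s < 75000
  · exact allRangeF_sound _ _ (fun _ => rfl) 74000 1000 chkM_74000 s (by omega) (by omega)
  by_cases h75000 : s < 76000
  · exact allRangeF_sound _ _ (fun _ => rfl) 75000 1000 chkM_75000 s (by omega) (by omega)
  by_cases h76000 : s < 77000
  · exact allRangeF_sound _ _ (fun _ => rfl) 76000 1000 chkM_76000 s (by omega) (by omega)
  by_cases h77000 : s < 78000
  · exact allRangeF_sound _ _ (fun _ => rfl) 77000 1000 chkM_77000 s (by omega) (by omega)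
  by_cases h78000 : s < 79000
  · exact allRangeF_sound _ _ (fun _ => rfl) 78000 1000 chkM_78000 s (by omega) (by omega)
  by_cases h79000 : s < 80000
  · exact allRangeF_sound _ _ (fun _ => rfl) 79000 1000 chkM_79000 s (by omega) (by omega)
  by_cases h80000 : s < 81000
  · exact allRangeF_sound _ _ (fun _ => rfl) 80000 1000 chkM_80000 s (by omega) (by omega)
  by_cases h81000 : s < 82000
  · exact allRangeF_sound _ _ (fun _ => rfl) 81000 1000 chkM_81000 s (by omega) (by omega)
  by_cases h82000 : s < 83000
  · exact allRangeF_sound _ _ (fun _ => rfl) 82000 1000 chkM_82000 s (by omega) (by omega)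
  by_cases h83000 : s < 84000
  · exact allRangeF_sound _ _ (fun _ => rfl) 83000 1000 chkM_83000 s (by omega) (by omega)
  by_cases h84000 : s < 85000
  · exact allRangeF_sound _ _ (fun _ => rfl) 84000 1000 chkM_84000 s (by omega) (by omega)
  by_cases h85000 : s < 86000
  · exact allRangeF_sound _ _ (fun _ => rfl) 85000 1000 chkM_85000 s (by omega) (by omega)
  by_cases h86000 : s < 87000
  · exact allRangeF_sound _ _ (fun _ => rfl) 86000 1000 chkM_86000 s (by omega) (by omega)
  exact allRangeF_sound _ _ (fun _ => rfl) 87000 1000 chkM_87000 s (by omega) (by omega)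

end Cfsg.Agent.Lib.Helper57.ONJ1
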