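import Cfsg.Agent.Lib.Helper57.ONJ1Defs

set_option autoImplicit false
set_option maxRecDepth 1000000
set_option linter.all false
set_option Elab.async false

namespace Cfsg.Agent.Lib.Helper57.ONJ1

open Cfsg.Agent.Lib.Helper28 Cfsg.Agent.Lib.Helper57.ONCay

theorem chkM_88000 : allRangeF chkM 88000 1000 = true := by decide +kernel
theorem chkM_89000 : allRangeF chkM 89000 1000 = true := by decide +kernel
theorem chkM_90000 : allRangeF chkM 90000 1000 = true := by decide +kernel
theorem chkM_91000 : allRangeF chkM 91000 1000 = true := by decide +kernel
theorem chkM_92000 : allRangeF chkM 92000 1000 = true := by decide +kernel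
theorem chkM_93000 : allRangeF chkM 93000 1000 = true := by decide +kernel
theorem chkM_94000 : allRangeF chkM 94000 1000 = true := by decide +kernel
theorem chkM_95000 : allRangeF chkM 95000 1000 = true := by decide +kernel
theorem chkM_96000 : allRangeF chkM 96000 1000 = true := by decide +kernel
theorem chkM_97000 : allRangeF chkM 97000 1000 = true := by decide +kernel
theorem chkM_98000 : allRangeF chkM 98000 1000 = true := by decide +kernel
theorem chkM_99000 : allRangeF chkM 99000 1000 = true := by decide +kernel
theorem chkM_100000 : allRangeF chkM 100000 1000 = true := by decide +kernel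
theorem chkM_101000 : allRangeF chkM 101000 1000 = true := by decide +kernel
theorem chkM_102000 : allRangeF chkM 102000 1000 = true := by decide +kernel
theorem chkM_103000 : allRangeF chkM 103000 1000 = true := by decide +kernel
theorem chkM_104000 : allRangeF chkM 104000 1000 = true := by decide +kernel
theorem chkM_105000 : allRangeF chkM 105000 1000 = true := by decide +kernel
theorem chkM_106000 : allRangeF chkM 106000 1000 = true := by decide +kernel
theorem chkM_107000 : allRangeF chkM 107000 1000 = true := by decide +kernel
theorem chkM_108000 : allRangeF chkM 108000 1000 = true := by decide +kernel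
theorem chkM_109000 : allRangeF chkM 109000 1000 = true := by decide +kernel
theorem chkM_110000 : allRangeF chkM 110000 1000 = true := by decide +kernel
theorem chkM_111000 : allRangeF chkM 111000 1000 = true := by decide +kernel
theorem chkM_112000 : allRangeF chkM 112000 1000 = true := by decide +kernel
theorem chkM_113000 : allRangeF chkM 113000 1000 = true := by decide +kernel
theorem chkM_114000 : allRangeF chkM 114000 1000 = true := by decide +kernel
theorem chkM_115000 : allRangeF chkM 115000 1000 = true := by decide +kernel
theorem chkM_116000 : allRangeF chkM 116000 1000 = true := by decide +kernel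
theorem chkM_117000 : allRangeF chkM 117000 1000 = true := by decide +kernel
theorem chkM_118000 : allRangeF chkM 118000 1000 = true := by decide +kernel
theorem chkM_119000 : allRangeF chkM 119000 1000 = true := by decide +kernel
theorem chkM_120000 : allRangeF chkM 120000 1000 = true := by decide +kernel
theorem chkM_121000 : allRangeF chkM 121000 1000 = true := by decide +kernel
theorem chkM_122000 : allRangeF chkM 122000 1000 = true := by decide +kernel
theorem chkM_123000 : allRangeF chkM 123000 1000 = true := by decide +kernel
theorem chkM_124000 : allRangeF chkM 124000 1000 = true := by decide +kernel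
theorem chkM_125000 : allRangeF chkM 125000 1000 = true := by decide +kernel
theorem chkM_126000 : allRangeF chkM 126000 1000 = true := by decide +kernel
theorem chkM_127000 : allRangeF chkM 127000 1000 = true := by decide +kernel
theorem chkM_128000 : allRangeF chkM 128000 1000 = true := by decide +kernel
theorem chkM_129000 : allRangeF chkM 129000 1000 = true := by decide +kernel
theorem chkM_130000 : allRangeF chkM 130000 1000 = true := by decide +kernel
theorem chkM_131000 : allRangeF chkM 131000 1000 = true := by decide +kernel

theorem chkM_file2 (s : Nat) (h1 : 88000 ≤ s) (h2 : s < 132000) : chkM s = true := by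
  by_cases h88000 : s < 89000
  · exact allRangeF_sound _ _ (fun _ => rfl) 88000 1000 chkM_88000 s (by omega) (by omega)
  by_cases h89000 : s < 90000
  · exact allRangeF_sound _ _ (fun _ => rfl) 89000 1000 chkM_89000 s (by omega) (by omega)
  by_cases h90000 : s < 91000
  · exact allRangeF_sound _ _ (fun _ => rfl) 90000 1000 chkM_90000 s (by omega) (by omega)
  by_cases h91000 : s < 92000
  · exact allRangeF_sound _ _ (fun _ => rfl) 91000 1000 chkM_91000 s (by omega) (by omega)
  by_cases h92000 : s < 93000
  · exact allRangeF_sound _ _ (fun _ => rfl) 92000 1000 chkM_92000 s (by omega) (by omega)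
  by_cases h93000 : s < 94000
  · exact allRangeF_sound _ _ (fun _ => rfl) 93000 1000 chkM_93000 s (by omega) (by omega)
  by_cases h94000 : s < 95000
  · exact allRangeF_sound _ _ (fun _ => rfl) 94000 1000 chkM_94000 s (by omega) (by omega)
  by_cases h95000 : s < 96000
  · exact allRangeF_sound _ _ (fun _ => rfl) 95000 1000 chkM_95000 s (by omega) (by omega)
  by_cases h96000 : s < 97000
  · exact allRangeF_sound _ _ (fun _ => rfl) 96000 1000 chkM_96000 s (by omega) (by omega)
  by_cases h97000 : s < 98000
  · exact allRangeF_sound _ _ (fun _ => rfl) 97000 1000 chkM_97000 s (by omega) (by omega)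
  by_cases h98000 : s < 99000
  · exact allRangeF_sound _ _ (fun _ => rfl) 98000 1000 chkM_98000 s (by omega) (by omega)
  by_cases h99000 : s < 100000
  · exact allRangeF_sound _ _ (fun _ => rfl) 99000 1000 chkM_99000 s (by omega) (by omega)
  by_cases h100000 : s < 101000
  · exact allRangeF_sound _ _ (fun _ => rfl) 100000 1000 chkM_100000 s (by omega) (by omega)
  by_cases h101000 : s < 102000
  · exact allRangeF_sound _ _ (fun _ => rfl) 101000 1000 chkM_101000 s (by omega) (by omega)
  by_cases h102000 : s < 103000
  · exact allRangeF_sound _ _ (fun _ => rfl) 102000 1000 chkM_102000 s (by omega) (by omega)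
  by_cases h103000 : s < 104000
  · exact allRangeF_sound _ _ (fun _ => rfl) 103000 1000 chkM_103000 s (by omega) (by omega)
  by_cases h104000 : s < 105000
  · exact allRangeF_sound _ _ (fun _ => rfl) 104000 1000 chkM_104000 s (by omega) (by omega)
  by_cases h105000 : s < 106000
  · exact allRangeF_sound _ _ (fun _ => rfl) 105000 1000 chkM_105000 s (by omega) (by omega)
  by_cases h106000 : s < 107000
  · exact allRangeF_sound _ _ (fun _ => rfl) 106000 1000 chkM_106000 s (by omega) (by omega)
  by_cases h107000 : s < 108000
  · exact allRangeF_sound _ _ (fun _ => rfl) 107000 1000 chkM_107000 s (by omega) (by omega)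
  by_cases h108000 : s < 109000
  · exact allRangeF_sound _ _ (fun _ => rfl) 108000 1000 chkM_108000 s (by omega) (by omega)
  by_cases h109000 : s < 110000
  · exact allRangeF_sound _ _ (fun _ => rfl) 109000 1000 chkM_109000 s (by omega) (by omega)
  by_cases h110000 : s < 111000
  · exact allRangeF_sound _ _ (fun _ => rfl) 110000 1000 chkM_110000 s (by omega) (by omega)
  by_cases h111000 : s < 112000
  · exact allRangeF_sound _ _ (fun _ => rfl) 111000 1000 chkM_111000 s (by omega) (by omega)
  by_cases h112000 : s < 113000
  · exact allRangeF_sound _ _ (fun _ => rfl) 112000 1000 chkM_112000 s (by omega) (by omega)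
  by_cases h113000 : s < 114000
  · exact allRangeF_sound _ _ (fun _ => rfl) 113000 1000 chkM_113000 s (by omega) (by omega)
  by_cases h114000 : s < 115000
  · exact allRangeF_sound _ _ (fun _ => rfl) 114000 1000 chkM_114000 s (by omega) (by omega)
  by_cases h115000 : s < 116000
  · exact allRangeF_sound _ _ (fun _ => rfl) 115000 1000 chkM_115000 s (by omega) (by omega)
  by_cases h116000 : s < 117000
  · exact allRangeF_sound _ _ (fun _ => rfl) 116000 1000 chkM_116000 s (by omega) (by omega)
  by_cases h117000 : s < 118000
  · exact allRangeF_sound _ _ (fun _ => rfl) 117000 1000 chkM_117000 s (by omega) (by omega)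
  by_cases h118000 : s < 119000
  · exact allRangeF_sound _ _ (fun _ => rfl) 118000 1000 chkM_118000 s (by omega) (by omega)
  by_cases h119000 : s < 120000
  · exact allRangeF_sound _ _ (fun _ => rfl) 119000 1000 chkM_119000 s (by omega) (by omega)
  by_cases h120000 : s < 121000
  · exact allRangeF_sound _ _ (fun _ => rfl) 120000 1000 chkM_120000 s (by omega) (by omega)
  by_cases h121000 : s < 122000
  · exact allRangeF_sound _ _ (fun _ => rfl) 121000 1000 chkM_121000 s (by omega) (by omega)
  by_cases h122000 : s < 123000
  · exact allRangeF_sound _ _ (fun _ => rfl) 122000 1000 chkM_122000 s (by omega) (by omega)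
  by_cases h123000 : s < 124000
  · exact allRangeF_sound _ _ (fun _ => rfl) 123000 1000 chkM_123000 s (by omega) (by omega)
  by_cases h124000 : s < 125000
  · exact allRangeF_sound _ _ (fun _ => rfl) 124000 1000 chkM_124000 s (by omega) (by omega)
  by_cases h125000 : s < 126000
  · exact allRangeF_sound _ _ (fun _ => rfl) 125000 1000 chkM_125000 s (by omega) (by omega)
  by_cases h126000 : s < 127000
  · exact allRangeF_sound _ _ (fun _ => rfl) 126000 1000 chkM_126000 s (by omega) (by omega)
  by_cases h127000 : s < 128000
  · exact allRangeF_sound _ _ (fun _ => rfl) 127000 1000 chkM_127000 s (by omega) (by omega)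
  by_cases h128000 : s < 129000
  · exact allRangeF_sound _ _ (fun _ => rfl) 128000 1000 chkM_128000 s (by omega) (by omega)
  by_cases h129000 : s < 130000
  · exact allRangeF_sound _ _ (fun _ => rfl) 129000 1000 chkM_129000 s (by omega) (by omega)
  by_cases h130000 : s < 131000
  · exact allRangeF_sound _ _ (fun _ => rfl) 130000 1000 chkM_130000 s (by omega) (by omega)
  exact allRangeF_sound _ _ (fun _ => rfl) 131000 1000 chkM_131000 s (by omega) (by omega)

end Cfsg.Agent.Lib.Helper57.ONJ1
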