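import Cfsg.Agent.Lib.Helper57.ONJ1Defs

set_option autoImplicit false
set_option maxRecDepth 1000000
set_option linter.all false
set_option Elab.async false

namespace Cfsg.Agent.Lib.Helper57.ONJ1

open Cfsg.Agent.Lib.Helper28 Cfsg.Agent.Lib.Helper57.ONCay

theorem chkM_132000 : allRangeF chkM 132000 1000 = true := by decide +kernel
theorem chkM_133000 : allRangeF chkM 133000 1000 = true := by decide +kernel
theorem chkM_134000 : allRangeF chkM 134000 1000 = true := by decide +kernel
theorem chkM_135000 : allRangeF chkM 135000 1000 = true := by decide +kernel
theorem chkM_136000 : allRangeF chkM 136000 1000 = true := by decide +kernel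
theorem chkM_137000 : allRangeF chkM 137000 1000 = true := by decide +kernel
theorem chkM_138000 : allRangeF chkM 138000 1000 = true := by decide +kernel
theorem chkM_139000 : allRangeF chkM 139000 1000 = true := by decide +kernel
theorem chkM_140000 : allRangeF chkM 140000 1000 = true := by decide +kernel
theorem chkM_141000 : allRangeF chkM 141000 1000 = true := by decide +kernel
theorem chkM_142000 : allRangeF chkM 142000 1000 = true := by decide +kernel
theorem chkM_143000 : allRangeF chkM 143000 1000 = true := by decide +kernel
theorem chkM_144000 : allRangeF chkM 144000 1000 = true := by decide +kernel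
theorem chkM_145000 : allRangeF chkM 145000 1000 = true := by decide +kernel
theorem chkM_146000 : allRangeF chkM 146000 1000 = true := by decide +kernel
theorem chkM_147000 : allRangeF chkM 147000 1000 = true := by decide +kernel
theorem chkM_148000 : allRangeF chkM 148000 1000 = true := by decide +kernel
theorem chkM_149000 : allRangeF chkM 149000 1000 = true := by decide +kernel
theorem chkM_150000 : allRangeF chkM 150000 1000 = true := by decide +kernel
theorem chkM_151000 : allRangeF chkM 151000 1000 = true := by decide +kernel
theorem chkM_152000 : allRangeF chkM 152000 1000 = true := by decide +kernel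
theorem chkM_153000 : allRangeF chkM 153000 1000 = true := by decide +kernel
theorem chkM_154000 : allRangeF chkM 154000 1000 = true := by decide +kernel
theorem chkM_155000 : allRangeF chkM 155000 1000 = true := by decide +kernel
theorem chkM_156000 : allRangeF chkM 156000 1000 = true := by decide +kernel
theorem chkM_157000 : allRangeF chkM 157000 1000 = true := by decide +kernel
theorem chkM_158000 : allRangeF chkM 158000 1000 = true := by decide +kernel
theorem chkM_159000 : allRangeF chkM 159000 1000 = true := by decide +kernel
theorem chkM_160000 : allRangeF chkM 160000 1000 = true := by decide +kernel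
theorem chkM_161000 : allRangeF chkM 161000 1000 = true := by decide +kernel
theorem chkM_162000 : allRangeF chkM 162000 1000 = true := by decide +kernel
theorem chkM_163000 : allRangeF chkM 163000 1000 = true := by decide +kernel
theorem chkM_164000 : allRangeF chkM 164000 1000 = true := by decide +kernel
theorem chkM_165000 : allRangeF chkM 165000 1000 = true := by decide +kernel
theorem chkM_166000 : allRangeF chkM 166000 1000 = true := by decide +kernel
theorem chkM_167000 : allRangeF chkM 167000 1000 = true := by decide +kernel
theorem chkM_168000 : allRangeF chkM 168000 1000 = true := by decide +kernel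
theorem chkM_169000 : allRangeF chkM 169000 1000 = true := by decide +kernel
theorem chkM_170000 : allRangeF chkM 170000 1000 = true := by decide +kernel
theorem chkM_171000 : allRangeF chkM 171000 1000 = true := by decide +kernel
theorem chkM_172000 : allRangeF chkM 172000 1000 = true := by decide +kernel
theorem chkM_173000 : allRangeF chkM 173000 1000 = true := by decide +kernel
theorem chkM_174000 : allRangeF chkM 174000 1000 = true := by decide +kernel
theorem chkM_175000 : allRangeF chkM 175000 560 = true := by decide +kernel

theorem chkM_file3 (s : Nat) (h1 : 132000 ≤ s) (h2 : s < 175560) : chkM s = true := by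
  by_cases h132000 : s < 133000
  · exact allRangeF_sound _ _ (fun _ => rfl) 132000 1000 chkM_132000 s (by omega) (by omega)
  by_cases h133000 : s < 134000
  · exact allRangeF_sound _ _ (fun _ => rfl) 133000 1000 chkM_133000 s (by omega) (by omega)
  by_cases h134000 : s < 135000
  · exact allRangeF_sound _ _ (fun _ => rfl) 134000 1000 chkM_134000 s (by omega) (by omega)
  by_cases h135000 : s < 136000
  · exact allRangeF_sound _ _ (fun _ => rfl) 135000 1000 chkM_135000 s (by omega) (by omega)
  by_cases h136000 : s < 137000
  · exact allRangeF_sound _ _ (fun _ => rfl) 136000 1000 chkM_136000 s (by omega) (by omega)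
  by_cases h137000 : s < 138000
  · exact allRangeF_sound _ _ (fun _ => rfl) 137000 1000 chkM_137000 s (by omega) (by omega)
  by_cases h138000 : s < 139000
  · exact allRangeF_sound _ _ (fun _ => rfl) 138000 1000 chkM_138000 s (by omega) (by omega)
  by_cases h139000 : s < 140000
  · exact allRangeF_sound _ _ (fun _ => rfl) 139000 1000 chkM_139000 s (by omega) (by omega)
  by_cases h140000 : s < 141000
  · exact allRangeF_sound _ _ (fun _ => rfl) 140000 1000 chkM_140000 s (by omega) (by omega)
  by_cases h141000 : s < 142000
  · exact allRangeF_sound _ _ (fun _ => rfl) 141000 1000 chkM_141000 s (by omega) (by omega)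
  by_cases h142000 : s < 143000
  · exact allRangeF_sound _ _ (fun _ => rfl) 142000 1000 chkM_142000 s (by omega) (by omega)
  by_cases h143000 : s < 144000
  · exact allRangeF_sound _ _ (fun _ => rfl) 143000 1000 chkM_143000 s (by omega) (by omega)
  by_cases h144000 : s < 145000
  · exact allRangeF_sound _ _ (fun _ => rfl) 144000 1000 chkM_144000 s (by omega) (by omega)
  by_cases h145000 : s < 146000
  · exact allRangeF_sound _ _ (fun _ => rfl) 145000 1000 chkM_145000 s (by omega) (by omega)
  by_cases h146000 : s < 147000
  · exact allRangeF_sound _ _ (fun _ => rfl) 146000 1000 chkM_146000 s (by omega) (by omega)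
  by_cases h147000 : s < 148000
  · exact allRangeF_sound _ _ (fun _ => rfl) 147000 1000 chkM_147000 s (by omega) (by omega)
  by_cases h148000 : s < 149000
  · exact allRangeF_sound _ _ (fun _ => rfl) 148000 1000 chkM_148000 s (by omega) (by omega)
  by_cases h149000 : s < 150000
  · exact allRangeF_sound _ _ (fun _ => rfl) 149000 1000 chkM_149000 s (by omega) (by omega)
  by_cases h150000 : s < 151000
  · exact allRangeF_sound _ _ (fun _ => rfl) 150000 1000 chkM_150000 s (by omega) (by omega)
  by_cases h151000 : s < 152000
  · exact allRangeF_sound _ _ (fun _ => rfl) 151000 1000 chkM_151000 s (by omega) (by omega)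
  by_cases h152000 : s < 153000
  · exact allRangeF_sound _ _ (fun _ => rfl) 152000 1000 chkM_152000 s (by omega) (by omega)
  by_cases h153000 : s < 154000
  · exact allRangeF_sound _ _ (fun _ => rfl) 153000 1000 chkM_153000 s (by omega) (by omega)
  by_cases h154000 : s < 155000
  · exact allRangeF_sound _ _ (fun _ => rfl) 154000 1000 chkM_154000 s (by omega) (by omega)
  by_cases h155000 : s < 156000
  · exact allRangeF_sound _ _ (fun _ => rfl) 155000 1000 chkM_155000 s (by omega) (by omega)
  by_cases h156000 : s < 157000
  · exact allRangeF_sound _ _ (fun _ => rfl) 156000 1000 chkM_156000 s (by omega) (by omega)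
  by_cases h157000 : s < 158000
  · exact allRangeF_sound _ _ (fun _ => rfl) 157000 1000 chkM_157000 s (by omega) (by omega)
  by_cases h158000 : s < 159000
  · exact allRangeF_sound _ _ (fun _ => rfl) 158000 1000 chkM_158000 s (by omega) (by omega)
  by_cases h159000 : s < 160000
  · exact allRangeF_sound _ _ (fun _ => rfl) 159000 1000 chkM_159000 s (by omega) (by omega)
  by_cases h160000 : s < 161000
  · exact allRangeF_sound _ _ (fun _ => rfl) 160000 1000 chkM_160000 s (by omega) (by omega)
  by_cases h161000 : s < 162000
  · exact allRangeF_sound _ _ (fun _ => rfl) 161000 1000 chkM_161000 s (by omega) (by omega)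
  by_cases h162000 : s < 163000
  · exact allRangeF_sound _ _ (fun _ => rfl) 162000 1000 chkM_162000 s (by omega) (by omega)
  by_cases h163000 : s < 164000
  · exact allRangeF_sound _ _ (fun _ => rfl) 163000 1000 chkM_163000 s (by omega) (by omega)
  by_cases h164000 : s < 165000
  · exact allRangeF_sound _ _ (fun _ => rfl) 164000 1000 chkM_164000 s (by omega) (by omega)
  by_cases h165000 : s < 166000
  · exact allRangeF_sound _ _ (fun _ => rfl) 165000 1000 chkM_165000 s (by omega) (by omega)
  by_cases h166000 : s < 167000
  · exact allRangeF_sound _ _ (fun _ => rfl) 166000 1000 chkM_166000 s (by omega) (by omega)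
  by_cases h167000 : s < 168000
  · exact allRangeF_sound _ _ (fun _ => rfl) 167000 1000 chkM_167000 s (by omega) (by omega)
  by_cases h168000 : s < 169000
  · exact allRangeF_sound _ _ (fun _ => rfl) 168000 1000 chkM_168000 s (by omega) (by omega)
  by_cases h169000 : s < 170000
  · exact allRangeF_sound _ _ (fun _ => rfl) 169000 1000 chkM_169000 s (by omega) (by omega)
  by_cases h170000 : s < 171000
  · exact allRangeF_sound _ _ (fun _ => rfl) 170000 1000 chkM_170000 s (by omega) (by omega)
  by_cases h171000 : s < 172000
  · exact allRangeF_sound _ _ (fun _ => rfl) 171000 1000 chkM_171000 s (by omega) (by omega)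
  by_cases h172000 : s < 173000
  · exact allRangeF_sound _ _ (fun _ => rfl) 172000 1000 chkM_172000 s (by omega) (by omega)
  by_cases h173000 : s < 174000
  · exact allRangeF_sound _ _ (fun _ => rfl) 173000 1000 chkM_173000 s (by omega) (by omega)
  by_cases h174000 : s < 175000
  · exact allRangeF_sound _ _ (fun _ => rfl) 174000 1000 chkM_174000 s (by omega) (by omega)
  exact allRangeF_sound _ _ (fun _ => rfl) 175000 560 chkM_175000 s (by omega) (by omega)

end Cfsg.Agent.Lib.Helper57.ONJ1
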