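import Cfsg.Agent.Lib.Helper57.ONJ1Defs
import Cfsg.Agent.Lib.Helper57.ONJ1ChkK0
import Cfsg.Agent.Lib.Helper57.ONJ1ChkK1
import Cfsg.Agent.Lib.Helper57.ONJ1ChkK2
import Cfsg.Agent.Lib.Helper57.ONJ1ChkK3
import Cfsg.Agent.Lib.Helper57.ONJ1ChkK4
import Cfsg.Agent.Lib.Helper57.ONJ1ChkK5
import Cfsg.Agent.Lib.Helper57.ONJ1ChkK6
import Cfsg.Agent.Lib.Helper57.ONJ1ChkK7
import Cfsg.Agent.Lib.Helper57.ONJ1ChkK8
import Cfsg.Agent.Lib.Helper57.ONJ1ChkK9
import Cfsg.Agent.Lib.Helper57.ONJ1ChkK10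
import Cfsg.Agent.Lib.Helper57.ONJ1ChkK11
import Cfsg.Agent.Lib.Helper57.ONJ1ChkM0
import Cfsg.Agent.Lib.Helper57.ONJ1ChkM1
import Cfsg.Agent.Lib.Helper57.ONJ1ChkM2
import Cfsg.Agent.Lib.Helper57.ONJ1ChkM3
set_option autoImplicit false
set_option maxRecDepth 1000000
set_option linter.all false
set_option Elab.async false

namespace Cfsg.Agent.Lib.Helper57.ONJ1

open Cfsg.Agent.Lib.Helper28 Cfsg.Agent.Lib.Helper57.ONCay

theorem chkK_all (s : Nat) (hs : s < 175560) : chkK wA wB 175560 tPA tPB tQB tKK s = true := by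
  by_cases h0 : s < 14700
  · exact chkK_file0 s (by omega) (by omega)
  by_cases h1 : s < 29400
  · exact chkK_file1 s (by omega) (by omega)
  by_cases h2 : s < 44100
  · exact chkK_file2 s (by omega) (by omega)
  by_cases h3 : s < 58800
  · exact chkK_file3 s (by omega) (by omega)
  by_cases h4 : s < 73500
  · exact chkK_file4 s (by omega) (by omega)
  by_cases h5 : s < 88200
  · exact chkK_file5 s (by omega) (by omega)
  by_cases h6 : s < 102900
  · exact chkK_file6 s (by omega) (by omega)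
  by_cases h7 : s < 117600
  · exact chkK_file7 s (by omega) (by omega)
  by_cases h8 : s < 132300
  · exact chkK_file8 s (by omega) (by omega)
  by_cases h9 : s < 147000
  · exact chkK_file9 s (by omega) (by omega)
  by_cases h10 : s < 161700
  · exact chkK_file10 s (by omega) (by omega)
  exact chkK_file11 s (by omega) (by omega)

theorem chkM_all (s : Nat) (hs : s < 175560) : chkM s = true := by
  by_cases h0 : s < 44000
  · exact chkM_file0 s (by omega) (by omega)
  by_cases h1 : s < 88000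
  · exact chkM_file1 s (by omega) (by omega)
  by_cases h2 : s < 132000
  · exact chkM_file2 s (by omega) (by omega)
  exact chkM_file3 s (by omega) (by omega)

theorem base_ok : co (tKK 0) 0 = 0 ∧ co (tKK 0) 1 = 1 ∧ co (tKK 0) 2 = 95603 := by decide +kernel

theorem wA_lt : ∀ l ∈ wA, l < 14 := by decide
theorem wB_lt : ∀ l ∈ wB, l < 14 := by decide

end Cfsg.Agent.Lib.Helper57.ONJ1
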