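import Cfsg.Agent.Lib.Helper57.ONJ1Defs

set_option autoImplicit false
set_option maxRecDepth 1000000
set_option linter.all false
set_option Elab.async false

namespace Cfsg.Agent.Lib.Helper57.ONJ1

open Cfsg.Agent.Lib.Helper28 Cfsg.Agent.Lib.Helper57.ONCay

theorem chkK_147000 : allRangeF (chkK wA wB 175560 tPA tPB tQB tKK) 147000 300 = true := by decide +kernel
theorem chkK_147300 : allRangeF (chkK wA wB 175560 tPA tPB tQB tKK) 147300 300 = true := by decide +kernel
theorem chkK_147600 : allRangeF (chkK wA wB 175560 tPA tPB tQB tKK) 147600 300 = true := by decide +kernel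
theorem chkK_147900 : allRangeF (chkK wA wB 175560 tPA tPB tQB tKK) 147900 300 = true := by decide +kernel
theorem chkK_148200 : allRangeF (chkK wA wB 175560 tPA tPB tQB tKK) 148200 300 = true := by decide +kernel
theorem chkK_148500 : allRangeF (chkK wA wB 175560 tPA tPB tQB tKK) 148500 300 = true := by decide +kernel
theorem chkK_148800 : allRangeF (chkK wA wB 175560 tPA tPB tQB tKK) 148800 300 = true := by decide +kernel
theorem chkK_149100 : allRangeF (chkK wA wB 175560 tPA tPB tQB tKK) 149100 300 = true := by decide +kernel
theorem chkK_149400 : allRangeF (chkK wA wB 175560 tPA tPB tQB tKK) 149400 300 = true := by decide +kernel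
theorem chkK_149700 : allRangeF (chkK wA wB 175560 tPA tPB tQB tKK) 149700 300 = true := by decide +kernel
theorem chkK_150000 : allRangeF (chkK wA wB 175560 tPA tPB tQB tKK) 150000 300 = true := by decide +kernel
theorem chkK_150300 : allRangeF (chkK wA wB 175560 tPA tPB tQB tKK) 150300 300 = true := by decide +kernel
theorem chkK_150600 : allRangeF (chkK wA wB 175560 tPA tPB tQB tKK) 150600 300 = true := by decide +kernel
theorem chkK_150900 : allRangeF (chkK wA wB 175560 tPA tPB tQB tKK) 150900 300 = true := by decide +kernel
theorem chkK_151200 : allRangeF (chkK wA wB 175560 tPA tPB tQB tKK) 151200 300 = true := by decide +kernel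
theorem chkK_151500 : allRangeF (chkK wA wB 175560 tPA tPB tQB tKK) 151500 300 = true := by decide +kernel
theorem chkK_151800 : allRangeF (chkK wA wB 175560 tPA tPB tQB tKK) 151800 300 = true := by decide +kernel
theorem chkK_152100 : allRangeF (chkK wA wB 175560 tPA tPB tQB tKK) 152100 300 = true := by decide +kernel
theorem chkK_152400 : allRangeF (chkK wA wB 175560 tPA tPB tQB tKK) 152400 300 = true := by decide +kernel
theorem chkK_152700 : allRangeF (chkK wA wB 175560 tPA tPB tQB tKK) 152700 300 = true := by decide +kernel
theorem chkK_153000 : allRangeF (chkK wA wB 175560 tPA tPB tQB tKK) 153000 300 = true := by decide +kernel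
theorem chkK_153300 : allRangeF (chkK wA wB 175560 tPA tPB tQB tKK) 153300 300 = true := by decide +kernel
theorem chkK_153600 : allRangeF (chkK wA wB 175560 tPA tPB tQB tKK) 153600 300 = true := by decide +kernel
theorem chkK_153900 : allRangeF (chkK wA wB 175560 tPA tPB tQB tKK) 153900 300 = true := by decide +kernel
theorem chkK_154200 : allRangeF (chkK wA wB 175560 tPA tPB tQB tKK) 154200 300 = true := by decide +kernel
theorem chkK_154500 : allRangeF (chkK wA wB 175560 tPA tPB tQB tKK) 154500 300 = true := by decide +kernel
theorem chkK_154800 : allRangeF (chkK wA wB 175560 tPA tPB tQB tKK) 154800 300 = true := by decide +kernel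
theorem chkK_155100 : allRangeF (chkK wA wB 175560 tPA tPB tQB tKK) 155100 300 = true := by decide +kernel
theorem chkK_155400 : allRangeF (chkK wA wB 175560 tPA tPB tQB tKK) 155400 300 = true := by decide +kernel
theorem chkK_155700 : allRangeF (chkK wA wB 175560 tPA tPB tQB tKK) 155700 300 = true := by decide +kernel
theorem chkK_156000 : allRangeF (chkK wA wB 175560 tPA tPB tQB tKK) 156000 300 = true := by decide +kernel
theorem chkK_156300 : allRangeF (chkK wA wB 175560 tPA tPB tQB tKK) 156300 300 = true := by decide +kernel
theorem chkK_156600 : allRangeF (chkK wA wB 175560 tPA tPB tQB tKK) 156600 300 = true := by decide +kernel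
theorem chkK_156900 : allRangeF (chkK wA wB 175560 tPA tPB tQB tKK) 156900 300 = true := by decide +kernel
theorem chkK_157200 : allRangeF (chkK wA wB 175560 tPA tPB tQB tKK) 157200 300 = true := by decide +kernel
theorem chkK_157500 : allRangeF (chkK wA wB 175560 tPA tPB tQB tKK) 157500 300 = true := by decide +kernel
theorem chkK_157800 : allRangeF (chkK wA wB 175560 tPA tPB tQB tKK) 157800 300 = true := by decide +kernel
theorem chkK_158100 : allRangeF (chkK wA wB 175560 tPA tPB tQB tKK) 158100 300 = true := by decide +kernel
theorem chkK_158400 : allRangeF (chkK wA wB 175560 tPA tPB tQB tKK) 158400 300 = true := by decide +kernel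
theorem chkK_158700 : allRangeF (chkK wA wB 175560 tPA tPB tQB tKK) 158700 300 = true := by decide +kernel
theorem chkK_159000 : allRangeF (chkK wA wB 175560 tPA tPB tQB tKK) 159000 300 = true := by decide +kernel
theorem chkK_159300 : allRangeF (chkK wA wB 175560 tPA tPB tQB tKK) 159300 300 = true := by decide +kernel
theorem chkK_159600 : allRangeF (chkK wA wB 175560 tPA tPB tQB tKK) 159600 300 = true := by decide +kernel
theorem chkK_159900 : allRangeF (chkK wA wB 175560 tPA tPB tQB tKK) 159900 300 = true := by decide +kernel
theorem chkK_160200 : allRangeF (chkK wA wB 175560 tPA tPB tQB tKK) 160200 300 = true := by decide +kernel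
theorem chkK_160500 : allRangeF (chkK wA wB 175560 tPA tPB tQB tKK) 160500 300 = true := by decide +kernel
theorem chkK_160800 : allRangeF (chkK wA wB 175560 tPA tPB tQB tKK) 160800 300 = true := by decide +kernel
theorem chkK_161100 : allRangeF (chkK wA wB 175560 tPA tPB tQB tKK) 161100 300 = true := by decide +kernel
theorem chkK_161400 : allRangeF (chkK wA wB 175560 tPA tPB tQB tKK) 161400 300 = true := by decide +kernel

theorem chkK_file10 (s : Nat) (h1 : 147000 ≤ s) (h2 : s < 161700) : chkK wA wB 175560 tPA tPB tQB tKK s = true := by
  by_cases h147000 : s < 147300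
  · exact allRangeF_sound _ _ (fun _ => rfl) 147000 300 chkK_147000 s (by omega) (by omega)
  by_cases h147300 : s < 147600
  · exact allRangeF_sound _ _ (fun _ => rfl) 147300 300 chkK_147300 s (by omega) (by omega)
  by_cases h147600 : s < 147900
  · exact allRangeF_sound _ _ (fun _ => rfl) 147600 300 chkK_147600 s (by omega) (by omega)
  by_cases h147900 : s < 148200
  · exact allRangeF_sound _ _ (fun _ => rfl) 147900 300 chkK_147900 s (by omega) (by omega)
  by_cases h148200 : s < 148500
  · exact allRangeF_sound _ _ (fun _ => rfl) 148200 300 chkK_148200 s (by omega) (by omega)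
  by_cases h148500 : s < 148800
  · exact allRangeF_sound _ _ (fun _ => rfl) 148500 300 chkK_148500 s (by omega) (by omega)
  by_cases h148800 : s < 149100
  · exact allRangeF_sound _ _ (fun _ => rfl) 148800 300 chkK_148800 s (by omega) (by omega)
  by_cases h149100 : s < 149400
  · exact allRangeF_sound _ _ (fun _ => rfl) 149100 300 chkK_149100 s (by omega) (by omega)
  by_cases h149400 : s < 149700
  · exact allRangeF_sound _ _ (fun _ => rfl) 149400 300 chkK_149400 s (by omega) (by omega)
  by_cases h149700 : s < 150000
  · exact allRangeF_sound _ _ (fun _ => rfl) 149700 300 chkK_149700 s (by omega) (by omega)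
  by_cases h150000 : s < 150300
  · exact allRangeF_sound _ _ (fun _ => rfl) 150000 300 chkK_150000 s (by omega) (by omega)
  by_cases h150300 : s < 150600
  · exact allRangeF_sound _ _ (fun _ => rfl) 150300 300 chkK_150300 s (by omega) (by omega)
  by_cases h150600 : s < 150900
  · exact allRangeF_sound _ _ (fun _ => rfl) 150600 300 chkK_150600 s (by omega) (by omega)
  by_cases h150900 : s < 151200
  · exact allRangeF_sound _ _ (fun _ => rfl) 150900 300 chkK_150900 s (by omega) (by omega)
  by_cases h151200 : s < 151500
  · exact allRangeF_sound _ _ (fun _ => rfl) 151200 300 chkK_151200 s (by omega) (by omega)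
  by_cases h151500 : s < 151800
  · exact allRangeF_sound _ _ (fun _ => rfl) 151500 300 chkK_151500 s (by omega) (by omega)
  by_cases h151800 : s < 152100
  · exact allRangeF_sound _ _ (fun _ => rfl) 151800 300 chkK_151800 s (by omega) (by omega)
  by_cases h152100 : s < 152400
  · exact allRangeF_sound _ _ (fun _ => rfl) 152100 300 chkK_152100 s (by omega) (by omega)
  by_cases h152400 : s < 152700
  · exact allRangeF_sound _ _ (fun _ => rfl) 152400 300 chkK_152400 s (by omega) (by omega)
  by_cases h152700 : s < 153000
  · exact allRangeF_sound _ _ (fun _ => rfl) 152700 300 chkK_152700 s (by omega) (by omega)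
  by_cases h153000 : s < 153300
  · exact allRangeF_sound _ _ (fun _ => rfl) 153000 300 chkK_153000 s (by omega) (by omega)
  by_cases h153300 : s < 153600
  · exact allRangeF_sound _ _ (fun _ => rfl) 153300 300 chkK_153300 s (by omega) (by omega)
  by_cases h153600 : s < 153900
  · exact allRangeF_sound _ _ (fun _ => rfl) 153600 300 chkK_153600 s (by omega) (by omega)
  by_cases h153900 : s < 154200
  · exact allRangeF_sound _ _ (fun _ => rfl) 153900 300 chkK_153900 s (by omega) (by omega)
  by_cases h154200 : s < 154500
  · exact allRangeF_sound _ _ (fun _ => rfl) 154200 300 chkK_154200 s (by omega) (by omega)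
  by_cases h154500 : s < 154800
  · exact allRangeF_sound _ _ (fun _ => rfl) 154500 300 chkK_154500 s (by omega) (by omega)
  by_cases h154800 : s < 155100
  · exact allRangeF_sound _ _ (fun _ => rfl) 154800 300 chkK_154800 s (by omega) (by omega)
  by_cases h155100 : s < 155400
  · exact allRangeF_sound _ _ (fun _ => rfl) 155100 300 chkK_155100 s (by omega) (by omega)
  by_cases h155400 : s < 155700
  · exact allRangeF_sound _ _ (fun _ => rfl) 155400 300 chkK_155400 s (by omega) (by omega)
  by_cases h155700 : s < 156000
  · exact allRangeF_sound _ _ (fun _ => rfl) 155700 300 chkK_155700 s (by omega) (by omega)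
  by_cases h156000 : s < 156300
  · exact allRangeF_sound _ _ (fun _ => rfl) 156000 300 chkK_156000 s (by omega) (by omega)
  by_cases h156300 : s < 156600
  · exact allRangeF_sound _ _ (fun _ => rfl) 156300 300 chkK_156300 s (by omega) (by omega)
  by_cases h156600 : s < 156900
  · exact allRangeF_sound _ _ (fun _ => rfl) 156600 300 chkK_156600 s (by omega) (by omega)
  by_cases h156900 : s < 157200
  · exact allRangeF_sound _ _ (fun _ => rfl) 156900 300 chkK_156900 s (by omega) (by omega)
  by_cases h157200 : s < 157500
  · exact allRangeF_sound _ _ (fun _ => rfl) 157200 300 chkK_157200 s (by omega) (by omega)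
  by_cases h157500 : s < 157800
  · exact allRangeF_sound _ _ (fun _ => rfl) 157500 300 chkK_157500 s (by omega) (by omega)
  by_cases h157800 : s < 158100
  · exact allRangeF_sound _ _ (fun _ => rfl) 157800 300 chkK_157800 s (by omega) (by omega)
  by_cases h158100 : s < 158400
  · exact allRangeF_sound _ _ (fun _ => rfl) 158100 300 chkK_158100 s (by omega) (by omega)
  by_cases h158400 : s < 158700
  · exact allRangeF_sound _ _ (fun _ => rfl) 158400 300 chkK_158400 s (by omega) (by omega)
  by_cases h158700 : s < 159000
  · exact allRangeF_sound _ _ (fun _ => rfl) 158700 300 chkK_158700 s (by omega) (by omega)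
  by_cases h159000 : s < 159300
  · exact allRangeF_sound _ _ (fun _ => rfl) 159000 300 chkK_159000 s (by omega) (by omega)
  by_cases h159300 : s < 159600
  · exact allRangeF_sound _ _ (fun _ => rfl) 159300 300 chkK_159300 s (by omega) (by omega)
  by_cases h159600 : s < 159900
  · exact allRangeF_sound _ _ (fun _ => rfl) 159600 300 chkK_159600 s (by omega) (by omega)
  by_cases h159900 : s < 160200
  · exact allRangeF_sound _ _ (fun _ => rfl) 159900 300 chkK_159900 s (by omega) (by omega)
  by_cases h160200 : s < 160500
  · exact allRangeF_sound _ _ (fun _ => rfl) 160200 300 chkK_160200 s (by omega) (by omega)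
  by_cases h160500 : s < 160800
  · exact allRangeF_sound _ _ (fun _ => rfl) 160500 300 chkK_160500 s (by omega) (by omega)
  by_cases h160800 : s < 161100
  · exact allRangeF_sound _ _ (fun _ => rfl) 160800 300 chkK_160800 s (by omega) (by omega)
  by_cases h161100 : s < 161400
  · exact allRangeF_sound _ _ (fun _ => rfl) 161100 300 chkK_161100 s (by omega) (by omega)
  exact allRangeF_sound _ _ (fun _ => rfl) 161400 300 chkK_161400 s (by omega) (by omega)

end Cfsg.Agent.Lib.Helper57.ONJ1
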