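import Cfsg.Agent.Lib.Helper57.ONJ1Data
import Cfsg.Agent.Lib.Helper57.ONCay
import Cfsg.Agent.Lib.Helper57.J1Line

set_option autoImplicit false
set_option maxRecDepth 1000000
set_option linter.all false

namespace Cfsg.Agent.Lib.Helper57.ONJ1

open Cfsg.Agent.Lib.Helper28 Cfsg.Agent.Lib.Helper57.ONCay Cfsg.Agent.Lib.Helper57.J1

/-- the inverse of the second permutation (it has order 3) -/
noncomputable def tQB (s : Nat) : Nat := tPB (tPB s)

/-- nibble `i` of a packed vector -/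
def nib (e i : Nat) : Nat := Nat.land (Nat.shiftRight e (Nat.mul 4 i)) 15

/-- unpack a vector -/
def dec7 (e : Nat) : R7 := ⟨nib e 0, nib e 1, nib e 2, nib e 3, nib e 4, nib e 5, nib e 6⟩

/-- coordinatewise equality -/
def eqR (u v : R7) : Bool :=
  Nat.beq u.a0 v.a0 && Nat.beq u.a1 v.a1 && Nat.beq u.a2 v.a2 && Nat.beq u.a3 v.a3 &&
  Nat.beq u.a4 v.a4 && Nat.beq u.a5 v.a5 && Nat.beq u.a6 v.a6

/-- all coordinates below 11 -/
def ltR (u : R7) : Bool :=
  Nat.blt u.a0 11 && Nat.blt u.a1 11 && Nat.blt u.a2 11 && Nat.blt u.a3 11 &&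
  Nat.blt u.a4 11 && Nat.blt u.a5 11 && Nat.blt u.a6 11

theorem eqR_iff (u v : R7) : eqR u v = true ↔ u = v := by
  obtain ⟨a0, a1, a2, a3, a4, a5, a6⟩ := u
  obtain ⟨b0, b1, b2, b3, b4, b5, b6⟩ := v
  simp only [eqR, Bool.and_eq_true, beq_iff, R7.mk.injEq]
  tauto

/-- the per-index check on the side of the matrix group -/
noncomputable def chkM (s : Nat) : Bool :=
  ltR (dec7 (tMV s)) &&
  eqR (mulVecC Uc (dec7 (tMV s))) (dec7 (tMV (tPA s))) &&
  eqR (mulVecC Vc (dec7 (tMV s))) (dec7 (tMV (tPB s))) &&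
  (Nat.beq s 0 || !(eqR (dec7 (tMV s)) (dec7 (tMV 0))))

end Cfsg.Agent.Lib.Helper57.ONJ1
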