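import Cfsg.Agent.Lib.Helper57.ONM11Chk
import Cfsg.Agent.Lib.Helper95.SteinerAbstract
import Cfsg.Prelude.Def_Sporadic

set_option autoImplicit false
set_option linter.all false

/-!
A subgroup of the presented O'Nan group that is simple of order 7920.
-/

namespace Cfsg.Agent.Lib.Helper57.ONM11

open Cfsg Cfsg.Spor Cfsg.Agent.Lib.Helper28 Cfsg.Agent.Lib.Helper28.ONSub
open Cfsg.Agent.Lib.Helper28.ONOrderC Cfsg.Agent.Lib.Helper57.CayMatch
open Cfsg.Agent.Lib.Helper57.ONCay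

/-- the two permutations of 11 points -/
def σA : Equiv.Perm (Fin 11) := mkPerm 11 sAf sAf sA_ok
def σB : Equiv.Perm (Fin 11) := mkPerm 11 sBf sBif sB_ok

/-- labels by 4-tuples of points -/
noncomputable def βM (s : ℕ) : Fin 4 → Fin 11 :=
  fun i => ⟨nib (tMV s) i.val % 11, Nat.mod_lt _ (by norm_num)⟩

theorem chkM_spec (s : ℕ) (hs : s < 7920) :
    (∀ i : Fin 4, nib (tMV s) i.val < 11) ∧
    (∀ i : Fin 4, sAf (nib (tMV s) i.val) = nib (tMV (tPA s)) i.val) ∧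
    (∀ i : Fin 4, sBf (nib (tMV s) i.val) = nib (tMV (tPB s)) i.val) ∧
    (s ≠ 0 → ¬ (nib (tMV s) 0 = 0 ∧ nib (tMV s) 1 = 1 ∧ nib (tMV s) 2 = 2 ∧ nib (tMV s) 3 = 3)) := by
  have h := chkM_all s hs
  simp only [chkM, Bool.and_eq_true, Bool.or_eq_true, Bool.not_eq_true', blt_iff, beq_iff] at h
  obtain ⟨⟨⟨⟨⟨⟨⟨⟨⟨⟨⟨⟨h1, h2⟩, h3⟩, h4⟩, h5⟩, h6⟩, h7⟩, h8⟩, h9⟩, h10⟩, h11⟩, h12⟩, h13⟩ := h
  refine ⟨?_, ?_, ?_, ?_⟩
  · intro i; fin_cases i <;> assumption
  · intro i; fin_cases i <;> assumption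
  · intro i; fin_cases i <;> assumption
  · intro hs0
    rcases h13 with h13 | h13
    · exact absurd h13 hs0
    · rintro ⟨e0, e1, e2, e3⟩
      rw [e0, e1, e2, e3] at h13
      simp at h13

theorem βM_A (s : ℕ) (hs : s < 7920) : σA • βM s = βM (tPA s) := by
  obtain ⟨h1, h2, -, -⟩ := chkM_spec s hs
  have hlt : tPA s < 7920 := by
    have h := chkK_all s hs
    simp only [chkK, Bool.and_eq_true, blt_iff] at h
    exact h.1.1.1.1.1.1.1.1.1.1.1.1.1.1.1
  obtain ⟨h1', -, -, -⟩ := chkM_spec (tPA s) hlt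
  funext i
  apply Fin.ext
  show sAf (nib (tMV s) i.val % 11) = nib (tMV (tPA s)) i.val % 11
  rw [Nat.mod_eq_of_lt (h1 i), Nat.mod_eq_of_lt (h1' i), h2 i]

theorem βM_B (s : ℕ) (hs : s < 7920) : σB • βM s = βM (tPB s) := by
  obtain ⟨h1, -, h2, -⟩ := chkM_spec s hs
  have hlt : tPB s < 7920 := by
    have h := chkK_all s hs
    simp only [chkK, Bool.and_eq_true, blt_iff] at h
    exact h.1.1.1.1.1.1.1.1.1.1.1.1.1.1.2
  obtain ⟨h1', -, -, -⟩ := chkM_spec (tPB s) hlt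
  funext i
  apply Fin.ext
  show sBf (nib (tMV s) i.val % 11) = nib (tMV (tPB s)) i.val % 11
  rw [Nat.mod_eq_of_lt (h1 i), Nat.mod_eq_of_lt (h1' i), h2 i]

theorem βM_inj (s : ℕ) (hs : s < 7920) (h : βM s = βM 0) : s = 0 := by
  by_contra hs0
  obtain ⟨h1, -, -, h4⟩ := chkM_spec s hs
  apply h4 hs0
  have key : ∀ i : Fin 4, nib (tMV s) i.val = nib (tMV 0) i.val := by
    intro i
    have := congrArg Fin.val (congrFun h i)
    simp only [βM] at this
    rw [Nat.mod_eq_of_lt (h1 i), Nat.mod_eq_of_lt ((chkM_spec 0 (by norm_num)).1 i)] at this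
    exact this
  obtain ⟨m0, m1, m2, m3⟩ := mbase_ok
  exact ⟨(key 0).trans m0, (key 1).trans m1, (key 2).trans m2, (key 3).trans m3⟩

theorem βM_faith (g : Equiv.Perm (Fin 11)) (hg : ∀ s : Fin 7920, g • βM s.val = βM s.val) :
    g = 1 := by
  ext x
  obtain ⟨hw, hx⟩ := wit_ok x.val x.isLt
  have h := congrFun (hg ⟨wit.getD x.val 0, hw⟩) 0
  have h1 : βM (wit.getD x.val 0) 0 = x := by
    apply Fin.ext
    show nib (tMV (wit.getD x.val 0)) 0 % 11 = x.val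
    rw [hx, Nat.mod_eq_of_lt x.isLt]
  have h2 : (g • βM (wit.getD x.val 0)) 0 = g (βM (wit.getD x.val 0) 0) := rfl
  rw [h2, h1] at h
  rw [h]; rfl

section

variable {φ : G →* Equiv.Perm ℕ} (hS : Setup cert H gam φ)

include hS

/-- the O'Nan group has a subgroup that is simple of order 7920 -/
theorem exists_M11 : ∃ K : Subgroup G, IsM11 K := by
  haveI : NeZero 7920 := ⟨by norm_num⟩
  obtain ⟨hpa, hpb, hK⟩ := kside hS 7920 wA wB wA_lt wB_lt tPA tPB tQB tKK chkK_all base_ok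
  refine ⟨Subgroup.closure {(evw gam wA)⁻¹, (evw gam wB)⁻¹}, ?_⟩
  have hcard : Nat.card ↥(Subgroup.closure {(evw gam wA)⁻¹, (evw gam wB)⁻¹}) = 7920 := hK.card
  obtain ⟨e⟩ := hK.nonempty_mulEquiv_closure σA σB (fun s : Fin 7920 => βM s.val)
    (fun s => by
      have := βM_A s.val s.isLt
      rw [this]; rfl)
    (fun s => by
      have := βM_B s.val s.isLt
      rw [this]; rfl)
    (fun s h => by
      have h0 : ((0 : Fin 7920) : ℕ) = 0 := rfl
      rw [h0] at h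
      exact Fin.ext (βM_inj s.val s.isLt h))
    βM_faith
  have hc2 : Nat.card ↥(Subgroup.closure {σA, σB}) = 7920 := by
    rw [← Nat.card_congr e.toEquiv, hcard]
  have hsimple : IsSimpleGroup ↥(Subgroup.closure {σA, σB}) :=
    Cfsg.Agent.Lib.Helper95.Steiner.isSimpleGroup_of_card_7920 (X := Fin 11) (by simp) hc2
  exact ⟨e.isSimpleGroup, hcard⟩

end

end Cfsg.Agent.Lib.Helper57.ONM11
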