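import Cfsg.Agent.Lib.Helper57.ONM11Data
import Cfsg.Agent.Lib.Helper57.ONCay

set_option autoImplicit false
set_option maxRecDepth 1000000
set_option linter.all false
set_option Elab.async false

namespace Cfsg.Agent.Lib.Helper57.ONM11

open Cfsg.Agent.Lib.Helper28 Cfsg.Agent.Lib.Helper57.ONCay

/-- the inverse of the second permutation (it has order 4) -/
noncomputable def tQB (s : Nat) : Nat := tPB (tPB (tPB s))

/-- nibble `i` of a packed 4-tuple -/
def nib (e i : Nat) : Nat := Nat.land (Nat.shiftRight e (Nat.mul 4 i)) 15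

def sAf (x : Nat) : Nat := sA.getD x 0
def sBf (x : Nat) : Nat := sB.getD x 0
def sBif (x : Nat) : Nat := sBi.getD x 0

/-- the per-index check on the side of the permutations of 11 points -/
noncomputable def chkM (s : Nat) : Bool :=
  Nat.blt (nib (tMV s) 0) 11 && Nat.blt (nib (tMV s) 1) 11 && Nat.blt (nib (tMV s) 2) 11 &&
  Nat.blt (nib (tMV s) 3) 11 &&
  Nat.beq (sAf (nib (tMV s) 0)) (nib (tMV (tPA s)) 0) &&
  Nat.beq (sAf (nib (tMV s) 1)) (nib (tMV (tPA s)) 1) &&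
  Nat.beq (sAf (nib (tMV s) 2)) (nib (tMV (tPA s)) 2) &&
  Nat.beq (sAf (nib (tMV s) 3)) (nib (tMV (tPA s)) 3) &&
  Nat.beq (sBf (nib (tMV s) 0)) (nib (tMV (tPB s)) 0) &&
  Nat.beq (sBf (nib (tMV s) 1)) (nib (tMV (tPB s)) 1) &&
  Nat.beq (sBf (nib (tMV s) 2)) (nib (tMV (tPB s)) 2) &&
  Nat.beq (sBf (nib (tMV s) 3)) (nib (tMV (tPB s)) 3) &&
  (Nat.beq s 0 || !(Nat.beq (nib (tMV s) 0) 0 && Nat.beq (nib (tMV s) 1) 1 &&
    Nat.beq (nib (tMV s) 2) 2 && Nat.beq (nib (tMV s) 3) 3))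

theorem chkK_0 : allRangeF (chkK wA wB 7920 tPA tPB tQB tKK) 0 2000 = true := by decide +kernel
theorem chkK_1 : allRangeF (chkK wA wB 7920 tPA tPB tQB tKK) 2000 2000 = true := by decide +kernel
theorem chkK_2 : allRangeF (chkK wA wB 7920 tPA tPB tQB tKK) 4000 2000 = true := by decide +kernel
theorem chkK_3 : allRangeF (chkK wA wB 7920 tPA tPB tQB tKK) 6000 1920 = true := by decide +kernel

theorem chkM_0 : allRangeF chkM 0 4000 = true := by decide +kernel
theorem chkM_1 : allRangeF chkM 4000 3920 = true := by decide +kernel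

theorem chkK_all (s : Nat) (hs : s < 7920) : chkK wA wB 7920 tPA tPB tQB tKK s = true := by
  by_cases h1 : s < 2000
  · exact allRangeF_sound _ _ (fun _ => rfl) 0 2000 chkK_0 s (by omega) (by omega)
  by_cases h2 : s < 4000
  · exact allRangeF_sound _ _ (fun _ => rfl) 2000 2000 chkK_1 s (by omega) (by omega)
  by_cases h3 : s < 6000
  · exact allRangeF_sound _ _ (fun _ => rfl) 4000 2000 chkK_2 s (by omega) (by omega)
  · exact allRangeF_sound _ _ (fun _ => rfl) 6000 1920 chkK_3 s (by omega) (by omega)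

theorem chkM_all (s : Nat) (hs : s < 7920) : chkM s = true := by
  by_cases h1 : s < 4000
  · exact allRangeF_sound _ _ (fun _ => rfl) 0 4000 chkM_0 s (by omega) (by omega)
  · exact allRangeF_sound _ _ (fun _ => rfl) 4000 3920 chkM_1 s (by omega) (by omega)

theorem base_ok : co (tKK 0) 0 = 0 ∧ co (tKK 0) 1 = 1 ∧ co (tKK 0) 2 = 95603 := by decide +kernel

theorem mbase_ok : nib (tMV 0) 0 = 0 ∧ nib (tMV 0) 1 = 1 ∧ nib (tMV 0) 2 = 2 ∧ nib (tMV 0) 3 = 3 := by
  decide +kernel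

theorem wit_ok : ∀ x, x < 11 → wit.getD x 0 < 7920 ∧ nib (tMV (wit.getD x 0)) 0 = x := by
  decide +kernel

theorem wA_lt : ∀ l ∈ wA, l < 14 := by decide
theorem wB_lt : ∀ l ∈ wB, l < 14 := by decide

theorem sA_ok : ∀ s, s < 11 → sAf s < 11 ∧ sAf s < 11 ∧ sAf (sAf s) = s ∧ sAf (sAf s) = s := by
  decide
theorem sB_ok : ∀ s, s < 11 → sBf s < 11 ∧ sBif s < 11 ∧ sBif (sBf s) = s ∧ sBf (sBif s) = s := by
  decide

end Cfsg.Agent.Lib.Helper57.ONM11
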