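import Mathlib

/-!
# A transitive permutation representation of a central quotient

If a finite group `G` with simple central quotient acts transitively on `Fin m`, with `m` larger
than the (prime) order of the centre, and a non-trivial central element acts trivially, then the
image of `G` in the symmetric group is isomorphic to the central quotient.
-/

set_option autoImplicit false

namespace Cfsg.Agent.Lib.Helper57.PermRep

open MulAction

theorem exists_perm_rep {G : Type*} [Group G] [Finite G] {m : ℕ} [NeZero m] [MulAction G (Fin m)]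
    [IsPretransitive G (Fin m)] (z : G) (hz : z ∈ Subgroup.center G) (hz1 : z ≠ 1)
    (hzt : ∀ x : Fin m, z • x = x)
    (hZ : (Nat.card (Subgroup.center G)).Prime) (hZm : Nat.card (Subgroup.center G) < m)
    [hs : IsSimpleGroup (G ⧸ Subgroup.center G)] (n : ℕ)
    (hn : Nat.card (G ⧸ Subgroup.center G) = n) :
    ∃ H : Subgroup (Equiv.Perm (Fin m)), IsSimpleGroup H ∧ Nat.card H = n ∧
      IsPretransitive H (Fin m) ∧ m * Nat.card (stabilizer H (0 : Fin m)) = n := by
  classical
  let ρ : G →* Equiv.Perm (Fin m) := MulAction.toPermHom G (Fin m)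
  have hρ : ∀ g x, ρ g x = g • x := fun g x => rfl
  have hzN : z ∈ ρ.ker := by
    rw [MonoidHom.mem_ker]
    ext x
    rw [hρ, hzt]
    rfl
  have hNZ : ρ.ker ≤ Subgroup.center G := by
    have hnorm : (ρ.ker.map (QuotientGroup.mk' (Subgroup.center G))).Normal :=
      Subgroup.Normal.map inferInstance _ (QuotientGroup.mk'_surjective _)
    rcases hnorm.eq_bot_or_eq_top with h | h
    · rw [Subgroup.map_eq_bot_iff, QuotientGroup.ker_mk'] at h
      exact h
    · exfalso
      have key : ∀ g : G, ∃ c ∈ Subgroup.center G, ρ g = ρ c := by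
        intro g
        have hg : (QuotientGroup.mk' (Subgroup.center G) g) ∈
            ρ.ker.map (QuotientGroup.mk' (Subgroup.center G)) := by
          rw [h]; trivial
        obtain ⟨k, hk, hkg⟩ := hg
        have hc : k⁻¹ * g ∈ Subgroup.center G := QuotientGroup.eq.mp hkg
        refine ⟨k⁻¹ * g, hc, ?_⟩
        rw [map_mul, map_inv, MonoidHom.mem_ker.mp hk, inv_one, one_mul]
      have hle : m ≤ Nat.card (Subgroup.center G) := by
        have hsurj : Function.Surjective
            (fun c : Subgroup.center G => (c : G) • (0 : Fin m)) := by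
          intro x
          obtain ⟨g, hg⟩ := exists_smul_eq G (0 : Fin m) x
          obtain ⟨c, hc, hgc⟩ := key g
          refine ⟨⟨c, hc⟩, ?_⟩
          show c • (0 : Fin m) = x
          rw [← hg, ← hρ, ← hρ, hgc]
        have := Nat.card_le_card_of_surjective _ hsurj
        rwa [Nat.card_eq_fintype_card, Fintype.card_fin] at this
      omega
  have hN : ρ.ker = Subgroup.center G := by
    apply le_antisymm hNZ
    haveI : Fact (Nat.card (Subgroup.center G)).Prime := ⟨hZ⟩
    rcases (ρ.ker.subgroupOf (Subgroup.center G)).eq_bot_or_eq_top_of_prime_card with h | h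
    · exfalso
      have hmem : (⟨z, hz⟩ : Subgroup.center G) ∈ ρ.ker.subgroupOf (Subgroup.center G) := hzN
      rw [h, Subgroup.mem_bot] at hmem
      exact hz1 (congrArg Subtype.val hmem)
    · rwa [Subgroup.subgroupOf_eq_top] at h
  let e1 : G ⧸ ρ.ker ≃* ρ.range := QuotientGroup.quotientKerEquivRange ρ
  let e2 : G ⧸ ρ.ker ≃* G ⧸ Subgroup.center G := QuotientGroup.quotientMulEquivOfEq hN
  let e : ρ.range ≃* G ⧸ Subgroup.center G := e1.symm.trans e2
  have hcard : Nat.card ρ.range = n := by rw [Nat.card_congr e.toEquiv, hn]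
  have htrans : IsPretransitive ρ.range (Fin m) := by
    constructor
    intro x y
    obtain ⟨g, hg⟩ := exists_smul_eq G x y
    exact ⟨⟨ρ g, g, rfl⟩, hg⟩
  refine ⟨ρ.range, e.isSimpleGroup, hcard, htrans, ?_⟩
  have h1 := Subgroup.card_mul_index (stabilizer ρ.range (0 : Fin m))
  rw [index_stabilizer_of_transitive, Nat.card_eq_fintype_card (α := Fin m), Fintype.card_fin,
    hcard] at h1
  rw [mul_comm]
  exact h1

end Cfsg.Agent.Lib.Helper57.PermRep
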