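import Cfsg.Agent.Lib.Helper57.S3C1BG8core
import Cfsg.Agent.Lib.Helper66.S3.T
import Cfsg.Agent.Lib.Helper66.S3.D3
import Cfsg.Agent.Lib.Helper66.S3.D4
import Cfsg.Agent.Lib.Helper66.S3.D5

/-!
# S3 hive (S4305), sub-leaf C1B-G8 `c1b_final` (helper57)

The end game of configuration C1B via `lemT`: `c1b_final_core` with the landed leaves `lemT` (T),
`comp_smulH` (D3), `comp_smulA` (D4), `iSup_comp` (D5) plugged in.
-/

set_option autoImplicit false

namespace Cfsg.Agent.Lib.Helper66.S3

universe u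

section c1b

variable {H V : Type u} [Group H] [CommGroup V] [MulDistribMulAction A3 H]
  [MulDistribMulAction A3 V] [MulDistribMulAction H V] {p r : ℕ} {F : Subgroup H}

/-- C1B-G8: the end game via `lemT`. -/
theorem c1b_final (cfg : Config H V p r F)
    (hinv : ∀ C : Subgroup H, comp (V := V) F C ≠ ⊥ → ∃ t : A3, t ≠ 1 ∧ t * t = 1 ∧
      ∀ h : H, mapA t (mapH h C) = mapH h C ∧ ∀ v ∈ comp (V := V) F (mapH h C), t • v = v⁻¹) :
    False := by
  have hfin := cfg.hyp.finH
  exact c1b_final_core cfg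
    (fun D _ hD hint => lemT cfg.hyp.copH cfg.hyp.fpfH D hD hint)
    (fun C h v hv => comp_smulH cfg C h v hv)
    (fun C a v hv => comp_smulA cfg C a v hv)
    (iSup_comp cfg) hinv

end c1b

end Cfsg.Agent.Lib.Helper66.S3
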