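import Cfsg.Agent.Lib.Helper66.S3Defs

/-!
# S3 hive (S4305), sub-leaf C1B-G8 `c1b_final` (helper57), core version

The end game of configuration C1B via `lemT`; the leaf facts used (`lemT`, `comp_smulH`, `comp_smulA`,
`iSup_comp`) are explicit hypotheses here, so that this file depends on `S3Defs` only.
-/

set_option autoImplicit false

namespace Cfsg.Agent.Lib.Helper66.S3

universe u

section c1b

variable {H V : Type u} [Group H] [CommGroup V] [MulDistribMulAction A3 H]
  [MulDistribMulAction A3 V] [MulDistribMulAction H V] {p r : ℕ} {F : Subgroup H}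

theorem c1bg8_mapH_mul (h k : H) (C : Subgroup H) : mapH (h * k) C = mapH h (mapH k C) := by
  unfold mapH
  rw [Subgroup.map_map]
  congr 1
  ext x
  simp [MulAut.conj_apply, mul_assoc]

theorem c1bg8_mapH_one (C : Subgroup H) : mapH 1 C = C := by
  unfold mapH
  ext x
  simp [Subgroup.mem_map]

theorem c1bg8_mem_mapA (a : A3) (C : Subgroup H) (x : H) : x ∈ mapA a C ↔ ∃ c ∈ C, a • c = x := by
  unfold mapA
  exact Subgroup.mem_map (f := MulDistribMulAction.toMonoidHom H a)

theorem c1bg8_mem_mapH (h : H) (C : Subgroup H) (x : H) :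
    x ∈ mapH h C ↔ ∃ c ∈ C, h * c * h⁻¹ = x := by
  unfold mapH
  rw [Subgroup.mem_map]
  rfl

theorem c1bg8_mapA_mul (a b : A3) (C : Subgroup H) : mapA (a * b) C = mapA a (mapA b C) := by
  ext x
  simp only [c1bg8_mem_mapA]
  constructor
  · rintro ⟨c, hc, rfl⟩
    exact ⟨b • c, ⟨c, hc, rfl⟩, (mul_smul a b c).symm⟩
  · rintro ⟨y, ⟨c, hc, rfl⟩, rfl⟩
    exact ⟨c, hc, mul_smul a b c⟩

theorem c1bg8_mapA_one (C : Subgroup H) : mapA 1 C = C := by
  ext x
  simp only [c1bg8_mem_mapA]
  constructor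
  · rintro ⟨c, hc, rfl⟩
    rwa [one_smul]
  · intro hx
    exact ⟨x, hx, one_smul _ x⟩

theorem c1bg8_mapA_mapH (a : A3) (h : H) (C : Subgroup H) :
    mapA a (mapH h C) = mapH (a • h) (mapA a C) := by
  ext x
  simp only [c1bg8_mem_mapA, c1bg8_mem_mapH]
  constructor
  · rintro ⟨y, ⟨c, hc, rfl⟩, rfl⟩
    exact ⟨a • c, ⟨c, hc, rfl⟩, by rw [smul_mul', smul_mul', smul_inv']⟩
  · rintro ⟨z, ⟨c, hc, rfl⟩, rfl⟩
    exact ⟨h * c * h⁻¹, ⟨c, hc, rfl⟩, by rw [smul_mul', smul_mul', smul_inv']⟩

theorem c1bg8_invol : ∀ t : A3, t ≠ 1 → t * t = 1 →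
    ∃ b : A3, (b⁻¹ = 1 ∨ b⁻¹ = sig ∨ b⁻¹ = sig * sig) ∧ t = b * tau * b⁻¹ := by
  unfold sig tau
  decide

theorem c1bg8_tau_sq : (tau * tau : A3) = 1 := by
  unfold tau
  decide

/-- C1B-G8, core form: the leaf facts are hypotheses. -/
theorem c1b_final_core (cfg : Config H V p r F)
    (hT : ∀ (D : Subgroup H) [D.Normal], (∀ h : H, h⁻¹ * tau • h ∈ D) →
      (∀ h : H, h ∈ D → sig • h ∈ D → (sig * sig) • h ∈ D → h = 1) → ∀ x y : H, x * y = y * x)
    (hSH : ∀ (C : Subgroup H) (h : H) (v : V), v ∈ comp F C → h • v ∈ comp F (mapH h C))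
    (hSA : ∀ (C : Subgroup H) (a : A3) (v : V), v ∈ comp F C → a • v ∈ comp F (mapA a C))
    (hSup : ⨆ C : Subgroup H, comp (V := V) F C = ⊤)
    (hinv : ∀ C : Subgroup H, comp (V := V) F C ≠ ⊥ → ∃ t : A3, t ≠ 1 ∧ t * t = 1 ∧
      ∀ h : H, mapA t (mapH h C) = mapH h C ∧ ∀ v ∈ comp (V := V) F (mapH h C), t • v = v⁻¹) :
    False := by
  classical
  let T : Set (Subgroup H) := {C | ∀ h : H, mapA tau (mapH h C) = mapH h C ∧
    ∀ v ∈ comp (V := V) F (mapH h C), tau • v = v⁻¹}
  let W1 : Subgroup V := ⨆ C ∈ T, comp (V := V) F C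
  have hT_mapH : ∀ C ∈ T, ∀ g : H, mapH g C ∈ T := by
    intro C hC g h
    rw [← c1bg8_mapH_mul]
    exact hC (h * g)
  have hW1_le : ∀ C ∈ T, comp (V := V) F C ≤ W1 := fun C hC => le_iSup₂_of_le C hC le_rfl
  -- tau inverts W1
  have hW1_inv : ∀ w ∈ W1, tau • w = w⁻¹ := by
    let S : Subgroup V :=
      { carrier := {v | tau • v = v⁻¹}
        one_mem' := by simp
        mul_mem' := by
          intro a b ha hb
          simp only [Set.mem_setOf_eq] at *
          rw [smul_mul', ha, hb, mul_inv]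
        inv_mem' := by
          intro a ha
          simp only [Set.mem_setOf_eq] at *
          rw [smul_inv', ha] }
    have hle : W1 ≤ S := iSup₂_le (fun C hC v hv => by
      have h1 := (hC 1).2 v (by rwa [c1bg8_mapH_one])
      exact h1)
    exact fun w hw => hle hw
  -- W1 is H-invariant
  have hW1_H : ∀ g : H, ∀ w ∈ W1, g • w ∈ W1 := by
    intro g
    have hle : W1 ≤ W1.comap (MulDistribMulAction.toMonoidHom V g) := iSup₂_le (fun C hC v hv => by
      rw [Subgroup.mem_comap]
      exact hW1_le _ (hT_mapH C hC g) (hSH C g v hv))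
    exact fun w hw => hle hw
  -- the kernel D of H on W1
  let D : Subgroup H :=
    { carrier := {h | ∀ w ∈ W1, h • w = w}
      one_mem' := fun w _ => one_smul _ w
      mul_mem' := by
        intro a b ha hb w hw
        rw [mul_smul, hb w hw, ha w hw]
      inv_mem' := by
        intro a ha w hw
        have h1 := ha w hw
        calc a⁻¹ • w = a⁻¹ • (a • w) := by rw [h1]
          _ = w := by rw [← mul_smul, inv_mul_cancel, one_smul] }
  have hDmem : ∀ h : H, h ∈ D ↔ ∀ w ∈ W1, h • w = w := fun h => Iff.rfl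
  have hDn : D.Normal := ⟨by
    intro n hn g
    rw [hDmem] at hn ⊢
    intro w hw
    rw [mul_smul, mul_smul, hn _ (hW1_H g⁻¹ w hw), ← mul_smul, mul_inv_cancel, one_smul]⟩
  have hD : ∀ h : H, h⁻¹ * tau • h ∈ D := by
    intro h
    rw [hDmem]
    intro w hw
    have htt : tau • tau • w = w := by
      rw [← mul_smul, c1bg8_tau_sq, one_smul]
    have h1 : (tau • h) • w = h • w := by
      calc (tau • h) • w = (tau • h) • (tau • (tau • w)) := by rw [htt]
        _ = tau • (h • (tau • w)) := by rw [cfg.hyp.compat]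
        _ = tau • (h • w⁻¹) := by rw [hW1_inv w hw]
        _ = tau • (h • w)⁻¹ := by rw [smul_inv']
        _ = (tau • (h • w))⁻¹ := by rw [smul_inv']
        _ = ((h • w)⁻¹)⁻¹ := by rw [hW1_inv _ (hW1_H h w hw)]
        _ = h • w := inv_inv _
    rw [mul_smul, h1, ← mul_smul, inv_mul_cancel, one_smul]
  have hint : ∀ h : H, h ∈ D → sig • h ∈ D → (sig * sig) • h ∈ D → h = 1 := by
    intro h h0 h1 h2
    apply cfg.faithful
    let Fx : Subgroup V :=
      { carrier := {v | h • v = v}
        one_mem' := smul_one h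
        mul_mem' := by
          intro a b ha hb
          simp only [Set.mem_setOf_eq] at *
          rw [smul_mul', ha, hb]
        inv_mem' := by
          intro a ha
          simp only [Set.mem_setOf_eq] at *
          rw [smul_inv', ha] }
    have hle : (⨆ C : Subgroup H, comp (V := V) F C) ≤ Fx := by
      apply iSup_le
      intro C
      by_cases hC : comp (V := V) F C = ⊥
      · rw [hC]; exact bot_le
      · obtain ⟨t, ht1, htt, ht⟩ := hinv C hC
        obtain ⟨b, hb, rfl⟩ := c1bg8_invol t ht1 htt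
        have hC'T : mapA b⁻¹ C ∈ T := by
          intro k
          have e1 : mapH k (mapA b⁻¹ C) = mapA b⁻¹ (mapH (b • k) C) := by
            rw [c1bg8_mapA_mapH, ← mul_smul, inv_mul_cancel, one_smul]
          obtain ⟨hx, hxi⟩ := ht (b • k)
          refine ⟨?_, ?_⟩
          · rw [e1, ← c1bg8_mapA_mul]
            have e2 : tau * b⁻¹ = b⁻¹ * (b * tau * b⁻¹) := by group
            rw [e2, c1bg8_mapA_mul, hx]
          · intro v hv
            rw [e1] at hv
            have hbv : b • v ∈ comp (V := V) F (mapH (b • k) C) := by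
              have h3 := hSA _ b v hv
              rwa [← c1bg8_mapA_mul, mul_inv_cancel, c1bg8_mapA_one] at h3
            have h4 := hxi (b • v) hbv
            calc tau • v = b⁻¹ • ((b * tau * b⁻¹) • (b • v)) := by
                  rw [← mul_smul, ← mul_smul]
                  congr 1
                  group
              _ = b⁻¹ • (b • v)⁻¹ := by rw [h4]
              _ = v⁻¹ := by rw [smul_inv', ← mul_smul, inv_mul_cancel, one_smul]
        intro v hv
        have hu : b⁻¹ • v ∈ W1 := hW1_le _ hC'T (hSA C b⁻¹ v hv)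
        have hbh : b⁻¹ • h ∈ D := by
          rcases hb with hb | hb | hb
          · rw [hb, one_smul]; exact h0
          · rw [hb]; exact h1
          · rw [hb]; exact h2
        have h5 := (hDmem _).mp hbh _ hu
        have e : h • v = b • ((b⁻¹ • h) • (b⁻¹ • v)) := by
          rw [cfg.hyp.compat, ← mul_smul, ← mul_smul, mul_inv_cancel, one_smul, one_smul]
        show h • v = v
        rw [e, h5, ← mul_smul, mul_inv_cancel, one_smul]
    intro v
    have hv : v ∈ (⊤ : Subgroup V) := Subgroup.mem_top v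
    rw [← hSup] at hv
    exact hle hv
  obtain ⟨x, y, hxy⟩ := cfg.nonab
  exact hxy (hT D hD hint x y)

end c1b

end Cfsg.Agent.Lib.Helper66.S3
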