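import Mathlib

set_option autoImplicit false
namespace Cfsg.Agent.Lib.Helper57.SL25

open Quaternion

/-- quaternions over the field with 11 elements (isomorphic to the 2 x 2 matrices) -/
abbrev E : Type := ℍ[ZMod 11]

instance decEqE : DecidableEq E := fun a b =>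
  decidable_of_iff (a.re = b.re ∧ a.imI = b.imI ∧ a.imJ = b.imJ ∧ a.imK = b.imK)
    (QuaternionAlgebra.ext_iff).symm

/-- the table of an embedding of `SL(2,5)` into the unit quaternions over `ZMod 11`; the entry
of index `125 a + 25 b + 5 c + d` is the image of the matrix `(a b; c d)` (zero if the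
determinant is not one). -/
def tblList : List E := [
  ⟨0, 0, 0, 0⟩, ⟨0, 0, 0, 0⟩, ⟨0, 0, 0, 0⟩, ⟨0, 0, 0, 0⟩, ⟨0, 0, 0, 0⟩,
  ⟨0, 0, 0, 0⟩, ⟨0, 0, 0, 0⟩, ⟨0, 0, 0, 0⟩, ⟨0, 0, 0, 0⟩, ⟨0, 0, 0, 0⟩,
  ⟨0, 0, 0, 0⟩, ⟨0, 0, 0, 0⟩, ⟨0, 0, 0, 0⟩, ⟨0, 0, 0, 0⟩, ⟨0, 0, 0, 0⟩,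
  ⟨0, 0, 0, 0⟩, ⟨0, 0, 0, 0⟩, ⟨0, 0, 0, 0⟩, ⟨0, 0, 0, 0⟩, ⟨0, 0, 0, 0⟩,
  ⟨0, 0, 0, 0⟩, ⟨0, 0, 0, 0⟩, ⟨0, 0, 0, 0⟩, ⟨0, 0, 0, 0⟩, ⟨0, 0, 0, 0⟩,
  ⟨0, 0, 0, 0⟩, ⟨0, 0, 0, 0⟩, ⟨0, 0, 0, 0⟩, ⟨0, 0, 0, 0⟩, ⟨0, 0, 0, 0⟩,
  ⟨0, 0, 0, 0⟩, ⟨0, 0, 0, 0⟩, ⟨0, 0, 0, 0⟩, ⟨0, 0, 0, 0⟩, ⟨0, 0, 0, 0⟩,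
  ⟨0, 0, 0, 0⟩, ⟨0, 0, 0, 0⟩, ⟨0, 0, 0, 0⟩, ⟨0, 0, 0, 0⟩, ⟨0, 0, 0, 0⟩,
  ⟨0, 0, 0, 0⟩, ⟨0, 0, 0, 0⟩, ⟨0, 0, 0, 0⟩, ⟨0, 0, 0, 0⟩, ⟨0, 0, 0, 0⟩,
  ⟨0, 0, 0, 10⟩, ⟨6, 9, 0, 4⟩, ⟨7, 5, 0, 2⟩, ⟨4, 6, 0, 2⟩, ⟨5, 2, 0, 4⟩,
  ⟨0, 0, 0, 0⟩, ⟨0, 0, 0, 0⟩, ⟨0, 0, 0, 0⟩, ⟨0, 0, 0, 0⟩, ⟨0, 0, 0, 0⟩,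
  ⟨0, 0, 0, 0⟩, ⟨0, 0, 0, 0⟩, ⟨0, 0, 0, 0⟩, ⟨0, 0, 0, 0⟩, ⟨0, 0, 0, 0⟩,
  ⟨0, 0, 1, 0⟩, ⟨6, 7, 9, 0⟩, ⟨9, 5, 7, 0⟩, ⟨2, 6, 7, 0⟩, ⟨5, 4, 9, 0⟩,
  ⟨0, 0, 0, 0⟩, ⟨0, 0, 0, 0⟩, ⟨0, 0, 0, 0⟩, ⟨0, 0, 0, 0⟩, ⟨0, 0, 0, 0⟩,
  ⟨0, 0, 0, 0⟩, ⟨0, 0, 0, 0⟩, ⟨0, 0, 0, 0⟩, ⟨0, 0, 0, 0⟩, ⟨0, 0, 0, 0⟩,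
  ⟨0, 0, 0, 0⟩, ⟨0, 0, 0, 0⟩, ⟨0, 0, 0, 0⟩, ⟨0, 0, 0, 0⟩, ⟨0, 0, 0, 0⟩,
  ⟨0, 0, 0, 0⟩, ⟨0, 0, 0, 0⟩, ⟨0, 0, 0, 0⟩, ⟨0, 0, 0, 0⟩, ⟨0, 0, 0, 0⟩,
  ⟨0, 0, 0, 0⟩, ⟨0, 0, 0, 0⟩, ⟨0, 0, 0, 0⟩, ⟨0, 0, 0, 0⟩, ⟨0, 0, 0, 0⟩,
  ⟨0, 0, 10, 0⟩, ⟨6, 7, 2, 0⟩, ⟨9, 5, 4, 0⟩, ⟨2, 6, 4, 0⟩, ⟨5, 4, 2, 0⟩,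
  ⟨0, 0, 0, 0⟩, ⟨0, 0, 0, 0⟩, ⟨0, 0, 0, 0⟩, ⟨0, 0, 0, 0⟩, ⟨0, 0, 0, 0⟩,
  ⟨0, 0, 0, 0⟩, ⟨0, 0, 0, 0⟩, ⟨0, 0, 0, 0⟩, ⟨0, 0, 0, 0⟩, ⟨0, 0, 0, 0⟩,
  ⟨0, 0, 0, 1⟩, ⟨6, 9, 0, 7⟩, ⟨7, 5, 0, 9⟩, ⟨4, 6, 0, 9⟩, ⟨5, 2, 0, 7⟩,
  ⟨0, 0, 0, 0⟩, ⟨0, 0, 0, 0⟩, ⟨0, 0, 0, 0⟩, ⟨0, 0, 0, 0⟩, ⟨0, 0, 0, 0⟩,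
  ⟨0, 0, 0, 0⟩, ⟨0, 0, 0, 0⟩, ⟨0, 0, 0, 0⟩, ⟨0, 0, 0, 0⟩, ⟨0, 0, 0, 0⟩,
  ⟨0, 0, 0, 0⟩, ⟨0, 0, 0, 0⟩, ⟨0, 0, 0, 0⟩, ⟨0, 0, 0, 0⟩, ⟨0, 0, 0, 0⟩,
  ⟨0, 0, 0, 0⟩, ⟨1, 0, 0, 0⟩, ⟨0, 0, 0, 0⟩, ⟨0, 0, 0, 0⟩, ⟨0, 0, 0, 0⟩,
  ⟨0, 0, 0, 0⟩, ⟨7, 0, 2, 6⟩, ⟨0, 0, 0, 0⟩, ⟨0, 0, 0, 0⟩, ⟨0, 0, 0, 0⟩,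
  ⟨0, 0, 0, 0⟩, ⟨9, 0, 6, 7⟩, ⟨0, 0, 0, 0⟩, ⟨0, 0, 0, 0⟩, ⟨0, 0, 0, 0⟩,
  ⟨0, 0, 0, 0⟩, ⟨9, 0, 5, 4⟩, ⟨0, 0, 0, 0⟩, ⟨0, 0, 0, 0⟩, ⟨0, 0, 0, 0⟩,
  ⟨0, 0, 0, 0⟩, ⟨7, 0, 9, 5⟩, ⟨0, 0, 0, 0⟩, ⟨0, 0, 0, 0⟩, ⟨0, 0, 0, 0⟩,
  ⟨0, 0, 0, 0⟩, ⟨7, 0, 2, 5⟩, ⟨0, 0, 0, 0⟩, ⟨0, 0, 0, 0⟩, ⟨0, 0, 0, 0⟩,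
  ⟨0, 0, 0, 0⟩, ⟨0, 0, 0, 0⟩, ⟨4, 9, 6, 0⟩, ⟨0, 0, 0, 0⟩, ⟨0, 0, 0, 0⟩,
  ⟨0, 0, 0, 0⟩, ⟨0, 0, 0, 0⟩, ⟨0, 0, 0, 0⟩, ⟨5, 5, 5, 6⟩, ⟨0, 0, 0, 0⟩,
  ⟨0, 0, 0, 0⟩, ⟨0, 0, 0, 0⟩, ⟨0, 0, 0, 0⟩, ⟨0, 0, 0, 0⟩, ⟨0, 6, 9, 7⟩,
  ⟨6, 2, 0, 4⟩, ⟨0, 0, 0, 0⟩, ⟨0, 0, 0, 0⟩, ⟨0, 0, 0, 0⟩, ⟨0, 0, 0, 0⟩,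
  ⟨0, 0, 0, 0⟩, ⟨9, 0, 6, 4⟩, ⟨0, 0, 0, 0⟩, ⟨0, 0, 0, 0⟩, ⟨0, 0, 0, 0⟩,
  ⟨0, 0, 0, 0⟩, ⟨0, 0, 0, 0⟩, ⟨0, 0, 0, 0⟩, ⟨5, 5, 5, 5⟩, ⟨0, 0, 0, 0⟩,
  ⟨6, 4, 9, 0⟩, ⟨0, 0, 0, 0⟩, ⟨0, 0, 0, 0⟩, ⟨0, 0, 0, 0⟩, ⟨0, 0, 0, 0⟩,
  ⟨0, 0, 0, 0⟩, ⟨0, 0, 0, 0⟩, ⟨2, 7, 0, 6⟩, ⟨0, 0, 0, 0⟩, ⟨0, 0, 0, 0⟩,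
  ⟨0, 0, 0, 0⟩, ⟨0, 0, 0, 0⟩, ⟨0, 0, 0, 0⟩, ⟨0, 0, 0, 0⟩, ⟨0, 6, 2, 7⟩,
  ⟨0, 0, 0, 0⟩, ⟨9, 0, 5, 7⟩, ⟨0, 0, 0, 0⟩, ⟨0, 0, 0, 0⟩, ⟨0, 0, 0, 0⟩,
  ⟨0, 0, 0, 0⟩, ⟨0, 0, 0, 0⟩, ⟨0, 0, 0, 0⟩, ⟨0, 0, 0, 0⟩, ⟨0, 6, 9, 4⟩,
  ⟨0, 0, 0, 0⟩, ⟨0, 0, 0, 0⟩, ⟨2, 7, 0, 5⟩, ⟨0, 0, 0, 0⟩, ⟨0, 0, 0, 0⟩,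
  ⟨6, 4, 2, 0⟩, ⟨0, 0, 0, 0⟩, ⟨0, 0, 0, 0⟩, ⟨0, 0, 0, 0⟩, ⟨0, 0, 0, 0⟩,
  ⟨0, 0, 0, 0⟩, ⟨0, 0, 0, 0⟩, ⟨0, 0, 0, 0⟩, ⟨5, 5, 6, 6⟩, ⟨0, 0, 0, 0⟩,
  ⟨0, 0, 0, 0⟩, ⟨7, 0, 9, 6⟩, ⟨0, 0, 0, 0⟩, ⟨0, 0, 0, 0⟩, ⟨0, 0, 0, 0⟩,
  ⟨6, 2, 0, 7⟩, ⟨0, 0, 0, 0⟩, ⟨0, 0, 0, 0⟩, ⟨0, 0, 0, 0⟩, ⟨0, 0, 0, 0⟩,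
  ⟨0, 0, 0, 0⟩, ⟨0, 0, 0, 0⟩, ⟨0, 0, 0, 0⟩, ⟨0, 0, 0, 0⟩, ⟨0, 6, 2, 4⟩,
  ⟨0, 0, 0, 0⟩, ⟨0, 0, 0, 0⟩, ⟨0, 0, 0, 0⟩, ⟨5, 5, 6, 5⟩, ⟨0, 0, 0, 0⟩,
  ⟨0, 0, 0, 0⟩, ⟨0, 0, 0, 0⟩, ⟨4, 9, 5, 0⟩, ⟨0, 0, 0, 0⟩, ⟨0, 0, 0, 0⟩,
  ⟨0, 0, 0, 0⟩, ⟨0, 0, 0, 0⟩, ⟨0, 0, 0, 0⟩, ⟨0, 1, 0, 0⟩, ⟨0, 0, 0, 0⟩,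
  ⟨0, 0, 0, 0⟩, ⟨0, 0, 0, 0⟩, ⟨0, 0, 0, 0⟩, ⟨0, 9, 4, 6⟩, ⟨0, 0, 0, 0⟩,
  ⟨0, 0, 0, 0⟩, ⟨0, 0, 0, 0⟩, ⟨0, 0, 0, 0⟩, ⟨0, 7, 6, 9⟩, ⟨0, 0, 0, 0⟩,
  ⟨0, 0, 0, 0⟩, ⟨0, 0, 0, 0⟩, ⟨0, 0, 0, 0⟩, ⟨0, 7, 5, 2⟩, ⟨0, 0, 0, 0⟩,
  ⟨0, 0, 0, 0⟩, ⟨0, 0, 0, 0⟩, ⟨0, 0, 0, 0⟩, ⟨0, 9, 7, 5⟩, ⟨0, 0, 0, 0⟩,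
  ⟨0, 0, 0, 0⟩, ⟨0, 0, 0, 0⟩, ⟨0, 0, 0, 0⟩, ⟨0, 9, 4, 5⟩, ⟨0, 0, 0, 0⟩,
  ⟨0, 0, 0, 0⟩, ⟨4, 2, 6, 0⟩, ⟨0, 0, 0, 0⟩, ⟨0, 0, 0, 0⟩, ⟨0, 0, 0, 0⟩,
  ⟨0, 0, 0, 0⟩, ⟨0, 0, 0, 0⟩, ⟨0, 0, 0, 0⟩, ⟨0, 0, 0, 0⟩, ⟨6, 5, 5, 6⟩,
  ⟨0, 0, 0, 0⟩, ⟨0, 0, 0, 0⟩, ⟨5, 0, 7, 9⟩, ⟨0, 0, 0, 0⟩, ⟨0, 0, 0, 0⟩,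
  ⟨7, 6, 0, 2⟩, ⟨0, 0, 0, 0⟩, ⟨0, 0, 0, 0⟩, ⟨0, 0, 0, 0⟩, ⟨0, 0, 0, 0⟩,
  ⟨0, 0, 0, 0⟩, ⟨0, 0, 0, 0⟩, ⟨0, 0, 0, 0⟩, ⟨0, 7, 6, 2⟩, ⟨0, 0, 0, 0⟩,
  ⟨0, 0, 0, 0⟩, ⟨0, 0, 0, 0⟩, ⟨0, 0, 0, 0⟩, ⟨0, 0, 0, 0⟩, ⟨6, 5, 5, 5⟩,
  ⟨9, 6, 7, 0⟩, ⟨0, 0, 0, 0⟩, ⟨0, 0, 0, 0⟩, ⟨0, 0, 0, 0⟩, ⟨0, 0, 0, 0⟩,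
  ⟨0, 0, 0, 0⟩, ⟨2, 4, 0, 6⟩, ⟨0, 0, 0, 0⟩, ⟨0, 0, 0, 0⟩, ⟨0, 0, 0, 0⟩,
  ⟨0, 0, 0, 0⟩, ⟨0, 0, 0, 0⟩, ⟨5, 0, 4, 9⟩, ⟨0, 0, 0, 0⟩, ⟨0, 0, 0, 0⟩,
  ⟨0, 0, 0, 0⟩, ⟨0, 0, 0, 0⟩, ⟨0, 0, 0, 0⟩, ⟨0, 7, 5, 9⟩, ⟨0, 0, 0, 0⟩,
  ⟨0, 0, 0, 0⟩, ⟨0, 0, 0, 0⟩, ⟨5, 0, 7, 2⟩, ⟨0, 0, 0, 0⟩, ⟨0, 0, 0, 0⟩,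
  ⟨0, 0, 0, 0⟩, ⟨2, 4, 0, 5⟩, ⟨0, 0, 0, 0⟩, ⟨0, 0, 0, 0⟩, ⟨0, 0, 0, 0⟩,
  ⟨9, 6, 4, 0⟩, ⟨0, 0, 0, 0⟩, ⟨0, 0, 0, 0⟩, ⟨0, 0, 0, 0⟩, ⟨0, 0, 0, 0⟩,
  ⟨0, 0, 0, 0⟩, ⟨0, 0, 0, 0⟩, ⟨0, 0, 0, 0⟩, ⟨0, 0, 0, 0⟩, ⟨6, 5, 6, 6⟩,
  ⟨0, 0, 0, 0⟩, ⟨0, 0, 0, 0⟩, ⟨0, 0, 0, 0⟩, ⟨0, 9, 7, 6⟩, ⟨0, 0, 0, 0⟩,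
  ⟨7, 6, 0, 9⟩, ⟨0, 0, 0, 0⟩, ⟨0, 0, 0, 0⟩, ⟨0, 0, 0, 0⟩, ⟨0, 0, 0, 0⟩,
  ⟨0, 0, 0, 0⟩, ⟨0, 0, 0, 0⟩, ⟨5, 0, 4, 2⟩, ⟨0, 0, 0, 0⟩, ⟨0, 0, 0, 0⟩,
  ⟨0, 0, 0, 0⟩, ⟨0, 0, 0, 0⟩, ⟨0, 0, 0, 0⟩, ⟨0, 0, 0, 0⟩, ⟨6, 5, 6, 5⟩,
  ⟨0, 0, 0, 0⟩, ⟨4, 2, 5, 0⟩, ⟨0, 0, 0, 0⟩, ⟨0, 0, 0, 0⟩, ⟨0, 0, 0, 0⟩,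
  ⟨0, 0, 0, 0⟩, ⟨0, 0, 0, 0⟩, ⟨0, 10, 0, 0⟩, ⟨0, 0, 0, 0⟩, ⟨0, 0, 0, 0⟩,
  ⟨0, 0, 0, 0⟩, ⟨0, 0, 0, 0⟩, ⟨0, 2, 4, 6⟩, ⟨0, 0, 0, 0⟩, ⟨0, 0, 0, 0⟩,
  ⟨0, 0, 0, 0⟩, ⟨0, 0, 0, 0⟩, ⟨0, 4, 6, 9⟩, ⟨0, 0, 0, 0⟩, ⟨0, 0, 0, 0⟩,
  ⟨0, 0, 0, 0⟩, ⟨0, 0, 0, 0⟩, ⟨0, 4, 5, 2⟩, ⟨0, 0, 0, 0⟩, ⟨0, 0, 0, 0⟩,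
  ⟨0, 0, 0, 0⟩, ⟨0, 0, 0, 0⟩, ⟨0, 2, 7, 5⟩, ⟨0, 0, 0, 0⟩, ⟨0, 0, 0, 0⟩,
  ⟨0, 0, 0, 0⟩, ⟨0, 0, 0, 0⟩, ⟨0, 2, 4, 5⟩, ⟨0, 0, 0, 0⟩, ⟨0, 0, 0, 0⟩,
  ⟨0, 0, 0, 0⟩, ⟨0, 0, 0, 0⟩, ⟨0, 0, 0, 0⟩, ⟨0, 0, 0, 0⟩, ⟨7, 9, 6, 0⟩,
  ⟨0, 0, 0, 0⟩, ⟨5, 6, 5, 6⟩, ⟨0, 0, 0, 0⟩, ⟨0, 0, 0, 0⟩, ⟨0, 0, 0, 0⟩,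
  ⟨0, 0, 0, 0⟩, ⟨0, 0, 0, 0⟩, ⟨0, 0, 0, 0⟩, ⟨6, 0, 7, 9⟩, ⟨0, 0, 0, 0⟩,
  ⟨4, 5, 0, 2⟩, ⟨0, 0, 0, 0⟩, ⟨0, 0, 0, 0⟩, ⟨0, 0, 0, 0⟩, ⟨0, 0, 0, 0⟩,
  ⟨0, 0, 0, 0⟩, ⟨0, 0, 0, 0⟩, ⟨0, 4, 6, 2⟩, ⟨0, 0, 0, 0⟩, ⟨0, 0, 0, 0⟩,
  ⟨0, 0, 0, 0⟩, ⟨5, 6, 5, 5⟩, ⟨0, 0, 0, 0⟩, ⟨0, 0, 0, 0⟩, ⟨0, 0, 0, 0⟩,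
  ⟨2, 5, 7, 0⟩, ⟨0, 0, 0, 0⟩, ⟨0, 0, 0, 0⟩, ⟨0, 0, 0, 0⟩, ⟨0, 0, 0, 0⟩,
  ⟨0, 0, 0, 0⟩, ⟨0, 0, 0, 0⟩, ⟨0, 0, 0, 0⟩, ⟨0, 0, 0, 0⟩, ⟨9, 7, 0, 6⟩,
  ⟨0, 0, 0, 0⟩, ⟨0, 0, 0, 0⟩, ⟨0, 0, 0, 0⟩, ⟨6, 0, 4, 9⟩, ⟨0, 0, 0, 0⟩,
  ⟨0, 0, 0, 0⟩, ⟨0, 0, 0, 0⟩, ⟨0, 4, 5, 9⟩, ⟨0, 0, 0, 0⟩, ⟨0, 0, 0, 0⟩,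
  ⟨0, 0, 0, 0⟩, ⟨0, 0, 0, 0⟩, ⟨0, 0, 0, 0⟩, ⟨6, 0, 7, 2⟩, ⟨0, 0, 0, 0⟩,
  ⟨0, 0, 0, 0⟩, ⟨0, 0, 0, 0⟩, ⟨0, 0, 0, 0⟩, ⟨0, 0, 0, 0⟩, ⟨9, 7, 0, 5⟩,
  ⟨2, 5, 4, 0⟩, ⟨0, 0, 0, 0⟩, ⟨0, 0, 0, 0⟩, ⟨0, 0, 0, 0⟩, ⟨0, 0, 0, 0⟩,
  ⟨0, 0, 0, 0⟩, ⟨5, 6, 6, 6⟩, ⟨0, 0, 0, 0⟩, ⟨0, 0, 0, 0⟩, ⟨0, 0, 0, 0⟩,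
  ⟨0, 0, 0, 0⟩, ⟨0, 0, 0, 0⟩, ⟨0, 2, 7, 6⟩, ⟨0, 0, 0, 0⟩, ⟨0, 0, 0, 0⟩,
  ⟨4, 5, 0, 9⟩, ⟨0, 0, 0, 0⟩, ⟨0, 0, 0, 0⟩, ⟨0, 0, 0, 0⟩, ⟨0, 0, 0, 0⟩,
  ⟨0, 0, 0, 0⟩, ⟨0, 0, 0, 0⟩, ⟨0, 0, 0, 0⟩, ⟨6, 0, 4, 2⟩, ⟨0, 0, 0, 0⟩,
  ⟨0, 0, 0, 0⟩, ⟨5, 6, 6, 5⟩, ⟨0, 0, 0, 0⟩, ⟨0, 0, 0, 0⟩, ⟨0, 0, 0, 0⟩,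
  ⟨0, 0, 0, 0⟩, ⟨0, 0, 0, 0⟩, ⟨0, 0, 0, 0⟩, ⟨0, 0, 0, 0⟩, ⟨7, 9, 5, 0⟩,
  ⟨0, 0, 0, 0⟩, ⟨0, 0, 0, 0⟩, ⟨0, 0, 0, 0⟩, ⟨0, 0, 0, 0⟩, ⟨10, 0, 0, 0⟩,
  ⟨0, 0, 0, 0⟩, ⟨0, 0, 0, 0⟩, ⟨0, 0, 0, 0⟩, ⟨0, 0, 0, 0⟩, ⟨4, 0, 2, 6⟩,
  ⟨0, 0, 0, 0⟩, ⟨0, 0, 0, 0⟩, ⟨0, 0, 0, 0⟩, ⟨0, 0, 0, 0⟩, ⟨2, 0, 6, 7⟩,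
  ⟨0, 0, 0, 0⟩, ⟨0, 0, 0, 0⟩, ⟨0, 0, 0, 0⟩, ⟨0, 0, 0, 0⟩, ⟨2, 0, 5, 4⟩,
  ⟨0, 0, 0, 0⟩, ⟨0, 0, 0, 0⟩, ⟨0, 0, 0, 0⟩, ⟨0, 0, 0, 0⟩, ⟨4, 0, 9, 5⟩,
  ⟨0, 0, 0, 0⟩, ⟨0, 0, 0, 0⟩, ⟨0, 0, 0, 0⟩, ⟨0, 0, 0, 0⟩, ⟨4, 0, 2, 5⟩,
  ⟨0, 0, 0, 0⟩, ⟨0, 0, 0, 0⟩, ⟨0, 0, 0, 0⟩, ⟨7, 2, 6, 0⟩, ⟨0, 0, 0, 0⟩,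
  ⟨0, 0, 0, 0⟩, ⟨0, 0, 0, 0⟩, ⟨6, 6, 5, 6⟩, ⟨0, 0, 0, 0⟩, ⟨0, 0, 0, 0⟩,
  ⟨0, 0, 0, 0⟩, ⟨0, 5, 9, 7⟩, ⟨0, 0, 0, 0⟩, ⟨0, 0, 0, 0⟩, ⟨0, 0, 0, 0⟩,
  ⟨5, 9, 0, 4⟩, ⟨0, 0, 0, 0⟩, ⟨0, 0, 0, 0⟩, ⟨0, 0, 0, 0⟩, ⟨0, 0, 0, 0⟩,
  ⟨0, 0, 0, 0⟩, ⟨0, 0, 0, 0⟩, ⟨0, 0, 0, 0⟩, ⟨0, 0, 0, 0⟩, ⟨2, 0, 6, 4⟩,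
  ⟨0, 0, 0, 0⟩, ⟨0, 0, 0, 0⟩, ⟨6, 6, 5, 5⟩, ⟨0, 0, 0, 0⟩, ⟨0, 0, 0, 0⟩,
  ⟨5, 7, 9, 0⟩, ⟨0, 0, 0, 0⟩, ⟨0, 0, 0, 0⟩, ⟨0, 0, 0, 0⟩, ⟨0, 0, 0, 0⟩,
  ⟨0, 0, 0, 0⟩, ⟨0, 0, 0, 0⟩, ⟨0, 0, 0, 0⟩, ⟨9, 4, 0, 6⟩, ⟨0, 0, 0, 0⟩,
  ⟨0, 0, 0, 0⟩, ⟨0, 5, 2, 7⟩, ⟨0, 0, 0, 0⟩, ⟨0, 0, 0, 0⟩, ⟨0, 0, 0, 0⟩,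
  ⟨0, 0, 0, 0⟩, ⟨0, 0, 0, 0⟩, ⟨0, 0, 0, 0⟩, ⟨0, 0, 0, 0⟩, ⟨2, 0, 5, 7⟩,
  ⟨0, 0, 0, 0⟩, ⟨0, 5, 9, 4⟩, ⟨0, 0, 0, 0⟩, ⟨0, 0, 0, 0⟩, ⟨0, 0, 0, 0⟩,
  ⟨0, 0, 0, 0⟩, ⟨0, 0, 0, 0⟩, ⟨0, 0, 0, 0⟩, ⟨9, 4, 0, 5⟩, ⟨0, 0, 0, 0⟩,
  ⟨5, 7, 2, 0⟩, ⟨0, 0, 0, 0⟩, ⟨0, 0, 0, 0⟩, ⟨0, 0, 0, 0⟩, ⟨0, 0, 0, 0⟩,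
  ⟨0, 0, 0, 0⟩, ⟨0, 0, 0, 0⟩, ⟨6, 6, 6, 6⟩, ⟨0, 0, 0, 0⟩, ⟨0, 0, 0, 0⟩,
  ⟨0, 0, 0, 0⟩, ⟨0, 0, 0, 0⟩, ⟨0, 0, 0, 0⟩, ⟨0, 0, 0, 0⟩, ⟨4, 0, 9, 6⟩,
  ⟨5, 9, 0, 7⟩, ⟨0, 0, 0, 0⟩, ⟨0, 0, 0, 0⟩, ⟨0, 0, 0, 0⟩, ⟨0, 0, 0, 0⟩,
  ⟨0, 0, 0, 0⟩, ⟨0, 5, 2, 4⟩, ⟨0, 0, 0, 0⟩, ⟨0, 0, 0, 0⟩, ⟨0, 0, 0, 0⟩,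
  ⟨0, 0, 0, 0⟩, ⟨0, 0, 0, 0⟩, ⟨6, 6, 6, 5⟩, ⟨0, 0, 0, 0⟩, ⟨0, 0, 0, 0⟩,
  ⟨0, 0, 0, 0⟩, ⟨0, 0, 0, 0⟩, ⟨0, 0, 0, 0⟩, ⟨7, 2, 5, 0⟩, ⟨0, 0, 0, 0⟩]

/-- table lookup -/
def tbl (a b c d : ZMod 5) : E :=
  tblList.getD (a.val * 125 + b.val * 25 + c.val * 5 + d.val) 0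

set_option maxRecDepth 1000000

theorem tbl_one : tbl 1 0 0 1 = 1 := by decide +kernel

theorem tbl_mul : ∀ a b c d : ZMod 5, a * d - b * c = 1 → ∀ a' b' c' d' : ZMod 5,
    a' * d' - b' * c' = 1 →
    tbl (a * a' + b * c') (a * b' + b * d') (c * a' + d * c') (c * b' + d * d') =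
      tbl a b c d * tbl a' b' c' d' := by decide +kernel

theorem tbl_free : ∀ a b c d : ZMod 5, a * d - b * c = 1 →
    ¬ (a = 1 ∧ b = 0 ∧ c = 0 ∧ d = 1) → normSq (1 - tbl a b c d) ≠ 0 := by decide +kernel

end Cfsg.Agent.Lib.Helper57.SL25
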