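import Mathlib
import Cfsg.Prelude.Def_KGroupFacts
import Cfsg.Agent.Lib.Helper89.SafePres

/-!
# Cyclic Schur multiplier of prime order from a "safe" presentation of a cover

Exponent-`e` versions of the lifting lemmas of `Helper89.StemSafe` (kernel of exponent `e`, lifts of
order prime to `e`), and the criterion: if `U → G` is a stem extension with kernel of prime order
`q`, and a presentation by power relations and conjugation relations between generators of orders
prime to the exponent of all stem kernels bounds the order of every model by `|U|`, then the Schur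
multiplier of `G` is cyclic of order `q`.
-/

set_option autoImplicit false

namespace Cfsg.Agent.Lib.Helper57.SafeCover

open Cfsg.Agent.Lib.Helper89.CosetCert Cfsg.Agent.Lib.Helper89.StemSafe
open Cfsg.Agent.Lib.Helper89.SafePres

universe u

section Good

variable {Γ : Type*} {G : Type*} [Group Γ] [Group G] (σ : Γ →* G) (e : ℕ)

/-- uniqueness of lifts of order prime to the exponent of the kernel -/
theorem good_unique_exp (hcen : σ.ker ≤ Subgroup.center Γ)
    (hek : ∀ z ∈ σ.ker, z ^ e = 1) {x y : Γ} {m m' : ℕ} (hxy : σ x = σ y)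
    (hx : x ^ m = 1) (hy : y ^ m' = 1) (hm : m.Coprime e) (hm' : m'.Coprime e) : x = y := by
  set c : Γ := x⁻¹ * y with hc
  have hck : c ∈ σ.ker := by
    rw [MonoidHom.mem_ker, hc, map_mul, map_inv, hxy, inv_mul_cancel]
  have hcc := Subgroup.mem_center_iff.1 (hcen hck)
  have hyx : y = x * c := by rw [hc]; group
  have hcomm : Commute x c := (hcc x)
  have h1 : c ^ (m * m') = 1 := by
    have h2 : y ^ (m * m') = 1 := by rw [mul_comm, pow_mul, hy, one_pow]
    rw [hyx, hcomm.mul_pow, pow_mul, hx, one_pow, one_mul] at h2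
    exact h2
  have hn := hek c hck
  have hd1 := orderOf_dvd_of_pow_eq_one h1
  have hd2 := orderOf_dvd_of_pow_eq_one hn
  have hcop : (m * m').Coprime e := Nat.Coprime.mul_left hm hm'
  have : orderOf c = 1 := Nat.eq_one_of_dvd_coprimes hcop hd1 hd2
  rw [orderOf_eq_one_iff] at this
  rw [hyx, this, mul_one]

/-- existence of lifts of order prime to the exponent of the kernel -/
theorem good_exists_exp (hsurj : Function.Surjective σ) (hcen : σ.ker ≤ Subgroup.center Γ)
    (hek : ∀ z ∈ σ.ker, z ^ e = 1) (g : G) (n : ℕ) (hg : g ^ n = 1)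
    (hn : n.Coprime e) : ∃ γ : Γ, σ γ = g ∧ γ ^ n = 1 := by
  obtain ⟨γ0, hγ0⟩ := hsurj g
  set k : Γ := γ0 ^ n with hk
  have hkk : k ∈ σ.ker := by rw [MonoidHom.mem_ker, hk, map_pow, hγ0, hg]
  have ha := hek k hkk
  -- Bezout: `n * u ≡ 1` modulo `e` in the form `n * u = 1 + e * v`
  have hgcd : Nat.gcd n e = 1 := hn
  by_cases hn0 : n = 0
  · -- then `e = 1` and `k = 1`
    rw [hn0, Nat.gcd_zero_left] at hgcd
    refine ⟨γ0, hγ0, ?_⟩
    rw [hgcd, pow_one] at ha
    exact ha
  have hkc := Subgroup.mem_center_iff.1 (hcen hkk)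
  -- integers `a b` with `n * a + e * b = 1`
  have hbez : (n : ℤ) * Int.gcdA n e + (e : ℤ) * Int.gcdB n e = 1 := by
    have := Int.gcd_eq_gcd_ab (n : ℤ) (e : ℤ)
    rw [← this]
    have : Int.gcd (n : ℤ) (e : ℤ) = 1 := by
      rw [Int.gcd_natCast_natCast]; exact hgcd
    rw [this]; rfl
  set a : ℤ := Int.gcdA n e with ha'
  set b : ℤ := Int.gcdB n e with hb'
  have hke : k ^ ((e : ℤ) * b) = 1 := by
    rw [zpow_mul, zpow_natCast, ha, one_zpow]
  have hkna : k ^ ((n : ℤ) * a) = k := by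
    have h1 : k ^ ((n : ℤ) * a + (e : ℤ) * b) = k := by rw [hbez, zpow_one]
    rw [zpow_add, hke, mul_one] at h1
    exact h1
  set k' : Γ := (k ^ a)⁻¹ with hk'
  have hk'k : k' ∈ σ.ker := inv_mem (zpow_mem hkk a)
  have hk'c := Subgroup.mem_center_iff.1 (hcen hk'k)
  refine ⟨γ0 * k', ?_, ?_⟩
  · rw [map_mul, hγ0, MonoidHom.mem_ker.1 hk'k, mul_one]
  · have hcomm : Commute γ0 k' := hk'c γ0
    rw [hcomm.mul_pow, ← hk, hk', inv_pow, ← zpow_natCast (k ^ a) n, ← zpow_mul, mul_comm a,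
      hkna, mul_inv_cancel]

/-- conjugation relations between lifts of order prime to the exponent lift -/
theorem safe_rel_exp (hcen : σ.ker ≤ Subgroup.center Γ)
    (hek : ∀ z ∈ σ.ker, z ^ e = 1) {ti tj W : Γ} {ni nj : ℕ}
    (hi : ti ^ ni = 1) (hj : tj ^ nj = 1) (hni : ni.Coprime e) (hnj : nj.Coprime e) (z : ℤ)
    (h : σ W * σ ti * (σ W)⁻¹ = σ tj ^ z) : W * ti * W⁻¹ = tj ^ z := by
  apply good_unique_exp σ e hcen hek (m := ni) (m' := nj) _ _ _ hni hnj
  · rw [map_mul, map_mul, map_inv, h, map_zpow]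
  · rw [conj_pow, hi, mul_one, mul_inv_cancel]
  · rw [← zpow_natCast, ← zpow_mul, mul_comm, zpow_mul, zpow_natCast, hj, one_zpow]

/-- conjugation relators lift to central extensions with kernel of exponent `e` -/
theorem lift_srel_exp (hcen : σ.ker ≤ Subgroup.center Γ) (hek : ∀ z ∈ σ.ker, z ^ e = 1)
    (t : ℕ → Γ) (ord : ℕ → ℕ) (ht : ∀ i, t i ^ ord i = 1) (hcop : ∀ i, (ord i).Coprime e)
    (r : SRel) (h : ev (fun i => σ (t i)) r.word = 1) : ev t r.word = 1 := by
  rw [ev_srel_eq_one_iff] at h ⊢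
  rw [← ev_map_hom σ t r.W] at h
  exact safe_rel_exp σ e hcen hek (ht r.i) (ht r.j) (hcop r.i) (hcop r.j) _ h

end Good

/-- a subgroup of a stem extension that maps onto the base is everything -/
theorem eq_top_of_map_eq_top {Γ : Type*} {G : Type*} [Group Γ] [Group G] (σ : Γ →* G)
    (hσ : Cfsg.IsStemExtension σ) (T : Subgroup Γ) (hT : T.map σ = ⊤) : T = ⊤ := by
  obtain ⟨hsurj, hcen, hcomm⟩ := hσ
  have hdec : ∀ γ : Γ, ∃ l ∈ T, ∃ k ∈ σ.ker, γ = l * k := by
    intro γ
    have : σ γ ∈ T.map σ := by rw [hT]; trivial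
    obtain ⟨l, hl, hlγ⟩ := this
    refine ⟨l, hl, l⁻¹ * γ, ?_, by group⟩
    rw [MonoidHom.mem_ker, map_mul, map_inv, hlγ, inv_mul_cancel]
  have hle : commutator Γ ≤ T := by
    rw [commutator_def, Subgroup.commutator_le]
    intro x _ y _
    obtain ⟨l1, hl1, k1, hk1, rfl⟩ := hdec x
    obtain ⟨l2, hl2, k2, hk2, rfl⟩ := hdec y
    rw [commutator_mul_central l1 l2 k1 k2 (Subgroup.mem_center_iff.1 (hcen hk1))
      (Subgroup.mem_center_iff.1 (hcen hk2))]
    rw [commutatorElement_def]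
    exact T.mul_mem (T.mul_mem (T.mul_mem hl1 hl2) (T.inv_mem hl1)) (T.inv_mem hl2)
  rw [eq_top_iff]
  intro γ _
  obtain ⟨l, hl, k, hk, rfl⟩ := hdec γ
  exact T.mul_mem hl (hle (hcomm hk))

/-- **Criterion**: cyclic Schur multiplier of prime order `q`. -/
theorem hasCyclicSchurMultiplier_of_safe_cover {G U : Type u} [Group G] [Finite G] [Group U]
    [Finite U] (π : U →* G) (hπ : Cfsg.IsStemExtension π) (q : ℕ) [Fact q.Prime]
    (hq : Nat.card π.ker = q) (e : ℕ)
    (hexp : ∀ (Γ : Type u) [Group Γ] [Finite Γ] (σ : Γ →* G), Cfsg.IsStemExtension σ →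
      ∀ z ∈ σ.ker, z ^ e = 1)
    (k : ℕ) (g : ℕ → G) (ord : ℕ → ℕ) (hord : ∀ i, g i ^ ord i = 1)
    (hcop : ∀ i, (ord i).Coprime e)
    (hgen : Subgroup.closure {y | ∃ i < k, y = g i} = ⊤)
    (srels : List SRel) (hvalid : ∀ r ∈ srels, ev g r.word = 1)
    (hbound : ∀ (L : Type u) [Group L] [Finite L] (t : ℕ → L), (∀ i, t i ^ ord i = 1) →
      (∀ r ∈ srels, ev t r.word = 1) →
      Nat.card (Subgroup.closure {y | ∃ i < k, y = t i}) ≤ Nat.card U) :
    Cfsg.HasCyclicSchurMultiplier G q := by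
  classical
  -- the kernel of `π` is cyclic of order `q`
  have hcyc : IsCyclic π.ker := isCyclic_of_prime_card hq
  have hiso : Nonempty (Multiplicative (ZMod q) ≃* π.ker) := by
    have h := zmodCyclicMulEquiv hcyc
    rw [hq] at h
    exact ⟨h⟩
  obtain ⟨ι⟩ := hiso
  refine ⟨⟨U, inferInstance, inferInstance, π, hπ, ⟨ι.symm⟩⟩, ?_⟩
  intro Γ _ _ σ hσ
  -- lifts of the generators in `U` and in `Γ`
  have hekU := hexp U π hπ
  have hekΓ := hexp Γ σ hσ
  obtain ⟨hsurjU, hcenU, hcommU⟩ := hπ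
  obtain ⟨hsurjΓ, hcenΓ, hcommΓ⟩ := hσ
  have hexU : ∀ i, ∃ υ : U, π υ = g i ∧ υ ^ ord i = 1 := fun i =>
    good_exists_exp π e hsurjU hcenU hekU (g i) (ord i) (hord i) (hcop i)
  have hexΓ : ∀ i, ∃ γ : Γ, σ γ = g i ∧ γ ^ ord i = 1 := fun i =>
    good_exists_exp σ e hsurjΓ hcenΓ hekΓ (g i) (ord i) (hord i) (hcop i)
  choose u hπu hu using hexU
  choose t hσt ht using hexΓ
  have hrelU : ∀ r ∈ srels, ev u r.word = 1 := by
    intro r hr
    apply lift_srel_exp π e hcenU hekU u ord hu hcop r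
    rw [funext hπu]
    exact hvalid r hr
  have hrelΓ : ∀ r ∈ srels, ev t r.word = 1 := by
    intro r hr
    apply lift_srel_exp σ e hcenΓ hekΓ t ord ht hcop r
    rw [funext hσt]
    exact hvalid r hr
  -- the diagonal subgroup
  let p : ℕ → Γ × U := fun i => (t i, u i)
  have hp : ∀ i, p i ^ ord i = 1 := by
    intro i
    show (t i, u i) ^ ord i = 1
    rw [Prod.pow_mk, ht, hu]; rfl
  have hrelp : ∀ r ∈ srels, ev p r.word = 1 := by
    intro r hr
    apply Prod.ext
    · have := ev_map_hom (MonoidHom.fst Γ U) p r.word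
      simp only [MonoidHom.coe_fst] at this
      rw [this]
      exact hrelΓ r hr
    · have := ev_map_hom (MonoidHom.snd Γ U) p r.word
      simp only [MonoidHom.coe_snd] at this
      rw [this]
      exact hrelU r hr
  set D : Subgroup (Γ × U) := Subgroup.closure {y | ∃ i < k, y = p i} with hD
  have hcardD : Nat.card D ≤ Nat.card U := hbound (Γ × U) p hp hrelp
  -- both projections of `D` are onto
  have hfst : D.map (MonoidHom.fst Γ U) = ⊤ := by
    apply eq_top_of_map_eq_top σ ⟨hsurjΓ, hcenΓ, hcommΓ⟩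
    rw [map_closure_eq (MonoidHom.fst Γ U) k p t (fun i => rfl),
      map_closure_eq σ k t g hσt, hgen]
  have hsnd : D.map (MonoidHom.snd Γ U) = ⊤ := by
    apply eq_top_of_map_eq_top π ⟨hsurjU, hcenU, hcommU⟩
    rw [map_closure_eq (MonoidHom.snd Γ U) k p u (fun i => rfl),
      map_closure_eq π k u g hπu, hgen]
  -- compatibility on `D`
  have hcompat : ∀ d ∈ D, σ d.1 = π d.2 := by
    intro d hd
    induction hd using Subgroup.closure_induction with
    | mem y hy =>
      obtain ⟨i, -, rfl⟩ := hy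
      show σ (t i) = π (u i)
      rw [hσt, hπu]
    | one => simp
    | mul x y _ _ hx hy => simp [hx, hy]
    | inv x _ hx => simp [hx]
  -- the second projection restricted to `D` is bijective
  let s2 : D →* U := (MonoidHom.snd Γ U).comp D.subtype
  have hs2s : Function.Surjective s2 := by
    intro υ
    have : υ ∈ D.map (MonoidHom.snd Γ U) := by rw [hsnd]; trivial
    obtain ⟨d, hd, rfl⟩ := this
    exact ⟨⟨d, hd⟩, rfl⟩
  have hs2b : Function.Bijective s2 := by
    have hge : Nat.card U ≤ Nat.card D := Nat.card_le_card_of_surjective s2 hs2s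
    exact (Nat.bijective_iff_surjective_and_card s2).2 ⟨hs2s, le_antisymm hcardD hge⟩
  let eD : D ≃* U := MulEquiv.ofBijective s2 hs2b
  let θ : U →* Γ := ((MonoidHom.fst Γ U).comp D.subtype).comp eD.symm.toMonoidHom
  have hθ : ∀ υ : U, σ (θ υ) = π υ := by
    intro υ
    have h1 := hcompat (eD.symm υ).1 (eD.symm υ).2
    have h2 : ((eD.symm υ).1).2 = υ := by
      have := eD.apply_symm_apply υ
      exact this
    show σ ((eD.symm υ).1).1 = π υ
    rw [h1, h2]
  have hθs : Function.Surjective θ := by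
    intro γ
    have : γ ∈ D.map (MonoidHom.fst Γ U) := by rw [hfst]; trivial
    obtain ⟨d, hd, rfl⟩ := this
    refine ⟨eD ⟨d, hd⟩, ?_⟩
    show ((eD.symm (eD ⟨d, hd⟩)).1).1 = d.1
    rw [eD.symm_apply_apply]
  -- the induced map on kernels
  let ρ : π.ker →* σ.ker := (θ.comp π.ker.subtype).codRestrict σ.ker (by
    intro z
    rw [MonoidHom.mem_ker]
    show σ (θ z.1) = 1
    rw [hθ]
    exact z.2)
  have hρs : Function.Surjective ρ := by
    rintro ⟨z, hz⟩
    obtain ⟨υ, rfl⟩ := hθs z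
    have hυ : υ ∈ π.ker := by
      rw [MonoidHom.mem_ker, ← hθ]
      exact hz
    exact ⟨⟨υ, hυ⟩, rfl⟩
  exact ⟨ρ.comp ι.toMonoidHom, hρs.comp ι.surjective⟩

end Cfsg.Agent.Lib.Helper57.SafeCover
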