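import Mathlib
import Cfsg.Agent.Lib.Helper27.TernaryGolay
import Cfsg.Agent.Lib.Helper27.TernaryHexads

set_option autoImplicit false

/-! Data and kernel computations for the monomial automorphism group `2.M12` of the ternary
Golay code of length 12. -/

namespace Cfsg.Agent.Lib.Helper57.TG12

open Cfsg Cfsg.Agent.Lib.Helper27

/-- the twelve points -/
abbrev Pt : Type := ArrayPt

/-- the index `0..11` of a point -/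
def idx (p : Pt) : ℕ := 3 * p.1.val + p.2.val

/-- the data of a monomial map: images, inverse images, signs (as elements of `ZMod 3`) -/
structure Dat where
  imgs : List Pt
  invs : List Pt
  sgn : List (ZMod 3)

/-- the permutation -/
def Dat.f (d : Dat) (p : Pt) : Pt := d.imgs.getD (idx p) p
/-- the inverse permutation -/
def Dat.g (d : Dat) (p : Pt) : Pt := d.invs.getD (idx p) p
/-- the sign at a point -/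
def Dat.s (d : Dat) (p : Pt) : ZMod 3 := d.sgn.getD (idx p) 1

/-- decidable membership in the code: re-encode the information symbols -/
def memC (y : Pt → ZMod 3) : Prop := y = tenc (fun k => y (tinfo k))

instance : DecidablePred memC := fun y => by unfold memC; infer_instance

/-- validity of the data: a permutation with its inverse, signs `±1`, and the six basis words are
mapped into the code -/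
def Dat.Valid (d : Dat) : Prop :=
  (∀ p, d.g (d.f p) = p) ∧ (∀ p, d.f (d.g p) = p) ∧ (∀ p, d.s p = 1 ∨ d.s p = -1) ∧
    ∀ k : Fin 6, memC (fun i => d.s i * tbasis k (d.g i))

instance (d : Dat) : Decidable d.Valid := by unfold Dat.Valid; infer_instance

/-- the five base points -/
def base : Fin 5 → Pt := ![(0, 0), (0, 1), (0, 2), (1, 0), (1, 1)]

/-- the identity data -/
def idDat : Dat := ⟨[], [], []⟩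

/-- transversal data: `chainTbl[k][idx t]` fixes `base i` for `i < k` and maps `base k` to `t` -/
def chainTbl : List (List Dat) := [
  [⟨[(0, 0), (0, 1), (0, 2), (1, 0), (1, 1), (1, 2), (2, 0), (2, 1), (2, 2), (3, 0), (3, 1), (3, 2)], [(0, 0), (0, 1), (0, 2), (1, 0), (1, 1), (1, 2), (2, 0), (2, 1), (2, 2), (3, 0), (3, 1), (3, 2)], [1, 1, 1, 1, 1, 1, 1, 1, 1, 1, 1, 1]⟩,
   ⟨[(0, 1), (0, 0), (0, 2), (1, 0), (1, 1), (1, 2), (3, 2), (3, 0), (3, 1), (2, 1), (2, 2), (2, 0)], [(0, 1), (0, 0), (0, 2), (1, 0), (1, 1), (1, 2), (3, 2), (3, 0), (3, 1), (2, 1), (2, 2), (2, 0)], [1, 1, 1, 1, 1, 1, 1, 1, 1, 1, 1, 1]⟩,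
   ⟨[(0, 2), (0, 0), (0, 1), (1, 0), (1, 1), (1, 2), (2, 2), (2, 0), (2, 1), (3, 1), (3, 2), (3, 0)], [(0, 1), (0, 2), (0, 0), (1, 0), (1, 1), (1, 2), (2, 1), (2, 2), (2, 0), (3, 2), (3, 0), (3, 1)], [1, 1, 1, 1, 1, 1, 1, 1, 1, 1, 1, 1]⟩,
   ⟨[(1, 0), (0, 0), (0, 1), (0, 2), (1, 1), (1, 2), (3, 1), (2, 1), (2, 0), (2, 2), (3, 0), (3, 2)], [(0, 1), (0, 2), (1, 0), (0, 0), (1, 1), (1, 2), (2, 2), (2, 1), (3, 0), (3, 1), (2, 0), (3, 2)], [1, 1, 2, 2, 1, 1, 2, 2, 1, 2, 1, 2]⟩,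
   ⟨[(1, 1), (0, 0), (0, 1), (0, 2), (1, 0), (1, 2), (2, 0), (3, 0), (3, 1), (3, 2), (2, 1), (2, 2)], [(0, 1), (0, 2), (1, 0), (1, 1), (0, 0), (1, 2), (2, 0), (3, 1), (3, 2), (2, 1), (2, 2), (3, 0)], [1, 1, 2, 1, 2, 1, 1, 2, 2, 2, 2, 1]⟩,
   ⟨[(1, 2), (0, 0), (0, 1), (0, 2), (1, 0), (1, 1), (3, 0), (2, 0), (2, 2), (2, 1), (3, 2), (3, 1)], [(0, 1), (0, 2), (1, 0), (1, 1), (1, 2), (0, 0), (2, 1), (3, 0), (2, 2), (2, 0), (3, 2), (3, 1)], [1, 1, 2, 1, 1, 2, 2, 1, 2, 1, 2, 2]⟩,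
   ⟨[(2, 0), (0, 0), (0, 1), (0, 2), (1, 0), (3, 0), (1, 2), (1, 1), (2, 1), (3, 1), (2, 2), (3, 2)], [(0, 1), (0, 2), (1, 0), (1, 1), (2, 1), (2, 0), (0, 0), (2, 2), (3, 1), (1, 2), (3, 0), (3, 2)], [1, 2, 1, 1, 2, 1, 2, 2, 2, 1, 1, 2]⟩,
   ⟨[(2, 1), (0, 0), (0, 1), (0, 2), (1, 0), (3, 2), (3, 1), (2, 2), (3, 0), (1, 1), (1, 2), (2, 0)], [(0, 1), (0, 2), (1, 0), (1, 1), (3, 0), (3, 1), (3, 2), (0, 0), (2, 1), (2, 2), (2, 0), (1, 2)], [1, 2, 2, 2, 2, 1, 1, 1, 1, 1, 2, 2]⟩,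
   ⟨[(2, 2), (0, 0), (0, 1), (0, 2), (1, 0), (3, 1), (2, 1), (3, 2), (1, 1), (2, 0), (3, 0), (1, 2)], [(0, 1), (0, 2), (1, 0), (1, 1), (2, 2), (3, 2), (3, 0), (2, 0), (0, 0), (3, 1), (1, 2), (2, 1)], [1, 1, 1, 2, 1, 1, 2, 2, 1, 1, 2, 1]⟩,
   ⟨[(3, 0), (0, 0), (0, 1), (0, 2), (1, 0), (2, 0), (1, 1), (1, 2), (3, 2), (2, 2), (3, 1), (2, 1)], [(0, 1), (0, 2), (1, 0), (1, 1), (2, 0), (2, 1), (1, 2), (3, 2), (3, 0), (0, 0), (3, 1), (2, 2)], [1, 2, 1, 1, 1, 2, 1, 2, 1, 2, 2, 2]⟩,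
   ⟨[(3, 1), (0, 0), (0, 1), (0, 2), (1, 0), (2, 2), (3, 2), (2, 1), (1, 2), (3, 0), (2, 0), (1, 1)], [(0, 1), (0, 2), (1, 0), (1, 1), (3, 2), (2, 2), (3, 1), (2, 1), (1, 2), (3, 0), (0, 0), (2, 0)], [1, 1, 1, 2, 1, 1, 1, 1, 2, 2, 1, 2]⟩,
   ⟨[(3, 2), (0, 0), (0, 1), (0, 2), (1, 0), (2, 1), (2, 2), (3, 1), (2, 0), (1, 2), (1, 1), (3, 0)], [(0, 1), (0, 2), (1, 0), (1, 1), (3, 1), (3, 0), (2, 2), (1, 2), (2, 0), (3, 2), (2, 1), (0, 0)], [1, 2, 2, 2, 1, 2, 1, 2, 2, 1, 1, 1]⟩],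
  [⟨[(0, 0), (0, 1), (0, 2), (1, 0), (1, 1), (1, 2), (2, 0), (2, 1), (2, 2), (3, 0), (3, 1), (3, 2)], [(0, 0), (0, 1), (0, 2), (1, 0), (1, 1), (1, 2), (2, 0), (2, 1), (2, 2), (3, 0), (3, 1), (3, 2)], [1, 1, 1, 1, 1, 1, 1, 1, 1, 1, 1, 1]⟩,
   ⟨[(0, 0), (0, 1), (0, 2), (1, 0), (1, 1), (1, 2), (2, 0), (2, 1), (2, 2), (3, 0), (3, 1), (3, 2)], [(0, 0), (0, 1), (0, 2), (1, 0), (1, 1), (1, 2), (2, 0), (2, 1), (2, 2), (3, 0), (3, 1), (3, 2)], [1, 1, 1, 1, 1, 1, 1, 1, 1, 1, 1, 1]⟩,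
   ⟨[(0, 0), (0, 2), (0, 1), (1, 0), (1, 1), (1, 2), (3, 0), (3, 1), (3, 2), (2, 0), (2, 1), (2, 2)], [(0, 0), (0, 2), (0, 1), (1, 0), (1, 1), (1, 2), (3, 0), (3, 1), (3, 2), (2, 0), (2, 1), (2, 2)], [1, 1, 1, 1, 1, 1, 1, 1, 1, 1, 1, 1]⟩,
   ⟨[(0, 0), (1, 0), (0, 1), (0, 2), (1, 1), (1, 2), (3, 2), (2, 2), (3, 0), (2, 1), (2, 0), (3, 1)], [(0, 0), (0, 2), (1, 0), (0, 1), (1, 1), (1, 2), (3, 1), (3, 0), (2, 1), (2, 2), (3, 2), (2, 0)], [1, 1, 2, 2, 1, 1, 2, 2, 1, 2, 1, 2]⟩,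
   ⟨[(0, 0), (1, 1), (0, 1), (0, 2), (1, 0), (1, 2), (2, 2), (3, 2), (2, 1), (3, 0), (3, 1), (2, 0)], [(0, 0), (0, 2), (1, 0), (1, 1), (0, 1), (1, 2), (3, 2), (2, 2), (2, 0), (3, 0), (3, 1), (2, 1)], [1, 1, 2, 1, 2, 1, 1, 2, 2, 2, 2, 1]⟩,
   ⟨[(0, 0), (1, 2), (0, 1), (0, 2), (1, 0), (1, 1), (3, 1), (2, 1), (3, 2), (2, 0), (2, 2), (3, 0)], [(0, 0), (0, 2), (1, 0), (1, 1), (1, 2), (0, 1), (3, 0), (2, 1), (3, 1), (3, 2), (2, 0), (2, 2)], [1, 1, 2, 1, 1, 2, 2, 1, 2, 1, 2, 2]⟩,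
   ⟨[(0, 0), (2, 0), (0, 1), (0, 2), (1, 0), (3, 0), (3, 2), (3, 1), (2, 2), (1, 1), (2, 1), (1, 2)], [(0, 0), (0, 2), (1, 0), (1, 1), (3, 0), (3, 2), (0, 1), (3, 1), (2, 2), (1, 2), (2, 1), (2, 0)], [1, 2, 1, 1, 2, 1, 2, 2, 2, 1, 1, 2]⟩,
   ⟨[(0, 0), (2, 1), (0, 1), (0, 2), (1, 0), (3, 2), (2, 0), (1, 1), (1, 2), (2, 2), (3, 0), (3, 1)], [(0, 0), (0, 2), (1, 0), (1, 1), (2, 1), (2, 2), (2, 0), (0, 1), (3, 0), (3, 1), (3, 2), (1, 2)], [1, 2, 2, 2, 2, 1, 1, 1, 1, 1, 2, 2]⟩,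
   ⟨[(0, 0), (2, 2), (0, 1), (0, 2), (1, 0), (3, 1), (1, 2), (2, 0), (3, 0), (3, 2), (1, 1), (2, 1)], [(0, 0), (0, 2), (1, 0), (1, 1), (3, 1), (2, 0), (2, 1), (3, 2), (0, 1), (2, 2), (1, 2), (3, 0)], [1, 1, 1, 2, 1, 1, 2, 2, 1, 1, 2, 1]⟩,
   ⟨[(0, 0), (3, 0), (0, 1), (0, 2), (1, 0), (2, 0), (2, 1), (2, 2), (3, 1), (1, 2), (3, 2), (1, 1)], [(0, 0), (0, 2), (1, 0), (1, 1), (3, 2), (3, 0), (1, 2), (2, 0), (2, 1), (0, 1), (2, 2), (3, 1)], [1, 2, 1, 1, 1, 2, 1, 2, 1, 2, 2, 2]⟩,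
   ⟨[(0, 0), (3, 1), (0, 1), (0, 2), (1, 0), (2, 2), (1, 1), (3, 0), (2, 0), (2, 1), (1, 2), (3, 2)], [(0, 0), (0, 2), (1, 0), (1, 1), (2, 0), (3, 1), (2, 2), (3, 0), (1, 2), (2, 1), (0, 1), (3, 2)], [1, 1, 1, 2, 1, 1, 1, 1, 2, 2, 1, 2]⟩,
   ⟨[(0, 0), (3, 2), (0, 1), (0, 2), (1, 0), (2, 1), (3, 0), (1, 2), (1, 1), (3, 1), (2, 0), (2, 2)], [(0, 0), (0, 2), (1, 0), (1, 1), (2, 2), (2, 1), (3, 1), (1, 2), (3, 2), (2, 0), (3, 0), (0, 1)], [1, 2, 2, 2, 1, 2, 1, 2, 2, 1, 1, 1]⟩],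
  [⟨[(0, 0), (0, 1), (0, 2), (1, 0), (1, 1), (1, 2), (2, 0), (2, 1), (2, 2), (3, 0), (3, 1), (3, 2)], [(0, 0), (0, 1), (0, 2), (1, 0), (1, 1), (1, 2), (2, 0), (2, 1), (2, 2), (3, 0), (3, 1), (3, 2)], [1, 1, 1, 1, 1, 1, 1, 1, 1, 1, 1, 1]⟩,
   ⟨[(0, 0), (0, 1), (0, 2), (1, 0), (1, 1), (1, 2), (2, 0), (2, 1), (2, 2), (3, 0), (3, 1), (3, 2)], [(0, 0), (0, 1), (0, 2), (1, 0), (1, 1), (1, 2), (2, 0), (2, 1), (2, 2), (3, 0), (3, 1), (3, 2)], [1, 1, 1, 1, 1, 1, 1, 1, 1, 1, 1, 1]⟩,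
   ⟨[(0, 0), (0, 1), (0, 2), (1, 0), (1, 1), (1, 2), (2, 0), (2, 1), (2, 2), (3, 0), (3, 1), (3, 2)], [(0, 0), (0, 1), (0, 2), (1, 0), (1, 1), (1, 2), (2, 0), (2, 1), (2, 2), (3, 0), (3, 1), (3, 2)], [1, 1, 1, 1, 1, 1, 1, 1, 1, 1, 1, 1]⟩,
   ⟨[(0, 0), (0, 1), (1, 0), (0, 2), (1, 1), (1, 2), (2, 1), (2, 0), (3, 1), (3, 2), (2, 2), (3, 0)], [(0, 0), (0, 1), (1, 0), (0, 2), (1, 1), (1, 2), (2, 1), (2, 0), (3, 1), (3, 2), (2, 2), (3, 0)], [1, 1, 2, 2, 1, 1, 2, 2, 1, 2, 1, 2]⟩,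
   ⟨[(0, 0), (0, 1), (1, 1), (0, 2), (1, 0), (1, 2), (3, 0), (3, 1), (2, 0), (2, 2), (3, 2), (2, 1)], [(0, 0), (0, 1), (1, 0), (1, 1), (0, 2), (1, 2), (2, 2), (3, 2), (3, 0), (2, 0), (2, 1), (3, 1)], [1, 1, 2, 1, 2, 1, 1, 2, 2, 2, 2, 1]⟩,
   ⟨[(0, 0), (0, 1), (1, 2), (0, 2), (1, 0), (1, 1), (2, 0), (2, 2), (3, 0), (3, 1), (2, 1), (3, 2)], [(0, 0), (0, 1), (1, 0), (1, 1), (1, 2), (0, 2), (2, 0), (3, 1), (2, 1), (2, 2), (3, 0), (3, 2)], [1, 1, 2, 1, 1, 2, 2, 1, 2, 1, 2, 2]⟩,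
   ⟨[(0, 0), (0, 1), (2, 0), (0, 2), (1, 0), (3, 0), (1, 1), (2, 1), (1, 2), (3, 2), (3, 1), (2, 2)], [(0, 0), (0, 1), (1, 0), (1, 1), (2, 0), (2, 2), (0, 2), (2, 1), (3, 2), (1, 2), (3, 1), (3, 0)], [1, 2, 1, 1, 2, 1, 2, 2, 2, 1, 1, 2]⟩,
   ⟨[(0, 0), (0, 1), (2, 1), (0, 2), (1, 0), (3, 2), (2, 2), (3, 0), (3, 1), (2, 0), (1, 1), (1, 2)], [(0, 0), (0, 1), (1, 0), (1, 1), (3, 1), (3, 2), (3, 0), (0, 2), (2, 0), (2, 1), (2, 2), (1, 2)], [1, 2, 2, 2, 2, 1, 1, 1, 1, 1, 2, 2]⟩,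
   ⟨[(0, 0), (0, 1), (2, 2), (0, 2), (1, 0), (3, 1), (3, 2), (1, 1), (2, 1), (1, 2), (2, 0), (3, 0)], [(0, 0), (0, 1), (1, 0), (1, 1), (2, 1), (3, 0), (3, 1), (2, 2), (0, 2), (3, 2), (1, 2), (2, 0)], [1, 1, 1, 2, 1, 1, 2, 2, 1, 1, 2, 1]⟩,
   ⟨[(0, 0), (0, 1), (3, 0), (0, 2), (1, 0), (2, 0), (1, 2), (3, 2), (1, 1), (2, 1), (2, 2), (3, 1)], [(0, 0), (0, 1), (1, 0), (1, 1), (2, 2), (2, 0), (1, 2), (3, 0), (3, 1), (0, 2), (3, 2), (2, 1)], [1, 2, 1, 1, 1, 2, 1, 2, 1, 2, 2, 2]⟩,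
   ⟨[(0, 0), (0, 1), (3, 1), (0, 2), (1, 0), (2, 2), (2, 1), (1, 2), (3, 2), (1, 1), (3, 0), (2, 0)], [(0, 0), (0, 1), (1, 0), (1, 1), (3, 0), (2, 1), (3, 2), (2, 0), (1, 2), (3, 1), (0, 2), (2, 2)], [1, 1, 1, 2, 1, 1, 1, 1, 2, 2, 1, 2]⟩,
   ⟨[(0, 0), (0, 1), (3, 2), (0, 2), (1, 0), (2, 1), (3, 1), (2, 0), (2, 2), (3, 0), (1, 2), (1, 1)], [(0, 0), (0, 1), (1, 0), (1, 1), (3, 2), (3, 1), (2, 1), (1, 2), (2, 2), (3, 0), (2, 0), (0, 2)], [1, 2, 2, 2, 1, 2, 1, 2, 2, 1, 1, 1]⟩],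
  [⟨[(0, 0), (0, 1), (0, 2), (1, 0), (1, 1), (1, 2), (2, 0), (2, 1), (2, 2), (3, 0), (3, 1), (3, 2)], [(0, 0), (0, 1), (0, 2), (1, 0), (1, 1), (1, 2), (2, 0), (2, 1), (2, 2), (3, 0), (3, 1), (3, 2)], [1, 1, 1, 1, 1, 1, 1, 1, 1, 1, 1, 1]⟩,
   ⟨[(0, 0), (0, 1), (0, 2), (1, 0), (1, 1), (1, 2), (2, 0), (2, 1), (2, 2), (3, 0), (3, 1), (3, 2)], [(0, 0), (0, 1), (0, 2), (1, 0), (1, 1), (1, 2), (2, 0), (2, 1), (2, 2), (3, 0), (3, 1), (3, 2)], [1, 1, 1, 1, 1, 1, 1, 1, 1, 1, 1, 1]⟩,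
   ⟨[(0, 0), (0, 1), (0, 2), (1, 0), (1, 1), (1, 2), (2, 0), (2, 1), (2, 2), (3, 0), (3, 1), (3, 2)], [(0, 0), (0, 1), (0, 2), (1, 0), (1, 1), (1, 2), (2, 0), (2, 1), (2, 2), (3, 0), (3, 1), (3, 2)], [1, 1, 1, 1, 1, 1, 1, 1, 1, 1, 1, 1]⟩,
   ⟨[(0, 0), (0, 1), (0, 2), (1, 0), (1, 1), (1, 2), (2, 0), (2, 1), (2, 2), (3, 0), (3, 1), (3, 2)], [(0, 0), (0, 1), (0, 2), (1, 0), (1, 1), (1, 2), (2, 0), (2, 1), (2, 2), (3, 0), (3, 1), (3, 2)], [1, 1, 1, 1, 1, 1, 1, 1, 1, 1, 1, 1]⟩,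
   ⟨[(0, 0), (0, 1), (0, 2), (1, 1), (1, 0), (1, 2), (3, 1), (3, 0), (3, 2), (2, 1), (2, 0), (2, 2)], [(0, 0), (0, 1), (0, 2), (1, 1), (1, 0), (1, 2), (3, 1), (3, 0), (3, 2), (2, 1), (2, 0), (2, 2)], [1, 1, 1, 1, 1, 1, 1, 1, 1, 1, 1, 1]⟩,
   ⟨[(0, 0), (0, 1), (0, 2), (1, 2), (1, 0), (1, 1), (2, 2), (2, 0), (2, 1), (3, 2), (3, 0), (3, 1)], [(0, 0), (0, 1), (0, 2), (1, 1), (1, 2), (1, 0), (2, 1), (2, 2), (2, 0), (3, 1), (3, 2), (3, 0)], [1, 1, 1, 1, 1, 1, 1, 1, 1, 1, 1, 1]⟩,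
   ⟨[(0, 0), (0, 1), (0, 2), (2, 0), (1, 0), (3, 0), (2, 1), (1, 1), (3, 1), (2, 2), (1, 2), (3, 2)], [(0, 0), (0, 1), (0, 2), (1, 1), (2, 1), (3, 1), (1, 0), (2, 0), (3, 0), (1, 2), (2, 2), (3, 2)], [1, 2, 2, 1, 1, 1, 1, 1, 1, 1, 1, 1]⟩,
   ⟨[(0, 0), (0, 1), (0, 2), (2, 1), (1, 0), (3, 2), (3, 0), (2, 2), (1, 1), (1, 2), (3, 1), (2, 0)], [(0, 0), (0, 1), (0, 2), (1, 1), (2, 2), (3, 0), (3, 2), (1, 0), (2, 1), (2, 0), (3, 1), (1, 2)], [1, 2, 1, 2, 2, 2, 2, 2, 2, 2, 2, 2]⟩,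
   ⟨[(0, 0), (0, 1), (0, 2), (2, 2), (1, 0), (3, 1), (1, 1), (3, 2), (2, 0), (3, 0), (2, 1), (1, 2)], [(0, 0), (0, 1), (0, 2), (1, 1), (2, 0), (3, 2), (2, 2), (3, 1), (1, 0), (3, 0), (1, 2), (2, 1)], [1, 1, 2, 2, 2, 2, 2, 2, 2, 2, 2, 2]⟩,
   ⟨[(0, 0), (0, 1), (0, 2), (3, 0), (1, 0), (2, 0), (3, 2), (1, 2), (2, 2), (3, 1), (1, 1), (2, 1)], [(0, 0), (0, 1), (0, 2), (1, 1), (3, 1), (2, 1), (1, 2), (3, 2), (2, 2), (1, 0), (3, 0), (2, 0)], [1, 2, 2, 1, 1, 1, 1, 1, 1, 1, 1, 1]⟩,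
   ⟨[(0, 0), (0, 1), (0, 2), (3, 1), (1, 0), (2, 2), (1, 2), (2, 1), (3, 0), (2, 0), (3, 2), (1, 1)], [(0, 0), (0, 1), (0, 2), (1, 1), (3, 2), (2, 0), (3, 0), (2, 1), (1, 2), (2, 2), (1, 0), (3, 1)], [1, 1, 2, 2, 2, 2, 2, 2, 2, 2, 2, 2]⟩,
   ⟨[(0, 0), (0, 1), (0, 2), (3, 2), (1, 0), (2, 1), (2, 0), (3, 1), (1, 2), (1, 1), (2, 2), (3, 0)], [(0, 0), (0, 1), (0, 2), (1, 1), (3, 0), (2, 2), (2, 0), (1, 2), (3, 1), (3, 2), (2, 1), (1, 0)], [1, 2, 1, 2, 2, 2, 2, 2, 2, 2, 2, 2]⟩],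
  [⟨[(0, 0), (0, 1), (0, 2), (1, 0), (1, 1), (1, 2), (2, 0), (2, 1), (2, 2), (3, 0), (3, 1), (3, 2)], [(0, 0), (0, 1), (0, 2), (1, 0), (1, 1), (1, 2), (2, 0), (2, 1), (2, 2), (3, 0), (3, 1), (3, 2)], [1, 1, 1, 1, 1, 1, 1, 1, 1, 1, 1, 1]⟩,
   ⟨[(0, 0), (0, 1), (0, 2), (1, 0), (1, 1), (1, 2), (2, 0), (2, 1), (2, 2), (3, 0), (3, 1), (3, 2)], [(0, 0), (0, 1), (0, 2), (1, 0), (1, 1), (1, 2), (2, 0), (2, 1), (2, 2), (3, 0), (3, 1), (3, 2)], [1, 1, 1, 1, 1, 1, 1, 1, 1, 1, 1, 1]⟩,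
   ⟨[(0, 0), (0, 1), (0, 2), (1, 0), (1, 1), (1, 2), (2, 0), (2, 1), (2, 2), (3, 0), (3, 1), (3, 2)], [(0, 0), (0, 1), (0, 2), (1, 0), (1, 1), (1, 2), (2, 0), (2, 1), (2, 2), (3, 0), (3, 1), (3, 2)], [1, 1, 1, 1, 1, 1, 1, 1, 1, 1, 1, 1]⟩,
   ⟨[(0, 0), (0, 1), (0, 2), (1, 0), (1, 1), (1, 2), (2, 0), (2, 1), (2, 2), (3, 0), (3, 1), (3, 2)], [(0, 0), (0, 1), (0, 2), (1, 0), (1, 1), (1, 2), (2, 0), (2, 1), (2, 2), (3, 0), (3, 1), (3, 2)], [1, 1, 1, 1, 1, 1, 1, 1, 1, 1, 1, 1]⟩,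
   ⟨[(0, 0), (0, 1), (0, 2), (1, 0), (1, 1), (1, 2), (2, 0), (2, 1), (2, 2), (3, 0), (3, 1), (3, 2)], [(0, 0), (0, 1), (0, 2), (1, 0), (1, 1), (1, 2), (2, 0), (2, 1), (2, 2), (3, 0), (3, 1), (3, 2)], [1, 1, 1, 1, 1, 1, 1, 1, 1, 1, 1, 1]⟩,
   ⟨[(0, 0), (0, 1), (0, 2), (1, 0), (1, 2), (1, 1), (3, 0), (3, 2), (3, 1), (2, 0), (2, 2), (2, 1)], [(0, 0), (0, 1), (0, 2), (1, 0), (1, 2), (1, 1), (3, 0), (3, 2), (3, 1), (2, 0), (2, 2), (2, 1)], [1, 1, 1, 1, 1, 1, 1, 1, 1, 1, 1, 1]⟩,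
   ⟨[(0, 0), (0, 1), (0, 2), (1, 0), (2, 0), (3, 0), (1, 2), (2, 2), (3, 2), (1, 1), (2, 1), (3, 1)], [(0, 0), (0, 1), (0, 2), (1, 0), (3, 0), (2, 0), (1, 1), (3, 1), (2, 1), (1, 2), (3, 2), (2, 2)], [1, 2, 2, 1, 1, 1, 1, 1, 1, 1, 1, 1]⟩,
   ⟨[(0, 0), (0, 1), (0, 2), (1, 0), (2, 1), (3, 2), (3, 1), (1, 2), (2, 0), (2, 2), (3, 0), (1, 1)], [(0, 0), (0, 1), (0, 2), (1, 0), (3, 2), (2, 1), (2, 2), (1, 1), (3, 0), (3, 1), (2, 0), (1, 2)], [1, 2, 1, 2, 2, 2, 2, 2, 2, 2, 2, 2]⟩,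
   ⟨[(0, 0), (0, 1), (0, 2), (1, 0), (2, 2), (3, 1), (2, 1), (3, 0), (1, 2), (3, 2), (1, 1), (2, 0)], [(0, 0), (0, 1), (0, 2), (1, 0), (3, 1), (2, 2), (3, 2), (2, 0), (1, 1), (2, 1), (1, 2), (3, 0)], [1, 1, 2, 2, 2, 2, 2, 2, 2, 2, 2, 2]⟩,
   ⟨[(0, 0), (0, 1), (0, 2), (1, 0), (3, 0), (2, 0), (1, 1), (3, 1), (2, 1), (1, 2), (3, 2), (2, 2)], [(0, 0), (0, 1), (0, 2), (1, 0), (2, 0), (3, 0), (1, 2), (2, 2), (3, 2), (1, 1), (2, 1), (3, 1)], [1, 2, 2, 1, 1, 1, 1, 1, 1, 1, 1, 1]⟩,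
   ⟨[(0, 0), (0, 1), (0, 2), (1, 0), (3, 1), (2, 2), (3, 2), (2, 0), (1, 1), (2, 1), (1, 2), (3, 0)], [(0, 0), (0, 1), (0, 2), (1, 0), (2, 2), (3, 1), (2, 1), (3, 0), (1, 2), (3, 2), (1, 1), (2, 0)], [1, 1, 2, 2, 2, 2, 2, 2, 2, 2, 2, 2]⟩,
   ⟨[(0, 0), (0, 1), (0, 2), (1, 0), (3, 2), (2, 1), (2, 2), (1, 1), (3, 0), (3, 1), (2, 0), (1, 2)], [(0, 0), (0, 1), (0, 2), (1, 0), (2, 1), (3, 2), (3, 1), (1, 2), (2, 0), (2, 2), (3, 0), (1, 1)], [1, 2, 1, 2, 2, 2, 2, 2, 2, 2, 2, 2]⟩]]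

/-- the transversal element -/
def chainDat (k : Fin 5) (t : Pt) : Dat := (chainTbl.getD k.val []).getD (idx t) idDat

/-- membership in the hexad `h0` consisting of the first two columns -/
def inH0 (p : Pt) : Prop := p.1 = 0 ∨ p.1 = 1

instance : DecidablePred inH0 := fun p => by unfold inH0; infer_instance

/-- coefficient vector from a list -/
def cvec (l : List (ZMod 3)) : Fin 6 → ZMod 3 := fun k => l.getD k.val 0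

/-- coefficients of the weight six word supported on `h0` -/
def w0c : Fin 6 → ZMod 3 := cvec [1, 1, 1, 2, 2, 0]

/-- table for the rigidity of the code: two words through each point outside `h0` -/
def wBTbl : List (List (ZMod 3) × List (ZMod 3)) := [
  ([], []),
  ([], []),
  ([], []),
  ([], []),
  ([], []),
  ([], []),
  ([0, 1, 2, 2, 0, 1], [1, 2, 1, 0, 0, 1]),
  ([1, 0, 0, 1, 2, 0], [1, 2, 0, 2, 0, 0]),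
  ([0, 1, 0, 1, 2, 0], [0, 0, 1, 2, 1, 0]),
  ([0, 1, 0, 1, 2, 0], [1, 0, 2, 1, 2, 0]),
  ([0, 0, 1, 2, 1, 0], [1, 0, 0, 1, 2, 0]),
  ([1, 0, 2, 1, 2, 0], [1, 2, 2, 0, 0, 0])]

def wA (a : Pt) : Fin 6 → ZMod 3 := cvec (wBTbl.getD (idx a) ([], [])).1
def wB (a : Pt) : Fin 6 → ZMod 3 := cvec (wBTbl.getD (idx a) ([], [])).2

/-- table for the rigidity of the hexad system, index `12 * idx a + idx b` -/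
def wRTbl : List (List (ZMod 3) × List (ZMod 3) × List (ZMod 3) × List (ZMod 3) × Pt) := [
  ([], [], [], [], (0, 0)),
  ([], [], [], [], (0, 0)),
  ([], [], [], [], (0, 0)),
  ([], [], [], [], (0, 0)),
  ([], [], [], [], (0, 0)),
  ([], [], [], [], (0, 0)),
  ([], [], [], [], (0, 0)),
  ([], [], [], [], (0, 0)),
  ([], [], [], [], (0, 0)),
  ([], [], [], [], (0, 0)),
  ([], [], [], [], (0, 0)),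
  ([], [], [], [], (0, 0)),
  ([], [], [], [], (0, 0)),
  ([], [], [], [], (0, 0)),
  ([], [], [], [], (0, 0)),
  ([], [], [], [], (0, 0)),
  ([], [], [], [], (0, 0)),
  ([], [], [], [], (0, 0)),
  ([], [], [], [], (0, 0)),
  ([], [], [], [], (0, 0)),
  ([], [], [], [], (0, 0)),
  ([], [], [], [], (0, 0)),
  ([], [], [], [], (0, 0)),
  ([], [], [], [], (0, 0)),
  ([], [], [], [], (0, 0)),
  ([], [], [], [], (0, 0)),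
  ([], [], [], [], (0, 0)),
  ([], [], [], [], (0, 0)),
  ([], [], [], [], (0, 0)),
  ([], [], [], [], (0, 0)),
  ([], [], [], [], (0, 0)),
  ([], [], [], [], (0, 0)),
  ([], [], [], [], (0, 0)),
  ([], [], [], [], (0, 0)),
  ([], [], [], [], (0, 0)),
  ([], [], [], [], (0, 0)),
  ([], [], [], [], (0, 0)),
  ([], [], [], [], (0, 0)),
  ([], [], [], [], (0, 0)),
  ([], [], [], [], (0, 0)),
  ([], [], [], [], (0, 0)),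
  ([], [], [], [], (0, 0)),
  ([], [], [], [], (0, 0)),
  ([], [], [], [], (0, 0)),
  ([], [], [], [], (0, 0)),
  ([], [], [], [], (0, 0)),
  ([], [], [], [], (0, 0)),
  ([], [], [], [], (0, 0)),
  ([], [], [], [], (0, 0)),
  ([], [], [], [], (0, 0)),
  ([], [], [], [], (0, 0)),
  ([], [], [], [], (0, 0)),
  ([], [], [], [], (0, 0)),
  ([], [], [], [], (0, 0)),
  ([], [], [], [], (0, 0)),
  ([], [], [], [], (0, 0)),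
  ([], [], [], [], (0, 0)),
  ([], [], [], [], (0, 0)),
  ([], [], [], [], (0, 0)),
  ([], [], [], [], (0, 0)),
  ([], [], [], [], (0, 0)),
  ([], [], [], [], (0, 0)),
  ([], [], [], [], (0, 0)),
  ([], [], [], [], (0, 0)),
  ([], [], [], [], (0, 0)),
  ([], [], [], [], (0, 0)),
  ([], [], [], [], (0, 0)),
  ([], [], [], [], (0, 0)),
  ([], [], [], [], (0, 0)),
  ([], [], [], [], (0, 0)),
  ([], [], [], [], (0, 0)),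
  ([], [], [], [], (0, 0)),
  ([], [], [], [], (0, 0)),
  ([], [], [], [], (0, 0)),
  ([], [], [], [], (0, 0)),
  ([], [], [], [], (0, 0)),
  ([], [], [], [], (0, 0)),
  ([], [], [], [], (0, 0)),
  ([], [], [], [], (0, 0)),
  ([0, 1, 2, 2, 0, 1], [1, 0, 2, 0, 2, 2], [0, 1, 1, 1, 0, 0], [1, 0, 1, 0, 1, 0], (2, 2)),
  ([1, 2, 0, 0, 1, 2], [1, 0, 2, 1, 0, 1], [1, 1, 0, 0, 1, 0], [1, 0, 1, 1, 0, 0], (2, 1)),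
  ([1, 2, 0, 0, 1, 2], [1, 0, 2, 1, 0, 1], [1, 2, 0, 0, 2, 0], [1, 0, 1, 1, 0, 0], (2, 1)),
  ([1, 2, 0, 0, 1, 2], [1, 0, 2, 1, 0, 1], [1, 1, 0, 0, 1, 0], [1, 0, 2, 2, 0, 0], (2, 1)),
  ([1, 2, 0, 0, 1, 2], [1, 0, 2, 1, 0, 1], [1, 2, 0, 0, 2, 0], [1, 0, 2, 2, 0, 0], (2, 1)),
  ([], [], [], [], (0, 0)),
  ([], [], [], [], (0, 0)),
  ([], [], [], [], (0, 0)),
  ([], [], [], [], (0, 0)),
  ([], [], [], [], (0, 0)),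
  ([], [], [], [], (0, 0)),
  ([1, 2, 0, 2, 0, 0], [0, 1, 2, 0, 1, 0], [1, 1, 0, 1, 0, 2], [0, 1, 1, 0, 1, 2], (2, 2)),
  ([], [], [], [], (0, 0)),
  ([1, 2, 0, 0, 1, 2], [1, 0, 2, 1, 0, 1], [1, 1, 0, 0, 1, 0], [1, 0, 1, 1, 0, 0], (2, 0)),
  ([1, 2, 0, 0, 1, 2], [1, 0, 2, 1, 0, 1], [1, 2, 0, 0, 2, 0], [1, 0, 1, 1, 0, 0], (2, 0)),
  ([1, 2, 0, 0, 1, 2], [1, 0, 2, 1, 0, 1], [1, 1, 0, 0, 1, 0], [1, 0, 2, 2, 0, 0], (2, 0)),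
  ([1, 2, 0, 0, 1, 2], [1, 0, 2, 1, 0, 1], [1, 2, 0, 0, 2, 0], [1, 0, 2, 2, 0, 0], (2, 0)),
  ([], [], [], [], (0, 0)),
  ([], [], [], [], (0, 0)),
  ([], [], [], [], (0, 0)),
  ([], [], [], [], (0, 0)),
  ([], [], [], [], (0, 0)),
  ([], [], [], [], (0, 0)),
  ([1, 2, 0, 2, 0, 0], [0, 1, 2, 0, 1, 0], [1, 1, 0, 1, 0, 2], [0, 1, 1, 0, 1, 2], (2, 1)),
  ([0, 1, 2, 2, 0, 1], [1, 0, 2, 0, 2, 2], [0, 1, 1, 1, 0, 0], [1, 0, 1, 0, 1, 0], (2, 0)),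
  ([], [], [], [], (0, 0)),
  ([0, 1, 2, 2, 0, 1], [1, 0, 2, 0, 2, 2], [0, 1, 2, 1, 0, 0], [1, 0, 2, 0, 1, 0], (2, 0)),
  ([0, 1, 2, 2, 0, 1], [1, 0, 2, 0, 2, 2], [0, 1, 1, 1, 0, 0], [1, 0, 2, 0, 1, 0], (2, 0)),
  ([0, 1, 2, 2, 0, 1], [1, 0, 2, 0, 2, 2], [0, 1, 2, 1, 0, 0], [1, 0, 1, 0, 1, 0], (2, 0)),
  ([], [], [], [], (0, 0)),
  ([], [], [], [], (0, 0)),
  ([], [], [], [], (0, 0)),
  ([], [], [], [], (0, 0)),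
  ([], [], [], [], (0, 0)),
  ([], [], [], [], (0, 0)),
  ([0, 0, 1, 1, 1, 0], [1, 1, 2, 0, 0, 0], [0, 0, 1, 1, 2, 1], [1, 2, 1, 0, 0, 1], (2, 1)),
  ([1, 2, 2, 2, 0, 2], [1, 0, 0, 2, 1, 1], [1, 2, 1, 1, 0, 0], [1, 0, 0, 1, 2, 0], (2, 0)),
  ([1, 2, 2, 2, 0, 2], [1, 0, 0, 2, 1, 1], [1, 1, 2, 1, 0, 0], [1, 0, 0, 1, 1, 0], (2, 0)),
  ([], [], [], [], (0, 0)),
  ([1, 2, 2, 2, 0, 2], [1, 0, 0, 2, 1, 1], [1, 1, 2, 1, 0, 0], [1, 0, 0, 1, 2, 0], (2, 0)),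
  ([1, 2, 2, 2, 0, 2], [1, 0, 0, 2, 1, 1], [1, 2, 1, 1, 0, 0], [1, 0, 0, 1, 1, 0], (2, 0)),
  ([], [], [], [], (0, 0)),
  ([], [], [], [], (0, 0)),
  ([], [], [], [], (0, 0)),
  ([], [], [], [], (0, 0)),
  ([], [], [], [], (0, 0)),
  ([], [], [], [], (0, 0)),
  ([1, 0, 0, 1, 2, 0], [1, 2, 2, 0, 2, 0], [1, 0, 0, 2, 1, 1], [1, 1, 2, 0, 1, 1], (2, 1)),
  ([1, 2, 1, 0, 0, 1], [1, 0, 1, 1, 1, 2], [1, 1, 2, 0, 0, 0], [1, 0, 2, 2, 1, 0], (2, 0)),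
  ([1, 2, 1, 0, 0, 1], [1, 0, 1, 1, 1, 2], [1, 2, 2, 0, 0, 0], [1, 0, 2, 2, 1, 0], (2, 0)),
  ([1, 2, 1, 0, 0, 1], [1, 0, 1, 1, 1, 2], [1, 1, 2, 0, 0, 0], [1, 0, 2, 1, 2, 0], (2, 0)),
  ([], [], [], [], (0, 0)),
  ([1, 2, 1, 0, 0, 1], [1, 0, 1, 1, 1, 2], [1, 2, 2, 0, 0, 0], [1, 0, 2, 1, 2, 0], (2, 0)),
  ([], [], [], [], (0, 0)),
  ([], [], [], [], (0, 0)),
  ([], [], [], [], (0, 0)),
  ([], [], [], [], (0, 0)),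
  ([], [], [], [], (0, 0)),
  ([], [], [], [], (0, 0)),
  ([1, 0, 1, 0, 1, 0], [0, 1, 0, 2, 1, 0], [1, 0, 2, 0, 2, 2], [0, 1, 0, 1, 1, 1], (2, 1)),
  ([1, 1, 0, 1, 0, 2], [0, 0, 1, 1, 2, 1], [1, 2, 0, 2, 0, 0], [0, 0, 1, 1, 1, 0], (2, 0)),
  ([1, 1, 0, 1, 0, 2], [0, 0, 1, 1, 2, 1], [1, 2, 0, 2, 0, 0], [0, 0, 1, 2, 1, 0], (2, 0)),
  ([1, 1, 0, 1, 0, 2], [0, 0, 1, 1, 2, 1], [1, 2, 0, 1, 0, 0], [0, 0, 1, 1, 1, 0], (2, 0)),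
  ([1, 1, 0, 1, 0, 2], [0, 0, 1, 1, 2, 1], [1, 2, 0, 1, 0, 0], [0, 0, 1, 2, 1, 0], (2, 0)),
  ([], [], [], [], (0, 0))]

def wREntry (a b : Pt) : List (ZMod 3) × List (ZMod 3) × List (ZMod 3) × List (ZMod 3) × Pt :=
  wRTbl.getD (12 * idx a + idx b) ([], [], [], [], (0, 0))

def r1 (a b : Pt) : Fin 6 → ZMod 3 := cvec (wREntry a b).1
def r2 (a b : Pt) : Fin 6 → ZMod 3 := cvec (wREntry a b).2.1
def r3 (a b : Pt) : Fin 6 → ZMod 3 := cvec (wREntry a b).2.2.1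
def r4 (a b : Pt) : Fin 6 → ZMod 3 := cvec (wREntry a b).2.2.2.1
def xw (a b : Pt) : Pt := (wREntry a b).2.2.2.2

set_option maxRecDepth 1000000

theorem chain_ok : ∀ k : Fin 5, ∀ t : Pt, (∀ i : Fin 5, i < k → t ≠ base i) →
    (chainDat k t).Valid ∧ (∀ i : Fin 5, i < k → (chainDat k t).f (base i) = base i) ∧
      (chainDat k t).f (base k) = t := by
  decide +kernel

theorem base_injective : ∀ i j : Fin 5, base i = base j → i = j := by decide +kernel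

theorem inH0_iff : ∀ p : Pt, inH0 p ↔ ((∃ i : Fin 5, p = base i) ∨ p = (1, 2)) := by decide +kernel

theorem w0_supp : ∀ p : Pt, tenc w0c p ≠ 0 ↔ inH0 p := by decide +kernel

theorem witB_ok : ∀ a : Pt, ¬ inH0 a →
    (ternarySupport (tenc (wA a))).card = 6 ∧ (ternarySupport (tenc (wB a))).card = 6 ∧
    ((ternarySupport (tenc (wA a))).filter inH0).card = 4 ∧
    ((ternarySupport (tenc (wB a))).filter inH0).card = 4 ∧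
    tenc (wA a) a ≠ 0 ∧ tenc (wB a) a ≠ 0 ∧
    ∀ p : Pt, ¬ inH0 p → tenc (wA a) p ≠ 0 → tenc (wB a) p ≠ 0 → p = a := by
  decide +kernel

/-- first half of the witness conditions for the rigidity of the hexad system -/
def RCond1 (a b : Pt) : Prop :=
    (ternarySupport (tenc (r1 a b))).card = 6 ∧ (ternarySupport (tenc (r2 a b))).card = 6 ∧
    (ternarySupport (tenc (r3 a b))).card = 6 ∧ (ternarySupport (tenc (r4 a b))).card = 6 ∧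
    ((ternarySupport (tenc (r1 a b))).filter inH0).card = 4 ∧
    ((ternarySupport (tenc (r2 a b))).filter inH0).card = 4

instance (a b : Pt) : Decidable (RCond1 a b) := by unfold RCond1; infer_instance

/-- second half -/
def RCond2 (a b : Pt) : Prop :=
    tenc (r1 a b) a ≠ 0 ∧ tenc (r2 a b) a ≠ 0 ∧
    tenc (r1 a b) (xw a b) ≠ 0 ∧ tenc (r2 a b) (xw a b) ≠ 0 ∧ xw a b ≠ a ∧ ¬ inH0 (xw a b)

instance (a b : Pt) : Decidable (RCond2 a b) := by unfold RCond2; infer_instance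

/-- third part -/
def RCond3 (a b : Pt) : Prop :=
    (∀ p : Pt, inH0 p → tenc (r1 a b) p ≠ 0 → tenc (r3 a b) p ≠ 0) ∧ tenc (r3 a b) b ≠ 0 ∧
    (∀ p : Pt, inH0 p → tenc (r2 a b) p ≠ 0 → tenc (r4 a b) p ≠ 0) ∧ tenc (r4 a b) b ≠ 0 ∧
    ∀ p : Pt, ¬ inH0 p → p ≠ b → tenc (r3 a b) p ≠ 0 → tenc (r4 a b) p = 0

instance (a b : Pt) : Decidable (RCond3 a b) := by unfold RCond3; infer_instance

theorem witR_ok : ∀ a b : Pt, ¬ inH0 a → ¬ inH0 b → a ≠ b →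
    RCond1 a b ∧ RCond2 a b ∧ RCond3 a b := by
  decide +kernel

end Cfsg.Agent.Lib.Helper57.TG12
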