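import Mathlib
import Cfsg.Agent.Lib.Helper57.TG12Data

set_option autoImplicit false

/-! The monomial automorphism group of the ternary Golay code: abstract arguments. -/

namespace Cfsg.Agent.Lib.Helper57.TG12

open Cfsg Cfsg.Agent.Lib.Helper27

/-- the signs -/
abbrev U : Type := (ZMod 3)ˣ
/-- the words -/
abbrev V : Type := Pt → ZMod 3

/-- the monomial group -/
abbrev Mon : Type :=
  (Pt → U) ⋊[(mulAutArrow : Equiv.Perm Pt →* MulAut (Pt → U))] Equiv.Perm Pt

/-- the monomial action on words -/
def act (g : Mon) (x : V) : V := Cfsg.monomialMap g.right g.left x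

theorem act_apply (g : Mon) (x : V) (i : Pt) :
    act g x i = (g.left i : ZMod 3) * x (g.right.symm i) := rfl

theorem act_one (x : V) : act 1 x = x := by
  funext i
  rw [act_apply]
  simp only [SemidirectProduct.one_left, Pi.one_apply, Units.val_one, SemidirectProduct.one_right,
    one_mul]
  rfl

theorem act_mul (g h : Mon) (x : V) : act (g * h) x = act g (act h x) := by
  funext i
  simp only [act_apply, SemidirectProduct.mul_left, SemidirectProduct.mul_right, Pi.mul_apply,
    Units.val_mul, mulAutArrow_apply_apply, mul_assoc]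
  rfl

theorem act_add (g : Mon) (x y : V) : act g (x + y) = act g x + act g y := by
  funext i
  simp only [act_apply, Pi.add_apply, mul_add]

theorem act_smul (g : Mon) (a : ZMod 3) (x : V) : act g (a • x) = a • act g x := by
  funext i
  simp only [act_apply, Pi.smul_apply, smul_eq_mul]
  ring

theorem act_sub (g : Mon) (x y : V) : act g (x - y) = act g x - act g y := by
  funext i
  simp only [act_apply, Pi.sub_apply, mul_sub]

theorem act_injective (g : Mon) : Function.Injective (act g) := by
  intro x y h
  have := congrArg (act g⁻¹) h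
  rwa [← act_mul, ← act_mul, inv_mul_cancel, act_one, act_one] at this

/-- the linear map of a monomial map -/
def actLin (g : Mon) : V →ₗ[ZMod 3] V where
  toFun := act g
  map_add' := act_add g
  map_smul' := act_smul g

/-- the monomial automorphism group of the ternary Golay code -/
def M : Subgroup Mon where
  carrier := {g | ∀ x ∈ ternaryGolayCode, act g x ∈ ternaryGolayCode}
  one_mem' := by
    intro x hx
    rw [act_one]
    exact hx
  mul_mem' := by
    intro g h hg hh x hx
    rw [act_mul]
    exact hg _ (hh x hx)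
  inv_mem' := by
    intro g hg x hx
    let φ : ↥ternaryGolayCode → ↥ternaryGolayCode := fun y => ⟨act g y.1, hg y.1 y.2⟩
    have hφ : Function.Injective φ := by
      intro y y' hyy
      exact Subtype.ext (act_injective g (congrArg Subtype.val hyy))
    obtain ⟨y, hy⟩ := Finite.surjective_of_injective hφ ⟨x, hx⟩
    have hy' : act g y.1 = x := congrArg Subtype.val hy
    rw [← hy', ← act_mul, inv_mul_cancel, act_one]
    exact y.2

theorem mem_M (g : Mon) : g ∈ M ↔ ∀ x ∈ ternaryGolayCode, act g x ∈ ternaryGolayCode := Iff.rfl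

theorem tenc_eq_sum (c : Fin 6 → ZMod 3) : tenc c = ∑ k, c k • tbasis k := by
  funext p
  simp [tenc, Finset.sum_apply]

theorem mem_M_of_basis (g : Mon) (h : ∀ k, act g (tbasis k) ∈ ternaryGolayCode) : g ∈ M := by
  intro x hx
  rw [eq_tenc_of_mem hx, tenc_eq_sum]
  have : act g (∑ k, (fun k => x (tinfo k)) k • tbasis k) =
      ∑ k, (fun k => x (tinfo k)) k • act g (tbasis k) := by
    have := map_sum (actLin g) (fun k => (fun k => x (tinfo k)) k • tbasis k) Finset.univ
    simp only [map_smul] at this
    exact this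
  rw [this]
  exact Submodule.sum_mem _ fun k _ => Submodule.smul_mem _ _ (h k)

/-- the action on points through the permutation part -/
instance instMulActionMon : MulAction Mon Pt :=
  MulAction.compHom Pt (SemidirectProduct.rightHom : Mon →* Equiv.Perm Pt)

theorem smul_def (g : Mon) (p : Pt) : g • p = g.right p := rfl

theorem act_ne_zero_iff (g : Mon) (x : V) (i : Pt) : act g x i ≠ 0 ↔ x (g.right.symm i) ≠ 0 := by
  rw [act_apply]
  simp

theorem act_smul_ne_zero_iff (g : Mon) (x : V) (p : Pt) : act g x (g • p) ≠ 0 ↔ x p ≠ 0 := by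
  rw [act_ne_zero_iff, smul_def, Equiv.symm_apply_apply]

theorem support_act (g : Mon) (x : V) :
    ternarySupport (act g x) = (ternarySupport x).map g.right.toEmbedding := by
  ext i
  rw [mem_tsupp, act_ne_zero_iff, Finset.mem_map]
  constructor
  · intro h
    exact ⟨g.right.symm i, mem_tsupp.2 h, by simp⟩
  · rintro ⟨j, hj, rfl⟩
    simpa using mem_tsupp.1 hj

theorem card_support_act (g : Mon) (x : V) :
    (ternarySupport (act g x)).card = (ternarySupport x).card := by
  rw [support_act, Finset.card_map]

/-- the element of the monomial group given by valid data -/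
def Dat.toMon (d : Dat) (hv : d.Valid) : Mon :=
  ⟨fun i => if d.s i = 1 then 1 else -1, ⟨d.f, d.g, hv.1, hv.2.1⟩⟩

theorem Dat.toMon_smul (d : Dat) (hv : d.Valid) (p : Pt) : d.toMon hv • p = d.f p := rfl

theorem Dat.toMon_left (d : Dat) (hv : d.Valid) (i : Pt) :
    (((d.toMon hv).left i : U) : ZMod 3) = d.s i := by
  show (((if d.s i = 1 then 1 else -1 : U)) : ZMod 3) = d.s i
  rcases hv.2.2.1 i with h | h
  · rw [if_pos h, h]
    rfl
  · rw [if_neg (by rw [h]; decide), h]
    rfl

theorem Dat.toMon_mem (d : Dat) (hv : d.Valid) : d.toMon hv ∈ M := by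
  apply mem_M_of_basis
  intro k
  have h := hv.2.2.2 k
  have e : act (d.toMon hv) (tbasis k) = fun i => d.s i * tbasis k (d.g i) := by
    funext i
    rw [act_apply, Dat.toMon_left]
    rfl
  rw [e, mem_iff]
  exact h


theorem chain (k : Fin 5) (t : Pt) (ht : ∀ i : Fin 5, i < k → t ≠ base i) :
    ∃ g ∈ M, (∀ i : Fin 5, i < k → g • base i = base i) ∧ g • base k = t := by
  obtain ⟨hv, h1, h2⟩ := chain_ok k t ht
  exact ⟨(chainDat k t).toMon hv, Dat.toMon_mem _ hv, h1, h2⟩

/-- `M` is transitive on injective 5-tuples of points -/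
theorem trans5 (e : Fin 5 ↪ Pt) : ∃ g ∈ M, ∀ i : Fin 5, g • base i = e i := by
  have key : ∀ n : ℕ, n ≤ 5 → ∃ g ∈ M, ∀ i : Fin 5, i.val < n → g • base i = e i := by
    intro n
    induction n with
    | zero =>
      intro _
      exact ⟨1, M.one_mem, fun i hi => absurd hi (Nat.not_lt_zero _)⟩
    | succ n ih =>
      intro hn
      obtain ⟨g, hg, hgi⟩ := ih (by omega)
      let k : Fin 5 := ⟨n, by omega⟩
      have ht : ∀ i : Fin 5, i < k → g⁻¹ • e k ≠ base i := by
        intro i hik h
        have h1 : g • (g⁻¹ • e k) = e k := smul_inv_smul g (e k)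
        rw [h, hgi i hik] at h1
        exact absurd (e.injective h1) (ne_of_lt hik)
      obtain ⟨r, hr, hri, hrk⟩ := chain k (g⁻¹ • e k) ht
      refine ⟨g * r, M.mul_mem hg hr, ?_⟩
      intro i hi
      rw [mul_smul]
      rcases Nat.lt_succ_iff_lt_or_eq.1 hi with h | h
      · have hik : i < k := h
        rw [hri i hik, hgi i h]
      · have hik : i = k := Fin.ext h
        rw [hik, hrk, smul_inv_smul]
  obtain ⟨g, hg, h⟩ := key 5 le_rfl
  exact ⟨g, hg, fun i => h i i.isLt⟩

/-- the scalar `-1` -/
def negOne : Mon := ⟨fun _ => -1, 1⟩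

theorem act_negOne (x : V) : act negOne x = -x := by
  funext i
  rw [act_apply]
  show ((-1 : U) : ZMod 3) * x ((1 : Equiv.Perm Pt).symm i) = -x i
  have : (1 : Equiv.Perm Pt).symm i = i := rfl
  rw [this]
  simp

theorem negOne_mem : negOne ∈ M := by
  intro x hx
  rw [act_negOne]
  exact Submodule.neg_mem _ hx

theorem negOne_ne_one : negOne ≠ 1 := by
  intro h
  have h1 : negOne.left (0, 0) = (1 : Mon).left (0, 0) := by rw [h]
  have h2 : (-1 : U) = 1 := h1
  exact absurd h2 (by decide)

theorem smul_eq_self_iff (g : Mon) (p : Pt) : g • p = p ↔ g.right.symm p = p := by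
  rw [smul_def, Equiv.symm_apply_eq, eq_comm]

/-- rigidity, normalised form -/
theorem rigid_aux (g : Mon) (hg : g ∈ M) (hfix : ∀ p, inH0 p → g • p = p)
    (hsgn : ∀ p, inH0 p → g.left p = 1) : g = 1 := by
  -- words meeting `h0` in four points are fixed
  have hfixw : ∀ x ∈ ternaryGolayCode, (ternarySupport x).card = 6 →
      ((ternarySupport x).filter inH0).card = 4 → act g x = x := by
    intro x hx h6 h4
    have hz : act g x - x ∈ ternaryGolayCode := Submodule.sub_mem _ (hg x hx) hx
    have hz0 : act g x - x = 0 := by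
      apply eq_zero_of_card_lt hz
      have hsub : ternarySupport (act g x - x) ⊆
          ((ternarySupport x).filter (fun p => ¬ inH0 p)) ∪
            ((ternarySupport x).filter (fun p => ¬ inH0 p)).map g.right.toEmbedding := by
        intro p hp
        rw [mem_tsupp] at hp
        have hnp : ¬ inH0 p := by
          intro hin
          apply hp
          have h1 := (smul_eq_self_iff g p).1 (hfix p hin)
          rw [Pi.sub_apply, act_apply, h1, hsgn p hin]
          simp
        rw [Finset.mem_union, Finset.mem_filter, Finset.mem_map]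
        by_cases hxp : x p = 0
        · right
          have h2 : act g x p ≠ 0 := by
            intro h0
            apply hp
            rw [Pi.sub_apply, h0, hxp, sub_zero]
          rw [act_ne_zero_iff] at h2
          refine ⟨g.right.symm p, ?_, by simp⟩
          rw [Finset.mem_filter, mem_tsupp]
          refine ⟨h2, fun hin => hnp ?_⟩
          have h3 := hfix _ hin
          rw [smul_def, Equiv.apply_symm_apply] at h3
          rw [h3]
          exact hin
        · left
          exact ⟨mem_tsupp.2 hxp, hnp⟩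
      have hc2 : ((ternarySupport x).filter (fun p => ¬ inH0 p)).card = 2 := by
        have := Finset.card_filter_add_card_filter_not (s := ternarySupport x) inH0
        rw [h4, h6] at this
        have h2 : 4 + ((ternarySupport x).filter (fun p => ¬ inH0 p)).card = 6 := by convert this
        omega
      calc (ternarySupport (act g x - x)).card
          ≤ _ := Finset.card_le_card hsub
        _ ≤ _ := Finset.card_union_le _ _
        _ < 6 := by rw [Finset.card_map, hc2]; norm_num
    exact sub_eq_zero.1 hz0
  -- points outside `h0` are fixed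
  have hout : ∀ a, ¬ inH0 a → g • a = a := by
    intro a ha
    obtain ⟨c1, c2, c3, c4, c5, c6, c7⟩ := witB_ok a ha
    have e1 := hfixw _ (tenc_mem (wA a)) c1 c3
    have e2 := hfixw _ (tenc_mem (wB a)) c2 c4
    have hga : ¬ inH0 (g • a) := by
      intro hin
      have h1 := hfix _ hin
      have h2 : g • a = a := MulAction.injective g h1
      rw [h2] at hin
      exact ha hin
    apply c7 (g • a) hga
    · rw [← e1, act_smul_ne_zero_iff]
      exact c5
    · rw [← e2, act_smul_ne_zero_iff]
      exact c6
  have hall : ∀ p : Pt, g • p = p := by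
    intro p
    by_cases hp : inH0 p
    · exact hfix p hp
    · exact hout p hp
  have hright : g.right = 1 := Equiv.ext fun p => hall p
  have hleft : g.left = 1 := by
    funext a
    by_cases ha : inH0 a
    · exact hsgn a ha
    · obtain ⟨c1, c2, c3, c4, c5, c6, c7⟩ := witB_ok a ha
      have e1 := hfixw _ (tenc_mem (wA a)) c1 c3
      have h1 := congrFun e1 a
      rw [act_apply, (smul_eq_self_iff g a).1 (hall a)] at h1
      have h2 : ((g.left a : U) : ZMod 3) = 1 := by
        have := mul_right_cancel₀ c5 (h1.trans (one_mul _).symm)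
        exact this
      exact Units.ext h2
  exact SemidirectProduct.ext hleft hright


theorem card_H0 : (Finset.univ.filter inH0).card = 6 := by decide +kernel

theorem base_ne_q : ∀ i : Fin 5, base i ≠ ((1, 2) : Pt) := by decide +kernel

theorem supp_w0 : ternarySupport (tenc w0c) = Finset.univ.filter inH0 := by
  ext p
  rw [mem_tsupp, w0_supp]
  simp

theorem negOne_mul_negOne : negOne * negOne = 1 := by
  apply SemidirectProduct.ext
  · funext i
    show (-1 : U) * (-1 : U) = 1
    decide
  · rfl

theorem negOne_smul (p : Pt) : negOne • p = p := rfl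

theorem negOne_mul_left (g : Mon) (p : Pt) : (negOne * g).left p = -g.left p := by
  show (-1 : U) * g.left ((1 : Equiv.Perm Pt)⁻¹ • p) = -g.left p
  rw [inv_one, one_smul, neg_one_mul]

/-- rigidity: an automorphism fixing the five base points is a scalar -/
theorem rigid (g : Mon) (hg : g ∈ M) (hb : ∀ i : Fin 5, g • base i = base i) :
    g = 1 ∨ g = negOne := by
  have hx0 : tenc w0c ∈ ternaryGolayCode := tenc_mem _
  have hy : act g (tenc w0c) ∈ ternaryGolayCode := hg _ hx0
  have wx : (ternarySupport (tenc w0c)).card = 6 := by rw [supp_w0, card_H0]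
  have wy : (ternarySupport (act g (tenc w0c))).card = 6 := by rw [card_support_act, wx]
  have hbase0 : ∀ i : Fin 5, tenc w0c (base i) ≠ 0 := by
    intro i
    rw [w0_supp, inH0_iff]
    exact Or.inl ⟨i, rfl⟩
  have hI : 5 ≤ (ternarySupport (tenc w0c) ∩ ternarySupport (act g (tenc w0c))).card := by
    have hsub : (Finset.univ : Finset (Fin 5)).map ⟨base, fun i j h => base_injective i j h⟩ ⊆
        ternarySupport (tenc w0c) ∩ ternarySupport (act g (tenc w0c)) := by
      intro p hp
      rw [Finset.mem_map] at hp
      obtain ⟨i, _, rfl⟩ := hp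
      rw [Finset.mem_inter, mem_tsupp, mem_tsupp]
      refine ⟨hbase0 i, ?_⟩
      show act g (tenc w0c) (base i) ≠ 0
      rw [← hb i, act_smul_ne_zero_iff]
      exact hbase0 i
    have := Finset.card_le_card hsub
    rwa [Finset.card_map, Finset.card_univ, Fintype.card_fin] at this
  have hsupp : ternarySupport (act g (tenc w0c)) = ternarySupport (tenc w0c) := by
    rcases eq_or_neg_of_inter hx0 hy wx wy hI with h | h
    · rw [h]
    · rw [h, tsupp_neg]
  have hperm : ∀ p : Pt, inH0 p → inH0 (g • p) := by
    intro p hp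
    rw [← w0_supp, ← mem_tsupp, ← hsupp, mem_tsupp, act_smul_ne_zero_iff, w0_supp]
    exact hp
  have hq : g • ((1, 2) : Pt) = (1, 2) := by
    have h1 := hperm (1, 2) (by decide)
    rw [inH0_iff] at h1
    rcases h1 with ⟨i, hi⟩ | h1
    · rw [← hb i] at hi
      exact absurd (MulAction.injective g hi).symm (base_ne_q i)
    · exact h1
  have hfix : ∀ p : Pt, inH0 p → g • p = p := by
    intro p hp
    rw [inH0_iff] at hp
    rcases hp with ⟨i, rfl⟩ | rfl
    · exact hb i
    · exact hq
  have hval : ∀ p : Pt, inH0 p →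
      act g (tenc w0c) p = ((g.left p : U) : ZMod 3) * tenc w0c p := by
    intro p hp
    rw [act_apply, (smul_eq_self_iff g p).1 (hfix p hp)]
  rcases eq_or_neg_of_inter hx0 hy wx wy hI with h | h
  · left
    apply rigid_aux g hg hfix
    intro p hp
    have h1 := hval p hp
    rw [h] at h1
    have h2 : ((g.left p : U) : ZMod 3) = 1 :=
      mul_right_cancel₀ ((w0_supp p).2 hp) (h1.symm.trans (one_mul _).symm)
    exact Units.ext h2
  · right
    have hg' : negOne * g ∈ M := M.mul_mem negOne_mem hg
    have h1 : negOne * g = 1 := by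
      apply rigid_aux _ hg'
      · intro p hp
        rw [mul_smul, negOne_smul]
        exact hfix p hp
      · intro p hp
        rw [negOne_mul_left]
        have h1 := hval p hp
        rw [h, Pi.neg_apply] at h1
        have h2 : ((g.left p : U) : ZMod 3) = -1 := by
          have h3 : ((g.left p : U) : ZMod 3) * tenc w0c p = (-1) * tenc w0c p := by
            rw [← h1, neg_one_mul]
          exact mul_right_cancel₀ ((w0_supp p).2 hp) h3
        have h4 : g.left p = -1 := Units.ext h2
        rw [h4, neg_neg]
    have h2 : g = negOne⁻¹ := by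
      rw [eq_inv_iff_mul_eq_one, ← h1]
      have := negOne_mul_negOne
      rw [← h1] at this
      exact (mul_left_cancel this).symm ▸ rfl
    rw [h2, inv_eq_of_mul_eq_one_right negOne_mul_negOne]


/-- the base embedding -/
def e0 : Fin 5 ↪ Pt := ⟨base, fun i j h => base_injective i j h⟩

theorem mem_stab_e0 (s : ↥M) : s ∈ MulAction.stabilizer (↥M) e0 ↔
    ∀ i : Fin 5, (s : Mon) • base i = base i := by
  rw [MulAction.mem_stabilizer_iff]
  constructor
  · intro h i
    have := congrArg (fun e : Fin 5 ↪ Pt => e i) h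
    exact this
  · intro h
    exact Function.Embedding.ext fun i => h i

theorem card_Pt : Fintype.card Pt = 12 := by decide +kernel

theorem card_M : Nat.card ↥M = 190080 := by
  have horb : MulAction.orbit (↥M) e0 = Set.univ := by
    ext e
    simp only [Set.mem_univ, iff_true]
    obtain ⟨g, hg, h⟩ := trans5 e
    exact ⟨⟨g, hg⟩, Function.Embedding.ext fun i => h i⟩
  have hstab : Nat.card (MulAction.stabilizer (↥M) e0) = 2 := by
    rw [Nat.card_eq_two_iff]
    have h1 : (1 : ↥M) ∈ MulAction.stabilizer (↥M) e0 := Subgroup.one_mem _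
    have h2 : (⟨negOne, negOne_mem⟩ : ↥M) ∈ MulAction.stabilizer (↥M) e0 := by
      rw [mem_stab_e0]
      intro i
      rfl
    refine ⟨⟨1, h1⟩, ⟨⟨negOne, negOne_mem⟩, h2⟩, ?_, ?_⟩
    · intro h
      have h3 := congrArg (fun t : MulAction.stabilizer (↥M) e0 => ((t : ↥M) : Mon)) h
      exact negOne_ne_one h3.symm
    · ext ⟨⟨g, hg⟩, hs⟩
      simp only [Set.mem_insert_iff, Set.mem_singleton_iff, Set.mem_univ, iff_true]
      rw [mem_stab_e0] at hs
      rcases rigid g hg hs with h | h
      · left
        subst h
        rfl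
      · right
        subst h
        rfl
  have h1 := Subgroup.card_eq_card_quotient_mul_card_subgroup (MulAction.stabilizer (↥M) e0)
  have h2 : Nat.card (↥M ⧸ MulAction.stabilizer (↥M) e0) = Nat.card (MulAction.orbit (↥M) e0) :=
    Nat.card_congr (MulAction.orbitEquivQuotientStabilizer (↥M) e0).symm
  rw [h1, h2, hstab, horb, Nat.card_congr (Equiv.Set.univ _), Nat.card_eq_fintype_card,
    Fintype.card_embedding_eq, card_Pt, Fintype.card_fin]
  rfl

open scoped Pointwise

/-- the hexads, as in the statement -/
def hexS : Set (Finset Pt) :=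
  {h | ∃ x ∈ ternaryGolayCode, ternarySupport x = h ∧ h.card = 6}

theorem mem_hexS_of_word (x : V) (hx : x ∈ ternaryGolayCode) (h6 : (ternarySupport x).card = 6) :
    ternarySupport x ∈ hexS := ⟨x, hx, rfl, h6⟩

theorem hexS_unique {h h' s : Finset Pt} (hh : h ∈ hexS) (hh' : h' ∈ hexS) (hs : s.card = 5)
    (h1 : s ⊆ h) (h2 : s ⊆ h') : h = h' :=
  hexads_unique (mem_hexads.2 hh) (mem_hexads.2 hh') hs h1 h2

theorem smul_support (g : Mon) (x : V) :
    g.right • ternarySupport x = ternarySupport (act g x) := by
  rw [support_act, Finset.map_eq_image]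
  rfl

theorem right_smul_mem_hexS (g : Mon) (hg : g ∈ M) (h : Finset Pt) (hh : h ∈ hexS) :
    g.right • h ∈ hexS := by
  obtain ⟨x, hx, rfl, h6⟩ := hh
  rw [smul_support]
  exact mem_hexS_of_word _ (hg x hx) (by rw [card_support_act, h6])

theorem right_mem_stab (g : Mon) (hg : g ∈ M) :
    g.right ∈ MulAction.stabilizer (Equiv.Perm Pt) hexS := by
  rw [MulAction.mem_stabilizer_iff]
  apply Set.Subset.antisymm
  · rintro _ ⟨h, hh, rfl⟩
    exact right_smul_mem_hexS g hg h hh
  · intro h hh
    rw [Set.mem_smul_set_iff_inv_smul_mem]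
    have := right_smul_mem_hexS g⁻¹ (M.inv_mem hg) h hh
    rwa [SemidirectProduct.inv_right] at this

/-- rigidity of the hexad system -/
theorem rigid_hex (τ : Equiv.Perm Pt) (hτ : τ ∈ MulAction.stabilizer (Equiv.Perm Pt) hexS)
    (hb : ∀ i : Fin 5, τ (base i) = base i) : τ = 1 := by
  rw [MulAction.mem_stabilizer_iff] at hτ
  have hmap : ∀ h ∈ hexS, τ • h ∈ hexS := by
    intro h hh
    rw [← hτ]
    exact Set.smul_mem_smul_set hh
  have hmem : ∀ (h : Finset Pt) (p : Pt), p ∈ h → τ p ∈ τ • h := by
    intro h p hp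
    exact Finset.smul_mem_smul_finset hp
  -- the hexad `h0`
  have hH0 : ternarySupport (tenc w0c) ∈ hexS :=
    mem_hexS_of_word _ (tenc_mem _) (by rw [supp_w0, card_H0])
  have hbase0 : ∀ i : Fin 5, base i ∈ ternarySupport (tenc w0c) := by
    intro i
    rw [mem_tsupp, w0_supp, inH0_iff]
    exact Or.inl ⟨i, rfl⟩
  have hH0fix : τ • ternarySupport (tenc w0c) = ternarySupport (tenc w0c) := by
    apply hexS_unique (hmap _ hH0) hH0
      (s := (Finset.univ : Finset (Fin 5)).map ⟨base, fun i j h => base_injective i j h⟩)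
    · rw [Finset.card_map, Finset.card_univ, Fintype.card_fin]
    · intro p hp
      rw [Finset.mem_map] at hp
      obtain ⟨i, _, rfl⟩ := hp
      show base i ∈ τ • ternarySupport (tenc w0c)
      rw [← hb i]
      exact hmem _ _ (hbase0 i)
    · intro p hp
      rw [Finset.mem_map] at hp
      obtain ⟨i, _, rfl⟩ := hp
      exact hbase0 i
  have hperm : ∀ p : Pt, inH0 p → inH0 (τ p) := by
    intro p hp
    have h1 : p ∈ ternarySupport (tenc w0c) := by
      rw [mem_tsupp, w0_supp]
      exact hp
    have h2 := hmem _ _ h1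
    rw [hH0fix, mem_tsupp, w0_supp] at h2
    exact h2
  have hq : τ ((1, 2) : Pt) = (1, 2) := by
    have h1 := hperm (1, 2) (by decide)
    rw [inH0_iff] at h1
    rcases h1 with ⟨i, hi⟩ | h1
    · rw [← hb i] at hi
      exact absurd (τ.injective hi).symm (base_ne_q i)
    · exact h1
  have hfix : ∀ p : Pt, inH0 p → τ p = p := by
    intro p hp
    rw [inH0_iff] at hp
    rcases hp with ⟨i, rfl⟩ | rfl
    · exact hb i
    · exact hq
  have hout : ∀ a : Pt, ¬ inH0 a → τ a = a := by
    intro a ha
    by_contra hne
    have hb' : ¬ inH0 (τ a) := by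
      intro hin
      have := hfix _ hin
      exact hne (τ.injective this)
    obtain ⟨⟨c1, c2, c3, c4, c5, c6⟩, ⟨d1, d2, d3, d4, d5, d6⟩, ⟨f1, f2, f3, f4, f5⟩⟩ :=
      witR_ok a (τ a) ha hb' (Ne.symm hne)
    have key : ∀ (u v : Fin 6 → ZMod 3), (ternarySupport (tenc u)).card = 6 →
        (ternarySupport (tenc v)).card = 6 →
        ((ternarySupport (tenc u)).filter inH0).card = 4 → tenc u a ≠ 0 →
        (∀ p : Pt, inH0 p → tenc u p ≠ 0 → tenc v p ≠ 0) → tenc v (τ a) ≠ 0 →
        ∀ x : Pt, tenc u x ≠ 0 → tenc v (τ x) ≠ 0 := by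
      intro u v hu6 hv6 hu4 hua huv hvb x hux
      have hU : ternarySupport (tenc u) ∈ hexS := mem_hexS_of_word _ (tenc_mem _) hu6
      have hV : ternarySupport (tenc v) ∈ hexS := mem_hexS_of_word _ (tenc_mem _) hv6
      have heq : τ • ternarySupport (tenc u) = ternarySupport (tenc v) := by
        apply hexS_unique (hmap _ hU) hV
          (s := insert (τ a) ((ternarySupport (tenc u)).filter inH0))
        · rw [Finset.card_insert_of_notMem, hu4]
          intro hmem'
          rw [Finset.mem_filter] at hmem'
          exact hb' hmem'.2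
        · intro p hp
          rw [Finset.mem_insert, Finset.mem_filter] at hp
          rcases hp with rfl | ⟨hp1, hp2⟩
          · exact hmem _ _ (mem_tsupp.2 hua)
          · rw [← hfix p hp2]
            exact hmem _ _ hp1
        · intro p hp
          rw [Finset.mem_insert, Finset.mem_filter] at hp
          rcases hp with rfl | ⟨hp1, hp2⟩
          · exact mem_tsupp.2 hvb
          · exact mem_tsupp.2 (huv p hp2 (mem_tsupp.1 hp1))
      have := hmem _ _ (mem_tsupp.2 hux)
      rw [heq, mem_tsupp] at this
      exact this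
    have k1 := key (r1 a (τ a)) (r3 a (τ a)) c1 c3 c5 d1 f1 f2 (xw a (τ a)) d3
    have k2 := key (r2 a (τ a)) (r4 a (τ a)) c2 c4 c6 d2 f3 f4 (xw a (τ a)) d4
    have hx1 : ¬ inH0 (τ (xw a (τ a))) := by
      intro hin
      have := hfix _ hin
      have h2 := τ.injective this
      rw [h2] at hin
      exact d6 hin
    have hx2 : τ (xw a (τ a)) ≠ τ a := fun h => d5 (τ.injective h)
    exact k2 (f5 _ hx1 hx2 k1)
  apply Equiv.ext
  intro p
  by_cases hp : inH0 p
  · exact hfix p hp
  · exact hout p hp

theorem perm_parts_eq :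
    {σ : Equiv.Perm Pt | ∃ c : Pt → U, ∀ x ∈ ternaryGolayCode,
      Cfsg.monomialMap σ c x ∈ ternaryGolayCode} =
      (MulAction.stabilizer (Equiv.Perm Pt) hexS : Set (Equiv.Perm Pt)) := by
  ext τ
  constructor
  · rintro ⟨c, hc⟩
    exact right_mem_stab ⟨c, τ⟩ hc
  · intro hτ
    obtain ⟨g, hg, hgi⟩ := trans5 (e0.trans τ.toEmbedding)
    have h1 : g.right⁻¹ * τ ∈ MulAction.stabilizer (Equiv.Perm Pt) hexS :=
      Subgroup.mul_mem _ (Subgroup.inv_mem _ (right_mem_stab g hg)) hτ
    have h2 : g.right⁻¹ * τ = 1 := by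
      apply rigid_hex _ h1
      intro i
      have := hgi i
      rw [smul_def] at this
      show g.right⁻¹ (τ (base i)) = base i
      rw [Equiv.Perm.inv_eq_iff_eq]
      exact this.symm
    have h3 : τ = g.right := by
      rw [inv_mul_eq_one] at h2
      exact h2.symm
    refine ⟨g.left, ?_⟩
    rw [h3]
    exact hg

/-- the subtype of the statement is equivalent to `M` -/
def subtypeEquiv : {f : Equiv.Perm Pt × (Pt → U) // ∀ x ∈ ternaryGolayCode,
    Cfsg.monomialMap f.1 f.2 x ∈ ternaryGolayCode} ≃ ↥M where
  toFun f := ⟨⟨f.1.2, f.1.1⟩, f.2⟩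
  invFun g := ⟨(g.1.right, g.1.left), g.2⟩
  left_inv _ := rfl
  right_inv _ := rfl

end Cfsg.Agent.Lib.Helper57.TG12
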