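import Mathlib

set_option autoImplicit false

namespace Cfsg.Agent.Lib.Helper57.TwoO

open Quaternion

/-- the field with 169 elements, as `F_13[ω]/(ω² = 7)` -/
abbrev K : Type := QuadraticAlgebra (ZMod 13) 7 0

/-- quaternions over `K` -/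
abbrev E : Type := ℍ[K]

instance decEqE : DecidableEq E := fun a b =>
  decidable_of_iff (a.re = b.re ∧ a.imI = b.imI ∧ a.imJ = b.imJ ∧ a.imK = b.imK)
    (QuaternionAlgebra.ext_iff).symm

/-- the binary octahedral group, 48 elements -/
def Clist : List E := [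
  ⟨⟨1, 0⟩, ⟨0, 0⟩, ⟨0, 0⟩, ⟨0, 0⟩⟩,
  ⟨⟨0, 0⟩, ⟨1, 0⟩, ⟨0, 0⟩, ⟨0, 0⟩⟩,
  ⟨⟨0, 0⟩, ⟨0, 0⟩, ⟨1, 0⟩, ⟨0, 0⟩⟩,
  ⟨⟨0, 0⟩, ⟨0, 0⟩, ⟨0, 0⟩, ⟨1, 0⟩⟩,
  ⟨⟨12, 0⟩, ⟨0, 0⟩, ⟨0, 0⟩, ⟨0, 0⟩⟩,
  ⟨⟨0, 0⟩, ⟨12, 0⟩, ⟨0, 0⟩, ⟨0, 0⟩⟩,
  ⟨⟨0, 0⟩, ⟨0, 0⟩, ⟨12, 0⟩, ⟨0, 0⟩⟩,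
  ⟨⟨0, 0⟩, ⟨0, 0⟩, ⟨0, 0⟩, ⟨12, 0⟩⟩,
  ⟨⟨7, 0⟩, ⟨7, 0⟩, ⟨7, 0⟩, ⟨7, 0⟩⟩,
  ⟨⟨7, 0⟩, ⟨7, 0⟩, ⟨7, 0⟩, ⟨6, 0⟩⟩,
  ⟨⟨7, 0⟩, ⟨7, 0⟩, ⟨6, 0⟩, ⟨7, 0⟩⟩,
  ⟨⟨7, 0⟩, ⟨7, 0⟩, ⟨6, 0⟩, ⟨6, 0⟩⟩,
  ⟨⟨7, 0⟩, ⟨6, 0⟩, ⟨7, 0⟩, ⟨7, 0⟩⟩,
  ⟨⟨7, 0⟩, ⟨6, 0⟩, ⟨7, 0⟩, ⟨6, 0⟩⟩,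
  ⟨⟨7, 0⟩, ⟨6, 0⟩, ⟨6, 0⟩, ⟨7, 0⟩⟩,
  ⟨⟨7, 0⟩, ⟨6, 0⟩, ⟨6, 0⟩, ⟨6, 0⟩⟩,
  ⟨⟨6, 0⟩, ⟨7, 0⟩, ⟨7, 0⟩, ⟨7, 0⟩⟩,
  ⟨⟨6, 0⟩, ⟨7, 0⟩, ⟨7, 0⟩, ⟨6, 0⟩⟩,
  ⟨⟨6, 0⟩, ⟨7, 0⟩, ⟨6, 0⟩, ⟨7, 0⟩⟩,
  ⟨⟨6, 0⟩, ⟨7, 0⟩, ⟨6, 0⟩, ⟨6, 0⟩⟩,
  ⟨⟨6, 0⟩, ⟨6, 0⟩, ⟨7, 0⟩, ⟨7, 0⟩⟩,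
  ⟨⟨6, 0⟩, ⟨6, 0⟩, ⟨7, 0⟩, ⟨6, 0⟩⟩,
  ⟨⟨6, 0⟩, ⟨6, 0⟩, ⟨6, 0⟩, ⟨7, 0⟩⟩,
  ⟨⟨6, 0⟩, ⟨6, 0⟩, ⟨6, 0⟩, ⟨6, 0⟩⟩,
  ⟨⟨0, 1⟩, ⟨0, 1⟩, ⟨0, 0⟩, ⟨0, 0⟩⟩,
  ⟨⟨0, 12⟩, ⟨0, 1⟩, ⟨0, 0⟩, ⟨0, 0⟩⟩,
  ⟨⟨0, 0⟩, ⟨0, 0⟩, ⟨0, 1⟩, ⟨0, 12⟩⟩,
  ⟨⟨0, 0⟩, ⟨0, 0⟩, ⟨0, 1⟩, ⟨0, 1⟩⟩,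
  ⟨⟨0, 12⟩, ⟨0, 12⟩, ⟨0, 0⟩, ⟨0, 0⟩⟩,
  ⟨⟨0, 1⟩, ⟨0, 12⟩, ⟨0, 0⟩, ⟨0, 0⟩⟩,
  ⟨⟨0, 0⟩, ⟨0, 0⟩, ⟨0, 12⟩, ⟨0, 1⟩⟩,
  ⟨⟨0, 0⟩, ⟨0, 0⟩, ⟨0, 12⟩, ⟨0, 12⟩⟩,
  ⟨⟨0, 0⟩, ⟨0, 1⟩, ⟨0, 1⟩, ⟨0, 0⟩⟩,
  ⟨⟨0, 0⟩, ⟨0, 1⟩, ⟨0, 0⟩, ⟨0, 12⟩⟩,
  ⟨⟨0, 0⟩, ⟨0, 1⟩, ⟨0, 0⟩, ⟨0, 1⟩⟩,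
  ⟨⟨0, 0⟩, ⟨0, 1⟩, ⟨0, 12⟩, ⟨0, 0⟩⟩,
  ⟨⟨0, 1⟩, ⟨0, 0⟩, ⟨0, 1⟩, ⟨0, 0⟩⟩,
  ⟨⟨0, 1⟩, ⟨0, 0⟩, ⟨0, 0⟩, ⟨0, 12⟩⟩,
  ⟨⟨0, 1⟩, ⟨0, 0⟩, ⟨0, 0⟩, ⟨0, 1⟩⟩,
  ⟨⟨0, 1⟩, ⟨0, 0⟩, ⟨0, 12⟩, ⟨0, 0⟩⟩,
  ⟨⟨0, 12⟩, ⟨0, 0⟩, ⟨0, 1⟩, ⟨0, 0⟩⟩,
  ⟨⟨0, 12⟩, ⟨0, 0⟩, ⟨0, 0⟩, ⟨0, 12⟩⟩,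
  ⟨⟨0, 12⟩, ⟨0, 0⟩, ⟨0, 0⟩, ⟨0, 1⟩⟩,
  ⟨⟨0, 12⟩, ⟨0, 0⟩, ⟨0, 12⟩, ⟨0, 0⟩⟩,
  ⟨⟨0, 0⟩, ⟨0, 12⟩, ⟨0, 1⟩, ⟨0, 0⟩⟩,
  ⟨⟨0, 0⟩, ⟨0, 12⟩, ⟨0, 0⟩, ⟨0, 12⟩⟩,
  ⟨⟨0, 0⟩, ⟨0, 12⟩, ⟨0, 0⟩, ⟨0, 1⟩⟩,
  ⟨⟨0, 0⟩, ⟨0, 12⟩, ⟨0, 12⟩, ⟨0, 0⟩⟩]

/-- the binary tetrahedral group, 24 elements -/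
def Tlist : List E := [
  ⟨⟨1, 0⟩, ⟨0, 0⟩, ⟨0, 0⟩, ⟨0, 0⟩⟩,
  ⟨⟨0, 0⟩, ⟨1, 0⟩, ⟨0, 0⟩, ⟨0, 0⟩⟩,
  ⟨⟨0, 0⟩, ⟨0, 0⟩, ⟨1, 0⟩, ⟨0, 0⟩⟩,
  ⟨⟨0, 0⟩, ⟨0, 0⟩, ⟨0, 0⟩, ⟨1, 0⟩⟩,
  ⟨⟨12, 0⟩, ⟨0, 0⟩, ⟨0, 0⟩, ⟨0, 0⟩⟩,
  ⟨⟨0, 0⟩, ⟨12, 0⟩, ⟨0, 0⟩, ⟨0, 0⟩⟩,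
  ⟨⟨0, 0⟩, ⟨0, 0⟩, ⟨12, 0⟩, ⟨0, 0⟩⟩,
  ⟨⟨0, 0⟩, ⟨0, 0⟩, ⟨0, 0⟩, ⟨12, 0⟩⟩,
  ⟨⟨7, 0⟩, ⟨7, 0⟩, ⟨7, 0⟩, ⟨7, 0⟩⟩,
  ⟨⟨7, 0⟩, ⟨7, 0⟩, ⟨7, 0⟩, ⟨6, 0⟩⟩,
  ⟨⟨7, 0⟩, ⟨7, 0⟩, ⟨6, 0⟩, ⟨7, 0⟩⟩,
  ⟨⟨7, 0⟩, ⟨7, 0⟩, ⟨6, 0⟩, ⟨6, 0⟩⟩,
  ⟨⟨7, 0⟩, ⟨6, 0⟩, ⟨7, 0⟩, ⟨7, 0⟩⟩,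
  ⟨⟨7, 0⟩, ⟨6, 0⟩, ⟨7, 0⟩, ⟨6, 0⟩⟩,
  ⟨⟨7, 0⟩, ⟨6, 0⟩, ⟨6, 0⟩, ⟨7, 0⟩⟩,
  ⟨⟨7, 0⟩, ⟨6, 0⟩, ⟨6, 0⟩, ⟨6, 0⟩⟩,
  ⟨⟨6, 0⟩, ⟨7, 0⟩, ⟨7, 0⟩, ⟨7, 0⟩⟩,
  ⟨⟨6, 0⟩, ⟨7, 0⟩, ⟨7, 0⟩, ⟨6, 0⟩⟩,
  ⟨⟨6, 0⟩, ⟨7, 0⟩, ⟨6, 0⟩, ⟨7, 0⟩⟩,
  ⟨⟨6, 0⟩, ⟨7, 0⟩, ⟨6, 0⟩, ⟨6, 0⟩⟩,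
  ⟨⟨6, 0⟩, ⟨6, 0⟩, ⟨7, 0⟩, ⟨7, 0⟩⟩,
  ⟨⟨6, 0⟩, ⟨6, 0⟩, ⟨7, 0⟩, ⟨6, 0⟩⟩,
  ⟨⟨6, 0⟩, ⟨6, 0⟩, ⟨6, 0⟩, ⟨7, 0⟩⟩,
  ⟨⟨6, 0⟩, ⟨6, 0⟩, ⟨6, 0⟩, ⟨6, 0⟩⟩]

/-- the quaternion group, 8 elements -/
def Qlist : List E := [
  ⟨⟨0, 0⟩, ⟨0, 0⟩, ⟨0, 0⟩, ⟨1, 0⟩⟩,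
  ⟨⟨0, 0⟩, ⟨0, 0⟩, ⟨0, 0⟩, ⟨12, 0⟩⟩,
  ⟨⟨0, 0⟩, ⟨0, 0⟩, ⟨1, 0⟩, ⟨0, 0⟩⟩,
  ⟨⟨0, 0⟩, ⟨0, 0⟩, ⟨12, 0⟩, ⟨0, 0⟩⟩,
  ⟨⟨0, 0⟩, ⟨1, 0⟩, ⟨0, 0⟩, ⟨0, 0⟩⟩,
  ⟨⟨0, 0⟩, ⟨12, 0⟩, ⟨0, 0⟩, ⟨0, 0⟩⟩,
  ⟨⟨1, 0⟩, ⟨0, 0⟩, ⟨0, 0⟩, ⟨0, 0⟩⟩,
  ⟨⟨12, 0⟩, ⟨0, 0⟩, ⟨0, 0⟩, ⟨0, 0⟩⟩]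

/-- the centre, 2 elements -/
def Zlist : List E := [
  ⟨⟨1, 0⟩, ⟨0, 0⟩, ⟨0, 0⟩, ⟨0, 0⟩⟩,
  ⟨⟨12, 0⟩, ⟨0, 0⟩, ⟨0, 0⟩, ⟨0, 0⟩⟩]

/-- pairs `(a, (1 - a)⁻¹)` -/
def InvPairs : List (E × E) := [
  (⟨⟨0, 0⟩, ⟨1, 0⟩, ⟨0, 0⟩, ⟨0, 0⟩⟩, ⟨⟨7, 0⟩, ⟨7, 0⟩, ⟨0, 0⟩, ⟨0, 0⟩⟩),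
  (⟨⟨0, 0⟩, ⟨0, 0⟩, ⟨1, 0⟩, ⟨0, 0⟩⟩, ⟨⟨7, 0⟩, ⟨0, 0⟩, ⟨7, 0⟩, ⟨0, 0⟩⟩),
  (⟨⟨0, 0⟩, ⟨0, 0⟩, ⟨0, 0⟩, ⟨1, 0⟩⟩, ⟨⟨7, 0⟩, ⟨0, 0⟩, ⟨0, 0⟩, ⟨7, 0⟩⟩),
  (⟨⟨12, 0⟩, ⟨0, 0⟩, ⟨0, 0⟩, ⟨0, 0⟩⟩, ⟨⟨7, 0⟩, ⟨0, 0⟩, ⟨0, 0⟩, ⟨0, 0⟩⟩),
  (⟨⟨0, 0⟩, ⟨12, 0⟩, ⟨0, 0⟩, ⟨0, 0⟩⟩, ⟨⟨7, 0⟩, ⟨6, 0⟩, ⟨0, 0⟩, ⟨0, 0⟩⟩),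
  (⟨⟨0, 0⟩, ⟨0, 0⟩, ⟨12, 0⟩, ⟨0, 0⟩⟩, ⟨⟨7, 0⟩, ⟨0, 0⟩, ⟨6, 0⟩, ⟨0, 0⟩⟩),
  (⟨⟨0, 0⟩, ⟨0, 0⟩, ⟨0, 0⟩, ⟨12, 0⟩⟩, ⟨⟨7, 0⟩, ⟨0, 0⟩, ⟨0, 0⟩, ⟨6, 0⟩⟩),
  (⟨⟨7, 0⟩, ⟨7, 0⟩, ⟨7, 0⟩, ⟨7, 0⟩⟩, ⟨⟨7, 0⟩, ⟨7, 0⟩, ⟨7, 0⟩, ⟨7, 0⟩⟩),
  (⟨⟨7, 0⟩, ⟨7, 0⟩, ⟨7, 0⟩, ⟨6, 0⟩⟩, ⟨⟨7, 0⟩, ⟨7, 0⟩, ⟨7, 0⟩, ⟨6, 0⟩⟩),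
  (⟨⟨7, 0⟩, ⟨7, 0⟩, ⟨6, 0⟩, ⟨7, 0⟩⟩, ⟨⟨7, 0⟩, ⟨7, 0⟩, ⟨6, 0⟩, ⟨7, 0⟩⟩),
  (⟨⟨7, 0⟩, ⟨7, 0⟩, ⟨6, 0⟩, ⟨6, 0⟩⟩, ⟨⟨7, 0⟩, ⟨7, 0⟩, ⟨6, 0⟩, ⟨6, 0⟩⟩),
  (⟨⟨7, 0⟩, ⟨6, 0⟩, ⟨7, 0⟩, ⟨7, 0⟩⟩, ⟨⟨7, 0⟩, ⟨6, 0⟩, ⟨7, 0⟩, ⟨7, 0⟩⟩),
  (⟨⟨7, 0⟩, ⟨6, 0⟩, ⟨7, 0⟩, ⟨6, 0⟩⟩, ⟨⟨7, 0⟩, ⟨6, 0⟩, ⟨7, 0⟩, ⟨6, 0⟩⟩),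
  (⟨⟨7, 0⟩, ⟨6, 0⟩, ⟨6, 0⟩, ⟨7, 0⟩⟩, ⟨⟨7, 0⟩, ⟨6, 0⟩, ⟨6, 0⟩, ⟨7, 0⟩⟩),
  (⟨⟨7, 0⟩, ⟨6, 0⟩, ⟨6, 0⟩, ⟨6, 0⟩⟩, ⟨⟨7, 0⟩, ⟨6, 0⟩, ⟨6, 0⟩, ⟨6, 0⟩⟩),
  (⟨⟨6, 0⟩, ⟨7, 0⟩, ⟨7, 0⟩, ⟨7, 0⟩⟩, ⟨⟨7, 0⟩, ⟨11, 0⟩, ⟨11, 0⟩, ⟨11, 0⟩⟩),
  (⟨⟨6, 0⟩, ⟨7, 0⟩, ⟨7, 0⟩, ⟨6, 0⟩⟩, ⟨⟨7, 0⟩, ⟨11, 0⟩, ⟨11, 0⟩, ⟨2, 0⟩⟩),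
  (⟨⟨6, 0⟩, ⟨7, 0⟩, ⟨6, 0⟩, ⟨7, 0⟩⟩, ⟨⟨7, 0⟩, ⟨11, 0⟩, ⟨2, 0⟩, ⟨11, 0⟩⟩),
  (⟨⟨6, 0⟩, ⟨7, 0⟩, ⟨6, 0⟩, ⟨6, 0⟩⟩, ⟨⟨7, 0⟩, ⟨11, 0⟩, ⟨2, 0⟩, ⟨2, 0⟩⟩),
  (⟨⟨6, 0⟩, ⟨6, 0⟩, ⟨7, 0⟩, ⟨7, 0⟩⟩, ⟨⟨7, 0⟩, ⟨2, 0⟩, ⟨11, 0⟩, ⟨11, 0⟩⟩),
  (⟨⟨6, 0⟩, ⟨6, 0⟩, ⟨7, 0⟩, ⟨6, 0⟩⟩, ⟨⟨7, 0⟩, ⟨2, 0⟩, ⟨11, 0⟩, ⟨2, 0⟩⟩),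
  (⟨⟨6, 0⟩, ⟨6, 0⟩, ⟨6, 0⟩, ⟨7, 0⟩⟩, ⟨⟨7, 0⟩, ⟨2, 0⟩, ⟨2, 0⟩, ⟨11, 0⟩⟩),
  (⟨⟨6, 0⟩, ⟨6, 0⟩, ⟨6, 0⟩, ⟨6, 0⟩⟩, ⟨⟨7, 0⟩, ⟨2, 0⟩, ⟨2, 0⟩, ⟨2, 0⟩⟩),
  (⟨⟨0, 1⟩, ⟨0, 1⟩, ⟨0, 0⟩, ⟨0, 0⟩⟩, ⟨⟨7, 0⟩, ⟨7, 1⟩, ⟨0, 0⟩, ⟨0, 0⟩⟩),
  (⟨⟨0, 12⟩, ⟨0, 1⟩, ⟨0, 0⟩, ⟨0, 0⟩⟩, ⟨⟨7, 0⟩, ⟨6, 1⟩, ⟨0, 0⟩, ⟨0, 0⟩⟩),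
  (⟨⟨0, 0⟩, ⟨0, 0⟩, ⟨0, 1⟩, ⟨0, 12⟩⟩, ⟨⟨7, 0⟩, ⟨0, 0⟩, ⟨0, 7⟩, ⟨0, 6⟩⟩),
  (⟨⟨0, 0⟩, ⟨0, 0⟩, ⟨0, 1⟩, ⟨0, 1⟩⟩, ⟨⟨7, 0⟩, ⟨0, 0⟩, ⟨0, 7⟩, ⟨0, 7⟩⟩),
  (⟨⟨0, 12⟩, ⟨0, 12⟩, ⟨0, 0⟩, ⟨0, 0⟩⟩, ⟨⟨7, 0⟩, ⟨7, 12⟩, ⟨0, 0⟩, ⟨0, 0⟩⟩),
  (⟨⟨0, 1⟩, ⟨0, 12⟩, ⟨0, 0⟩, ⟨0, 0⟩⟩, ⟨⟨7, 0⟩, ⟨6, 12⟩, ⟨0, 0⟩, ⟨0, 0⟩⟩),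
  (⟨⟨0, 0⟩, ⟨0, 0⟩, ⟨0, 12⟩, ⟨0, 1⟩⟩, ⟨⟨7, 0⟩, ⟨0, 0⟩, ⟨0, 6⟩, ⟨0, 7⟩⟩),
  (⟨⟨0, 0⟩, ⟨0, 0⟩, ⟨0, 12⟩, ⟨0, 12⟩⟩, ⟨⟨7, 0⟩, ⟨0, 0⟩, ⟨0, 6⟩, ⟨0, 6⟩⟩),
  (⟨⟨0, 0⟩, ⟨0, 1⟩, ⟨0, 1⟩, ⟨0, 0⟩⟩, ⟨⟨7, 0⟩, ⟨0, 7⟩, ⟨0, 7⟩, ⟨0, 0⟩⟩),
  (⟨⟨0, 0⟩, ⟨0, 1⟩, ⟨0, 0⟩, ⟨0, 12⟩⟩, ⟨⟨7, 0⟩, ⟨0, 7⟩, ⟨0, 0⟩, ⟨0, 6⟩⟩),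
  (⟨⟨0, 0⟩, ⟨0, 1⟩, ⟨0, 0⟩, ⟨0, 1⟩⟩, ⟨⟨7, 0⟩, ⟨0, 7⟩, ⟨0, 0⟩, ⟨0, 7⟩⟩),
  (⟨⟨0, 0⟩, ⟨0, 1⟩, ⟨0, 12⟩, ⟨0, 0⟩⟩, ⟨⟨7, 0⟩, ⟨0, 7⟩, ⟨0, 6⟩, ⟨0, 0⟩⟩),
  (⟨⟨0, 1⟩, ⟨0, 0⟩, ⟨0, 1⟩, ⟨0, 0⟩⟩, ⟨⟨7, 0⟩, ⟨0, 0⟩, ⟨7, 1⟩, ⟨0, 0⟩⟩),
  (⟨⟨0, 1⟩, ⟨0, 0⟩, ⟨0, 0⟩, ⟨0, 12⟩⟩, ⟨⟨7, 0⟩, ⟨0, 0⟩, ⟨0, 0⟩, ⟨6, 12⟩⟩),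
  (⟨⟨0, 1⟩, ⟨0, 0⟩, ⟨0, 0⟩, ⟨0, 1⟩⟩, ⟨⟨7, 0⟩, ⟨0, 0⟩, ⟨0, 0⟩, ⟨7, 1⟩⟩),
  (⟨⟨0, 1⟩, ⟨0, 0⟩, ⟨0, 12⟩, ⟨0, 0⟩⟩, ⟨⟨7, 0⟩, ⟨0, 0⟩, ⟨6, 12⟩, ⟨0, 0⟩⟩),
  (⟨⟨0, 12⟩, ⟨0, 0⟩, ⟨0, 1⟩, ⟨0, 0⟩⟩, ⟨⟨7, 0⟩, ⟨0, 0⟩, ⟨6, 1⟩, ⟨0, 0⟩⟩),
  (⟨⟨0, 12⟩, ⟨0, 0⟩, ⟨0, 0⟩, ⟨0, 12⟩⟩, ⟨⟨7, 0⟩, ⟨0, 0⟩, ⟨0, 0⟩, ⟨7, 12⟩⟩),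
  (⟨⟨0, 12⟩, ⟨0, 0⟩, ⟨0, 0⟩, ⟨0, 1⟩⟩, ⟨⟨7, 0⟩, ⟨0, 0⟩, ⟨0, 0⟩, ⟨6, 1⟩⟩),
  (⟨⟨0, 12⟩, ⟨0, 0⟩, ⟨0, 12⟩, ⟨0, 0⟩⟩, ⟨⟨7, 0⟩, ⟨0, 0⟩, ⟨7, 12⟩, ⟨0, 0⟩⟩),
  (⟨⟨0, 0⟩, ⟨0, 12⟩, ⟨0, 1⟩, ⟨0, 0⟩⟩, ⟨⟨7, 0⟩, ⟨0, 6⟩, ⟨0, 7⟩, ⟨0, 0⟩⟩),
  (⟨⟨0, 0⟩, ⟨0, 12⟩, ⟨0, 0⟩, ⟨0, 12⟩⟩, ⟨⟨7, 0⟩, ⟨0, 6⟩, ⟨0, 0⟩, ⟨0, 6⟩⟩),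
  (⟨⟨0, 0⟩, ⟨0, 12⟩, ⟨0, 0⟩, ⟨0, 1⟩⟩, ⟨⟨7, 0⟩, ⟨0, 6⟩, ⟨0, 0⟩, ⟨0, 7⟩⟩),
  (⟨⟨0, 0⟩, ⟨0, 12⟩, ⟨0, 12⟩, ⟨0, 0⟩⟩, ⟨⟨7, 0⟩, ⟨0, 6⟩, ⟨0, 6⟩, ⟨0, 0⟩⟩)]


set_option maxRecDepth 1000000

theorem Clist_closed : ∀ a ∈ Clist, ∀ b ∈ Clist, a * b ∈ Clist := by decide +kernel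
theorem Clist_one : (1 : E) ∈ Clist := by decide +kernel
theorem Clist_star : ∀ a ∈ Clist, star a ∈ Clist ∧ star a * a = 1 := by decide +kernel
theorem Clist_pow : ∀ a ∈ Clist, a ^ 8 = 1 ∨ a ^ 6 = 1 := by decide +kernel

theorem Tlist_closed : ∀ a ∈ Tlist, ∀ b ∈ Tlist, a * b ∈ Tlist := by decide +kernel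
theorem Tlist_one : (1 : E) ∈ Tlist := by decide +kernel
theorem Tlist_star : ∀ a ∈ Tlist, star a ∈ Tlist := by decide +kernel

theorem Qlist_closed : ∀ a ∈ Qlist, ∀ b ∈ Qlist, a * b ∈ Qlist := by decide +kernel
theorem Qlist_one : (1 : E) ∈ Qlist := by decide +kernel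
theorem Qlist_star : ∀ a ∈ Qlist, star a ∈ Qlist := by decide +kernel

theorem Zlist_closed : ∀ a ∈ Zlist, ∀ b ∈ Zlist, a * b ∈ Zlist := by decide +kernel
theorem Zlist_one : (1 : E) ∈ Zlist := by decide +kernel
theorem Zlist_star : ∀ a ∈ Zlist, star a ∈ Zlist := by decide +kernel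

theorem comm_C_T : ∀ a ∈ Clist, ∀ b ∈ Clist, a * b * star a * star b ∈ Tlist := by decide +kernel
theorem comm_T_Q : ∀ a ∈ Tlist, ∀ b ∈ Tlist, a * b * star a * star b ∈ Qlist := by decide +kernel
theorem comm_Q_Z : ∀ a ∈ Qlist, ∀ b ∈ Qlist, a * b * star a * star b ∈ Zlist := by decide +kernel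
theorem comm_Z : ∀ a ∈ Zlist, ∀ b ∈ Zlist, a * b * star a * star b = 1 := by decide +kernel

theorem InvPairs_spec : ∀ pr ∈ InvPairs, pr.2 * (1 - pr.1) = 1 := by decide +kernel
theorem InvPairs_cover : ∀ a ∈ Clist, a ≠ 1 → a ∈ InvPairs.map Prod.fst := by decide +kernel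

/-- an element of order 8 -/
def c8 : E := ⟨⟨0, 1⟩, ⟨0, 1⟩, ⟨0, 0⟩, ⟨0, 0⟩⟩
/-- an element of order 6 -/
def c6 : E := ⟨⟨7, 0⟩, ⟨7, 0⟩, ⟨7, 0⟩, ⟨7, 0⟩⟩

theorem c8_mem : c8 ∈ Clist := by decide +kernel
theorem c6_mem : c6 ∈ Clist := by decide +kernel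
theorem c8_pow : c8 ^ 8 = 1 ∧ c8 ^ 4 ≠ 1 := by decide +kernel
theorem c6_pow : c6 ^ 6 = 1 ∧ c6 ^ 3 ≠ 1 ∧ c6 ^ 2 ≠ 1 := by decide +kernel

theorem thirteen_eq_zero : ((13 : ℕ) : E) = 0 := by decide +kernel
theorem one_ne_zero_E : (1 : E) ≠ 0 := by decide +kernel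

end Cfsg.Agent.Lib.Helper57.TwoO
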