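import Mathlib
import Cfsg.Agent.Lib.Helper57.TwoOData
import Cfsg.Agent.Lib.Helper57.AffGrp

set_option autoImplicit false

namespace Cfsg.Agent.Lib.Helper57.TwoO

open scoped commutatorElement

/-- The binary octahedral group as a type: the 48 listed unit quaternions. -/
def G : Type := {c : E // c ∈ Clist}

instance instMulG : Mul G := ⟨fun a b => ⟨a.1 * b.1, Clist_closed a.1 a.2 b.1 b.2⟩⟩
instance instOneG : One G := ⟨⟨1, Clist_one⟩⟩
instance instInvG : Inv G := ⟨fun a => ⟨star a.1, (Clist_star a.1 a.2).1⟩⟩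

theorem mul_val (a b : G) : (a * b).1 = a.1 * b.1 := rfl
theorem one_val : (1 : G).1 = 1 := rfl
theorem inv_val (a : G) : (a⁻¹).1 = star a.1 := rfl

instance instGroupG : Group G := Group.ofLeftAxioms
  (fun a b c => Subtype.ext (mul_assoc a.1 b.1 c.1))
  (fun a => Subtype.ext (one_mul a.1))
  (fun a => Subtype.ext (Clist_star a.1 a.2).2)

instance instFiniteG : Finite G := (List.finite_toSet Clist).to_subtype

/-- the inclusion into the quaternions -/
def ρ : G →* E where
  toFun a := a.1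
  map_one' := rfl
  map_mul' _ _ := rfl

theorem pow_val (a : G) (n : ℕ) : (a ^ n).1 = a.1 ^ n := map_pow ρ a n

theorem eq_one_iff (a : G) : a = 1 ↔ a.1 = 1 := by
  constructor
  · rintro rfl; rfl
  · intro h; exact Subtype.ext h

theorem pow_eq_one_iff (a : G) (n : ℕ) : a ^ n = 1 ↔ a.1 ^ n = 1 := by
  rw [eq_one_iff, pow_val]

theorem orderOf_mem (a : G) : orderOf a ∈ ({1, 2, 3, 4, 6, 8} : Set ℕ) := by
  rcases Clist_pow a.1 a.2 with h | h
  · have hd : orderOf a ∣ 8 := orderOf_dvd_of_pow_eq_one ((pow_eq_one_iff a 8).2 h)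
    have hmem : orderOf a ∈ Nat.divisors 8 := Nat.mem_divisors.mpr ⟨hd, by norm_num⟩
    have h8 : Nat.divisors 8 = {1, 2, 4, 8} := by decide
    rw [h8] at hmem
    simp only [Finset.mem_insert, Finset.mem_singleton] at hmem
    rcases hmem with h | h | h | h <;> simp [h]
  · have hd : orderOf a ∣ 6 := orderOf_dvd_of_pow_eq_one ((pow_eq_one_iff a 6).2 h)
    have hmem : orderOf a ∈ Nat.divisors 6 := Nat.mem_divisors.mpr ⟨hd, by norm_num⟩
    have h6 : Nat.divisors 6 = {1, 2, 3, 6} := by decide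
    rw [h6] at hmem
    simp only [Finset.mem_insert, Finset.mem_singleton] at hmem
    rcases hmem with h | h | h | h <;> simp [h]

/-- an element of order 8 -/
def g8 : G := ⟨c8, c8_mem⟩
/-- an element of order 6 -/
def g6 : G := ⟨c6, c6_mem⟩

theorem orderOf_g8 : orderOf g8 = 8 := by
  have : Fact (Nat.Prime 2) := ⟨Nat.prime_two⟩
  have h := orderOf_eq_prime_pow (x := g8) (p := 2) (n := 2)
    (by rw [pow_eq_one_iff]; exact c8_pow.2) (by rw [pow_eq_one_iff]; exact c8_pow.1)
  simpa using h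

theorem orderOf_g6 : orderOf g6 = 6 := by
  apply orderOf_eq_six
  · rw [pow_eq_one_iff]; exact c6_pow.1
  · rw [Ne, pow_eq_one_iff]; exact c6_pow.2.1
  · rw [Ne, pow_eq_one_iff]; exact c6_pow.2.2

theorem range_orderOf_G : Set.range (orderOf : G → ℕ) = {1, 2, 3, 4, 6, 8} := by
  ext n
  constructor
  · rintro ⟨a, rfl⟩
    exact orderOf_mem a
  · intro hn
    simp only [Set.mem_insert_iff, Set.mem_singleton_iff] at hn
    rcases hn with rfl | rfl | rfl | rfl | rfl | rfl
    · exact ⟨1, orderOf_one⟩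
    · refine ⟨g8 ^ 4, ?_⟩
      rw [orderOf_pow_of_dvd (by norm_num) (by rw [orderOf_g8]; norm_num), orderOf_g8]
    · refine ⟨g6 ^ 2, ?_⟩
      rw [orderOf_pow_of_dvd (by norm_num) (by rw [orderOf_g6]; norm_num), orderOf_g6]
    · refine ⟨g8 ^ 2, ?_⟩
      rw [orderOf_pow_of_dvd (by norm_num) (by rw [orderOf_g8]; norm_num), orderOf_g8]
    · exact ⟨g6, orderOf_g6⟩
    · exact ⟨g8, orderOf_g8⟩

/-- the action is fixed-point-free -/
theorem free (g : G) (hg : g ≠ 1) (y : E) (hy : (1 - ρ g) * y = 0) : y = 0 := by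
  have hne : g.1 ≠ 1 := fun h => hg ((eq_one_iff g).2 h)
  have hcov := InvPairs_cover g.1 g.2 hne
  rw [List.mem_map] at hcov
  obtain ⟨pr, hpr, hfst⟩ := hcov
  have hspec := InvPairs_spec pr hpr
  rw [hfst] at hspec
  have : y = pr.2 * ((1 - g.1) * y) := by
    rw [← mul_assoc, hspec, one_mul]
  rw [this]
  have hy' : (1 - g.1) * y = 0 := hy
  rw [hy', mul_zero]

/-- subgroup of `G` cut out by a sublist closed under the operations -/
def subOf (L : List E) (h1 : (1 : E) ∈ L) (hm : ∀ a ∈ L, ∀ b ∈ L, a * b ∈ L)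
    (hs : ∀ a ∈ L, star a ∈ L) : Subgroup G where
  carrier := {c | c.1 ∈ L}
  mul_mem' := fun {a b} ha hb => hm a.1 ha b.1 hb
  one_mem' := h1
  inv_mem' := fun {a} ha => hs a.1 ha

/-- binary tetrahedral subgroup -/
def TT : Subgroup G := subOf Tlist Tlist_one Tlist_closed Tlist_star
/-- quaternion subgroup -/
def QQ : Subgroup G := subOf Qlist Qlist_one Qlist_closed Qlist_star
/-- centre -/
def ZZ : Subgroup G := subOf Zlist Zlist_one Zlist_closed Zlist_star

theorem comm_val (a b : G) : (⁅a, b⁆ : G).1 = a.1 * b.1 * star a.1 * star b.1 := by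
  rw [commutatorElement_def]
  rfl

instance instSolvableG : Group.IsSolvable G := by
  have h1 : derivedSeries G 1 ≤ TT := by
    rw [derivedSeries_succ, derivedSeries_zero, Subgroup.commutator_le]
    intro a _ b _
    show (⁅a, b⁆ : G).1 ∈ Tlist
    rw [comm_val]
    exact comm_C_T a.1 a.2 b.1 b.2
  have h2 : derivedSeries G 2 ≤ QQ := by
    rw [derivedSeries_succ]
    refine (Subgroup.commutator_mono h1 h1).trans ?_
    rw [Subgroup.commutator_le]
    intro a ha b hb
    show (⁅a, b⁆ : G).1 ∈ Qlist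
    rw [comm_val]
    exact comm_T_Q a.1 ha b.1 hb
  have h3 : derivedSeries G 3 ≤ ZZ := by
    rw [derivedSeries_succ]
    refine (Subgroup.commutator_mono h2 h2).trans ?_
    rw [Subgroup.commutator_le]
    intro a ha b hb
    show (⁅a, b⁆ : G).1 ∈ Zlist
    rw [comm_val]
    exact comm_Q_Z a.1 ha b.1 hb
  have h4 : derivedSeries G 4 ≤ ⊥ := by
    rw [derivedSeries_succ]
    refine (Subgroup.commutator_mono h3 h3).trans ?_
    rw [Subgroup.commutator_le]
    intro a ha b hb
    rw [Subgroup.mem_bot, eq_one_iff, comm_val]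
    exact comm_Z a.1 ha b.1 hb
  exact ⟨⟨4, le_bot_iff.mp h4⟩⟩

instance instFiniteK : Finite K :=
  Finite.of_equiv _ (QuadraticAlgebra.equivProd (R := ZMod 13) 7 0).symm

instance instFiniteE : Finite E :=
  Finite.of_equiv _ (QuaternionAlgebra.equivProd (R := K) (-1) 0 (-1)).symm

instance instNontrivialE : Nontrivial E := ⟨⟨1, 0, one_ne_zero_E⟩⟩

/-- The Frobenius group `13^8 : 2.O`. -/
abbrev Frob : Type := AffGrp ρ

theorem range_orderOf_Frob : Set.range (orderOf : Frob → ℕ) = {1, 2, 3, 4, 6, 8, 13} := by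
  have : Fact (Nat.Prime 13) := ⟨by norm_num⟩
  rw [AffGrp.range_orderOf ρ 13 thirteen_eq_zero free, range_orderOf_G]
  ext n
  simp only [Set.mem_union, Set.mem_insert_iff, Set.mem_singleton_iff]
  tauto

theorem isSolvable_Frob : Group.IsSolvable Frob := AffGrp.isSolvable ρ

end Cfsg.Agent.Lib.Helper57.TwoO
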