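import Mathlib
import Cfsg.Prelude.Def_Classical
import Cfsg.Agent.Lib.Helper57.AffGrp
import Cfsg.Agent.Lib.Helper57.ListGrp
import Cfsg.Agent.Lib.Helper57.L33

set_option autoImplicit false

namespace Cfsg.Agent.Lib.Helper57.U33

open Polynomial Matrix

variable {F : Type*} [Field F] [Fintype F]

theorem three_eq_zero (hF : Fintype.card F = 9) : (3 : F) = 0 := by
  have h := Nat.cast_card_eq_zero F
  rw [hF] at h
  have h9 : (3 : F) * 3 = 0 := by
    have : ((9 : ℕ) : F) = 3 * 3 := by norm_num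
    rw [← this]; exact h
  exact mul_self_eq_zero.mp h9

theorem charP_three (hF : Fintype.card F = 9) : CharP F 3 :=
  (CharP.charP_iff_prime_eq_zero Nat.prime_three).2 (by exact_mod_cast three_eq_zero hF)

theorem exists_i (hF : Fintype.card F = 9) : ∃ i : F, i * i = -1 := by
  have h : IsSquare (-1 : F) := by
    rw [FiniteField.isSquare_neg_one_iff, hF]
    decide
  obtain ⟨r, hr⟩ := h
  exact ⟨r, hr.symm⟩

/-- the concrete field with 9 elements -/
abbrev R9 : Type := QuadraticAlgebra (ZMod 3) (-1) 0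

instance factR9 : Fact (∀ r : ZMod 3, r ^ 2 ≠ (-1 : ZMod 3) + 0 * r) := ⟨by decide⟩

theorem card_R9 : Nat.card R9 = 9 := by
  rw [Nat.card_congr (QuadraticAlgebra.equivProd (R := ZMod 3) (-1) 0), Nat.card_prod,
    Nat.card_eq_fintype_card, ZMod.card]


/-- the ring homomorphism `R9 → F` sending `ω` to a chosen square root of `-1` -/
noncomputable def phi (hF : Fintype.card F = 9) (i : F) (hi : i * i = -1) : R9 →+* F :=
  letI := charP_three hF
  letI : Algebra (ZMod 3) F := ZMod.algebra F 3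
  (QuadraticAlgebra.lift (R := ZMod 3) (a := -1) (b := 0) (A := F)
    ⟨i, by rw [hi]; simp⟩ : R9 →ₐ[ZMod 3] F).toRingHom

theorem phi_injective (hF : Fintype.card F = 9) (i : F) (hi : i * i = -1) :
    Function.Injective (phi hF i hi) := (phi hF i hi).injective

theorem phi_bijective (hF : Fintype.card F = 9) (i : F) (hi : i * i = -1) :
    Function.Bijective (phi hF i hi) := by
  have : Finite R9 := Nat.finite_of_card_ne_zero (by rw [card_R9]; norm_num)
  rw [Nat.bijective_iff_injective_and_card]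
  refine ⟨phi_injective hF i hi, ?_⟩
  rw [card_R9, Nat.card_eq_fintype_card, hF]

theorem phi_omega (hF : Fintype.card F = 9) (i : F) (hi : i * i = -1) :
    phi hF i hi ⟨0, 1⟩ = i := by
  letI := charP_three hF
  letI : Algebra (ZMod 3) F := ZMod.algebra F 3
  simp only [phi, QuadraticAlgebra.lift, AlgHom.toRingHom_eq_coe, Equiv.coe_fn_mk, RingHom.coe_coe,
    AlgHom.coe_mk, RingHom.coe_mk, MonoidHom.coe_mk, OneHom.coe_mk]
  rw [zero_smul, one_smul, zero_add]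

theorem phi_mk (hF : Fintype.card F = 9) (i : F) (hi : i * i = -1) (x y : ZMod 3) :
    phi hF i hi ⟨x, y⟩ = phi hF i hi ⟨x, 0⟩ + phi hF i hi ⟨y, 0⟩ * i := by
  have h : phi hF i hi ⟨x, y⟩ = phi hF i hi ⟨x, 0⟩ + phi hF i hi ⟨y, 0⟩ * phi hF i hi ⟨0, 1⟩ := by
    rw [← map_mul, ← map_add]
    congr 1
    ext <;> simp
  rw [phi_omega hF i hi] at h
  exact h

theorem phi_cases (hF : Fintype.card F = 9) (i : F) (hi : i * i = -1) (x : ZMod 3) :
    phi hF i hi ⟨x, 0⟩ = 0 ∨ phi hF i hi ⟨x, 0⟩ = 1 ∨ phi hF i hi ⟨x, 0⟩ = -1 := by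
  have hx : x = 0 ∨ x = 1 ∨ x = -1 := by revert x; decide
  rcases hx with rfl | rfl | rfl
  · left; exact map_zero _
  · right; left; exact map_one _
  · right; right
    have : (⟨-1, 0⟩ : R9) = -1 := by decide
    rw [this, map_neg, map_one]

theorem elems (hF : Fintype.card F = 9) (i : F) (hi : i * i = -1) (z : F) :
    ∃ x y : F, (x = 0 ∨ x = 1 ∨ x = -1) ∧ (y = 0 ∨ y = 1 ∨ y = -1) ∧ z = x + y * i := by
  obtain ⟨⟨x, y⟩, rfl⟩ := (phi_bijective hF i hi).2 z
  exact ⟨_, _, phi_cases hF i hi x, phi_cases hF i hi y, phi_mk hF i hi x y⟩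


/-- entrywise cube -/
def cube (M : Matrix (Fin 3) (Fin 3) F) : Matrix (Fin 3) (Fin 3) F := M.map (fun x => x ^ 3)

omit [Fintype F] in
theorem slToMat_apply (A : Matrix.SpecialLinearGroup (Fin 3) F) :
    Cfsg.slToMat 3 F A = (A : Matrix (Fin 3) (Fin 3) F) := rfl

omit [Fintype F] in
theorem mem_SU_iff (A : Matrix.SpecialLinearGroup (Fin 3) F) :
    A ∈ Cfsg.SU 3 F 3 ↔ ∀ u v : Fin 3 → F,
      Cfsg.hermForm 3 F 3 ((A : Matrix (Fin 3) (Fin 3) F) *ᵥ u)
        ((A : Matrix (Fin 3) (Fin 3) F) *ᵥ v) = Cfsg.hermForm 3 F 3 u v := Iff.rfl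

omit [Fintype F] in
theorem unitary_of_mem (A : Matrix.SpecialLinearGroup (Fin 3) F) (hA : A ∈ Cfsg.SU 3 F 3) :
    (A : Matrix (Fin 3) (Fin 3) F)ᵀ * cube (A : Matrix (Fin 3) (Fin 3) F) = 1 := by
  rw [mem_SU_iff] at hA
  ext j k
  have h := hA (Pi.single j 1) (Pi.single k 1)
  simp only [Matrix.mulVec_single_one, Cfsg.hermForm] at h
  rw [Matrix.mul_apply]
  simp only [Matrix.transpose_apply, cube, Matrix.map_apply]
  rw [show (∑ i, (A : Matrix (Fin 3) (Fin 3) F) i j * (A : Matrix (Fin 3) (Fin 3) F) i k ^ 3)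
    = ∑ i, ((A : Matrix (Fin 3) (Fin 3) F).col j) i * ((A : Matrix (Fin 3) (Fin 3) F).col k) i ^ 3
    from rfl, h]
  rw [Matrix.one_apply]
  by_cases hjk : j = k
  · subst hjk
    simp [Pi.single_apply]
  · rw [if_neg hjk]
    apply Finset.sum_eq_zero
    intro i _
    by_cases hij : i = j
    · subst hij
      have : (Pi.single k (1 : F) : Fin 3 → F) i = 0 := by
        rw [Pi.single_apply, if_neg hjk]
      rw [this]; simp
    · have : (Pi.single j (1 : F) : Fin 3 → F) i = 0 := by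
        rw [Pi.single_apply, if_neg hij]
      rw [this]; simp

theorem mem_of_unitary (hF : Fintype.card F = 9) (A : Matrix.SpecialLinearGroup (Fin 3) F)
    (hA : (A : Matrix (Fin 3) (Fin 3) F)ᵀ * cube (A : Matrix (Fin 3) (Fin 3) F) = 1) :
    A ∈ Cfsg.SU 3 F 3 := by
  have := charP_three hF
  have : Fact (Nat.Prime 3) := ⟨Nat.prime_three⟩
  rw [mem_SU_iff]
  intro u v
  set M : Matrix (Fin 3) (Fin 3) F := (A : Matrix (Fin 3) (Fin 3) F) with hM
  have hform : ∀ a b : Fin 3 → F, Cfsg.hermForm 3 F 3 a b = a ⬝ᵥ (fun i => b i ^ 3) := by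
    intro a b; rfl
  have hcube : (fun i => (M *ᵥ v) i ^ 3) = cube M *ᵥ (fun i => v i ^ 3) := by
    ext i
    simp only [Matrix.mulVec, dotProduct, cube, Matrix.map_apply]
    rw [sum_pow_char]
    apply Finset.sum_congr rfl
    intro k _
    rw [mul_pow]
  rw [hform, hform, hcube]
  have h1 : (M *ᵥ u) ⬝ᵥ (cube M *ᵥ fun i => v i ^ 3)
      = u ⬝ᵥ (Mᵀ *ᵥ (cube M *ᵥ fun i => v i ^ 3)) := by
    rw [dotProduct_comm, Matrix.dotProduct_mulVec, ← Matrix.mulVec_transpose, dotProduct_comm]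
  rw [h1, Matrix.mulVec_mulVec, hA, Matrix.one_mulVec]


theorem charpoly_rel (hF : Fintype.card F = 9) (A : Matrix (Fin 3) (Fin 3) F) (hdet : A.det = 1)
    (hU : Aᵀ * cube A = 1) : (A.charpoly.coeff 2) ^ 3 = -(A.charpoly.coeff 1) := by
  have := charP_three hF
  have : Fact (Nat.Prime 3) := ⟨Nat.prime_three⟩
  have hcube : cube A = A.map (frobenius F 3) := by
    ext j k; simp [cube, frobenius_def]
  have hinv : (Aᵀ)⁻¹ = A.map (frobenius F 3) := by
    rw [← hcube]; exact Matrix.inv_eq_right_inv hU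
  have hunit : IsUnit A := by
    rw [Matrix.isUnit_iff_isUnit_det, hdet]; exact isUnit_one
  have h1 : (A.map (frobenius F 3)).charpoly = A.charpoly.map (frobenius F 3) :=
    Matrix.charpoly_map A (frobenius F 3)
  have h2 : ((Aᵀ)⁻¹).charpoly = -A.charpoly.reverse := by
    rw [← Matrix.transpose_nonsing_inv, Matrix.charpoly_transpose, Matrix.charpoly_inv A hunit,
      hdet, Ring.inverse_one, Matrix.reverse_charpoly]
    simp only [Fintype.card_fin, map_one, mul_one]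
    ring
  have h3 : A.charpoly.map (frobenius F 3) = -A.charpoly.reverse := by
    rw [← h1, ← hinv, h2]
  have hdeg : A.charpoly.natDegree = 3 := by
    rw [Matrix.charpoly_natDegree_eq_dim]; simp
  have h4 := congrArg (fun p => Polynomial.coeff p 2) h3
  simp only [Polynomial.coeff_map, Polynomial.coeff_neg, Polynomial.coeff_reverse, hdeg] at h4
  rw [Polynomial.revAt_le (by norm_num : 2 ≤ 3), frobenius_def] at h4
  exact h4


theorem pow_cases_matrix (hF : Fintype.card F = 9) (A : Matrix (Fin 3) (Fin 3) F)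
    (hdet : A.det = 1) (hU : Aᵀ * cube A = 1) :
    A ^ 3 = 1 ∨ A ^ 4 = 1 ∨ A ^ 6 = 1 ∨ A ^ 7 = 1 ∨ A ^ 8 = 1 ∨ A ^ 12 = 1 := by
  obtain ⟨i, hi⟩ := exists_i hF
  have h3 : (3 : F[X]) = 0 := by
    have := congrArg (C : F → F[X]) (three_eq_zero hF)
    simpa [map_ofNat] using this
  set I : F[X] := C i with hIdef
  have hI : I ^ 2 + 1 = 0 := by
    rw [hIdef, pow_two, ← map_mul, hi, map_neg, map_one, neg_add_cancel]
  have hform := L33.charpoly_form A hdet
  have hrel := charpoly_rel hF A hdet hU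
  have hb : A.charpoly.coeff 1 = -(A.charpoly.coeff 2) ^ 3 := by rw [hrel, neg_neg]
  obtain ⟨x, y, hx, hy, ha⟩ := elems hF i hi (A.charpoly.coeff 2)
  rw [hb, ha] at hform
  simp only [map_neg, map_pow, map_add, map_mul] at hform
  rw [← hIdef] at hform
  rcases hx with rfl | rfl | rfl <;> rcases hy with rfl | rfl | rfl <;>
    simp only [map_zero, map_one, map_neg] at hform
  · -- a = 0 + 0 i, N = 3
    refine Or.inl (L33.pow_eq_one_of_charpoly_mul A 3
      (1) ?_)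
    rw [hform]
    linear_combination (0 : F[X]) * h3 + (0 : F[X]) * hI
  · -- a = 0 + 1 i, N = 8
    refine Or.inr (Or.inr (Or.inr (Or.inr (Or.inl (L33.pow_eq_one_of_charpoly_mul A 8
      (1 + I * X - X ^ 2 + I * X ^ 2 - X ^ 3 - I * X ^ 3 - I * X ^ 4 + X ^ 5) ?_)))))
    rw [hform]
    linear_combination (0 : F[X]) * h3 + (I * X - X ^ 2 + I ^ 2 * X ^ 2 - 2 * X ^ 3 - I * X ^ 3 + I ^ 2 * X ^ 3 - I * X ^ 4 - I ^ 2 * X ^ 4 + 2 * X ^ 5 - I ^ 2 * X ^ 5 + X ^ 6 + I * X ^ 6 : F[X]) * hI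
  · -- a = 0 + -1 i, N = 8
    refine Or.inr (Or.inr (Or.inr (Or.inr (Or.inl (L33.pow_eq_one_of_charpoly_mul A 8
      (1 - I * X - X ^ 2 - I * X ^ 2 - X ^ 3 + I * X ^ 3 + I * X ^ 4 + X ^ 5) ?_)))))
    rw [hform]
    linear_combination (0 : F[X]) * h3 + (-I * X - X ^ 2 + I ^ 2 * X ^ 2 - 2 * X ^ 3 + I * X ^ 3 + I ^ 2 * X ^ 3 + I * X ^ 4 - I ^ 2 * X ^ 4 + 2 * X ^ 5 - I ^ 2 * X ^ 5 + X ^ 6 - I * X ^ 6 : F[X]) * hI
  · -- a = 1 + 0 i, N = 6
    refine Or.inr (Or.inr (Or.inl (L33.pow_eq_one_of_charpoly_mul A 6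
      (1 - X - X ^ 2 + X ^ 3) ?_)))
    rw [hform]
    linear_combination (-X ^ 2 + X ^ 4 : F[X]) * h3 + (0 : F[X]) * hI
  · -- a = 1 + 1 i, N = 12
    refine Or.inr (Or.inr (Or.inr (Or.inr (Or.inr (L33.pow_eq_one_of_charpoly_mul A 12
      (1 - X + I * X + X ^ 2 - I * X ^ 2 - X ^ 3 - I * X ^ 3 + I * X ^ 4 - I * X ^ 5 - X ^ 6 + I * X ^ 6 + X ^ 7 + I * X ^ 7 - X ^ 8 - I * X ^ 8 + X ^ 9) ?_)))))
    rw [hform]
    linear_combination (-X + I * X - 2 * I * X ^ 2 + I * X ^ 3 + X ^ 4 - X ^ 5 + X ^ 6 + I * X ^ 6 - I * X ^ 7 - X ^ 8 + 2 * X ^ 9 - I * X ^ 9 - X ^ 10 + I * X ^ 10 : F[X]) * h3 + (3 * X + I * X - X ^ 2 + 2 * I * X ^ 2 + I ^ 2 * X ^ 2 - 2 * I * X ^ 3 - I ^ 2 * X ^ 3 - 4 * X ^ 4 - 4 * I * X ^ 4 - I ^ 2 * X ^ 4 + 3 * X ^ 5 + 3 * I * X ^ 5 + I ^ 2 * X ^ 5 - 3 * X ^ 6 - 3 * I * X ^ 6 - I ^ 2 * X ^ 6 + 2 * I * X ^ 7 + I ^ 2 * X ^ 7 + 4 * X ^ 8 + 4 * I * X ^ 8 + I ^ 2 * X ^ 8 - 6 * X ^ 9 - 4 * I * X ^ 9 - I ^ 2 * X ^ 9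 + 4 * X ^ 10 + I * X ^ 10 : F[X]) * hI
  · -- a = 1 + -1 i, N = 12
    refine Or.inr (Or.inr (Or.inr (Or.inr (Or.inr (L33.pow_eq_one_of_charpoly_mul A 12
      (1 - X - I * X + X ^ 2 + I * X ^ 2 - X ^ 3 + I * X ^ 3 - I * X ^ 4 + I * X ^ 5 - X ^ 6 - I * X ^ 6 + X ^ 7 - I * X ^ 7 - X ^ 8 + I * X ^ 8 + X ^ 9) ?_)))))
    rw [hform]
    linear_combination (-X - I * X + 2 * I * X ^ 2 - I * X ^ 3 + X ^ 4 - X ^ 5 + X ^ 6 - I * X ^ 6 + I * X ^ 7 - X ^ 8 + 2 * X ^ 9 + I * X ^ 9 - X ^ 10 - I * X ^ 10 : F[X]) * h3 + (3 * X - I * X - X ^ 2 - 2 * I * X ^ 2 + I ^ 2 * X ^ 2 + 2 * I * X ^ 3 - I ^ 2 * X ^ 3 - 4 * X ^ 4 + 4 * I * X ^ 4 - I ^ 2 * X ^ 4 + 3 * X ^ 5 - 3 * I * X ^ 5 + I ^ 2 * X ^ 5 - 3 * X ^ 6 + 3 * I * X ^ 6 - I ^ 2 * X ^ 6 - 2 * I * X ^ 7 + I ^ 2 * X ^ 7 + 4 * X ^ 8 - 4 * I * X ^ 8 + I ^ 2 * X ^ 8 - 6 * X ^ 9 + 4 * I * X ^ 9 - I ^ 2 * X ^ 9 + 4 * X ^ 10 - I * X ^ 10 : F[X]) * hI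
  · -- a = -1 + 0 i, N = 4
    refine Or.inr (Or.inl (L33.pow_eq_one_of_charpoly_mul A 4
      (1 + X) ?_))
    rw [hform]
    linear_combination (0 : F[X]) * h3 + (0 : F[X]) * hI
  · -- a = -1 + 1 i, N = 7
    refine Or.inr (Or.inr (Or.inr (Or.inl (L33.pow_eq_one_of_charpoly_mul A 7
      (1 + X + I * X - X ^ 2 + X ^ 3 - I * X ^ 3 + X ^ 4) ?_))))
    rw [hform]
    linear_combination (X + I * X + I * X ^ 2 - I * X ^ 3 + X ^ 4 + X ^ 5 : F[X]) * h3 + (-3 * X + I * X - X ^ 2 - 2 * I * X ^ 2 + I ^ 2 * X ^ 2 + 2 * X ^ 3 - I * X ^ 3 - 5 * X ^ 4 + 4 * I * X ^ 4 - I ^ 2 * X ^ 4 - 2 * X ^ 5 + I * X ^ 5 : F[X]) * hI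
  · -- a = -1 + -1 i, N = 7
    refine Or.inr (Or.inr (Or.inr (Or.inl (L33.pow_eq_one_of_charpoly_mul A 7
      (1 + X - I * X - X ^ 2 + X ^ 3 + I * X ^ 3 + X ^ 4) ?_))))
    rw [hform]
    linear_combination (X - I * X - I * X ^ 2 + I * X ^ 3 + X ^ 4 + X ^ 5 : F[X]) * h3 + (-3 * X - I * X - X ^ 2 + 2 * I * X ^ 2 + I ^ 2 * X ^ 2 + 2 * X ^ 3 + I * X ^ 3 - 5 * X ^ 4 - 4 * I * X ^ 4 - I ^ 2 * X ^ 4 - 2 * X ^ 5 - I * X ^ 5 : F[X]) * hI


omit [Fintype F] in
theorem SU_pow_eq_one_iff (A : ↥(Cfsg.SU 3 F 3)) (N : ℕ) :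
    A ^ N = 1 ↔ ((A : Matrix.SpecialLinearGroup (Fin 3) F) : Matrix (Fin 3) (Fin 3) F) ^ N = 1 := by
  rw [← L33.SL_pow_eq_one_iff, ← Subgroup.coe_pow, OneMemClass.coe_eq_one]

theorem pow_cases_SU (hF : Fintype.card F = 9) (A : ↥(Cfsg.SU 3 F 3)) :
    A ^ 3 = 1 ∨ A ^ 4 = 1 ∨ A ^ 6 = 1 ∨ A ^ 7 = 1 ∨ A ^ 8 = 1 ∨ A ^ 12 = 1 := by
  simp only [SU_pow_eq_one_iff]
  exact pow_cases_matrix hF _ A.1.2 (unitary_of_mem A.1 A.2)

omit [Fintype F] in
theorem orderOf_mem_of_pow_cases {G : Type*} [Group G] (x : G)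
    (h : x ^ 3 = 1 ∨ x ^ 4 = 1 ∨ x ^ 6 = 1 ∨ x ^ 7 = 1 ∨ x ^ 8 = 1 ∨ x ^ 12 = 1) :
    orderOf x ∈ ({1, 2, 3, 4, 6, 7, 8, 12} : Set ℕ) := by
  have aux : ∀ N : ℕ, N ≠ 0 → x ^ N = 1 → orderOf x ∈ Nat.divisors N := fun N hN hx =>
    Nat.mem_divisors.mpr ⟨orderOf_dvd_of_pow_eq_one hx, hN⟩
  rcases h with h | h | h | h | h | h
  · have := aux 3 (by norm_num) h
    have hd : Nat.divisors 3 = {1, 3} := by decide
    rw [hd] at this
    simp only [Finset.mem_insert, Finset.mem_singleton] at this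
    rcases this with h | h <;> simp [h]
  · have := aux 4 (by norm_num) h
    have hd : Nat.divisors 4 = {1, 2, 4} := by decide
    rw [hd] at this
    simp only [Finset.mem_insert, Finset.mem_singleton] at this
    rcases this with h | h | h <;> simp [h]
  · have := aux 6 (by norm_num) h
    have hd : Nat.divisors 6 = {1, 2, 3, 6} := by decide
    rw [hd] at this
    simp only [Finset.mem_insert, Finset.mem_singleton] at this
    rcases this with h | h | h | h <;> simp [h]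
  · have := aux 7 (by norm_num) h
    have hd : Nat.divisors 7 = {1, 7} := by decide
    rw [hd] at this
    simp only [Finset.mem_insert, Finset.mem_singleton] at this
    rcases this with h | h <;> simp [h]
  · have := aux 8 (by norm_num) h
    have hd : Nat.divisors 8 = {1, 2, 4, 8} := by decide
    rw [hd] at this
    simp only [Finset.mem_insert, Finset.mem_singleton] at this
    rcases this with h | h | h | h <;> simp [h]
  · have := aux 12 (by norm_num) h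
    have hd : Nat.divisors 12 = {1, 2, 3, 4, 6, 12} := by decide
    rw [hd] at this
    simp only [Finset.mem_insert, Finset.mem_singleton] at this
    rcases this with h | h | h | h | h | h <;> simp [h]

theorem orderOf_PSU_mem (hF : Fintype.card F = 9) (x : Cfsg.PSU 3 F 3) :
    orderOf x ∈ ({1, 2, 3, 4, 6, 7, 8, 12} : Set ℕ) := by
  obtain ⟨A, rfl⟩ := QuotientGroup.mk_surjective x
  apply orderOf_mem_of_pow_cases
  have key : ∀ N : ℕ, A ^ N = 1 → (QuotientGroup.mk A : Cfsg.PSU 3 F 3) ^ N = 1 := by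
    intro N h
    rw [← QuotientGroup.mk_pow, h]
    rfl
  rcases pow_cases_SU hF A with h | h | h | h | h | h
  · exact Or.inl (key _ h)
  · exact Or.inr (Or.inl (key _ h))
  · exact Or.inr (Or.inr (Or.inl (key _ h)))
  · exact Or.inr (Or.inr (Or.inr (Or.inl (key _ h))))
  · exact Or.inr (Or.inr (Or.inr (Or.inr (Or.inl (key _ h)))))
  · exact Or.inr (Or.inr (Or.inr (Or.inr (Or.inr (key _ h)))))


/-- the 3-cycle permutation matrix -/
def Pmat : Matrix (Fin 3) (Fin 3) F := !![0, 0, 1; 1, 0, 0; 0, 1, 0]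

theorem center_eq_bot (hF : Fintype.card F = 9) : Subgroup.center ↥(Cfsg.SU 3 F 3) = ⊥ := by
  obtain ⟨i, hi⟩ := exists_i hF
  have h3 := three_eq_zero hF
  have hi0 : i ≠ 0 := by
    intro h; rw [h] at hi; simp at hi
  have h2 : (2 : F) ≠ 0 := by
    intro h
    have : (1 : F) = 0 := by linear_combination h3 - h
    exact one_ne_zero this
  -- the diagonal element
  have hDdet : (Matrix.diagonal ![i, -i, 1] : Matrix (Fin 3) (Fin 3) F).det = 1 := by
    rw [Matrix.det_diagonal, Fin.prod_univ_three]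
    have e0 : (![i, -i, 1] : Fin 3 → F) 0 = i := rfl
    have e1 : (![i, -i, 1] : Fin 3 → F) 1 = -i := rfl
    have e2 : (![i, -i, 1] : Fin 3 → F) 2 = 1 := rfl
    rw [e0, e1, e2]
    linear_combination (-1 : F) * hi
  have hDun : (Matrix.diagonal ![i, -i, 1] : Matrix (Fin 3) (Fin 3) F)ᵀ *
      cube (Matrix.diagonal ![i, -i, 1]) = 1 := by
    have hi4 : i ^ 4 = 1 := by
      have : i ^ 4 = (i * i) * (i * i) := by ring
      rw [this, hi]; ring
    ext j k
    fin_cases j <;> fin_cases k <;>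
      simp [cube, Matrix.mul_apply, Fin.sum_univ_three, Matrix.diagonal_apply, Matrix.one_apply]
    · linear_combination hi4
    · linear_combination hi4
  have hPdet : (Pmat : Matrix (Fin 3) (Fin 3) F).det = 1 := by
    rw [Matrix.det_fin_three]; simp [Pmat]
  have hPun : (Pmat : Matrix (Fin 3) (Fin 3) F)ᵀ * cube Pmat = 1 := by
    ext j k
    fin_cases j <;> fin_cases k <;>
      simp [cube, Pmat, Matrix.mul_apply, Fin.sum_univ_three, Matrix.one_apply]
  let D' : ↥(Cfsg.SU 3 F 3) := ⟨⟨_, hDdet⟩, mem_of_unitary hF ⟨_, hDdet⟩ hDun⟩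
  let P' : ↥(Cfsg.SU 3 F 3) := ⟨⟨_, hPdet⟩, mem_of_unitary hF ⟨_, hPdet⟩ hPun⟩
  rw [eq_bot_iff]
  intro Z hZ
  rw [Subgroup.mem_center_iff] at hZ
  rw [Subgroup.mem_bot]
  set Zm : Matrix (Fin 3) (Fin 3) F := ((Z : Matrix.SpecialLinearGroup (Fin 3) F) :
    Matrix (Fin 3) (Fin 3) F) with hZm
  have hD : Matrix.diagonal ![i, -i, 1] * Zm = Zm * Matrix.diagonal ![i, -i, 1] :=
    congrArg (fun A : ↥(Cfsg.SU 3 F 3) => ((A : Matrix.SpecialLinearGroup (Fin 3) F) :
      Matrix (Fin 3) (Fin 3) F)) (hZ D')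
  have hP : Pmat * Zm = Zm * Pmat :=
    congrArg (fun A : ↥(Cfsg.SU 3 F 3) => ((A : Matrix.SpecialLinearGroup (Fin 3) F) :
      Matrix (Fin 3) (Fin 3) F)) (hZ P')
  have hoff : ∀ j k : Fin 3, j ≠ k → Zm j k = 0 := by
    intro j k hjk
    have h := congrFun (congrFun hD j) k
    rw [Matrix.diagonal_mul, Matrix.mul_diagonal] at h
    have hd : (![i, -i, 1] : Fin 3 → F) j - (![i, -i, 1] : Fin 3 → F) k ≠ 0 := by
      fin_cases j <;> fin_cases k <;> simp at hjk ⊢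
      · intro h'
        have : (2 : F) * i = 0 := by linear_combination h'
        rcases mul_eq_zero.mp this with h | h
        · exact h2 h
        · exact hi0 h
      · intro h'
        have hi1 : i = 1 := by linear_combination h'
        rw [hi1] at hi
        have : (2 : F) = 0 := by linear_combination hi
        exact h2 this
      · intro h'
        have : (2 : F) * i = 0 := by linear_combination (-1 : F) * h'
        rcases mul_eq_zero.mp this with h | h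
        · exact h2 h
        · exact hi0 h
      · intro h'
        have hi1 : i = -1 := by linear_combination (-1 : F) * h'
        rw [hi1] at hi
        have : (2 : F) = 0 := by linear_combination hi
        exact h2 this
      · intro h'
        have hi1 : i = 1 := by linear_combination (-1 : F) * h'
        rw [hi1] at hi
        have : (2 : F) = 0 := by linear_combination hi
        exact h2 this
      · intro h'
        have hi1 : i = -1 := by linear_combination h'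
        rw [hi1] at hi
        have : (2 : F) = 0 := by linear_combination hi
        exact h2 this
    have : ((![i, -i, 1] : Fin 3 → F) j - (![i, -i, 1] : Fin 3 → F) k) * Zm j k = 0 := by
      linear_combination h
    rcases mul_eq_zero.mp this with h | h
    · exact absurd h hd
    · exact h
  have h10 := congrFun (congrFun hP 1) 0
  have h21 := congrFun (congrFun hP 2) 1
  simp only [Pmat, Matrix.mul_apply, Fin.sum_univ_three, Matrix.of_apply, Matrix.cons_val',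
    Matrix.cons_val_zero, Matrix.cons_val_one, Matrix.cons_val_two, Matrix.empty_val',
    Matrix.cons_val_fin_one] at h10 h21
  simp at h10 h21
  have hdet : Zm.det = 1 := (Z : Matrix.SpecialLinearGroup (Fin 3) F).2
  rw [Matrix.det_fin_three, hoff 0 1 (by decide), hoff 0 2 (by decide), hoff 1 0 (by decide),
    hoff 1 2 (by decide), hoff 2 0 (by decide), hoff 2 1 (by decide)] at hdet
  have hc : Zm 0 0 = 1 := by
    have h11 : Zm 1 1 = Zm 0 0 := by linear_combination (-1 : F) * h10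
    have h22 : Zm 2 2 = Zm 0 0 := by linear_combination (-1 : F) * h21 - h10
    rw [h11, h22] at hdet
    have hcube : (Zm 0 0 - 1) ^ 3 = 0 := by
      linear_combination hdet + (Zm 0 0 - (Zm 0 0) ^ 2) * h3
    have := pow_eq_zero_iff (n := 3) (by norm_num) |>.mp hcube
    linear_combination this
  have h11 : Zm 1 1 = 1 := by rw [← hc]; linear_combination (-1 : F) * h10
  have h22 : Zm 2 2 = 1 := by rw [← h11]; linear_combination (-1 : F) * h21
  apply Subtype.ext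
  apply Subtype.ext
  show Zm = 1
  ext j k
  fin_cases j <;> fin_cases k <;> simp [Matrix.one_apply, hc, h11, h22, hoff]


/-- an element of order 7 over `R9` -/
def W7m : Matrix (Fin 3) (Fin 3) R9 :=
  !![⟨0, 0⟩, ⟨0, 0⟩, ⟨0, 1⟩; ⟨1, 1⟩, ⟨1, 1⟩, ⟨0, 0⟩; ⟨1, 1⟩, ⟨2, 2⟩, ⟨0, 0⟩]
/-- an element of order 8 over `R9` -/
def W8m : Matrix (Fin 3) (Fin 3) R9 :=
  !![⟨0, 0⟩, ⟨0, 0⟩, ⟨0, 1⟩; ⟨0, 0⟩, ⟨0, 1⟩, ⟨0, 0⟩; ⟨1, 0⟩, ⟨0, 0⟩, ⟨0, 0⟩]
/-- an element of order 12 over `R9` -/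
def W12m : Matrix (Fin 3) (Fin 3) R9 :=
  !![⟨0, 0⟩, ⟨0, 0⟩, ⟨0, 1⟩; ⟨1, 1⟩, ⟨2, 1⟩, ⟨0, 0⟩; ⟨1, 2⟩, ⟨2, 2⟩, ⟨0, 0⟩]

set_option maxRecDepth 100000 in
theorem W7_det : W7m.det = 1 := by rw [Matrix.det_fin_three]; decide +kernel
set_option maxRecDepth 100000 in
theorem W8_det : W8m.det = 1 := by rw [Matrix.det_fin_three]; decide +kernel
set_option maxRecDepth 100000 in
theorem W12_det : W12m.det = 1 := by rw [Matrix.det_fin_three]; decide +kernel

set_option maxRecDepth 100000 in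
theorem W7_un : W7mᵀ * W7m.map (fun x => x ^ 3) = 1 := by decide +kernel
set_option maxRecDepth 100000 in
theorem W8_un : W8mᵀ * W8m.map (fun x => x ^ 3) = 1 := by decide +kernel
set_option maxRecDepth 100000 in
theorem W12_un : W12mᵀ * W12m.map (fun x => x ^ 3) = 1 := by decide +kernel

/-- as elements of `SL(3, R9)` -/
def W7 : Matrix.SpecialLinearGroup (Fin 3) R9 := ⟨W7m, W7_det⟩
/-- as elements of `SL(3, R9)` -/
def W8 : Matrix.SpecialLinearGroup (Fin 3) R9 := ⟨W8m, W8_det⟩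
/-- as elements of `SL(3, R9)` -/
def W12 : Matrix.SpecialLinearGroup (Fin 3) R9 := ⟨W12m, W12_det⟩

set_option maxRecDepth 100000 in
theorem orderOf_W7 : orderOf W7 = 7 := by
  have : Fact (Nat.Prime 7) := ⟨by norm_num⟩
  apply orderOf_eq_prime
  · rw [L33.SL_pow_eq_one_iff]; show W7m ^ 7 = 1; decide +kernel
  · intro h
    have h' : W7m = 1 := congrArg Subtype.val h
    revert h'
    decide +kernel

set_option maxRecDepth 100000 in
theorem orderOf_W8 : orderOf W8 = 8 := by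
  have : Fact (Nat.Prime 2) := ⟨Nat.prime_two⟩
  have h := orderOf_eq_prime_pow (x := W8) (p := 2) (n := 2)
    (by rw [L33.SL_pow_eq_one_iff]; show ¬ W8m ^ 2 ^ 2 = 1; decide +kernel)
    (by rw [L33.SL_pow_eq_one_iff]; show W8m ^ 2 ^ (2 + 1) = 1; decide +kernel)
  simpa using h

set_option maxRecDepth 100000 in
theorem orderOf_W12 : orderOf W12 = 12 := by
  apply orderOf_eq_twelve
  · rw [L33.SL_pow_eq_one_iff]; show W12m ^ 12 = 1; decide +kernel
  · rw [Ne, L33.SL_pow_eq_one_iff]; show ¬ W12m ^ 6 = 1; decide +kernel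
  · rw [Ne, L33.SL_pow_eq_one_iff]; show ¬ W12m ^ 4 = 1; decide +kernel

omit [Fintype F] in
theorem SLmap_injective {R S : Type*} [CommRing R] [CommRing S] (f : R →+* S)
    (hf : Function.Injective f) :
    Function.Injective (Matrix.SpecialLinearGroup.map (n := Fin 3) f) := by
  intro A B hAB
  apply Subtype.ext
  have h1 := congrArg Subtype.val hAB
  simp only [Matrix.SpecialLinearGroup.map_apply_coe] at h1
  ext j k
  have := congrFun (congrFun h1 j) k
  simp only [RingHom.mapMatrix_apply, Matrix.map_apply] at this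
  exact hf this

/-- transfer a unitary matrix over `R9` to `SU 3 F 3` -/
noncomputable def wit (hF : Fintype.card F = 9) (i : F) (hi : i * i = -1)
    (W : Matrix.SpecialLinearGroup (Fin 3) R9)
    (hun : (W : Matrix (Fin 3) (Fin 3) R9)ᵀ * (W : Matrix (Fin 3) (Fin 3) R9).map (fun x => x ^ 3) = 1) :
    ↥(Cfsg.SU 3 F 3) :=
  ⟨Matrix.SpecialLinearGroup.map (phi hF i hi) W, by
    apply mem_of_unitary hF
    rw [Matrix.SpecialLinearGroup.map_apply_coe, RingHom.mapMatrix_apply]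
    have h1 : cube ((W : Matrix (Fin 3) (Fin 3) R9).map (phi hF i hi)) =
        ((W : Matrix (Fin 3) (Fin 3) R9).map (fun x => x ^ 3)).map (phi hF i hi) := by
      ext j k
      simp [cube]
    rw [h1, ← Matrix.transpose_map, ← Matrix.map_mul, hun]
    ext j k
    simp [Matrix.one_apply]⟩

theorem orderOf_mk_wit (hF : Fintype.card F = 9) (i : F) (hi : i * i = -1)
    (W : Matrix.SpecialLinearGroup (Fin 3) R9)
    (hun : (W : Matrix (Fin 3) (Fin 3) R9)ᵀ * (W : Matrix (Fin 3) (Fin 3) R9).map (fun x => x ^ 3) = 1) :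
    orderOf (QuotientGroup.mk (wit hF i hi W hun) : Cfsg.PSU 3 F 3) = orderOf W := by
  have hinj : Function.Injective
      (QuotientGroup.mk' (Subgroup.center ↥(Cfsg.SU 3 F 3))) := by
    rw [← MonoidHom.ker_eq_bot_iff, QuotientGroup.ker_mk', center_eq_bot hF]
  have h1 : orderOf (QuotientGroup.mk (wit hF i hi W hun) : Cfsg.PSU 3 F 3)
      = orderOf (wit hF i hi W hun) := orderOf_injective _ hinj _
  rw [h1, ← Subgroup.orderOf_coe]
  exact orderOf_injective _ (SLmap_injective _ (phi_injective hF i hi)) W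

theorem range_orderOf_PSU (hF : Fintype.card F = 9) :
    Set.range (orderOf : Cfsg.PSU 3 F 3 → ℕ) = {1, 2, 3, 4, 6, 7, 8, 12} := by
  obtain ⟨i, hi⟩ := exists_i hF
  ext n
  constructor
  · rintro ⟨x, rfl⟩
    exact orderOf_PSU_mem hF x
  · intro hn
    have h7 := orderOf_mk_wit hF i hi W7 W7_un
    have h8 := orderOf_mk_wit hF i hi W8 W8_un
    have h12 := orderOf_mk_wit hF i hi W12 W12_un
    rw [orderOf_W7] at h7
    rw [orderOf_W8] at h8
    rw [orderOf_W12] at h12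
    simp only [Set.mem_insert_iff, Set.mem_singleton_iff] at hn
    rcases hn with rfl | rfl | rfl | rfl | rfl | rfl | rfl | rfl
    · exact ⟨1, orderOf_one⟩
    · refine ⟨(QuotientGroup.mk (wit hF i hi W12 W12_un) : Cfsg.PSU 3 F 3) ^ 6, ?_⟩
      rw [orderOf_pow_of_dvd (by norm_num) (by rw [h12]; norm_num), h12]
    · refine ⟨(QuotientGroup.mk (wit hF i hi W12 W12_un) : Cfsg.PSU 3 F 3) ^ 4, ?_⟩
      rw [orderOf_pow_of_dvd (by norm_num) (by rw [h12]; norm_num), h12]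
    · refine ⟨(QuotientGroup.mk (wit hF i hi W12 W12_un) : Cfsg.PSU 3 F 3) ^ 3, ?_⟩
      rw [orderOf_pow_of_dvd (by norm_num) (by rw [h12]; norm_num), h12]
    · refine ⟨(QuotientGroup.mk (wit hF i hi W12 W12_un) : Cfsg.PSU 3 F 3) ^ 2, ?_⟩
      rw [orderOf_pow_of_dvd (by norm_num) (by rw [h12]; norm_num), h12]
    · exact ⟨_, h7⟩
    · exact ⟨_, h8⟩
    · exact ⟨_, h12⟩

end Cfsg.Agent.Lib.Helper57.U33
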