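import Cfsg.Agent.Lib.Helper57.U62ChkDefs

/-! Kernel checks on helper28's coset table of `H = C(a)` in the presented `Fi22` (for S1684 / S0471), part A:
`a` commutes with the generators of `H`; the generators are conjugates of `a`. -/

set_option autoImplicit false
set_option linter.all false
set_option maxRecDepth 100000

namespace Cfsg.Agent.Lib.Helper57.U62

open Cfsg.Agent.Lib.Helper28

theorem comm_ax : fixAllM ([0] ++ Xw ++ [1] ++ invw Xw) = true := by decide +kernel

theorem comm_gen : allBelowF (fun j => fixAllM [0, 2 * j + 4, 1, 2 * j + 5]) 7 = true := by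
  decide +kernel

theorem conj_gen : allBelowF (fun s => fixAllM (invw (gw s) ++ [0] ++ gw s ++ [2 * s + 3])) 8 = true := by
  decide +kernel

theorem gw_pt : allBelowF (fun s => Nat.beq (walkM (gw s) 0) (gpt s)) 8 = true := by decide +kernel

theorem kw_fix0 : allBelowF (fun i => Nat.beq (walkM (kw i) 0) 0) 6 = true := by decide +kernel

end Cfsg.Agent.Lib.Helper57.U62
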